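import Mathlib.GroupTheory.QuotientGroup.Basic
import Mathlib.GroupTheory.PGroup
import Mathlib.Algebra.Group.Subgroup.Order
import Mathlib.Order.Atoms

set_option autoImplicit false

namespace Cfsg.Agent.Lib.helper53

variable {G : Type*} [Group G]

/-- The image in `G ⧸ N` of a maximal subgroup containing `N` is maximal. -/
theorem map_mk'_isCoatom {N M : Subgroup G} [N.Normal] (hNM : N ≤ M) (hM : IsCoatom M) :
    IsCoatom (M.map (QuotientGroup.mk' N)) := by
  have hsurj : Function.Surjective (QuotientGroup.mk' N) := QuotientGroup.mk'_surjective N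
  have hcm : (M.map (QuotientGroup.mk' N)).comap (QuotientGroup.mk' N) = M := by
    apply Subgroup.comap_map_eq_self
    rw [QuotientGroup.ker_mk']; exact hNM
  constructor
  · intro h
    rw [h, Subgroup.comap_top] at hcm
    exact hM.1 hcm.symm
  · intro b hb
    have h1 : M < b.comap (QuotientGroup.mk' N) := by
      rw [← hcm]
      exact (Subgroup.comap_lt_comap_of_surjective hsurj).mpr hb
    have h2 := hM.2 _ h1
    apply Subgroup.comap_injective hsurj
    rw [h2, Subgroup.comap_top]

/-- If `N T = G` with `N` normal and `T` a `p`-group, then `G ⧸ N` is a `p`-group. -/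
theorem isPGroup_quotient_of_sup_eq_top {p : ℕ} {N T : Subgroup G} [N.Normal] (hT : IsPGroup p T)
    (h : N ⊔ T = ⊤) : IsPGroup p (G ⧸ N) := by
  intro x
  obtain ⟨g, rfl⟩ := QuotientGroup.mk_surjective x
  have hg : g ∈ N ⊔ T := h ▸ Subgroup.mem_top g
  rw [sup_comm, Subgroup.mem_sup_of_normal_right] at hg
  obtain ⟨t, ht, n, hn, rfl⟩ := hg
  obtain ⟨k, hk⟩ := hT ⟨t, ht⟩
  refine ⟨k, ?_⟩
  have e1 : ((t * n : G) : G ⧸ N) = (t : G ⧸ N) := by
    rw [QuotientGroup.mk_mul, (QuotientGroup.eq_one_iff n).mpr hn, mul_one]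
  rw [e1, ← QuotientGroup.mk_pow]
  have e2 : t ^ p ^ k = 1 := by
    have := congrArg Subtype.val hk
    simpa using this
  rw [e2]; rfl

/-- `comap (mk' N) (map (mk' N) K) = K ⊔ N`. -/
theorem comap_map_mk' (N K : Subgroup G) [N.Normal] :
    (K.map (QuotientGroup.mk' N)).comap (QuotientGroup.mk' N) = K ⊔ N := by
  rw [Subgroup.comap_map_eq, QuotientGroup.ker_mk']

/-- `map (mk' N) (comap (mk' N) K) = K`. -/
theorem map_comap_mk' (N : Subgroup G) [N.Normal] (K : Subgroup (G ⧸ N)) :
    (K.comap (QuotientGroup.mk' N)).map (QuotientGroup.mk' N) = K :=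
  Subgroup.map_comap_eq_self_of_surjective (QuotientGroup.mk'_surjective N) K

theorem le_comap_mk' (N : Subgroup G) [N.Normal] (K : Subgroup (G ⧸ N)) :
    N ≤ K.comap (QuotientGroup.mk' N) := by
  intro n hn
  rw [Subgroup.mem_comap]
  have : (QuotientGroup.mk' N) n = 1 := (QuotientGroup.eq_one_iff n).mpr hn
  rw [this]; exact K.one_mem

end Cfsg.Agent.Lib.helper53
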