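import Cfsg.Prelude.Def_LocalStructure
import Cfsg.Agent.Lib.helper53.PCore
import Cfsg.Agent.Lib.helper53.Comm

set_option autoImplicit false

namespace Cfsg.Agent.Lib.helper53

open scoped commutatorElement

variable {H : Type*} [Group H]

/-- Two Sylow `p`-subgroups of `H` inside a subgroup `K` are conjugate under `K`. -/
theorem exists_mem_conj_sylow_eq [Finite H] {p : ℕ} [Fact p.Prime] (P P' : Sylow p H)
    {K : Subgroup H} (hP : (P : Subgroup H) ≤ K) (hP' : (P' : Subgroup H) ≤ K) :
    ∃ k ∈ K, (P : Subgroup H).map (MulAut.conj k).toMonoidHom = P' := by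
  obtain ⟨k, hk⟩ := MulAction.exists_smul_eq K (P.subtype hP) (P'.subtype hP')
  rw [Sylow.smul_subtype] at hk
  refine ⟨k, k.2, ?_⟩
  have h6 := congrArg (fun S : Sylow p K => (S : Subgroup K).map K.subtype) hk
  simp only [Sylow.coe_subtype] at h6
  rw [Subgroup.map_subgroupOf_eq_of_le (Sylow.smul_le hP k),
    Subgroup.map_subgroupOf_eq_of_le hP'] at h6
  rw [← h6]
  change _ = (((k : H) • P : Sylow p H) : Subgroup H)
  rw [Sylow.coe_subgroup_smul]; rfl

/-- If `[A, B] ≤ A` then `B` normalizes `A`. -/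
theorem le_normalizer_of_commutator_le {A B : Subgroup H} (h : ⁅A, B⁆ ≤ A) :
    B ≤ Subgroup.normalizer (A : Set H) := by
  have key : ∀ b ∈ B, ∀ a ∈ A, b * a * b⁻¹ ∈ A := by
    intro b hb a ha
    have e : b * a * b⁻¹ = ⁅a, b⁆⁻¹ * a := by rw [commutatorElement_def]; group
    rw [e]
    exact A.mul_mem (A.inv_mem (h (Subgroup.commutator_mem_commutator ha hb))) ha
  intro b hb
  rw [Subgroup.mem_normalizer_iff]
  intro a
  refine ⟨key b hb a, fun h1 => ?_⟩
  have h2 := key b⁻¹ (B.inv_mem hb) _ h1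
  have e : b⁻¹ * (b * a * b⁻¹) * b⁻¹⁻¹ = a := by group
  rwa [e] at h2

theorem commutator_le_inf_of_le_normalizer {A B : Subgroup H}
    (h1 : B ≤ Subgroup.normalizer (A : Set H)) (h2 : A ≤ Subgroup.normalizer (B : Set H)) :
    ⁅A, B⁆ ≤ A ⊓ B :=
  le_inf (commutator_le_left_of_le_normalizer h1) (commutator_le_right_of_le_normalizer h2)

/-- A weakly closed subgroup `Q` is the only conjugate of itself in any `p`-subgroup containing
it. -/
theorem wc_conj_eq [Finite H] {p : ℕ} [Fact p.Prime] {Q : Subgroup H}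
    (hwc : Cfsg.IsWeaklyClosedSubgroup p Q) {R : Subgroup H} (hR : IsPGroup p R) (hQR : Q ≤ R)
    {g : H} (hg : Q.map (MulAut.conj g).toMonoidHom ≤ R) :
    Q.map (MulAut.conj g).toMonoidHom = Q := by
  obtain ⟨T, hQT, hT⟩ := hwc
  obtain ⟨h, hh⟩ := exists_le_conj_sylow hR T
  have h1 : Q.map (MulAut.conj h⁻¹).toMonoidHom ≤ T := le_conj_iff.mp (hQR.trans hh)
  have h2 := hT h⁻¹ h1
  have h3 : (Q.map (MulAut.conj g).toMonoidHom).map (MulAut.conj h⁻¹).toMonoidHom ≤ T :=
    le_conj_iff.mp (hg.trans hh)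
  rw [conj_conj] at h3
  have h4 := hT _ h3
  have h5 : h⁻¹ ∈ Subgroup.normalizer (Q : Set H) := mem_normalizer_of_conj_eq_self h2
  have h6 : h⁻¹ * g ∈ Subgroup.normalizer (Q : Set H) := mem_normalizer_of_conj_eq_self h4
  have h7 : g ∈ Subgroup.normalizer (Q : Set H) := by
    have := Subgroup.mul_mem _ (Subgroup.inv_mem _ h5) h6
    simpa using this
  exact conj_eq_self_of_mem_normalizer h7

/-- A weakly closed subgroup `Q` is normal in `N_H(R)` for every `p`-subgroup `R ≥ Q`. -/
theorem wc_normalizer_le [Finite H] {p : ℕ} [Fact p.Prime] {Q : Subgroup H}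
    (hwc : Cfsg.IsWeaklyClosedSubgroup p Q) {R : Subgroup H} (hR : IsPGroup p R) (hQR : Q ≤ R) :
    Subgroup.normalizer (R : Set H) ≤ Subgroup.normalizer (Q : Set H) := by
  intro n hn
  apply mem_normalizer_of_conj_eq_self
  apply wc_conj_eq hwc hR hQR
  have := conj_mono hQR n
  rwa [conj_eq_self_of_mem_normalizer hn] at this

/-- A weakly closed subgroup is normal in every `p`-subgroup containing it. -/
theorem wc_le_normalizer [Finite H] {p : ℕ} [Fact p.Prime] {Q : Subgroup H}
    (hwc : Cfsg.IsWeaklyClosedSubgroup p Q) {R : Subgroup H} (hR : IsPGroup p R) (hQR : Q ≤ R) :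
    R ≤ Subgroup.normalizer (Q : Set H) :=
  Subgroup.le_normalizer.trans (wc_normalizer_le hwc hR hQR)

/-- A weakly closed subgroup is weakly closed in every Sylow `p`-subgroup containing it. -/
theorem wc_isWeaklyClosed_of_le [Finite H] {p : ℕ} [Fact p.Prime] {Q : Subgroup H}
    (hwc : Cfsg.IsWeaklyClosedSubgroup p Q) (T : Sylow p H) (hQT : Q ≤ (T : Subgroup H)) :
    Cfsg.IsWeaklyClosed Q (T : Subgroup H) :=
  ⟨hQT, fun _ hg => wc_conj_eq hwc T.2 hQT hg⟩

/-- If two conjugates of a weakly closed subgroup normalize each other, they are equal. -/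
theorem wc_eq_of_commutator_le [Finite H] {p : ℕ} [Fact p.Prime] {Q : Subgroup H}
    (hQp : IsPGroup p Q) (hwc : Cfsg.IsWeaklyClosedSubgroup p Q) {g : H}
    (h : ⁅Q, Q.map (MulAut.conj g).toMonoidHom⁆ ≤ Q) :
    Q.map (MulAut.conj g).toMonoidHom = Q := by
  have h1 : Q.map (MulAut.conj g).toMonoidHom ≤ Subgroup.normalizer (Q : Set H) :=
    le_normalizer_of_commutator_le h
  have hR : IsPGroup p (Q ⊔ Q.map (MulAut.conj g).toMonoidHom : Subgroup H) :=
    hQp.to_sup_of_normal_left' (isPGroup_conj hQp g) h1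
  exact wc_conj_eq hwc hR le_sup_left le_sup_right

/-- Conjugates of weakly closed subgroups are weakly closed. -/
theorem wc_conj [Finite H] {p : ℕ} [Fact p.Prime] {Q : Subgroup H}
    (hwc : Cfsg.IsWeaklyClosedSubgroup p Q) (h : H) :
    Cfsg.IsWeaklyClosedSubgroup p (Q.map (MulAut.conj h).toMonoidHom) := by
  obtain ⟨T, hQT, hT⟩ := hwc
  have e : ((h • T : Sylow p H) : Subgroup H) = (T : Subgroup H).map (MulAut.conj h).toMonoidHom := by
    rw [Sylow.coe_subgroup_smul]; rfl
  refine ⟨h • T, ?_, ?_⟩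
  · rw [e]; exact conj_mono hQT h
  · intro g hg
    rw [e, conj_conj, le_conj_iff, conj_conj] at hg
    have h1 := hT _ hg
    have h2 := congrArg (fun S : Subgroup H => S.map (MulAut.conj h).toMonoidHom) h1
    simp only [conj_conj] at h2
    rw [conj_conj, ← h2]
    congr 2
    group

/-- The criterion "normal in `N(R)` for all `p`-subgroups `R ≥ Q`" implies weakly closed. -/
theorem wc_of_normalizer_le [Finite H] {p : ℕ} [Fact p.Prime] {Q : Subgroup H}
    (hQp : IsPGroup p Q)
    (hB : ∀ R : Subgroup H, IsPGroup p R → Q ≤ R →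
      Subgroup.normalizer (R : Set H) ≤ Subgroup.normalizer (Q : Set H)) :
    Cfsg.IsWeaklyClosedSubgroup p Q := by
  obtain ⟨T, hQT⟩ := hQp.exists_le_sylow
  refine ⟨T, hQT, ?_⟩
  intro g hg
  -- the criterion for the conjugate Q^g
  have hB' : ∀ R : Subgroup H, IsPGroup p R → Q.map (MulAut.conj g).toMonoidHom ≤ R →
      Subgroup.normalizer (R : Set H) ≤
        Subgroup.normalizer ((Q.map (MulAut.conj g).toMonoidHom : Subgroup H) : Set H) := by
    intro R hR hQR
    have h1 := hB (R.map (MulAut.conj g⁻¹).toMonoidHom) (isPGroup_conj hR _) (by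
      have := conj_mono hQR g⁻¹
      rwa [conj_conj, inv_mul_cancel, conj_one] at this)
    rw [normalizer_conj, ← le_conj_iff] at h1
    rwa [normalizer_conj]
  have e : ((g • T : Sylow p H) : Subgroup H) = (T : Subgroup H).map (MulAut.conj g).toMonoidHom := by
    rw [Sylow.coe_subgroup_smul]; rfl
  have h1 : (T : Subgroup H) ≤
      Subgroup.normalizer ((Q.map (MulAut.conj g).toMonoidHom : Subgroup H) : Set H) :=
    Subgroup.le_normalizer.trans (hB' T T.2 hg)
  have h2 : ((g • T : Sylow p H) : Subgroup H) ≤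
      Subgroup.normalizer ((Q.map (MulAut.conj g).toMonoidHom : Subgroup H) : Set H) := by
    refine Subgroup.le_normalizer.trans (hB' _ (g • T).2 ?_)
    rw [e]; exact conj_mono hQT g
  obtain ⟨k, hk, hk2⟩ := exists_mem_conj_sylow_eq (g • T) T h2 h1
  rw [e, conj_conj] at hk2
  have h3 : k * g ∈ Subgroup.normalizer (Q : Set H) :=
    hB T T.2 hQT (mem_normalizer_of_conj_eq_self hk2)
  have h4 := conj_eq_self_of_mem_normalizer h3
  rw [← conj_conj, conj_eq_self_of_mem_normalizer hk] at h4
  exact h4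

/-- The criterion "`[Q, Q^g] ≤ Q ∩ Q^g` implies `Q^g = Q`" implies weakly closed. -/
theorem wc_of_commutator_criterion [Finite H] {p : ℕ} [Fact p.Prime] {Q : Subgroup H}
    (hQp : IsPGroup p Q)
    (hA : ∀ g : H, ⁅Q, Q.map (MulAut.conj g).toMonoidHom⁆ ≤ Q ⊓ Q.map (MulAut.conj g).toMonoidHom →
      Q.map (MulAut.conj g).toMonoidHom = Q) :
    Cfsg.IsWeaklyClosedSubgroup p Q := by
  -- step 1: Q is normal in every p-subgroup containing it; same for conjugates
  have step1 : ∀ (h : H) (R : Subgroup H), IsPGroup p R → Q.map (MulAut.conj h).toMonoidHom ≤ R →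
      R ≤ Subgroup.normalizer ((Q.map (MulAut.conj h).toMonoidHom : Subgroup H) : Set H) := by
    intro h R hR hQR
    by_contra hnot
    have hlt : R ⊓ Subgroup.normalizer ((Q.map (MulAut.conj h).toMonoidHom : Subgroup H) : Set H) < R :=
      lt_of_le_of_ne inf_le_left (fun he => hnot (he ▸ inf_le_right))
    obtain ⟨t, htR, htn, htN⟩ := exists_mem_normalizer_not_mem hR hlt
    have hQN : Q.map (MulAut.conj h).toMonoidHom ≤
        R ⊓ Subgroup.normalizer ((Q.map (MulAut.conj h).toMonoidHom : Subgroup H) : Set H) :=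
      le_inf hQR Subgroup.le_normalizer
    -- Q^{th} ≤ N_R(Q^h)
    have h1 : (Q.map (MulAut.conj h).toMonoidHom).map (MulAut.conj t).toMonoidHom ≤
        R ⊓ Subgroup.normalizer ((Q.map (MulAut.conj h).toMonoidHom : Subgroup H) : Set H) := by
      have := conj_mono hQN t
      rwa [conj_eq_self_of_mem_normalizer htN] at this
    -- Q^h ≤ N(Q^{th})
    have h2 : Q.map (MulAut.conj h).toMonoidHom ≤ Subgroup.normalizer
        (((Q.map (MulAut.conj h).toMonoidHom).map (MulAut.conj t).toMonoidHom : Subgroup H) : Set H) := by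
      rw [normalizer_conj]
      have h3 := conj_mono (inf_le_right : R ⊓ Subgroup.normalizer
        ((Q.map (MulAut.conj h).toMonoidHom : Subgroup H) : Set H) ≤ _) t
      rw [conj_eq_self_of_mem_normalizer htN] at h3
      exact hQN.trans h3
    have h4 := commutator_le_inf_of_le_normalizer (h1.trans inf_le_right) h2
    -- transport to Q via conjugation by h⁻¹
    have h5 : ⁅Q, Q.map (MulAut.conj (h⁻¹ * t * h)).toMonoidHom⁆ ≤
        Q ⊓ Q.map (MulAut.conj (h⁻¹ * t * h)).toMonoidHom := by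
      have h6 := conj_mono h4 h⁻¹
      rw [Subgroup.map_commutator] at h6
      have e1 : (Q.map (MulAut.conj h).toMonoidHom).map (MulAut.conj h⁻¹).toMonoidHom = Q := by
        rw [conj_conj, inv_mul_cancel, conj_one]
      have e2 : ((Q.map (MulAut.conj h).toMonoidHom).map (MulAut.conj t).toMonoidHom).map
          (MulAut.conj h⁻¹).toMonoidHom = Q.map (MulAut.conj (h⁻¹ * t * h)).toMonoidHom := by
        rw [conj_conj, conj_conj]
      rw [e1, e2] at h6
      have h6' := h6.trans (Subgroup.map_inf_le _ _ _)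
      rw [e1, e2] at h6'
      exact h6'
    have h7 := hA _ h5
    -- so t normalizes Q^h
    apply htn
    refine Subgroup.mem_inf.mpr ⟨htR, ?_⟩
    apply mem_normalizer_of_conj_eq_self
    rw [conj_conj]
    have h8 := congrArg (fun S : Subgroup H => S.map (MulAut.conj h).toMonoidHom) h7
    simp only [conj_conj] at h8
    rw [← h8]; congr 2; group
  obtain ⟨T, hQT⟩ := hQp.exists_le_sylow
  refine ⟨T, hQT, ?_⟩
  intro g hg
  have h1 := step1 1 T T.2 (by rw [conj_one]; exact hQT)
  rw [conj_one] at h1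
  have h2 := step1 g T T.2 hg
  exact hA g (commutator_le_inf_of_le_normalizer (hg.trans h1) (hQT.trans h2))

end Cfsg.Agent.Lib.helper53
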