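import Cfsg.Prelude.Def_LocalStructure
import Cfsg.Agent.Lib.helper53.WeakClosed

set_option autoImplicit false

namespace Cfsg.Agent.Lib.helper53

open scoped commutatorElement

variable {H : Type*} [Group H]

/-- Centralizer of a conjugate subgroup. -/
theorem centralizer_conj (Q : Subgroup H) (g : H) :
    Subgroup.centralizer ((Q.map (MulAut.conj g).toMonoidHom : Subgroup H) : Set H) =
      (Subgroup.centralizer (Q : Set H)).map (MulAut.conj g).toMonoidHom := by
  ext x
  rw [mem_conj_iff, Subgroup.mem_centralizer_iff, Subgroup.mem_centralizer_iff]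
  constructor
  · intro h y hy
    have h1 := h (g * y * g⁻¹) (conj_mem_conj hy)
    calc y * (g⁻¹ * x * g) = g⁻¹ * ((g * y * g⁻¹) * x) * g := by group
      _ = g⁻¹ * (x * (g * y * g⁻¹)) * g := by rw [h1]
      _ = g⁻¹ * x * g * y := by group
  · intro h y hy
    have hy' : g⁻¹ * y * g ∈ Q := mem_conj_iff.mp hy
    have h1 := h _ hy'
    calc y * x = g * ((g⁻¹ * y * g) * (g⁻¹ * x * g)) * g⁻¹ := by group
      _ = g * ((g⁻¹ * x * g) * (g⁻¹ * y * g)) * g⁻¹ := by rw [h1]
      _ = x * y := by group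

/-- A nontrivial finite `p`-subgroup has nontrivial centre `R ∩ C(R)`. -/
theorem inf_centralizer_ne_bot [Finite H] {p : ℕ} [Fact p.Prime] {R : Subgroup H}
    (hR : IsPGroup p R) (hne : R ≠ ⊥) : R ⊓ Subgroup.centralizer (R : Set H) ≠ ⊥ := by
  haveI : Nontrivial R := (Subgroup.nontrivial_iff_ne_bot R).mpr hne
  haveI := hR.center_nontrivial
  obtain ⟨z, hz⟩ := exists_ne (1 : Subgroup.center R)
  intro hbot
  apply hz
  have h1 : ((z : R) : H) ∈ R ⊓ Subgroup.centralizer (R : Set H) := by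
    refine Subgroup.mem_inf.mpr ⟨(z : R).2, ?_⟩
    rw [Subgroup.mem_centralizer_iff]
    intro y hy
    have h2 := Subgroup.mem_center_iff.mp z.2 ⟨y, hy⟩
    exact congrArg Subtype.val h2
  rw [hbot, Subgroup.mem_bot] at h1
  apply Subtype.ext
  apply Subtype.ext
  exact h1

/-- `N(R) ≤ N(Z(R))`, with `Z(R) = R ∩ C(R)`. -/
theorem normalizer_le_normalizer_inf_centralizer [Finite H] (R : Subgroup H) :
    Subgroup.normalizer (R : Set H) ≤
      Subgroup.normalizer ((R ⊓ Subgroup.centralizer (R : Set H) : Subgroup H) : Set H) := by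
  intro n hn
  apply mem_normalizer_of_conj_le
  rw [conj_le_iff]
  intro x hx
  have hxR := (Subgroup.mem_inf.mp hx).1
  have hxC := (Subgroup.mem_inf.mp hx).2
  refine Subgroup.mem_inf.mpr ⟨(Subgroup.mem_normalizer_iff.mp hn x).mp hxR, ?_⟩
  rw [Subgroup.mem_centralizer_iff]
  intro r hr
  have hr' : n⁻¹ * r * n⁻¹⁻¹ ∈ R :=
    (Subgroup.mem_normalizer_iff.mp (Subgroup.inv_mem _ hn) r).mp hr
  have h1 := Subgroup.mem_centralizer_iff.mp hxC _ hr'
  calc r * (n * x * n⁻¹) = n * ((n⁻¹ * r * n⁻¹⁻¹) * x) * n⁻¹ := by group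
    _ = n * (x * (n⁻¹ * r * n⁻¹⁻¹)) * n⁻¹ := by rw [h1]
    _ = n * x * n⁻¹ * r := by group

/-- Conjugates of large subgroups are large. -/
theorem large_conj {Q : Subgroup H} (hL : Cfsg.IsLarge Q) (g : H) :
    Cfsg.IsLarge (Q.map (MulAut.conj g).toMonoidHom) := by
  constructor
  · rw [centralizer_conj]
    exact conj_mono hL.1 g
  · intro U hU hUne
    rw [centralizer_conj, le_conj_iff] at hU
    have h1 := hL.2 _ hU (conj_ne_bot hUne _)
    rw [normalizer_conj, ← le_conj_iff] at h1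
    rwa [normalizer_conj]

/-- Nontrivial large `p`-subgroups are weakly closed. -/
theorem large_wc [Finite H] {p : ℕ} [Fact p.Prime] {Q : Subgroup H} (hQp : IsPGroup p Q)
    (hQ1 : Q ≠ ⊥) (hL : Cfsg.IsLarge Q) : Cfsg.IsWeaklyClosedSubgroup p Q := by
  apply wc_of_normalizer_le hQp
  intro R hR hQR
  have hRne : R ≠ ⊥ := fun h => hQ1 (le_bot_iff.mp (h ▸ hQR))
  have h1 : R ⊓ Subgroup.centralizer (R : Set H) ≤ Subgroup.centralizer (Q : Set H) :=
    inf_le_right.trans (Subgroup.centralizer_le hQR)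
  exact (normalizer_le_normalizer_inf_centralizer R).trans
    (hL.2 _ h1 (inf_centralizer_ne_bot hR hRne))

/-- For a nontrivial large `p`-subgroup `Q` and `g ∉ N(Q)`: `C(Q) ∩ C(Q^g) = 1`. -/
theorem large_centralizer_inf_conj [Finite H] {p : ℕ} [Fact p.Prime] {Q : Subgroup H}
    (hQp : IsPGroup p Q) (hQ1 : Q ≠ ⊥) (hL : Cfsg.IsLarge Q) {g : H}
    (hg : g ∉ Subgroup.normalizer (Q : Set H)) :
    Subgroup.centralizer (Q : Set H) ⊓
      Subgroup.centralizer ((Q.map (MulAut.conj g).toMonoidHom : Subgroup H) : Set H) = ⊥ := by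
  by_contra hne
  have h1 := hL.2 _ inf_le_left hne
  have h2 := (large_conj hL g).2 _ inf_le_right hne
  have h3 : Q ≤ Subgroup.centralizer ((Subgroup.centralizer (Q : Set H) ⊓
      Subgroup.centralizer ((Q.map (MulAut.conj g).toMonoidHom : Subgroup H) : Set H) :
        Subgroup H) : Set H) := Subgroup.le_centralizer_iff.mp inf_le_left
  have h4 : Q.map (MulAut.conj g).toMonoidHom ≤ Subgroup.centralizer
      ((Subgroup.centralizer (Q : Set H) ⊓
      Subgroup.centralizer ((Q.map (MulAut.conj g).toMonoidHom : Subgroup H) : Set H) :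
        Subgroup H) : Set H) := Subgroup.le_centralizer_iff.mp inf_le_right
  have h5 : Q.map (MulAut.conj g).toMonoidHom ≤ Subgroup.normalizer (Q : Set H) :=
    (h4.trans (Subgroup.centralizer_le_normalizer _)).trans h1
  have h6 := wc_eq_of_commutator_le hQp (large_wc hQp hQ1 hL)
    (commutator_le_left_of_le_normalizer h5)
  exact hg (mem_normalizer_of_conj_eq_self h6)

/-- `Q ≤ Q• = O_p(N(Q))` for a `p`-subgroup `Q`. -/
theorem le_largeBullet {p : ℕ} {Q : Subgroup H} (hQp : IsPGroup p Q) :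
    Q ≤ Cfsg.largeBullet p Q :=
  le_pCoreOf Subgroup.le_normalizer le_rfl hQp

theorem largeBullet_isPGroup (p : ℕ) (Q : Subgroup H) : IsPGroup p (Cfsg.largeBullet p Q) :=
  pCoreOf_isPGroup p _

/-- `N(Q) = N(Q•)` for a nontrivial large `p`-subgroup. -/
theorem large_normalizer_bullet [Finite H] {p : ℕ} [Fact p.Prime] {Q : Subgroup H}
    (hQp : IsPGroup p Q) (hQ1 : Q ≠ ⊥) (hL : Cfsg.IsLarge Q) :
    Subgroup.normalizer (Q : Set H) =
      Subgroup.normalizer ((Cfsg.largeBullet p Q : Subgroup H) : Set H) := by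
  apply le_antisymm
  · exact le_normalizer_pCoreOf p _
  · have hle := le_largeBullet (p := p) hQp
    have hne : Cfsg.largeBullet p Q ≠ ⊥ := fun h => hQ1 (le_bot_iff.mp (h ▸ hle))
    have h1 : Cfsg.largeBullet p Q ⊓ Subgroup.centralizer ((Cfsg.largeBullet p Q : Subgroup H) : Set H)
        ≤ Subgroup.centralizer (Q : Set H) := inf_le_right.trans (Subgroup.centralizer_le hle)
    exact (normalizer_le_normalizer_inf_centralizer _).trans
      (hL.2 _ h1 (inf_centralizer_ne_bot (largeBullet_isPGroup p Q) hne))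

/-- `Q•` is large for a nontrivial large `p`-subgroup `Q`. -/
theorem large_bullet [Finite H] {p : ℕ} [Fact p.Prime] {Q : Subgroup H}
    (hQp : IsPGroup p Q) (hQ1 : Q ≠ ⊥) (hL : Cfsg.IsLarge Q) :
    Cfsg.IsLarge (Cfsg.largeBullet p Q) := by
  have hle := le_largeBullet (p := p) hQp
  constructor
  · exact (Subgroup.centralizer_le hle).trans (hL.1.trans hle)
  · intro U hU hUne
    rw [← large_normalizer_bullet hQp hQ1 hL]
    exact hL.2 U (hU.trans (Subgroup.centralizer_le hle)) hUne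

end Cfsg.Agent.Lib.helper53
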