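import Cfsg.Prelude.Def_LocalStructure
import Cfsg.Agent.Lib.helper53.WeakClosed
import Cfsg.Agent.Lib.helper53.PCore
import Cfsg.Agent.Lib.helper53.Quot

set_option autoImplicit false

namespace Cfsg.Agent.Lib.helper53

open scoped commutatorElement Pointwise

variable {H : Type*} [Group H]

/-- Image of a conjugate under a homomorphism. -/
theorem map_conj_hom {H' : Type*} [Group H'] (f : H →* H') (Q : Subgroup H) (g : H) :
    (Q.map (MulAut.conj g).toMonoidHom).map f = (Q.map f).map (MulAut.conj (f g)).toMonoidHom := by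
  rw [Subgroup.map_map, Subgroup.map_map]
  congr 1
  ext x
  simp

/-- Two `p`-subgroups of `K` can be put in a common `p`-subgroup of `K` after conjugating one
of them by an element of `K`. -/
theorem exists_mem_pgroup_conj [Finite H] {p : ℕ} [Fact p.Prime] {K A B : Subgroup H}
    (hA : IsPGroup p A) (hB : IsPGroup p B) (hAK : A ≤ K) (hBK : B ≤ K) :
    ∃ k ∈ K, ∃ S : Subgroup H, IsPGroup p S ∧ S ≤ K ∧ A ≤ S ∧
      B.map (MulAut.conj k).toMonoidHom ≤ S := by
  obtain ⟨SA, hSA⟩ := (hA.comap_subtype (K := K)).exists_le_sylow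
  obtain ⟨SB, hSB⟩ := (hB.comap_subtype (K := K)).exists_le_sylow
  obtain ⟨k, hk⟩ := MulAction.exists_smul_eq K SB SA
  refine ⟨k, k.2, (SA : Subgroup K).map K.subtype, ?_, ?_, ?_, ?_⟩
  · exact SA.2.map _
  · exact Subgroup.map_subtype_le _
  · intro a ha
    exact ⟨⟨a, hAK ha⟩, hSA (Subgroup.mem_subgroupOf.mpr ha), rfl⟩
  · rw [conj_le_iff]
    intro b hb
    have h1 : (⟨b, hBK hb⟩ : K) ∈ (SB : Subgroup K) := hSB (Subgroup.mem_subgroupOf.mpr hb)
    have h2 : (k * ⟨b, hBK hb⟩ * k⁻¹ : K) ∈ ((k • SB : Sylow p K) : Subgroup K) := by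
      rw [Sylow.coe_subgroup_smul]
      exact Subgroup.smul_mem_pointwise_smul _ (MulAut.conj k) _ h1
    rw [hk] at h2
    exact ⟨_, h2, rfl⟩

/-- `Q ≤ K` weakly closed in `H` is weakly closed in `K`. -/
theorem wc_subgroupOf [Finite H] {p : ℕ} [Fact p.Prime] {Q : Subgroup H}
    (hQp : IsPGroup p Q) (hwc : Cfsg.IsWeaklyClosedSubgroup p Q) {K : Subgroup H} (hQK : Q ≤ K) :
    Cfsg.IsWeaklyClosedSubgroup p (Q.subgroupOf K) := by
  obtain ⟨T, hT⟩ := (hQp.comap_subtype (K := K)).exists_le_sylow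
  have hQT : Q ≤ (T : Subgroup K).map K.subtype := by
    intro a ha
    exact ⟨⟨a, hQK ha⟩, hT (Subgroup.mem_subgroupOf.mpr ha), rfl⟩
  have e0 : (Q.subgroupOf K).map K.subtype = Q := Subgroup.map_subgroupOf_eq_of_le hQK
  refine ⟨T, hT, ?_⟩
  intro k hk
  apply Subgroup.map_injective K.subtype_injective
  rw [map_conj_hom, e0]
  apply wc_conj_eq hwc (T.2.map K.subtype) hQT
  have h1 := Subgroup.map_mono (f := K.subtype) hk
  rw [map_conj_hom, e0] at h1
  exact h1

/-- `H`-conjugates of a weakly closed `Q ≤ K` that lie in `K` are `K`-conjugates. -/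
theorem wc_conj_in [Finite H] {p : ℕ} [Fact p.Prime] {Q : Subgroup H}
    (hQp : IsPGroup p Q) (hwc : Cfsg.IsWeaklyClosedSubgroup p Q) {K : Subgroup H} (hQK : Q ≤ K)
    {g : H} (hg : Q.map (MulAut.conj g).toMonoidHom ≤ K) :
    ∃ k ∈ K, Q.map (MulAut.conj g).toMonoidHom = Q.map (MulAut.conj k).toMonoidHom := by
  obtain ⟨k, hk, S, hS, -, hQS, hBS⟩ := exists_mem_pgroup_conj hQp (isPGroup_conj hQp g) hQK hg
  rw [conj_conj] at hBS
  have h1 := wc_conj_eq hwc hS hQS hBS
  refine ⟨k⁻¹, K.inv_mem hk, ?_⟩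
  have h2 := congrArg (fun X : Subgroup H => X.map (MulAut.conj k⁻¹).toMonoidHom) h1
  simp only [conj_conj] at h2
  rw [← h2]
  congr 3
  group

/-- A Sylow `p`-subgroup of `K` (viewed in `H`) containing the weakly closed `Q` normalizes
`Q`. -/
theorem wc_parabolic [Finite H] {p : ℕ} [Fact p.Prime] {Q : Subgroup H}
    (hQp : IsPGroup p Q) (hwc : Cfsg.IsWeaklyClosedSubgroup p Q) {K : Subgroup H} (hQK : Q ≤ K) :
    Cfsg.IsParabolic p ((Subgroup.normalizer (Q : Set H)).subgroupOf K) := by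
  obtain ⟨T, hT⟩ := (hQp.comap_subtype (K := K)).exists_le_sylow
  have hQT : Q ≤ (T : Subgroup K).map K.subtype := by
    intro a ha
    exact ⟨⟨a, hQK ha⟩, hT (Subgroup.mem_subgroupOf.mpr ha), rfl⟩
  refine ⟨T, ?_⟩
  have h1 := wc_le_normalizer hwc (T.2.map K.subtype) hQT
  intro x hx
  exact Subgroup.mem_subgroupOf.mpr (h1 ⟨x, hx, rfl⟩)

/-- Frattini-type factorization: `N = N_N(Q) O^p(N)` for weakly closed `Q` and normal `N`. -/
theorem wc_frattini [Finite H] {p : ℕ} [Fact p.Prime] {Q : Subgroup H}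
    (hQp : IsPGroup p Q) (hwc : Cfsg.IsWeaklyClosedSubgroup p Q) (N : Subgroup H) [N.Normal] :
    (N ⊓ Subgroup.normalizer (Q : Set H)) ⊔ (Cfsg.pResidual p ↥N).map N.subtype = N := by
  obtain ⟨T, hQT⟩ := hQp.exists_le_sylow
  have hTN := wc_le_normalizer hwc T.2 hQT
  obtain ⟨P, hP⟩ := exists_sylow_eq_inf_normal T N
  have h1 := pResidual_sup_sylow P
  have h2 := congrArg (fun X : Subgroup N => X.map N.subtype) h1
  simp only [Subgroup.map_sup, hP] at h2
  rw [← MonoidHom.range_eq_map, Subgroup.range_subtype] at h2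
  apply le_antisymm
  · refine sup_le inf_le_left ?_
    exact Subgroup.map_subtype_le _
  · conv_lhs => rw [← h2]
    rw [sup_comm]
    exact sup_le_sup_right (le_inf inf_le_right (inf_le_left.trans hTN)) _

/-- The image of a weakly closed subgroup in a quotient is weakly closed. -/
theorem wc_quotient [Finite H] {p : ℕ} [Fact p.Prime] {Q : Subgroup H}
    (hQp : IsPGroup p Q) (hwc : Cfsg.IsWeaklyClosedSubgroup p Q) (N : Subgroup H) [N.Normal] :
    Cfsg.IsWeaklyClosedSubgroup p (Q.map (QuotientGroup.mk' N)) := by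
  obtain ⟨T, hQT⟩ := hQp.exists_le_sylow
  have hTN := wc_le_normalizer hwc T.2 hQT
  refine ⟨T.mapSurjective (QuotientGroup.mk'_surjective N), ?_, ?_⟩
  · rw [Sylow.coe_mapSurjective]
    exact Subgroup.map_mono hQT
  · intro gb hgb
    obtain ⟨g, rfl⟩ := QuotientGroup.mk'_surjective N gb
    rw [Sylow.coe_mapSurjective, ← map_conj_hom, Subgroup.map_le_iff_le_comap, comap_map_mk'] at hgb
    obtain ⟨k, hk, S, hS, -, hTS, hBS⟩ :=
      exists_mem_pgroup_conj T.2 (isPGroup_conj hQp g) le_sup_left hgb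
    have hST : S = T := (T.3 hS hTS)
    rw [conj_conj, hST] at hBS
    have h1 := wc_conj_eq hwc T.2 hQT hBS
    have h2 := congrArg (fun X : Subgroup H => X.map (MulAut.conj k⁻¹).toMonoidHom) h1
    simp only [conj_conj] at h2
    have e : k⁻¹ * (k * g) = g := by group
    rw [e] at h2
    rw [← map_conj_hom, h2, map_conj_hom]
    apply conj_eq_self_of_mem_normalizer
    have h3 : QuotientGroup.mk' N k⁻¹ ∈ ((T : Subgroup H) ⊔ N).map (QuotientGroup.mk' N) :=
      Subgroup.mem_map_of_mem _ (Subgroup.inv_mem _ hk)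
    have h4 : ((T : Subgroup H) ⊔ N).map (QuotientGroup.mk' N) =
        (T : Subgroup H).map (QuotientGroup.mk' N) := by
      rw [Subgroup.map_sup]
      have : N.map (QuotientGroup.mk' N) = ⊥ := by
        rw [Subgroup.map_eq_bot_iff, QuotientGroup.ker_mk']
      rw [this, sup_bot_eq]
    rw [h4] at h3
    exact Subgroup.le_normalizer_map _ (Subgroup.map_mono hTN h3)

end Cfsg.Agent.Lib.helper53
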