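import Cfsg.Prelude.Def_LocalStructure
import Cfsg.Agent.Lib.helper53.WC2

set_option autoImplicit false

namespace Cfsg.Agent.Lib.helper53

open scoped commutatorElement Pointwise

variable {H : Type*} [Group H]

/-- Every conjugate of a weakly closed subgroup `Q` lies in every subnormal subgroup containing
`Q`. -/
theorem wc_conj_le_of_subnormal [Finite H] {p : ℕ} [Fact p.Prime] {Q : Subgroup H}
    (hQp : IsPGroup p Q) (hwc : Cfsg.IsWeaklyClosedSubgroup p Q) {L : Subgroup H}
    (hL : L.IsSubnormal) : Q ≤ L → ∀ g : H, Q.map (MulAut.conj g).toMonoidHom ≤ L := by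
  induction hL with
  | top => intro _ g; exact le_top
  | step L M hLM hM hN ih =>
    intro hQL g
    have hQM := hQL.trans hLM
    obtain ⟨m, hm, e⟩ := wc_conj_in hQp hwc hQM (ih hQM g)
    rw [e, conj_le_iff]
    intro x hx
    have h1 : (⟨x, hQM hx⟩ : M) ∈ L.subgroupOf M := Subgroup.mem_subgroupOf.mpr (hQL hx)
    have h2 := hN.conj_mem _ h1 ⟨m, hm⟩
    exact Subgroup.mem_subgroupOf.mp h2

/-- The join of all conjugates of `Q` is normal. -/
theorem iSup_conj_normal (Q : Subgroup H) :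
    (⨆ g : H, Q.map (MulAut.conj g).toMonoidHom).Normal := by
  constructor
  intro n hn g
  have h1 : g * n * g⁻¹ ∈ (⨆ g : H, Q.map (MulAut.conj g).toMonoidHom).map
      (MulAut.conj g).toMonoidHom := conj_mem_conj hn
  rw [Subgroup.map_iSup] at h1
  refine (iSup_le ?_ : _ ≤ ⨆ g : H, Q.map (MulAut.conj g).toMonoidHom) h1
  intro h
  rw [conj_conj]
  exact le_iSup (fun g : H => Q.map (MulAut.conj g).toMonoidHom) (g * h)

theorem le_iSup_conj (Q : Subgroup H) : Q ≤ ⨆ g : H, Q.map (MulAut.conj g).toMonoidHom := by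
  have h := le_iSup (fun g : H => Q.map (MulAut.conj g).toMonoidHom) 1
  simp only [conj_one] at h
  exact h

/-- The subnormal closure of a weakly closed subgroup is its normal closure (join of its
conjugates). -/
theorem wc_subnormalClosure [Finite H] {p : ℕ} [Fact p.Prime] {Q : Subgroup H}
    (hQp : IsPGroup p Q) (hwc : Cfsg.IsWeaklyClosedSubgroup p Q) :
    Cfsg.subnormalClosure Q = ⨆ g : H, Q.map (MulAut.conj g).toMonoidHom := by
  unfold Cfsg.subnormalClosure
  apply le_antisymm
  · exact sInf_le ⟨le_iSup_conj Q, (iSup_conj_normal Q).isSubnormal⟩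
  · apply le_sInf
    rintro L ⟨hQL, hL⟩
    exact iSup_le fun g => wc_conj_le_of_subnormal hQp hwc hL hQL g

/-- The weak closure of a weakly closed `Q ≤ K` in `K` is generated by the `K`-conjugates. -/
theorem wc_weakClosure_eq [Finite H] {p : ℕ} [Fact p.Prime] {Q : Subgroup H}
    (hQp : IsPGroup p Q) (hwc : Cfsg.IsWeaklyClosedSubgroup p Q) {K : Subgroup H} (hQK : Q ≤ K) :
    Cfsg.weakClosure Q K = ⨆ k : ↥K, Q.map (MulAut.conj (k : H)).toMonoidHom := by
  unfold Cfsg.weakClosure
  apply le_antisymm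
  · apply iSup_le
    rintro ⟨g, hg⟩
    obtain ⟨k, hk, e⟩ := wc_conj_in hQp hwc hQK hg
    change Q.map (MulAut.conj g).toMonoidHom ≤ _
    rw [e]
    exact le_iSup (fun k : K => Q.map (MulAut.conj (k : H)).toMonoidHom) ⟨k, hk⟩
  · apply iSup_le
    intro k
    have hk : Q.map (MulAut.conj (k : H)).toMonoidHom ≤ K := by
      rw [conj_le_iff]
      intro x hx
      exact K.mul_mem (K.mul_mem k.2 (hQK hx)) (K.inv_mem k.2)
    exact le_iSup (fun g : {g : H // Q.map (MulAut.conj g).toMonoidHom ≤ K} =>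
      Q.map (MulAut.conj (g : H)).toMonoidHom) ⟨k, hk⟩

/-- The weak closure of a weakly closed `Q ≤ K` in `K` is the subnormal closure of `Q` in
`K`. -/
theorem wc_weakClosure_eq_subnormalClosure [Finite H] {p : ℕ} [Fact p.Prime] {Q : Subgroup H}
    (hQp : IsPGroup p Q) (hwc : Cfsg.IsWeaklyClosedSubgroup p Q) {K : Subgroup H} (hQK : Q ≤ K) :
    Cfsg.weakClosure Q K = (Cfsg.subnormalClosure (Q.subgroupOf K)).map K.subtype := by
  have hQp' : IsPGroup p (Q.subgroupOf K) := hQp.comap_subtype (K := K)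
  rw [wc_weakClosure_eq hQp hwc hQK,
    wc_subnormalClosure hQp' (wc_subgroupOf hQp hwc hQK),
    Subgroup.map_iSup]
  congr 1
  funext k
  rw [map_conj_hom, Subgroup.map_subgroupOf_eq_of_le hQK]
  rfl

end Cfsg.Agent.Lib.helper53
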