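import Cfsg.Prelude.Def_LocalStructure
import Cfsg.Agent.Lib.helper53.WC3
import Cfsg.Agent.Lib.helper53.Comm

set_option autoImplicit false

namespace Cfsg.Agent.Lib.helper53

open scoped commutatorElement Pointwise

variable {H : Type*} [Group H]

/-- If the weakly closed `Q` normalizes `M`, then every `M`-conjugate of `Q` is a
`[M, Q]`-conjugate. -/
theorem wc_conj_commutator [Finite H] {p : ℕ} [Fact p.Prime] {Q : Subgroup H}
    (hQp : IsPGroup p Q) (hwc : Cfsg.IsWeaklyClosedSubgroup p Q) {M : Subgroup H}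
    {m : H} (hm : m ∈ M) :
    ∃ r ∈ ⁅M, Q⁆, Q.map (MulAut.conj m).toMonoidHom = Q.map (MulAut.conj r).toMonoidHom := by
  have hQK : Q ≤ ⁅M, Q⁆ ⊔ Q := le_sup_right
  have hmK : Q.map (MulAut.conj m).toMonoidHom ≤ ⁅M, Q⁆ ⊔ Q := by
    rw [conj_le_iff]
    intro x hx
    have e : m * x * m⁻¹ = ⁅m, x⁆ * x := by rw [commutatorElement_def]; group
    rw [e]
    exact Subgroup.mul_mem _ (Subgroup.mem_sup_left (Subgroup.commutator_mem_commutator hm hx))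
      (Subgroup.mem_sup_right hx)
  obtain ⟨k, hk, e⟩ := wc_conj_in hQp hwc hQK hmK
  rw [mem_sup_of_le_normalizer (le_normalizer_commutator_right M Q)] at hk
  obtain ⟨r, hr, q, hq, rfl⟩ := hk
  refine ⟨r, hr, ?_⟩
  rw [e, ← conj_conj, conj_eq_self_of_mem_normalizer (Subgroup.le_normalizer hq)]

/-- `M = N_M(Q) [M, Q]` when the weakly closed `Q` normalizes `M`. -/
theorem wc_factor_normalizer_commutator [Finite H] {p : ℕ} [Fact p.Prime] {Q : Subgroup H}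
    (hQp : IsPGroup p Q) (hwc : Cfsg.IsWeaklyClosedSubgroup p Q) {M : Subgroup H}
    (hQM : Q ≤ Subgroup.normalizer (M : Set H)) {n : H} (hn : n ∈ M) :
    ∃ a ∈ M ⊓ Subgroup.normalizer (Q : Set H), ∃ b ∈ ⁅M, Q⁆, n = a * b := by
  obtain ⟨r, hr, e⟩ := wc_conj_commutator hQp hwc (M.inv_mem hn)
  have hrM : r ∈ M := commutator_le_left_of_le_normalizer hQM hr
  refine ⟨n * r, Subgroup.mem_inf.mpr ⟨M.mul_mem hn hrM, ?_⟩, r⁻¹, Subgroup.inv_mem _ hr,
    by group⟩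
  apply mem_normalizer_of_conj_eq_self
  rw [← conj_conj, ← e, conj_conj]
  have : n * n⁻¹ = 1 := by group
  rw [this, conj_one]

/-- `[N, Q] = (Q ∩ [N, Q]) [N, Q, Q]` for weakly closed `Q`. -/
theorem wc_commutator_factor [Finite H] {p : ℕ} [Fact p.Prime] {Q : Subgroup H}
    (hQp : IsPGroup p Q) (hwc : Cfsg.IsWeaklyClosedSubgroup p Q) (N : Subgroup H)
    {c : H} (hc : c ∈ ⁅N, Q⁆) :
    ∃ a ∈ Q ⊓ ⁅N, Q⁆, ∃ b ∈ ⁅⁅N, Q⁆, Q⁆, c = a * b := by
  have h1 : ⁅N, Q⁆ ≤ Q ⊔ ⁅⁅N, Q⁆, Q⁆ := by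
    rw [Subgroup.commutator_le]
    intro n hn x hx
    obtain ⟨r, hr, e⟩ := wc_conj_commutator hQp hwc hn
    have h2 : n * x * n⁻¹ ∈ Q.map (MulAut.conj r).toMonoidHom := by
      rw [← e]; exact conj_mem_conj hx
    rw [mem_conj_iff] at h2
    have e2 : ⁅n, x⁆ = ⁅r, r⁻¹ * (n * x * n⁻¹) * r⁆ * ((r⁻¹ * (n * x * n⁻¹) * r) * x⁻¹) := by
      simp only [commutatorElement_def]; group
    rw [e2]
    exact Subgroup.mul_mem _ (Subgroup.mem_sup_right (Subgroup.commutator_mem_commutator hr h2))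
      (Subgroup.mem_sup_left (Q.mul_mem h2 (Q.inv_mem hx)))
  have h3 := h1 hc
  rw [sup_comm, mem_sup_of_le_normalizer' (le_normalizer_commutator_right ⁅N, Q⁆ Q)] at h3
  obtain ⟨a, ha, b, hb, rfl⟩ := h3
  have hbR : b ∈ ⁅N, Q⁆ :=
    commutator_le_left_of_le_normalizer (le_normalizer_commutator_right N Q) hb
  refine ⟨a, Subgroup.mem_inf.mpr ⟨ha, ?_⟩, b, hb, rfl⟩
  have : a = a * b * b⁻¹ := by group
  rw [this]
  exact Subgroup.mul_mem _ hc (Subgroup.inv_mem _ hbR)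

end Cfsg.Agent.Lib.helper53
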