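import Cfsg.Prelude.Def_LocalStructure
import Cfsg.Agent.Lib.helper53.WC4
import Cfsg.Agent.Lib.helper53.Large

set_option autoImplicit false

namespace Cfsg.Agent.Lib.helper53

open scoped commutatorElement Pointwise

variable {H : Type*} [Group H]

/-- If `[q, x]` has `p`-power order and commutes with the `p'`-element `x`, then `[q, x] = 1`. -/
theorem commutatorElement_eq_one_of_coprime {p : ℕ} {q x : H}
    (hx : (orderOf x).Coprime p) (hw : ∃ k, ⁅q, x⁆ ^ p ^ k = 1) (hc : Commute ⁅q, x⁆ x) :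
    ⁅q, x⁆ = 1 := by
  have h1 : q * x * q⁻¹ = ⁅q, x⁆ * x := by rw [commutatorElement_def]; group
  have h2 : ⁅q, x⁆ ^ orderOf x = 1 := by
    have h3 : (q * x * q⁻¹) ^ orderOf x = 1 := by rw [conj_pow, pow_orderOf_eq_one]; group
    rw [h1, hc.mul_pow, pow_orderOf_eq_one, mul_one] at h3
    exact h3
  obtain ⟨k, hk⟩ := hw
  have h4 : orderOf ⁅q, x⁆ ∣ orderOf x := orderOf_dvd_of_pow_eq_one h2
  have h5 : orderOf ⁅q, x⁆ ∣ p ^ k := orderOf_dvd_of_pow_eq_one hk
  have h6 : orderOf ⁅q, x⁆ = 1 := Nat.eq_one_of_dvd_coprimes (Nat.Coprime.pow_right k hx) h4 h5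
  exact orderOf_eq_one_iff.mp h6

/-- A subgroup of a finite group all of whose `p'`-elements are trivial is a `p`-group. -/
theorem isPGroup_of_forall_coprime_eq_one [Finite H] {p : ℕ} [Fact p.Prime] {E : Subgroup H}
    (h : ∀ x ∈ E, (orderOf x).Coprime p → x = 1) : IsPGroup p E := by
  intro g
  have hpp : p.Prime := Fact.out
  have hpos : orderOf (g : H) ≠ 0 := (orderOf_pos (g : H)).ne'
  obtain ⟨a, m, hm, e⟩ := Nat.exists_eq_pow_mul_and_not_dvd hpos p hpp.ne_one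
  have h1 : ((g : H) ^ p ^ a) ^ m = 1 := by rw [← pow_mul, ← e, pow_orderOf_eq_one]
  have h2 : (orderOf ((g : H) ^ p ^ a)).Coprime p := by
    have h3 : orderOf ((g : H) ^ p ^ a) ∣ m := orderOf_dvd_of_pow_eq_one h1
    exact Nat.Coprime.coprime_dvd_left h3 ((Nat.Prime.coprime_iff_not_dvd hpp).mpr hm).symm
  have h4 := h _ (E.pow_mem g.2 _) h2
  exact ⟨a, Subtype.ext (by simpa using h4)⟩

/-- A `p'`-element of a `p`-group is trivial. -/
theorem eq_one_of_mem_pgroup_of_coprime {p : ℕ} {E : Subgroup H} (hE : IsPGroup p E) {x : H}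
    (hx : x ∈ E) (hc : (orderOf x).Coprime p) : x = 1 := by
  obtain ⟨k, hk⟩ := hE ⟨x, hx⟩
  have h1 : x ^ p ^ k = 1 := by
    have := congrArg Subtype.val hk
    simpa using this
  have h2 : orderOf x ∣ p ^ k := orderOf_dvd_of_pow_eq_one h1
  have h3 : orderOf x = 1 :=
    Nat.eq_one_of_dvd_coprimes (Nat.Coprime.pow_right k hc) dvd_rfl h2
  exact orderOf_eq_one_iff.mp h3

/-- A nontrivial normal subgroup of a finite `p`-group contains a nontrivial central element
(after helper38). -/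
theorem exists_central_of_normal_ne_bot53 {Q : Type*} [Group Q] [Finite Q] {p : ℕ} [Fact p.Prime]
    (hQ : IsPGroup p Q) (N : Subgroup Q) [N.Normal] (hN : N ≠ ⊥) :
    ∃ z ∈ N, z ≠ 1 ∧ ∀ g : Q, g * z * g⁻¹ = z := by
  have hHnt : Nontrivial N := (Subgroup.nontrivial_iff_ne_bot N).mpr hN
  have dvd : p ∣ Nat.card N := by
    obtain ⟨n, hn0, hn⟩ := (hQ.to_subgroup N).nontrivial_iff_card.mp hHnt
    exact hn.symm ▸ dvd_pow_self _ (ne_of_gt hn0)
  have h1 : (1 : N) ∈ MulAction.fixedPoints (ConjAct Q) N := by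
    intro g
    exact smul_one g
  obtain ⟨b, hb, hb1⟩ :=
    (hQ.of_equiv ConjAct.toConjAct).exists_fixed_point_of_prime_dvd_card_of_fixed_point N dvd h1
  refine ⟨b, b.2, ?_, ?_⟩
  · intro h
    apply hb1
    exact (Subtype.ext h).symm
  · intro g
    have := hb (ConjAct.toConjAct g)
    have h2 := congrArg Subtype.val this
    rw [ConjAct.Subgroup.val_conj_smul, ConjAct.smul_def] at h2
    simpa using h2

/-- A `p`-group `Q` normalizing a nontrivial `p`-group `Y` centralizes a nontrivial element of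
`Y`. -/
theorem inf_centralizer_ne_bot_of_le_normalizer [Finite H] {p : ℕ} [Fact p.Prime]
    {Q Y : Subgroup H} (hQ : IsPGroup p Q) (hY : IsPGroup p Y)
    (hQY : Q ≤ Subgroup.normalizer (Y : Set H)) (hne : Y ≠ ⊥) :
    Y ⊓ Subgroup.centralizer (Q : Set H) ≠ ⊥ := by
  have hT : IsPGroup p (Y ⊔ Q : Subgroup H) := hY.to_sup_of_normal_left' hQ hQY
  have hn : (Y.subgroupOf (Y ⊔ Q)).Normal :=
    (Subgroup.normal_subgroupOf_iff_le_normalizer le_sup_left).mpr
      (sup_le Subgroup.le_normalizer hQY)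
  have hne' : Y.subgroupOf (Y ⊔ Q) ≠ ⊥ := by
    intro h
    apply hne
    rw [Subgroup.eq_bot_iff_forall]
    intro y hy
    have h1 : (⟨y, Subgroup.mem_sup_left hy⟩ : (Y ⊔ Q : Subgroup H)) ∈ Y.subgroupOf (Y ⊔ Q) :=
      Subgroup.mem_subgroupOf.mpr hy
    rw [h, Subgroup.mem_bot] at h1
    exact congrArg Subtype.val h1
  obtain ⟨z, hz, hz1, hzc⟩ := exists_central_of_normal_ne_bot53 hT _ hne'
  intro hbot
  apply hz1
  have h2 : (z : H) ∈ Y ⊓ Subgroup.centralizer (Q : Set H) := by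
    refine Subgroup.mem_inf.mpr ⟨Subgroup.mem_subgroupOf.mp hz, ?_⟩
    rw [Subgroup.mem_centralizer_iff]
    intro q hq
    have h3 := hzc ⟨q, Subgroup.mem_sup_right hq⟩
    have h4 : q * (z : H) * q⁻¹ = z := congrArg Subtype.val h3
    calc q * (z : H) = (q * (z : H) * q⁻¹) * q := by group
      _ = (z : H) * q := by rw [h4]
  rw [hbot, Subgroup.mem_bot] at h2
  exact Subtype.ext h2

/-- Subtype form of characteristic `p` from the ambient form. -/
theorem charP_subtype_of_ambient {p : ℕ} {L : Subgroup H}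
    (h : L ⊓ Subgroup.centralizer (Cfsg.pCoreOf p L : Set H) ≤ Cfsg.pCoreOf p L) :
    Subgroup.centralizer (Cfsg.pCore p ↥L : Set ↥L) ≤ Cfsg.pCore p ↥L := by
  intro x hx
  have h1 : (x : H) ∈ L ⊓ Subgroup.centralizer (Cfsg.pCoreOf p L : Set H) := by
    refine Subgroup.mem_inf.mpr ⟨x.2, ?_⟩
    rw [Subgroup.mem_centralizer_iff]
    intro z hz
    obtain ⟨y, hy, rfl⟩ := Subgroup.mem_map.mp hz
    have := Subgroup.mem_centralizer_iff.mp hx y hy
    exact congrArg Subtype.val this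
  obtain ⟨y, hy, e⟩ := Subgroup.mem_map.mp (h h1)
  have : y = x := Subtype.ext e
  rw [← this]; exact hy

/-- Ambient form of characteristic `p` from the subtype form. -/
theorem charP_ambient_of_subtype {p : ℕ} {L : Subgroup H}
    (h : Subgroup.centralizer (Cfsg.pCore p ↥L : Set ↥L) ≤ Cfsg.pCore p ↥L) :
    L ⊓ Subgroup.centralizer (Cfsg.pCoreOf p L : Set H) ≤ Cfsg.pCoreOf p L := by
  intro x hx
  obtain ⟨hxL, hxC⟩ := Subgroup.mem_inf.mp hx
  have h1 : (⟨x, hxL⟩ : L) ∈ Subgroup.centralizer (Cfsg.pCore p ↥L : Set ↥L) := by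
    rw [Subgroup.mem_centralizer_iff]
    intro y hy
    apply Subtype.ext
    exact Subgroup.mem_centralizer_iff.mp hxC _ (Subgroup.mem_map.mpr ⟨y, hy, rfl⟩)
  exact Subgroup.mem_map.mpr ⟨_, h h1, rfl⟩

theorem normalizer_inf_le53 (A B : Subgroup H) :
    Subgroup.normalizer (A : Set H) ⊓ Subgroup.normalizer (B : Set H) ≤
      Subgroup.normalizer ((A ⊓ B : Subgroup H) : Set H) := by
  intro g hg
  obtain ⟨h1, h2⟩ := Subgroup.mem_inf.mp hg
  rw [Subgroup.mem_normalizer_iff]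
  intro x
  rw [Subgroup.mem_inf, Subgroup.mem_inf, ← Subgroup.mem_normalizer_iff.mp h1 x,
    ← Subgroup.mem_normalizer_iff.mp h2 x]

theorem normalizer_le_normalizer_centralizer53 (R : Subgroup H) :
    Subgroup.normalizer (R : Set H) ≤
      Subgroup.normalizer ((Subgroup.centralizer (R : Set H) : Subgroup H) : Set H) := by
  intro g hg
  apply mem_normalizer_of_conj_eq_self
  rw [← centralizer_conj, conj_eq_self_of_mem_normalizer hg]

/-- `N(X) ≤ N(O_p(X))`. -/
theorem normalizer_le_normalizer_pCoreOf [Finite H] (p : ℕ) (X : Subgroup H) :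
    Subgroup.normalizer (X : Set H) ≤ Subgroup.normalizer ((Cfsg.pCoreOf p X : Subgroup H) : Set H) := by
  intro g hg
  apply mem_normalizer_of_conj_le
  have hX : X.map (MulAut.conj g).toMonoidHom = X := conj_eq_self_of_mem_normalizer hg
  apply le_pCoreOf
  · have := conj_mono (pCoreOf_le p X) g
    rwa [hX] at this
  · have := conj_mono (le_normalizer_pCoreOf p X) g
    rwa [hX, ← normalizer_conj] at this
  · exact isPGroup_conj (pCoreOf_isPGroup p X) g

/-- The elements normalizing `P` and `W` and acting trivially on `P` modulo `W`. -/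
def stabMod (P W : Subgroup H) : Subgroup H where
  carrier := {g | g ∈ Subgroup.normalizer (P : Set H) ∧ g ∈ Subgroup.normalizer (W : Set H) ∧
    ∀ u ∈ P, ⁅u, g⁆ ∈ W}
  one_mem' := by
    refine ⟨Subgroup.one_mem _, Subgroup.one_mem _, ?_⟩
    intro u _
    rw [commutatorElement_one_right]
    exact W.one_mem
  mul_mem' := by
    rintro g h ⟨hg1, hg2, hg3⟩ ⟨hh1, hh2, hh3⟩
    refine ⟨Subgroup.mul_mem _ hg1 hh1, Subgroup.mul_mem _ hg2 hh2, ?_⟩
    intro u hu
    have e : ⁅u, g * h⁆ = ⁅u, g⁆ * (g * ⁅u, h⁆ * g⁻¹) := by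
      simp only [commutatorElement_def]; group
    rw [e]
    exact W.mul_mem (hg3 u hu) ((Subgroup.mem_normalizer_iff.mp hg2 _).mp (hh3 u hu))
  inv_mem' := by
    rintro g ⟨hg1, hg2, hg3⟩
    refine ⟨Subgroup.inv_mem _ hg1, Subgroup.inv_mem _ hg2, ?_⟩
    intro u hu
    have e : ⁅u, g⁻¹⁆ = g⁻¹ * ⁅u, g⁆⁻¹ * g⁻¹⁻¹ := by
      simp only [commutatorElement_def]; group
    rw [e]
    exact (Subgroup.mem_normalizer_iff.mp (Subgroup.inv_mem _ hg2) _).mp (W.inv_mem (hg3 u hu))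

theorem mem_stabMod {P W : Subgroup H} {g : H} :
    g ∈ stabMod P W ↔ g ∈ Subgroup.normalizer (P : Set H) ∧
      g ∈ Subgroup.normalizer (W : Set H) ∧ ∀ u ∈ P, ⁅u, g⁆ ∈ W := Iff.rfl

theorem conj_mem_stabMod {P W : Subgroup H} {g n : H} (hg : g ∈ stabMod P W)
    (hn1 : n ∈ Subgroup.normalizer (P : Set H)) (hn2 : n ∈ Subgroup.normalizer (W : Set H)) :
    n * g * n⁻¹ ∈ stabMod P W := by
  obtain ⟨hg1, hg2, hg3⟩ := hg
  refine ⟨?_, ?_, ?_⟩
  · exact Subgroup.mul_mem _ (Subgroup.mul_mem _ hn1 hg1) (Subgroup.inv_mem _ hn1)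
  · exact Subgroup.mul_mem _ (Subgroup.mul_mem _ hn2 hg2) (Subgroup.inv_mem _ hn2)
  · intro u hu
    have hu' : n⁻¹ * u * n⁻¹⁻¹ ∈ P :=
      (Subgroup.mem_normalizer_iff.mp (Subgroup.inv_mem _ hn1) u).mp hu
    have e : ⁅u, n * g * n⁻¹⁆ = n * ⁅n⁻¹ * u * n⁻¹⁻¹, g⁆ * n⁻¹ := by
      simp only [commutatorElement_def]; group
    rw [e]
    exact (Subgroup.mem_normalizer_iff.mp hn2 _).mp (hg3 _ hu')

/-- Key lemma: let `Q` be weakly closed, `D` a subgroup normalized by `Q`, and `P` a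
`p`-subgroup normalized by `Q` and `D` on which no nontrivial `p'`-element of `D` acts trivially,
with `D` centralizing `[P, Q]`. Then `D` normalizes `Q`. -/
theorem wc_le_normalizer_of_stab [Finite H] {p : ℕ} [Fact p.Prime] {Q : Subgroup H}
    (hQp : IsPGroup p Q) (hwc : Cfsg.IsWeaklyClosedSubgroup p Q) {D P : Subgroup H}
    (hQD : Q ≤ Subgroup.normalizer (D : Set H)) (hP : IsPGroup p P)
    (hQP : Q ≤ Subgroup.normalizer (P : Set H)) (hDP : D ≤ Subgroup.normalizer (P : Set H))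
    (h2 : ∀ x ∈ D, (orderOf x).Coprime p → x ∈ Subgroup.centralizer (P : Set H) → x = 1)
    (h3 : D ≤ Subgroup.centralizer ((⁅P, Q⁆ : Subgroup H) : Set H)) :
    D ≤ Subgroup.normalizer (Q : Set H) := by
  have hWP : ⁅P, Q⁆ ≤ P := commutator_le_left_of_le_normalizer hQP
  have hQW : Q ≤ Subgroup.normalizer ((⁅P, Q⁆ : Subgroup H) : Set H) :=
    le_normalizer_commutator_right P Q
  have hDW : D ≤ Subgroup.normalizer ((⁅P, Q⁆ : Subgroup H) : Set H) :=
    h3.trans (Subgroup.centralizer_le_normalizer _)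
  have hQSt : Q ≤ stabMod P ⁅P, Q⁆ := by
    intro q hq
    exact ⟨hQP hq, hQW hq, fun u hu => Subgroup.commutator_mem_commutator hu hq⟩
  -- E is a p-group
  have hE : IsPGroup p (D ⊓ stabMod P ⁅P, Q⁆ : Subgroup H) := by
    apply isPGroup_of_forall_coprime_eq_one
    intro x hx hc
    obtain ⟨hxD, -, -, hx3⟩ := Subgroup.mem_inf.mp hx
    apply h2 x hxD hc
    rw [Subgroup.mem_centralizer_iff]
    intro u hu
    have h4 : ⁅u, x⁆ = 1 := by
      apply commutatorElement_eq_one_of_coprime hc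
      · obtain ⟨k, hk⟩ := hP ⟨_, hWP (hx3 u hu)⟩
        refine ⟨k, ?_⟩
        have := congrArg Subtype.val hk
        simpa using this
      · exact (Subgroup.mem_centralizer_iff.mp (h3 hxD) _ (hx3 u hu))
    rw [commutatorElement_eq_one_iff_commute] at h4
    exact h4.eq
  -- Q normalizes E
  have hQE : Q ≤ Subgroup.normalizer ((D ⊓ stabMod P ⁅P, Q⁆ : Subgroup H) : Set H) := by
    intro q hq
    apply mem_normalizer_of_conj_le
    rw [conj_le_iff]
    intro x hx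
    obtain ⟨hxD, hxS⟩ := Subgroup.mem_inf.mp hx
    exact Subgroup.mem_inf.mpr ⟨(Subgroup.mem_normalizer_iff.mp (hQD hq) x).mp hxD,
      conj_mem_stabMod hxS (hQP hq) (hQW hq)⟩
  have hS : IsPGroup p ((D ⊓ stabMod P ⁅P, Q⁆) ⊔ Q : Subgroup H) :=
    hE.to_sup_of_normal_left' hQp hQE
  intro d hd
  apply mem_normalizer_of_conj_eq_self
  apply wc_conj_eq hwc hS le_sup_right
  rw [conj_le_iff]
  intro q hq
  have e : d * q * d⁻¹ = (d * q * d⁻¹ * q⁻¹) * q := by group
  rw [e]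
  refine Subgroup.mul_mem _ (Subgroup.mem_sup_left (Subgroup.mem_inf.mpr ⟨?_, ?_⟩))
    (Subgroup.mem_sup_right hq)
  · have h5 : q * d⁻¹ * q⁻¹ ∈ D :=
      (Subgroup.mem_normalizer_iff.mp (hQD hq) d⁻¹).mp (D.inv_mem hd)
    have e2 : d * q * d⁻¹ * q⁻¹ = d * (q * d⁻¹ * q⁻¹) := by group
    rw [e2]
    exact D.mul_mem hd h5
  · have h6 : d * q * d⁻¹ ∈ stabMod P ⁅P, Q⁆ := conj_mem_stabMod (hQSt hq) (hDP hd) (hDW hd)
    exact Subgroup.mul_mem _ h6 (Subgroup.inv_mem _ (hQSt hq))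

/-- Consequences of `D ≤ N(Q)` for a subgroup `D ≤ C(O_p(L))` normalized by `L ≥ Q`, with `Q`
weakly closed and `C(Q) ≤ Q`: `[Q, D] ≤ Q ∩ O_p(L)`, `D` is a `p`-group, `D ∩ L ≤ O_p(L)`. -/
theorem wc_centralizer_core [Finite H] {p : ℕ} [Fact p.Prime] {Q : Subgroup H}
    (hQp : IsPGroup p Q) (hCQ : Subgroup.centralizer (Q : Set H) ≤ Q)
    {L : Subgroup H} (hQL : Q ≤ L) {D : Subgroup H}
    (hDR : D ≤ Subgroup.centralizer (Cfsg.pCoreOf p L : Set H))
    (hLD : L ≤ Subgroup.normalizer (D : Set H)) (hDQ : D ≤ Subgroup.normalizer (Q : Set H)) :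
    ⁅Q, D⁆ ≤ Q ⊓ Cfsg.pCoreOf p L ∧ IsPGroup p D ∧ D ⊓ L ≤ Cfsg.pCoreOf p L := by
  have hQD : Q ≤ Subgroup.normalizer (D : Set H) := hQL.trans hLD
  have hLX : L ≤ Subgroup.normalizer ((D ⊓ L : Subgroup H) : Set H) :=
    (le_inf hLD Subgroup.le_normalizer).trans (normalizer_inf_le53 D L)
  have h1 : Q ⊓ D ≤ Cfsg.pCoreOf p L := by
    have h2 : Q ⊓ D ≤ Cfsg.pCoreOf p (D ⊓ L) := by
      apply le_pCoreOf (le_inf inf_le_right (inf_le_left.trans hQL)) _ (hQp.to_le inf_le_left)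
      exact (le_inf (inf_le_left.trans hDQ) (inf_le_left.trans Subgroup.le_normalizer)).trans
        (normalizer_inf_le53 Q D)
    refine h2.trans ?_
    apply le_pCoreOf ((pCoreOf_le p _).trans inf_le_right) _ (pCoreOf_isPGroup p _)
    exact hLX.trans (normalizer_le_normalizer_pCoreOf p _)
  have ha : ⁅Q, D⁆ ≤ Q ⊓ Cfsg.pCoreOf p L :=
    (commutator_le_inf_of_le_normalizer hDQ hQD).trans (le_inf inf_le_left h1)
  have hb : IsPGroup p D := by
    apply isPGroup_of_forall_coprime_eq_one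
    intro x hx hc
    have h3 : x ∈ Subgroup.centralizer (Q : Set H) := by
      rw [Subgroup.mem_centralizer_iff]
      intro q hq
      have hw := ha (Subgroup.commutator_mem_commutator hq hx)
      obtain ⟨hwQ, hwR⟩ := Subgroup.mem_inf.mp hw
      have h4 : ⁅q, x⁆ = 1 := by
        apply commutatorElement_eq_one_of_coprime hc
        · obtain ⟨k, hk⟩ := hQp ⟨_, hwQ⟩
          refine ⟨k, ?_⟩
          have := congrArg Subtype.val hk
          simpa using this
        · exact (Subgroup.mem_centralizer_iff.mp (hDR hx) _ hwR)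
      rw [commutatorElement_eq_one_iff_commute] at h4
      exact h4.eq
    exact eq_one_of_mem_pgroup_of_coprime hQp (hCQ h3) hc
  exact ⟨ha, hb, le_pCoreOf inf_le_right hLX (hb.to_le inf_le_left)⟩

end Cfsg.Agent.Lib.helper53
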