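import Cfsg.Prelude.Def_LocalStructure
import Cfsg.Agent.Lib.helper53.CharP

set_option autoImplicit false

namespace Cfsg.Agent.Lib.helper53

open scoped commutatorElement Pointwise

variable {H : Type*} [Group H]

/-- `[⨆ S i, C] ≤ N` if each `[S i, C] ≤ N` and each `S i` normalizes `N`. -/
theorem iSup_commutator_le {ι : Sort*} (S : ι → Subgroup H) (C N : Subgroup H)
    (hN : ∀ i, S i ≤ Subgroup.normalizer (N : Set H)) (h : ∀ i, ⁅S i, C⁆ ≤ N) :
    ⁅⨆ i, S i, C⁆ ≤ N := by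
  rw [Subgroup.commutator_le]
  intro g hg
  have key : g ∈ Subgroup.normalizer (N : Set H) ∧ ∀ c ∈ C, ⁅g, c⁆ ∈ N := by
    refine Subgroup.iSup_induction S
      (C := fun g => g ∈ Subgroup.normalizer (N : Set H) ∧ ∀ c ∈ C, ⁅g, c⁆ ∈ N) hg ?_ ?_ ?_
    · intro i x hx
      exact ⟨hN i hx, fun c hc => h i (Subgroup.commutator_mem_commutator hx hc)⟩
    · refine ⟨Subgroup.one_mem _, fun c _ => ?_⟩
      rw [commutatorElement_one_left]
      exact N.one_mem
    · rintro x y ⟨hx1, hx2⟩ ⟨hy1, hy2⟩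
      refine ⟨Subgroup.mul_mem _ hx1 hy1, fun c hc => ?_⟩
      have e : ⁅x * y, c⁆ = (x * ⁅y, c⁆ * x⁻¹) * ⁅x, c⁆ := by
        simp only [commutatorElement_def]; group
      rw [e]
      exact N.mul_mem ((Subgroup.mem_normalizer_iff.mp hx1 _).mp (hy2 c hc)) (hx2 c hc)
  exact key.2

/-- For a large `p`-subgroup `Q ≤ L` with `O_p(L) ≠ 1`: `C(O_p(L)) ≤ N(Q)`. -/
theorem large_centralizer_pCoreOf_le [Finite H] {p : ℕ} [Fact p.Prime] {Q : Subgroup H}
    (hQp : IsPGroup p Q) (hL : Cfsg.IsLarge Q) {L : Subgroup H} (hQL : Q ≤ L)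
    (hne : Cfsg.pCoreOf p L ≠ ⊥) :
    Subgroup.centralizer (Cfsg.pCoreOf p L : Set H) ≤ Subgroup.normalizer (Q : Set H) := by
  have hQN : Q ≤ Subgroup.normalizer (Cfsg.pCoreOf p L : Set H) :=
    hQL.trans (le_normalizer_pCoreOf p L)
  have h1 := inf_centralizer_ne_bot_of_le_normalizer hQp (pCoreOf_isPGroup p L) hQN hne
  have h2 := hL.2 _ inf_le_right h1
  have h3 : Subgroup.centralizer (Cfsg.pCoreOf p L : Set H) ≤
      Subgroup.centralizer ((Cfsg.pCoreOf p L ⊓ Subgroup.centralizer (Q : Set H) : Subgroup H) :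
        Set H) := Subgroup.centralizer_le inf_le_left
  exact (h3.trans (Subgroup.centralizer_le_normalizer _)).trans h2

/-- For a large `p`-subgroup `Q ≤ L` with `O_p(L) ≠ 1`: `C(O_p(L))` is a `p`-group and `L` has
characteristic `p` (ambient form). -/
theorem large_core [Finite H] {p : ℕ} [Fact p.Prime] {Q : Subgroup H}
    (hQp : IsPGroup p Q) (hL : Cfsg.IsLarge Q) {L : Subgroup H} (hQL : Q ≤ L)
    (hne : Cfsg.pCoreOf p L ≠ ⊥) :
    IsPGroup p (Subgroup.centralizer (Cfsg.pCoreOf p L : Set H)) ∧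
      L ⊓ Subgroup.centralizer (Cfsg.pCoreOf p L : Set H) ≤ Cfsg.pCoreOf p L := by
  have hLD : L ≤ Subgroup.normalizer
      ((Subgroup.centralizer (Cfsg.pCoreOf p L : Set H) : Subgroup H) : Set H) :=
    (le_normalizer_pCoreOf p L).trans (normalizer_le_normalizer_centralizer53 _)
  have := wc_centralizer_core hQp hL.1 hQL le_rfl hLD
    (large_centralizer_pCoreOf_le hQp hL hQL hne)
  refine ⟨this.2.1, ?_⟩
  rw [inf_comm]
  exact this.2.2

theorem pCoreOf_ne_bot {p : ℕ} {L : Subgroup H} (h : Cfsg.pCore p ↥L ≠ ⊥) :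
    Cfsg.pCoreOf p L ≠ ⊥ := by
  intro h1
  apply h
  unfold Cfsg.pCoreOf at h1
  rwa [Subgroup.map_eq_bot_iff_of_injective _ L.subtype_injective] at h1

/-- Either the weak closure of a large `p`-subgroup `Q` in `L` is `Q`, or its centralizer is
trivial. -/
theorem large_weakClosure_dichotomy [Finite H] {p : ℕ} [Fact p.Prime] {Q : Subgroup H}
    (hQp : IsPGroup p Q) (hQ1 : Q ≠ ⊥) (hL : Cfsg.IsLarge Q) {L : Subgroup H} (hQL : Q ≤ L) :
    Cfsg.weakClosure Q L = Q ∨
      Subgroup.centralizer ((Cfsg.weakClosure Q L : Subgroup H) : Set H) = ⊥ := by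
  have hQle : Q ≤ Cfsg.weakClosure Q L := by
    have h1 : Q.map (MulAut.conj (1 : H)).toMonoidHom ≤ L := by rw [conj_one]; exact hQL
    have h2 := le_iSup (fun g : {g : H // Q.map (MulAut.conj g).toMonoidHom ≤ L} =>
      Q.map (MulAut.conj (g : H)).toMonoidHom) ⟨1, h1⟩
    simp only [conj_one] at h2
    exact h2
  by_cases hall : ∀ g : H, Q.map (MulAut.conj g).toMonoidHom ≤ L →
      Q.map (MulAut.conj g).toMonoidHom = Q
  · left
    apply le_antisymm _ hQle
    apply iSup_le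
    rintro ⟨g, hg⟩
    exact (hall g hg).le
  · right
    push Not at hall
    obtain ⟨g, hg, hne⟩ := hall
    have hgN : g ∉ Subgroup.normalizer (Q : Set H) := fun h =>
      hne (conj_eq_self_of_mem_normalizer h)
    have h1 := large_centralizer_inf_conj hQp hQ1 hL hgN
    have h2 : Q.map (MulAut.conj g).toMonoidHom ≤ Cfsg.weakClosure Q L :=
      le_iSup (fun g : {g : H // Q.map (MulAut.conj g).toMonoidHom ≤ L} =>
        Q.map (MulAut.conj (g : H)).toMonoidHom) ⟨g, hg⟩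
    rw [← le_bot_iff, ← h1]
    exact le_inf (Subgroup.centralizer_le hQle) (Subgroup.centralizer_le h2)

/-- For a large `p`-subgroup `Q`, parabolic subgroups `R` with `O_p(R) ≠ 1` satisfy
`C_H(O_p(R)) ≤ O_p(R)`. -/
theorem large_parabolic [Finite H] {p : ℕ} [Fact p.Prime] {Q : Subgroup H}
    (hQp : IsPGroup p Q) (hL : Cfsg.IsLarge Q) {R : Subgroup H}
    (hR : Cfsg.IsParabolic p R) (hne : Cfsg.pCoreOf p R ≠ ⊥) :
    Subgroup.centralizer (Cfsg.pCoreOf p R : Set H) ≤ Cfsg.pCoreOf p R := by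
  obtain ⟨T, hT⟩ := hR
  obtain ⟨g, hg⟩ := exists_le_conj_sylow hQp T
  rw [le_conj_iff] at hg
  have hQR := hg.trans hT
  obtain ⟨h1, h2⟩ := large_core (isPGroup_conj hQp g⁻¹) (large_conj hL g⁻¹) hQR hne
  have hRD : R ≤ Subgroup.normalizer
      ((Subgroup.centralizer (Cfsg.pCoreOf p R : Set H) : Subgroup H) : Set H) :=
    (le_normalizer_pCoreOf p R).trans (normalizer_le_normalizer_centralizer53 _)
  have h3 : IsPGroup p ((Subgroup.centralizer (Cfsg.pCoreOf p R : Set H)) ⊔ (T : Subgroup H) :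
      Subgroup H) := h1.to_sup_of_normal_left' T.2 (hT.trans hRD)
  have h4 := T.3 h3 le_sup_right
  have h5 : Subgroup.centralizer (Cfsg.pCoreOf p R : Set H) ≤ R := by
    refine le_trans ?_ hT
    rw [← h4]
    exact le_sup_left
  exact (le_inf h5 le_rfl).trans h2

end Cfsg.Agent.Lib.helper53
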