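import Cfsg.Prelude.Def_LocalStructure
import Cfsg.Agent.Lib.helper53.PCore
import Cfsg.Agent.Lib.helper53.Conj
import Cfsg.Agent.Lib.helper53.Large
import Cfsg.Agent.Lib.helper53.Large2

set_option autoImplicit false

namespace Cfsg.Agent.Lib.helper53

open scoped commutatorElement Pointwise

variable {G : Type*} [Group G]

/-- Membership in `𝓛_G` in terms of `pCoreOf`. -/
theorem mem_charPSubgroups_iff {p : ℕ} {L : Subgroup G} :
    L ∈ Cfsg.charPSubgroups p G ↔ Cfsg.pCoreOf p L ≠ ⊥ ∧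
      Subgroup.centralizer (Cfsg.pCoreOf p L : Set G) ≤ Cfsg.pCoreOf p L := by
  unfold Cfsg.charPSubgroups Cfsg.pCoreOf
  rw [Set.mem_setOf_eq, Ne, Ne, Subgroup.map_eq_bot_iff_of_injective _ L.subtype_injective]

/-- `O_p(g L g⁻¹) = g O_p(L) g⁻¹`. -/
theorem pCoreOf_conj (p : ℕ) (L : Subgroup G) (g : G) :
    Cfsg.pCoreOf p (L.map (MulAut.conj g).toMonoidHom) =
      (Cfsg.pCoreOf p L).map (MulAut.conj g).toMonoidHom := by
  have key : ∀ (K : Subgroup G) (h : G), (Cfsg.pCoreOf p K).map (MulAut.conj h).toMonoidHom ≤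
      Cfsg.pCoreOf p (K.map (MulAut.conj h).toMonoidHom) := by
    intro K h
    apply le_pCoreOf (conj_mono (pCoreOf_le p K) h)
    · rw [normalizer_conj]
      exact conj_mono (le_normalizer_pCoreOf p K) h
    · exact isPGroup_conj (pCoreOf_isPGroup p K) h
  apply le_antisymm _ (key L g)
  rw [le_conj_iff]
  have h1 := key (L.map (MulAut.conj g).toMonoidHom) g⁻¹
  rwa [conj_conj, inv_mul_cancel, conj_one] at h1

/-- `𝓛_G` is closed under conjugation. -/
theorem charPSubgroups_conj {p : ℕ} {L : Subgroup G} (hL : L ∈ Cfsg.charPSubgroups p G) (g : G) :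
    L.map (MulAut.conj g).toMonoidHom ∈ Cfsg.charPSubgroups p G := by
  rw [mem_charPSubgroups_iff] at hL ⊢
  rw [pCoreOf_conj, centralizer_conj]
  exact ⟨conj_ne_bot hL.1 g, conj_mono hL.2 g⟩

/-- `𝓜_G` is closed under conjugation. -/
theorem maxCharPSubgroups_conj {p : ℕ} {X : Subgroup G} (hX : X ∈ Cfsg.maxCharPSubgroups p G)
    (g : G) : X.map (MulAut.conj g).toMonoidHom ∈ Cfsg.maxCharPSubgroups p G := by
  refine ⟨charPSubgroups_conj hX.1 g, ?_⟩
  intro L hL hXL
  have h1 : X ≤ L.map (MulAut.conj g⁻¹).toMonoidHom := by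
    rw [le_conj_iff, inv_inv]; exact hXL
  have h2 := hX.2 _ (charPSubgroups_conj hL g⁻¹) h1
  have h3 := congrArg (fun K : Subgroup G => K.map (MulAut.conj g).toMonoidHom) h2
  simp only [conj_conj, mul_inv_cancel, conj_one] at h3
  exact h3

/-- Every member of `𝓛_G` lies in a maximal one. -/
theorem exists_maxCharP_ge [Finite G] {p : ℕ} {L : Subgroup G}
    (hL : L ∈ Cfsg.charPSubgroups p G) : ∃ X ∈ Cfsg.maxCharPSubgroups p G, L ≤ X := by
  obtain ⟨X, hLX, hX⟩ := (Set.toFinite (Cfsg.charPSubgroups p G)).exists_le_maximal hL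
  refine ⟨X, ⟨hX.1, ?_⟩, hLX⟩
  intro K hK hXK
  exact le_antisymm (hX.2 hK hXK) hXK

/-- With a large `p`-subgroup `Q`, every parabolic subgroup with nontrivial `p`-core is in
`𝓛_G`. -/
theorem large_mem_charPSubgroups [Finite G] {p : ℕ} [Fact p.Prime] {Q : Subgroup G}
    (hQp : IsPGroup p Q) (hL : Cfsg.IsLarge Q) {R : Subgroup G}
    (hR : Cfsg.IsParabolic p R) (hne : Cfsg.pCoreOf p R ≠ ⊥) :
    R ∈ Cfsg.charPSubgroups p G :=
  mem_charPSubgroups_iff.mpr ⟨hne, large_parabolic hQp hL hR hne⟩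

/-- The normalizer of a nontrivial `p`-subgroup `V` has nontrivial `p`-core. -/
theorem pCoreOf_normalizer_ne_bot {p : ℕ} {V : Subgroup G} (hV : IsPGroup p V) (hne : V ≠ ⊥) :
    Cfsg.pCoreOf p (Subgroup.normalizer (V : Set G)) ≠ ⊥ := by
  intro h
  apply hne
  have h1 : V ≤ Cfsg.pCoreOf p (Subgroup.normalizer (V : Set G)) :=
    le_pCoreOf Subgroup.le_normalizer le_rfl hV
  rw [h] at h1
  exact le_bot_iff.mp h1

end Cfsg.Agent.Lib.helper53
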