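import Cfsg.Agent.Lib.helper53.PCore

set_option autoImplicit false

namespace Cfsg.Agent.Lib.helper53

variable {G : Type*} [Group G]

/-- `P` normalizes `P ∩ N` when `N` is normal. -/
theorem le_normalizer_inf_of_normal (P N : Subgroup G) [hN : N.Normal] :
    P ≤ Subgroup.normalizer ((P ⊓ N : Subgroup G) : Set G) := by
  intro t ht
  rw [Subgroup.mem_normalizer_iff]
  intro x
  constructor
  · intro hx
    exact Subgroup.mem_inf.mpr ⟨P.mul_mem (P.mul_mem ht (Subgroup.mem_inf.mp hx).1) (P.inv_mem ht),
      hN.conj_mem x (Subgroup.mem_inf.mp hx).2 t⟩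
  · intro hx
    have hxP := (Subgroup.mem_inf.mp hx).1
    have hxN := (Subgroup.mem_inf.mp hx).2
    refine Subgroup.mem_inf.mpr ⟨?_, ?_⟩
    · have h3 : x = t⁻¹ * (t * x * t⁻¹) * t := by group
      rw [h3]; exact P.mul_mem (P.mul_mem (P.inv_mem ht) hxP) ht
    · have h3 : x = t⁻¹ * (t * x * t⁻¹) * t⁻¹⁻¹ := by group
      rw [h3]; exact hN.conj_mem _ hxN t⁻¹

/-- Second isomorphism theorem, index form: if `D` is normal and `D M = G` then
`[G : M] = [D : D ∩ M]`. -/
theorem index_eq_relIndex_of_sup_eq_top [Finite G] {D M : Subgroup G} [D.Normal]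
    (h : D ⊔ M = ⊤) : M.index = M.relIndex D := by
  have h1 : Nat.card M * M.index = Nat.card G := M.card_mul_index
  have h2 : Nat.card D * D.index = Nat.card G := D.card_mul_index
  have h3 : D.index = D.relIndex M := by
    have h0 := Subgroup.relIndex_sup_right (H := M) (K := D)
    rw [sup_comm, h, Subgroup.relIndex_top_right] at h0
    exact h0
  have h4 : Nat.card (D.subgroupOf M) * D.relIndex M = Nat.card M := (D.subgroupOf M).card_mul_index
  have h5 : Nat.card (M.subgroupOf D) * M.relIndex D = Nat.card D := (M.subgroupOf D).card_mul_index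
  have h6 : Nat.card (D.subgroupOf M) = Nat.card (M.subgroupOf D) := by
    have e1 : Nat.card (D.subgroupOf M) = Nat.card (D ⊓ M : Subgroup G) := by
      rw [← Subgroup.subgroupOf_map_subtype]
      exact (Subgroup.card_map_of_injective M.subtype_injective).symm
    have e2 : Nat.card (M.subgroupOf D) = Nat.card (M ⊓ D : Subgroup G) := by
      rw [← Subgroup.subgroupOf_map_subtype]
      exact (Subgroup.card_map_of_injective D.subtype_injective).symm
    rw [e1, e2, inf_comm]
  have hpos : 0 < Nat.card M := Nat.card_pos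
  apply Nat.eq_of_mul_eq_mul_left hpos
  rw [h1, ← h2, h3, ← h5, ← h4, h6]
  ring

/-- A subgroup of index prime to `p` contains a conjugate of every Sylow `p`-subgroup. -/
theorem exists_conj_sylow_le_of_not_dvd_index [Finite G] {p : ℕ} [Fact p.Prime] (P : Sylow p G)
    {M : Subgroup G} (h : ¬ p ∣ M.index) :
    ∃ g : G, (P : Subgroup G).map (MulAut.conj g).toMonoidHom ≤ M := by
  obtain ⟨Q⟩ : Nonempty (Sylow p M) := inferInstance
  have hQp : IsPGroup p ((Q : Subgroup M).map M.subtype) := Q.2.map _
  have hidx : ¬ p ∣ ((Q : Subgroup M).map M.subtype).index := by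
    rw [Subgroup.index_map_subtype]
    intro hd
    rcases (Nat.Prime.dvd_mul Fact.out).mp hd with h1 | h1
    · exact Q.not_dvd_index h1
    · exact h h1
  obtain ⟨g, hg⟩ := MulAction.exists_smul_eq G P (hQp.toSylow hidx)
  refine ⟨g, ?_⟩
  have e : ((g • P : Sylow p G) : Subgroup G) = (P : Subgroup G).map (MulAut.conj g).toMonoidHom := by
    rw [Sylow.coe_subgroup_smul]; rfl
  rw [← e, hg, IsPGroup.toSylow_coe]
  exact Subgroup.map_subtype_le _

/-- In a `p`-closed finite group `D`, `O_p(D)` has index prime to `p`. -/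
theorem IsPClosed.not_dvd_index_pCore [Finite G] {p : ℕ} [Fact p.Prime] (h : Cfsg.IsPClosed p G) :
    ¬ p ∣ (Cfsg.pCore p G).index := by
  obtain ⟨Q⟩ : Nonempty (Sylow p G) := inferInstance
  rw [← IsPClosed.sylow_eq_pCore h Q]
  exact Q.not_dvd_index

end Cfsg.Agent.Lib.helper53

namespace Cfsg.Agent.Lib.helper53

variable {G : Type*} [Group G]

/-- For a normal subgroup `N` of `G`: `O_p(N) = O_p(G) ∩ N`. -/
theorem pCore_subgroupOf_normal (p : ℕ) (N : Subgroup G) [hN : N.Normal] :
    Cfsg.pCore p N = (Cfsg.pCore p G).subgroupOf N := by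
  apply le_antisymm
  · haveI := pCore_characteristic p N
    have hn : ((Cfsg.pCore p N).map N.subtype).Normal := ConjAct.normal_of_characteristic_of_normal
    have h1 : (Cfsg.pCore p N).map N.subtype ≤ Cfsg.pCore p G :=
      le_pCore hn ((pCore_isPGroup p N).map _)
    intro x hx
    rw [Subgroup.mem_subgroupOf]
    exact h1 ⟨x, hx, rfl⟩
  · exact le_pCore ((pCore_normal p G).subgroupOf N) (pCore_isPGroup p G).comap_subtype

end Cfsg.Agent.Lib.helper53
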