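import Mathlib

set_option autoImplicit false

namespace Cfsg.Agent.Lib.helper44.SL3

open Polynomial

-- SPAN
theorem span_mul {F : Type*} [Field F] [Fintype F] {p : ℕ} [Fact p.Prime] [Algebra (ZMod p) F]
    (μ s : F) (hμ : Algebra.adjoin (ZMod p) {μ} = ⊤) (S : Set F) (h0 : (0 : F) ∈ S)
    (hadd : ∀ a b, a ∈ S → b ∈ S → a + b ∈ S) (hpow : ∀ n : ℕ, s * μ ^ n ∈ S) :
    ∀ a : F, s * a ∈ S := by
  have hT0 : s * 0 ∈ S := by rw [mul_zero]; exact h0
  have hTadd : ∀ a b : F, s * a ∈ S → s * b ∈ S → s * (a + b) ∈ S := by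
    intro a b ha hb
    rw [mul_add]; exact hadd _ _ ha hb
  have hTnsmul : ∀ (k : ℕ) (a : F), s * a ∈ S → s * ((k : F) * a) ∈ S := by
    intro k a ha
    induction k with
    | zero => rw [Nat.cast_zero, zero_mul]; exact hT0
    | succ k ih => rw [Nat.cast_succ, add_mul, one_mul]; exact hTadd _ _ ih ha
  have hTsmul : ∀ (c : ZMod p) (a : F), s * a ∈ S → s * (c • a) ∈ S := by
    intro c a ha
    have hc : c • a = ((c.val : ℕ) : F) * a := by
      rw [Algebra.smul_def]
      congr 1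
      conv_lhs => rw [← ZMod.natCast_zmod_val c]
      rw [map_natCast]
    rw [hc]; exact hTnsmul _ _ ha
  have hTsum : ∀ (t : Finset ℕ) (f : ℕ → F), (∀ i ∈ t, s * f i ∈ S) →
      s * (∑ i ∈ t, f i) ∈ S := by
    intro t f hf
    induction t using Finset.induction_on with
    | empty => rw [Finset.sum_empty]; exact hT0
    | insert a t hat ih =>
      rw [Finset.sum_insert hat]
      exact hTadd _ _ (hf a (Finset.mem_insert_self a t))
        (ih (fun i hi => hf i (Finset.mem_insert_of_mem hi)))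
  intro a
  have ha : a ∈ Algebra.adjoin (ZMod p) {μ} := by rw [hμ]; exact Algebra.mem_top
  rw [Algebra.adjoin_singleton_eq_range_aeval] at ha
  obtain ⟨f, rfl⟩ := ha
  show s * (aeval μ f) ∈ S
  rw [Polynomial.aeval_eq_sum_range]
  apply hTsum
  intro i _
  exact hTsmul _ _ (hpow i)

end Cfsg.Agent.Lib.helper44.SL3
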