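import Mathlib

set_option autoImplicit false

namespace Cfsg.Agent.Lib.helper24

open Module Matrix

/-- BINREP -/
theorem sfo_bin_rep {F : Type*} [Field F] [Fintype F] (h2 : (2 : F) ≠ 0) (a b t : F)
    (ha : a ≠ 0) (hb : b ≠ 0) : ∃ x y : F, a * x ^ 2 + b * y ^ 2 = t := by
  classical
  have hchar : ringChar F ≠ 2 := by
    intro h
    apply h2
    have := CharP.cast_eq_zero F (ringChar F)
    rw [h] at this
    exact_mod_cast this
  have hf : (Polynomial.C a * Polynomial.X ^ 2 - Polynomial.C t).degree = 2 := by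
    rw [Polynomial.degree_sub_eq_left_of_degree_lt]
    · rw [Polynomial.degree_C_mul_X_pow 2 ha]; rfl
    · rw [Polynomial.degree_C_mul_X_pow 2 ha]
      exact lt_of_le_of_lt Polynomial.degree_C_le (by norm_num)
  have hg : (Polynomial.C b * Polynomial.X ^ 2).degree = 2 := by
    rw [Polynomial.degree_C_mul_X_pow 2 hb]; rfl
  obtain ⟨x, y, hxy⟩ := FiniteField.exists_root_sum_quadratic hf hg
    (FiniteField.odd_card_of_char_ne_two hchar)
  refine ⟨x, y, ?_⟩
  simp at hxy
  linear_combination hxy

end Cfsg.Agent.Lib.helper24
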