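import Mathlib
import Cfsg.Agent.Lib.helper89.S60Defs
import Cfsg.Agent.Lib.helper53.SfoBINREP

set_option autoImplicit false

namespace Cfsg.Agent.Lib.helper89.S60

open Matrix Cfsg Cfsg.Geo

/-- Four independent columns `c j` with `x c_j = ∑ M k j • c_k`, and matrices of every nonzero
determinant commuting with `M`, give an `SL_4`-conjugate of `x` equal to `M`. -/
theorem helper53_conj_of_cols {F : Type*} [Field F] (M : Matrix (Fin 4) (Fin 4) F)
    (x : GL (Fin 4) F) (c : Fin 4 → (Fin 4 → F))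
    (hind : ∀ y : Fin 4 → F, ∑ j, y j • c j = 0 → y = 0)
    (hact : ∀ j, (x : Matrix (Fin 4) (Fin 4) F) *ᵥ c j = ∑ k, M k j • c k)
    (hC : ∀ d : F, d ≠ 0 → ∃ C : Matrix (Fin 4) (Fin 4) F, C.det = d ∧ M * C = C * M) :
    ∃ g ∈ specialLinear (Fin 4) F,
      ((g⁻¹ * x * g : GL (Fin 4) F) : Matrix (Fin 4) (Fin 4) F) = M := by
  let P : Matrix (Fin 4) (Fin 4) F := Matrix.of (fun i j => c j i)
  have hPv : ∀ y : Fin 4 → F, P *ᵥ y = ∑ j, y j • c j := by
    intro y
    funext i
    simp only [Matrix.mulVec, dotProduct, P, Matrix.of_apply, Finset.sum_apply, Pi.smul_apply,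
      smul_eq_mul]
    exact Finset.sum_congr rfl (fun j _ => mul_comm _ _)
  have hinj : Function.Injective P.mulVec := by
    intro y y' h
    have h0 : P *ᵥ (y - y') = 0 := by
      rw [Matrix.mulVec_sub]
      exact sub_eq_zero.mpr h
    rw [hPv] at h0
    exact sub_eq_zero.mp (hind _ h0)
  have hunit : IsUnit P := Matrix.mulVec_injective_iff_isUnit.mp hinj
  have hdet : P.det ≠ 0 := ((Matrix.isUnit_iff_isUnit_det P).mp hunit).ne_zero
  have hXP : (x : Matrix (Fin 4) (Fin 4) F) * P = P * M := by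
    ext i j
    have h := congrFun (hact j) i
    simp only [Matrix.mulVec, dotProduct, Finset.sum_apply, Pi.smul_apply, smul_eq_mul] at h
    simp only [Matrix.mul_apply, P, Matrix.of_apply]
    rw [h]
    exact Finset.sum_congr rfl (fun k _ => mul_comm _ _)
  obtain ⟨C, hCdet, hCM⟩ := hC (P.det)⁻¹ (inv_ne_zero hdet)
  have hdet' : (P * C).det = 1 := by
    rw [Matrix.det_mul, hCdet, mul_inv_cancel₀ hdet]
  have hXP' : (x : Matrix (Fin 4) (Fin 4) F) * (P * C) = (P * C) * M := by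
    rw [← mul_assoc, hXP, mul_assoc, hCM, ← mul_assoc]
  let g : GL (Fin 4) F := Matrix.nonsingInvUnit (P * C) (by rw [hdet']; exact isUnit_one)
  have hg : (g : Matrix (Fin 4) (Fin 4) F) = P * C := rfl
  refine ⟨g, ?_, ?_⟩
  · refine MonoidHom.mem_ker.mpr ?_
    apply Units.ext
    rw [Matrix.GeneralLinearGroup.val_det_apply, hg, hdet', Units.val_one]
  · rw [Units.val_mul, Units.val_mul, mul_assoc, hg, hXP', ← hg, ← mul_assoc, Units.inv_mul,
      one_mul]

/-- The columns for an element of order 3 without eigenvalue a primitive cube root of unity. -/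
theorem helper53_three_cols {F : Type*} [Field F] (h3 : (3 : F) ≠ 0)
    (hω : ∀ c : F, c * c + c + 1 ≠ 0) (X : Matrix (Fin 4) (Fin 4) F) (hX3 : X * X * X = 1)
    (hX1 : X ≠ 1) :
    ∃ c : Fin 4 → (Fin 4 → F), (∀ y : Fin 4 → F, ∑ j, y j • c j = 0 → y = 0) ∧
      ((∀ j, X *ᵥ c j = ∑ k, MA F k j • c k) ∨ (∀ j, X *ᵥ c j = ∑ k, MB F k j • c k)) := by
  classical
  obtain ⟨N, hN⟩ : ∃ N : Matrix (Fin 4) (Fin 4) F, N = X * X + X + 1 := ⟨_, rfl⟩
  have hXN : X * N = N := by
    rw [hN, Matrix.mul_add, Matrix.mul_add, mul_one, ← mul_assoc, hX3]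
    abel
  have hNX : N * X = N := by
    rw [hN, Matrix.add_mul, Matrix.add_mul, one_mul, hX3]
    abel
  have hW2 : ∀ w : Fin 4 → F, N *ᵥ w = 0 → X *ᵥ (X *ᵥ w) = -w - X *ᵥ w := by
    intro w hw
    rw [hN, Matrix.add_mulVec, Matrix.add_mulVec, Matrix.one_mulVec, ← Matrix.mulVec_mulVec] at hw
    linear_combination (norm := module) hw
  have hquad : ∀ a b : F, a * a - a * b + b * b = 0 → a = 0 ∧ b = 0 := by
    intro a b h
    by_cases hb : b = 0
    · subst hb
      have h' : a * a = 0 := by linear_combination h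
      exact ⟨mul_self_eq_zero.mp h', rfl⟩
    · exfalso
      apply hω (-a / b)
      field_simp
      linear_combination h
  have hnoeig : ∀ w : Fin 4 → F, N *ᵥ w = 0 → ∀ a b : F, a • w + b • X *ᵥ w = 0 → w ≠ 0 →
      a = 0 ∧ b = 0 := by
    intro w hw a b hab hw0
    have hXX := hW2 w hw
    have h1 : a • X *ᵥ w + b • (-w - X *ᵥ w) = 0 := by
      have h := congrArg (fun u => X *ᵥ u) hab
      simp only [Matrix.mulVec_add, Matrix.mulVec_smul, Matrix.mulVec_zero, hXX] at h
      exact h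
    have h2 : (a * a - a * b + b * b) • w = 0 := by
      linear_combination (norm := module) (a - b) • hab - b • h1
    have h3 : a * a - a * b + b * b = 0 := by
      rcases smul_eq_zero.mp h2 with h | h
      · exact h
      · exact absurd h hw0
    exact hquad a b h3
  obtain ⟨v, hv⟩ : ∃ v : Fin 4 → F, X *ᵥ v ≠ v := by
    by_contra hcon
    push Not at hcon
    apply hX1
    apply Matrix.ext_of_mulVec_single
    intro i
    rw [hcon, Matrix.one_mulVec]
  obtain ⟨e1, he10, hNe1⟩ : ∃ e1 : Fin 4 → F, e1 ≠ 0 ∧ N *ᵥ e1 = 0 := by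
    refine ⟨X *ᵥ v - v, sub_ne_zero.mpr hv, ?_⟩
    rw [Matrix.mulVec_sub, Matrix.mulVec_mulVec, hNX, sub_self]
  have hXf1 : X *ᵥ (X *ᵥ e1) = -e1 - X *ᵥ e1 := hW2 e1 hNe1
  by_cases hcase : ∃ e2 : Fin 4 → F, N *ᵥ e2 = 0 ∧ ∀ a b : F, e2 ≠ a • e1 + b • X *ᵥ e1
  · -- case B
    obtain ⟨e2, hNe2, he2⟩ := hcase
    have hXf2 : X *ᵥ (X *ᵥ e2) = -e2 - X *ᵥ e2 := hW2 e2 hNe2
    refine ⟨![e1, X *ᵥ e1, e2, X *ᵥ e2], ?_, Or.inr ?_⟩
    · intro y hy
      have hy0 : y 0 • e1 + y 1 • X *ᵥ e1 + y 2 • e2 + y 3 • X *ᵥ e2 = 0 := by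
        rw [← hy, Fin.sum_univ_four]
        rfl
      have hy' : y 0 • X *ᵥ e1 + y 1 • (-e1 - X *ᵥ e1) + y 2 • X *ᵥ e2 +
          y 3 • (-e2 - X *ᵥ e2) = 0 := by
        have h := congrArg (fun u => X *ᵥ u) hy0
        simp only [Matrix.mulVec_add, Matrix.mulVec_smul, Matrix.mulVec_zero, hXf1, hXf2] at h
        exact h
      have key : (y 2 * y 2 - y 2 * y 3 + y 3 * y 3) • e2 =
          (-((y 2 - y 3) * y 0 + y 3 * y 1)) • e1 +
            (-((y 2 - y 3) * y 1 - y 3 * y 0 + y 3 * y 1)) • X *ᵥ e1 := by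
        linear_combination (norm := module) (y 2 - y 3) • hy0 - y 3 • hy'
      have hn : y 2 * y 2 - y 2 * y 3 + y 3 * y 3 = 0 := by
        by_contra hn
        apply he2 ((y 2 * y 2 - y 2 * y 3 + y 3 * y 3)⁻¹ * (-((y 2 - y 3) * y 0 + y 3 * y 1)))
          ((y 2 * y 2 - y 2 * y 3 + y 3 * y 3)⁻¹ *
            (-((y 2 - y 3) * y 1 - y 3 * y 0 + y 3 * y 1)))
        have h := congrArg (fun u => (y 2 * y 2 - y 2 * y 3 + y 3 * y 3)⁻¹ • u) key
        simp only [smul_smul, inv_mul_cancel₀ hn, one_smul, smul_add] at h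
        exact h
      obtain ⟨h2', h3'⟩ := hquad _ _ hn
      have hy2 : y 0 • e1 + y 1 • X *ᵥ e1 = 0 := by
        rw [h2', h3'] at hy0
        simpa using hy0
      obtain ⟨h0', h1'⟩ := hnoeig e1 hNe1 _ _ hy2 he10
      funext j
      fin_cases j <;> simp [h0', h1', h2', h3']
    · intro j
      fin_cases j <;> simp [MB, Fin.sum_univ_four, hXf1, hXf2] <;> module
  · -- case A
    push Not at hcase
    let f : (Fin 4 → F) →ₗ[F] (Fin 4 → F) := Matrix.toLin' N
    have hli : LinearIndependent F ![e1, X *ᵥ e1] := by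
      rw [LinearIndependent.pair_iff]
      intro s t hst
      exact hnoeig e1 hNe1 s t hst he10
    have hker : LinearMap.ker f = Submodule.span F (Set.range ![e1, X *ᵥ e1]) := by
      apply le_antisymm
      · intro w hw
        have hw' : N *ᵥ w = 0 := by
          have := LinearMap.mem_ker.mp hw
          simpa [f, Matrix.toLin'_apply] using this
        obtain ⟨a, b, hab⟩ := hcase w hw'
        rw [hab]
        exact Submodule.add_mem _ (Submodule.smul_mem _ _ (Submodule.subset_span ⟨0, rfl⟩))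
          (Submodule.smul_mem _ _ (Submodule.subset_span ⟨1, rfl⟩))
      · rw [Submodule.span_le]
        rintro _ ⟨i, rfl⟩
        fin_cases i
        · exact LinearMap.mem_ker.mpr (by simpa [f, Matrix.toLin'_apply] using hNe1)
        · exact LinearMap.mem_ker.mpr (by
            simp [f, Matrix.toLin'_apply, Matrix.mulVec_mulVec, hNX, hNe1])
    have hfk : Module.finrank F (LinearMap.ker f) = 2 := by
      rw [hker, finrank_span_eq_card hli]
      simp
    have hfr : Module.finrank F (LinearMap.range f) = 2 := by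
      have h := LinearMap.finrank_range_add_finrank_ker f
      rw [hfk] at h
      simp at h
      omega
    let bu := Module.finBasisOfFinrankEq F (LinearMap.range f) hfr
    have hfix : ∀ i, X *ᵥ (bu i : Fin 4 → F) = (bu i : Fin 4 → F) := by
      intro i
      obtain ⟨v', hv'⟩ := LinearMap.mem_range.mp (bu i).2
      rw [← hv']
      show X *ᵥ (Matrix.toLin' N v') = Matrix.toLin' N v'
      rw [Matrix.toLin'_apply, Matrix.mulVec_mulVec, hXN]
    have hbind : ∀ s t : F, s • (bu 0 : Fin 4 → F) + t • (bu 1 : Fin 4 → F) = 0 →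
        s = 0 ∧ t = 0 := by
      intro s t hst
      have hli2 := bu.linearIndependent
      have h' := Fintype.linearIndependent_iff.mp hli2 ![s, t] (by
        apply Subtype.ext
        simpa [Fin.sum_univ_two] using hst)
      exact ⟨by simpa using h' 0, by simpa using h' 1⟩
    have hNb : ∀ i, N *ᵥ (bu i : Fin 4 → F) = (3 : F) • (bu i : Fin 4 → F) := by
      intro i
      rw [hN, Matrix.add_mulVec, Matrix.add_mulVec, Matrix.one_mulVec, ← Matrix.mulVec_mulVec,
        hfix, hfix]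
      module
    refine ⟨![e1, X *ᵥ e1, (bu 0 : Fin 4 → F), (bu 1 : Fin 4 → F)], ?_, Or.inl ?_⟩
    · intro y hy
      have hy0 : y 0 • e1 + y 1 • X *ᵥ e1 + y 2 • (bu 0 : Fin 4 → F) +
          y 3 • (bu 1 : Fin 4 → F) = 0 := by
        rw [← hy, Fin.sum_univ_four]
        rfl
      have hy3 : (3 : F) • (y 2 • (bu 0 : Fin 4 → F) + y 3 • (bu 1 : Fin 4 → F)) = 0 := by
        have h := congrArg (fun u => N *ᵥ u) hy0
        simp only [Matrix.mulVec_add, Matrix.mulVec_smul, Matrix.mulVec_zero, Matrix.mulVec_mulVec,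
          hNX, hNe1, hNb, smul_zero, zero_add] at h
        linear_combination (norm := module) h
      have hy4 : y 2 • (bu 0 : Fin 4 → F) + y 3 • (bu 1 : Fin 4 → F) = 0 :=
        (smul_eq_zero.mp hy3).resolve_left h3
      obtain ⟨h2', h3'⟩ := hbind _ _ hy4
      have hy2 : y 0 • e1 + y 1 • X *ᵥ e1 = 0 := by
        rw [h2', h3'] at hy0
        simpa using hy0
      obtain ⟨h0', h1'⟩ := hnoeig e1 hNe1 _ _ hy2 he10
      funext j
      fin_cases j <;> simp [h0', h1', h2', h3']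
    · intro j
      fin_cases j <;> simp [MA, Fin.sum_univ_four, hXf1, hfix] <;> module

/-- CONJ3 (L+). -/
theorem s60_three_class {F : Type*} [Field F] [Fintype F] (h2 : (2 : F) ≠ 0) (h3 : (3 : F) ≠ 0)
    (hω : ∀ c : F, c * c + c + 1 ≠ 0) (x : GL (Fin 4) F) (hx : x ^ 3 = 1) (hx1 : x ≠ 1) :
    ∃ g ∈ specialLinear (Fin 4) F, ((g⁻¹ * x * g : GL (Fin 4) F) : Matrix (Fin 4) (Fin 4) F) = MA F ∨ ((g⁻¹ * x * g : GL (Fin 4) F) : Matrix (Fin 4) (Fin 4) F) = MB F := by
  have hx3 : x * x * x = 1 := by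
    rw [← hx, pow_succ, pow_two]
  have hX3 : (x : Matrix (Fin 4) (Fin 4) F) * (x : Matrix (Fin 4) (Fin 4) F) *
      (x : Matrix (Fin 4) (Fin 4) F) = 1 := by
    have h := congrArg Units.val hx3
    simpa only [Units.val_mul, Units.val_one] using h
  have hX1 : (x : Matrix (Fin 4) (Fin 4) F) ≠ 1 := fun h => hx1 (Units.ext h)
  obtain ⟨c, hind, hact | hact⟩ := helper53_three_cols h3 hω _ hX3 hX1
  · obtain ⟨g, hg, hgx⟩ := helper53_conj_of_cols (MA F) x c hind hact (by
      intro d _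
      refine ⟨Matrix.diagonal ![1, 1, d, 1], ?_, ?_⟩
      · rw [Matrix.det_diagonal, Fin.prod_univ_four]
        simp
      · ext i j
        rw [Matrix.mul_diagonal, Matrix.diagonal_mul]
        fin_cases i <;> fin_cases j <;> simp [MA, mul_comm])
    exact ⟨g, hg, Or.inl hgx⟩
  · obtain ⟨g, hg, hgx⟩ := helper53_conj_of_cols (MB F) x c hind hact (by
      intro d _
      obtain ⟨s, t, hst⟩ := Cfsg.Agent.Lib.helper24.sfo_bin_rep h2 1 3 d one_ne_zero h3
      refine ⟨!![s + t, -(2 * t), 0, 0; 2 * t, s + t - 2 * t, 0, 0; 0, 0, 1, 0; 0, 0, 0, 1],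
        ?_, ?_⟩
      · rw [Matrix.det_succ_row_zero]
        simp [Fin.sum_univ_succ, Matrix.det_fin_three, Fin.succAbove]
        linear_combination hst
      · ext i j
        fin_cases i <;> fin_cases j <;> simp [MB, Matrix.mul_apply, Fin.sum_univ_four] <;> ring)
    exact ⟨g, hg, Or.inr hgx⟩

end Cfsg.Agent.Lib.helper89.S60
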