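import Mathlib

/-! S0996 (Brauer), piece A4: a sum comparison with equality case. -/

set_option autoImplicit false

namespace Cfsg.Agent.Lib.helper53.Br

/-- A4. -/
theorem finset_sq {ι : Type*} (s : Finset ι) (m d : ι → ℕ) (hmd : ∀ i ∈ s, m i ≤ d i)
    (hd : ∀ i ∈ s, 1 ≤ d i) :
    ∑ i ∈ s, m i * d i ≤ ∑ i ∈ s, (d i) ^ 2 ∧
    (∑ i ∈ s, m i * d i = ∑ i ∈ s, (d i) ^ 2 → ∀ i ∈ s, m i = d i) := by
  have hle : ∀ i ∈ s, m i * d i ≤ (d i) ^ 2 := by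
    intro i hi
    rw [pow_two]
    exact Nat.mul_le_mul_right _ (hmd i hi)
  refine ⟨Finset.sum_le_sum hle, fun heq i hi => ?_⟩
  have h1 := (Finset.sum_eq_sum_iff_of_le hle).mp heq i hi
  rw [pow_two] at h1
  exact Nat.eq_of_mul_eq_mul_right (hd i hi) h1

end Cfsg.Agent.Lib.helper53.Br
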