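import Mathlib

/-! S0996 (Brauer), piece A1: the divisibility `u p + 1 ∣ (p - 1)(n p + 1)` forces `u = n`. -/

set_option autoImplicit false

namespace Cfsg.Agent.Lib.helper53.Br

/-- A1. -/
theorem arith_plus (p n u : ℕ) (hp3 : 3 ≤ p) (hn1 : 1 ≤ n) (hn2 : 2 * n ≤ p + 1) (hu : 1 ≤ u)
    (hdvd : u * p + 1 ∣ (p - 1) * (n * p + 1))
    (hsq : u ≤ n ∨ (u * p + 1) ^ 2 ≤ (p - 1) * p * (n * p + 1)) : u = n := by
  obtain ⟨q, rfl⟩ : ∃ q, p = q + 1 := ⟨p - 1, by omega⟩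
  simp only [Nat.add_sub_cancel] at hdvd hsq
  obtain ⟨k, hk⟩ := hdvd
  have hkZ : (q : ℤ) * (n * (q + 1) + 1) = (u * (q + 1) + 1) * k := by exact_mod_cast hk
  have hq2 : (2 : ℤ) ≤ q := by exact_mod_cast (by omega : 2 ≤ q)
  have hnZ : (1 : ℤ) ≤ n := by exact_mod_cast hn1
  have huZ : (1 : ℤ) ≤ u := by exact_mod_cast hu
  have hkZ0 : (0 : ℤ) ≤ k := by exact_mod_cast Nat.zero_le k
  have hn2Z : (2 : ℤ) * n ≤ q + 2 := by exact_mod_cast (by omega : 2 * n ≤ q + 2)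
  obtain ⟨j, hj⟩ : ∃ j : ℤ, j = n * q + 1 - u * k := ⟨_, rfl⟩
  have hk1 : (k : ℤ) + 1 = (q + 1) * j := by
    rw [hj]; linear_combination (-1 : ℤ) * hkZ
  have hj1 : 1 ≤ j := by
    by_contra hlt
    have hj0 : j ≤ 0 := by omega
    nlinarith
  have key : ((q : ℤ) + 1) * (n - u * j) = j - u + n - 1 := by
    linear_combination (u : ℤ) * hk1 - hj
  have huj : j ≤ u * j := by nlinarith
  rcases lt_trichotomy ((n : ℤ) - u * j) 0 with hneg | hzero | hpos
  · -- `n < u j`: then `u ≥ q + 2`, excluded by `hsq`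
    exfalso
    have h1 : ((q : ℤ) + 1) * (n - u * j) ≤ -((q : ℤ) + 1) := by nlinarith
    have hubig : (q : ℤ) + 2 ≤ u := by linarith
    have hubigN : q + 2 ≤ u := by exact_mod_cast hubig
    rcases hsq with hsq | hsq
    · omega
    · have e1 : (q + 2) * (q + 1) + 1 ≤ u * (q + 1) + 1 :=
        Nat.add_le_add_right (Nat.mul_le_mul_right _ hubigN) 1
      have e2 : ((q + 2) * (q + 1) + 1) ^ 2 ≤ (u * (q + 1) + 1) ^ 2 := Nat.pow_le_pow_left e1 2
      have e3 : 2 * (n * (q + 1) + 1) ≤ (q + 2) * (q + 1) + 2 := by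
        have := Nat.mul_le_mul_right (q + 1) (by omega : 2 * n ≤ q + 2)
        linarith
      have e4 : q * (q + 1) * (2 * (n * (q + 1) + 1)) ≤ q * (q + 1) * ((q + 2) * (q + 1) + 2) :=
        Nat.mul_le_mul_left _ e3
      have e5 : q * (q + 1) * ((q + 2) * (q + 1) + 2) < 2 * ((q + 2) * (q + 1) + 1) ^ 2 := by
        nlinarith [Nat.zero_le (q ^ 4), Nat.zero_le (q ^ 3), Nat.zero_le (q ^ 2), Nat.zero_le q]
      nlinarith
  · -- `n = u j`: then `j = 1`
    have h0 : (j - 1) * ((u : ℤ) + 1) = 0 := by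
      have : (0 : ℤ) = j - u + n - 1 := by rw [← key, hzero, mul_zero]
      linear_combination (-1 : ℤ) * this - hzero
    rcases mul_eq_zero.mp h0 with h | h
    · have hj' : j = 1 := by linarith
      rw [hj', mul_one] at hzero
      have : (n : ℤ) = u := by linarith
      exact_mod_cast this.symm
    · exfalso; linarith
  · -- `n > u j`: impossible
    exfalso
    have h1 : (q : ℤ) + 1 ≤ ((q : ℤ) + 1) * (n - u * j) := by nlinarith
    linarith

end Cfsg.Agent.Lib.helper53.Br
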