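import Mathlib

/-! S0996 (Brauer), piece A2: the divisibility `u p - 1 ∣ (p - 1)(n p + 1)` with the square
bound forces `u = 1`. -/

set_option autoImplicit false

namespace Cfsg.Agent.Lib.helper53.Br

/-- A2. -/
theorem arith_minus (p n u : ℕ) (hp3 : 3 ≤ p) (hn1 : 1 ≤ n) (hn2 : 2 * n ≤ p + 1) (hu : 1 ≤ u)
    (hdvd : u * p - 1 ∣ (p - 1) * (n * p + 1))
    (hsq : (u * p - 1) ^ 2 ≤ (p - 1) * p * (n * p + 1)) : u = 1 := by
  obtain ⟨q, rfl⟩ : ∃ q, p = q + 1 := ⟨p - 1, by omega⟩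
  obtain ⟨d, hd⟩ : ∃ d, u * (q + 1) = d + 1 :=
    ⟨u * (q + 1) - 1, by have : 1 ≤ u * (q + 1) := Nat.mul_pos hu (by omega); omega⟩
  rw [hd] at hdvd hsq
  simp only [Nat.add_sub_cancel] at hdvd hsq
  obtain ⟨k, hk⟩ := hdvd
  have hdZ : (u : ℤ) * (q + 1) = d + 1 := by exact_mod_cast hd
  have hkZ : (q : ℤ) * (n * (q + 1) + 1) = d * k := by exact_mod_cast hk
  have hq2 : (2 : ℤ) ≤ q := by exact_mod_cast (by omega : 2 ≤ q)
  have hnZ : (1 : ℤ) ≤ n := by exact_mod_cast hn1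
  have huZ : (1 : ℤ) ≤ u := by exact_mod_cast hu
  have hn2Z : (2 : ℤ) * n ≤ q + 2 := by exact_mod_cast (by omega : 2 * n ≤ q + 2)
  have hk1N : 1 ≤ k := by
    rcases Nat.eq_zero_or_pos k with h | h
    · rw [h, Nat.mul_zero] at hk
      have : 0 < q * (n * (q + 1) + 1) := Nat.mul_pos (by omega) (by omega)
      omega
    · exact h
  have hk1Z : (1 : ℤ) ≤ k := by exact_mod_cast hk1N
  obtain ⟨j, hj⟩ : ∃ j : ℤ, j = u * k - n * (q + 1) - 1 + n := ⟨_, rfl⟩
  have hk1 : (k : ℤ) - 1 = (q + 1) * j := by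
    rw [hj]; linear_combination hkZ - (k : ℤ) * hdZ
  have hj0 : 0 ≤ j := by
    by_contra hlt
    have hj0 : j ≤ -1 := by omega
    nlinarith
  have key : ((q : ℤ) + 1) * (u * j - n) = j - u - n + 1 := by
    linear_combination (-(u : ℤ)) * hk1 - hj
  rcases lt_trichotomy ((u : ℤ) * j - n) 0 with hneg | hzero | hpos
  · -- `u j < n`
    exfalso
    have h1 : ((q : ℤ) + 1) * (u * j - n) ≤ -((q : ℤ) + 1) := by nlinarith
    rcases eq_or_lt_of_le hj0 with hj00 | hjpos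
    · -- `j = 0`, `k = 1`: the square bound fails
      have hk1' : (k : ℤ) = 1 := by rw [← hj00, mul_zero] at hk1; linarith
      have hkN : k = 1 := by exact_mod_cast hk1'
      rw [hkN, Nat.mul_one] at hk
      rw [← hk] at hsq
      have hA : q + 2 ≤ n * (q + 1) + 1 := by nlinarith
      have hB : q * (q + 2) ≤ q * (n * (q + 1) + 1) := Nat.mul_le_mul_left _ hA
      have hC : (q * (n * (q + 1) + 1)) * (q * (q + 2)) ≤ (q * (n * (q + 1) + 1)) ^ 2 := by
        rw [pow_two]; exact Nat.mul_le_mul_left _ hB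
      have hD : q * (q + 1) * (n * (q + 1) + 1) < (q * (n * (q + 1) + 1)) * (q * (q + 2)) := by
        have hpos : 0 < q * (n * (q + 1) + 1) := Nat.mul_pos (by omega) (by omega)
        have : q * (q + 1) * (n * (q + 1) + 1) = (q * (n * (q + 1) + 1)) * (q + 1) := by ring
        rw [this]
        apply Nat.mul_lt_mul_of_pos_left _ hpos
        nlinarith
      omega
    · -- `j ≥ 1`
      have hj1 : 1 ≤ j := by omega
      have huj : (u : ℤ) ≤ u * j := by nlinarith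
      linarith
  · -- `u j = n`: then `u = 1`
    have h0 : (1 - (u : ℤ)) * (1 + j) = 0 := by
      have : (0 : ℤ) = j - u - n + 1 := by rw [← key, hzero, mul_zero]
      linear_combination (-1 : ℤ) * this - hzero
    rcases mul_eq_zero.mp h0 with h | h
    · have : (u : ℤ) = 1 := by linarith
      exact_mod_cast this
    · exfalso; linarith
  · -- `u j > n`: sizes
    exfalso
    have h1 : (q : ℤ) + 1 ≤ ((q : ℤ) + 1) * (u * j - n) := by nlinarith
    have hj2 : (q : ℤ) + 2 ≤ j := by linarith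
    have e0 : ((q : ℤ) + 1) * ((q : ℤ) + 2) ≤ ((q : ℤ) + 1) * j :=
      mul_le_mul_of_nonneg_left hj2 (by linarith)
    have hkbig : ((q : ℤ) + 1) * ((q : ℤ) + 1) < k := by linarith
    have e1 : (q : ℤ) + 1 ≤ u * ((q : ℤ) + 1) := by nlinarith
    have hdbig : (q : ℤ) ≤ d := by linarith
    have hprod : (q : ℤ) * (((q : ℤ) + 1) * ((q : ℤ) + 1)) < d * k :=
      calc (q : ℤ) * (((q : ℤ) + 1) * ((q : ℤ) + 1)) < q * k :=
            mul_lt_mul_of_pos_left hkbig (by linarith)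
        _ ≤ d * k := mul_le_mul_of_nonneg_right hdbig (by linarith)
    have e2 : (2 : ℤ) * n * ((q : ℤ) + 1) ≤ ((q : ℤ) + 2) * ((q : ℤ) + 1) :=
      mul_le_mul_of_nonneg_right hn2Z (by linarith)
    have e3 : (2 : ℤ) * q ≤ q * q := by nlinarith
    have hsmall : (n : ℤ) * (q + 1) + 1 < ((q : ℤ) + 1) * ((q : ℤ) + 1) := by linarith
    have e4 : (q : ℤ) * (n * (q + 1) + 1) < q * (((q : ℤ) + 1) * ((q : ℤ) + 1)) :=
      mul_lt_mul_of_pos_left hsmall (by linarith)
    linarith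

end Cfsg.Agent.Lib.helper53.Br
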