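import Mathlib
import Cfsg.Prelude.Def_Characters
import Cfsg.Prelude.Def_Blocks
import Cfsg.Agent.Lib.helper84.BrDefs
import Cfsg.Agent.Lib.helper81.CharOrtho
import Cfsg.Agent.Lib.helper20.BrC1
import Cfsg.Agent.Lib.helper53.BrA1
import Cfsg.Agent.Lib.helper53.BrA2

/-!
# S0996 (Brauer), piece C7: the degrees of the non-exceptional characters.
-/

set_option autoImplicit false

namespace Cfsg.Agent.Lib.helper53.Br

open Cfsg Cfsg.Agent.Lib.helper81 Cfsg.Agent.Lib.helper84.Br
open scoped ComplexConjugate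

universe u

variable {G : Type u} [Group G] [Fintype G] {p : ℕ} [Fact p.Prime] {P : Sylow p G} {e n : ℕ}

/-- `|G| = e p (1 + n p)`. -/
theorem c7_card (hctx : Ctx G p P e n) : Nat.card G = e * p * (1 + n * p) := by
  have h1 := Subgroup.card_mul_index (Subgroup.normalizer ((P : Subgroup G) : Set G))
  have h2 : Nat.card (Sylow p G) = (Subgroup.normalizer ((P : Subgroup G) : Set G)).index :=
    Sylow.card_eq_index_normalizer P
  rw [← h2, hctx.he, hctx.hn] at h1
  exact h1.symm

/-- The square of an irreducible degree is at most the group order. -/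
theorem c7_sq_le (χ : IrrCharacter G) : (charDegree (χ : G → ℂ)) ^ 2 ≤ Nat.card G := by
  classical
  have h := sum_irr_degree_mul (G := G) 1
  rw [if_pos rfl] at h
  have h2 : ∑ ψ : IrrCharacter G, (charDegree (ψ : G → ℂ)) ^ 2 = Nat.card G := by
    have : ((∑ ψ : IrrCharacter G, (charDegree (ψ : G → ℂ)) ^ 2 : ℕ) : ℂ) = (Nat.card G : ℂ) := by
      rw [← h]
      push_cast
      refine Finset.sum_congr rfl (fun ψ _ => ?_)
      rw [irr_one_eq_charDegree, pow_two]
    exact_mod_cast this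
  rw [← h2]
  exact Finset.single_le_sum (f := fun ψ : IrrCharacter G => (charDegree (ψ : G → ℂ)) ^ 2)
    (fun _ _ => Nat.zero_le _) (Finset.mem_univ χ)

/-- C7 (DEG-X). -/
theorem deg_X (hctx : Ctx G p P e n) (hperf : commutator G = ⊤) (D : Data G p P e) :
    (∀ χ ∈ D.A, charDegree (χ : G → ℂ) = 1 + n * p) ∧
    (∀ χ ∈ D.B, charDegree (χ : G → ℂ) = p - 1) := by
  have hp : p.Prime := Fact.out
  have hp3 : 3 ≤ p := by
    have h1 := hp.two_le
    have h2 := hctx.hp2
    omega
  have hcard := c7_card hctx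
  have he1 : e ≤ p - 1 := Nat.le_of_dvd (by omega) hctx.hep
  -- facts common to the characters of `X`
  have hcommon : ∀ χ : IrrCharacter G, ¬ p ∣ charDegree (χ : G → ℂ) →
      charDegree (χ : G → ℂ) ∣ (p - 1) * (n * p + 1) ∧
      (charDegree (χ : G → ℂ)) ^ 2 ≤ (p - 1) * p * (n * p + 1) := by
    intro χ hnd
    have hd := irr_degree_dvd_card χ
    rw [hcard] at hd
    have hcop : Nat.Coprime (charDegree (χ : G → ℂ)) p :=
      (Nat.coprime_comm.mp ((Nat.Prime.coprime_iff_not_dvd hp).mpr hnd))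
    have hd2 : charDegree (χ : G → ℂ) ∣ e * (1 + n * p) := by
      have : e * p * (1 + n * p) = p * (e * (1 + n * p)) := by ring
      rw [this] at hd
      exact hcop.dvd_of_dvd_mul_left hd
    refine ⟨hd2.trans ?_, ?_⟩
    · rw [add_comm 1 (n * p)]
      exact Nat.mul_dvd_mul hctx.hep dvd_rfl
    · have hsq := c7_sq_le χ
      rw [hcard] at hsq
      refine hsq.trans ?_
      have : e * p * (1 + n * p) ≤ (p - 1) * p * (n * p + 1) := by
        rw [add_comm 1 (n * p)]
        exact Nat.mul_le_mul_right _ (Nat.mul_le_mul_right _ he1)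
      exact this
  constructor
  · intro χ hχ
    rw [D.mem_A] at hχ
    obtain ⟨hχX, hχ1, hδ⟩ := hχ
    have hmod := D.deg_X χ hχX
    rw [hδ] at hmod
    have hmodN : charDegree (χ : G → ℂ) ≡ 1 [MOD p] := by exact_mod_cast hmod
    have hpos := irr_charDegree_pos χ
    have hdvd1 : p ∣ charDegree (χ : G → ℂ) - 1 := (Nat.modEq_iff_dvd' hpos).mp hmodN.symm
    obtain ⟨u, hu⟩ := hdvd1
    have hdeg : charDegree (χ : G → ℂ) = u * p + 1 := by
      have : charDegree (χ : G → ℂ) = p * u + 1 := by omega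
      rw [this, mul_comm]
    have hnd : ¬ p ∣ charDegree (χ : G → ℂ) := by
      intro h
      rw [hdeg] at h
      have h1 : p ∣ 1 := (Nat.dvd_add_right (Dvd.intro_left u rfl)).mp h
      have := Nat.le_of_dvd (by norm_num) h1
      omega
    obtain ⟨hd, hs⟩ := hcommon χ hnd
    have hu1 : 1 ≤ u := by
      rcases Nat.eq_zero_or_pos u with h0 | h0
      · exfalso
        rw [h0, zero_mul, zero_add] at hdeg
        exact hχ1 (Cfsg.Agent.Lib.helper20.Br.lin_perfect hperf χ hdeg)
      · exact h0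
    rw [hdeg] at hd hs
    have hun := arith_plus p n u hp3 hctx.hn1 hctx.hn2 hu1 hd (Or.inr hs)
    rw [hdeg, hun, add_comm]
  · intro χ hχ
    rw [D.mem_B] at hχ
    obtain ⟨hχX, hδ⟩ := hχ
    have hmod := D.deg_X χ hχX
    rw [hδ] at hmod
    have hpos := irr_charDegree_pos χ
    have hdvdZ : (p : ℤ) ∣ ((charDegree (χ : G → ℂ) + 1 : ℕ) : ℤ) := by
      have h1 := Int.modEq_iff_dvd.mp hmod
      have h2 : ((charDegree (χ : G → ℂ) + 1 : ℕ) : ℤ) = -(-1 - (charDegree (χ : G → ℂ) : ℤ)) := by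
        push_cast; ring
      rw [h2]
      exact (dvd_neg).mpr h1
    have hdvd1 : p ∣ charDegree (χ : G → ℂ) + 1 := Int.natCast_dvd_natCast.mp hdvdZ
    obtain ⟨u, hu⟩ := hdvd1
    have hu1 : 1 ≤ u := by
      rcases Nat.eq_zero_or_pos u with h0 | h0
      · rw [h0, mul_zero] at hu; omega
      · exact h0
    have hdeg : charDegree (χ : G → ℂ) = u * p - 1 := by
      have : charDegree (χ : G → ℂ) = p * u - 1 := by omega
      rw [this, mul_comm]
    have hnd : ¬ p ∣ charDegree (χ : G → ℂ) := by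
      intro h
      have h1 : p ∣ 1 := (Nat.dvd_add_right h).mp (hu ▸ Dvd.intro u rfl)
      have := Nat.le_of_dvd (by norm_num) h1
      omega
    obtain ⟨hd, hs⟩ := hcommon χ hnd
    rw [hdeg] at hd hs
    have hu_eq := arith_minus p n u hp3 hctx.hn1 hctx.hn2 hu1 hd hs
    rw [hdeg, hu_eq, one_mul]

end Cfsg.Agent.Lib.helper53.Br
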