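import Mathlib
import Cfsg.Prelude.Def_LinearParabolics
import Cfsg.Agent.Lib.helper45.SVDefs

set_option autoImplicit false
open scoped MatrixGroups

namespace Cfsg.Agent.Lib.helper45.SV

/-- partial sums of `compOf D` over the positions below `m` -/
theorem helper53_csum_lt {n : ℕ} (D : Finset (Fin n)) (m : ℕ) (hm : m ≤ n) :
    ∑ k ∈ Finset.univ.filter (fun k : Fin n => k.val < m), compOf D k =
      ((D.filter (fun d => d.val < m)).image (fun d : Fin n => d.val + 1)).sup id := by
  induction m with
  | zero => simp
  | succ m ih =>
    have hmn : m < n := hm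
    have ih' := ih (le_of_lt hmn)
    have hU : ((D.filter (fun d => d.val < m)).image (fun d : Fin n => d.val + 1)).sup id ≤ m := by
      apply Finset.sup_le
      intro b hb
      rw [Finset.mem_image] at hb
      obtain ⟨d, hd, rfl⟩ := hb
      rw [Finset.mem_filter] at hd
      exact hd.2
    have hfil : Finset.univ.filter (fun k : Fin n => k.val < m + 1)
        = insert (⟨m, hmn⟩ : Fin n) (Finset.univ.filter (fun k : Fin n => k.val < m)) := by
      ext k
      simp only [Finset.mem_filter, Finset.mem_univ, true_and, Finset.mem_insert, Fin.ext_iff]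
      omega
    have hnot : (⟨m, hmn⟩ : Fin n) ∉ Finset.univ.filter (fun k : Fin n => k.val < m) := by
      simp
    have htop : topOf D ⟨m, hmn⟩
        = ((D.filter (fun d => d.val < m)).image (fun d : Fin n => d.val + 1)).sup id := by
      unfold topOf
      have : D.filter (fun d => d < (⟨m, hmn⟩ : Fin n)) = D.filter (fun d => d.val < m) :=
        Finset.filter_congr (fun d _ => Fin.lt_def)
      rw [this]
    rw [hfil, Finset.sum_insert hnot, ih']
    by_cases hi : (⟨m, hmn⟩ : Fin n) ∈ D
    · have hD : D.filter (fun d => d.val < m + 1)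
          = insert (⟨m, hmn⟩ : Fin n) (D.filter (fun d => d.val < m)) := by
        ext d
        simp only [Finset.mem_filter, Finset.mem_insert, Fin.ext_iff]
        constructor
        · rintro ⟨hd, hlt⟩
          rcases Nat.lt_succ_iff_lt_or_eq.1 hlt with h | h
          · exact Or.inr ⟨hd, h⟩
          · exact Or.inl h
        · rintro (h | ⟨hd, h⟩)
          · have : d = ⟨m, hmn⟩ := Fin.ext h
            rw [this]
            exact ⟨hi, Nat.lt_succ_self m⟩
          · exact ⟨hd, Nat.lt_succ_of_lt h⟩
      rw [hD, Finset.image_insert, Finset.sup_insert]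
      unfold compOf
      rw [if_pos hi, htop]
      simp only [id]
      rw [max_eq_left (le_trans hU (Nat.le_succ m))]
      omega
    · have hD : D.filter (fun d => d.val < m + 1) = D.filter (fun d => d.val < m) := by
        ext d
        simp only [Finset.mem_filter]
        constructor
        · rintro ⟨hd, hlt⟩
          rcases Nat.lt_succ_iff_lt_or_eq.1 hlt with h | h
          · exact ⟨hd, h⟩
          · exact absurd (by rw [← (Fin.ext h : d = ⟨m, hmn⟩)]; exact hd) hi
        · rintro ⟨hd, h⟩
          exact ⟨hd, Nat.lt_succ_of_lt h⟩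
      rw [hD]
      unfold compOf
      rw [if_neg hi, zero_add]

/-- CSUM (S). -/
theorem csum_compOf {n : ℕ} (D : Finset (Fin n)) (j : Fin n) :
    csum (compOf D) j = ((D.filter (fun d => d ≤ j)).image (fun d : Fin n => d.val + 1)).sup id := by
  have h := helper53_csum_lt D (j.val + 1) j.isLt
  have h1 : Finset.univ.filter (fun k : Fin n => k ≤ j)
      = Finset.univ.filter (fun k : Fin n => k.val < j.val + 1) :=
    Finset.filter_congr (fun k _ => by rw [Fin.le_def, Nat.lt_succ_iff])
  have h2 : D.filter (fun d => d ≤ j) = D.filter (fun d => d.val < j.val + 1) :=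
    Finset.filter_congr (fun k _ => by rw [Fin.le_def, Nat.lt_succ_iff])
  unfold csum
  rw [h1, h2]
  exact h

end Cfsg.Agent.Lib.helper45.SV
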