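import Mathlib
import Cfsg.Agent.Lib.helper7.CardSL

set_option autoImplicit false

namespace Cfsg.Agent.Lib.helper53

/-- isomorphic groups have centres of the same cardinality -/
theorem z2d_card_center {A B : Type*} [Group A] [Group B] (e : A ≃* B) :
    Nat.card (Subgroup.center A) = Nat.card (Subgroup.center B) := by
  refine Nat.card_congr
    { toFun := fun x => ⟨e x, ?_⟩
      invFun := fun y => ⟨e.symm y, ?_⟩
      left_inv := fun x => by simp
      right_inv := fun y => by simp }
  · rw [Subgroup.mem_center_iff]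
    intro b
    obtain ⟨a, rfl⟩ := e.surjective b
    rw [← map_mul, ← map_mul, Subgroup.mem_center_iff.mp x.2 a]
  · rw [Subgroup.mem_center_iff]
    intro a
    obtain ⟨b, rfl⟩ := e.symm.surjective a
    rw [← map_mul, ← map_mul, Subgroup.mem_center_iff.mp y.2 b]

theorem z2d_card_center_le :
    Nat.card (Subgroup.center (Matrix.SpecialLinearGroup (Fin 2) (ZMod 5))) ≤ 2 := by
  haveI : Fact (Nat.Prime 5) := ⟨by norm_num⟩
  have e := Matrix.SpecialLinearGroup.center_equiv_rootsOfUnity (n := Fin 2) (R := ZMod 5)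
  rw [Nat.card_congr e.toEquiv]
  have h2 : max (Fintype.card (Fin 2)) 1 = 2 := by simp
  rw [h2]
  exact card_rootsOfUnity (ZMod 5) 2

/-- PIECE D -/
theorem index_sup_centralizer (haut : Finite (MulAut (Matrix.SpecialLinearGroup (Fin 2) (ZMod 5))) ∧ Nat.card (MulAut (Matrix.SpecialLinearGroup (Fin 2) (ZMod 5))) ≤ 120)
    {G : Type*} [Group G] [Finite G] (S : Subgroup G) [S.Normal] (hS : Nonempty (S ≃* (Matrix.SpecialLinearGroup (Fin 2) (ZMod 5)))) :
    (S ⊔ Subgroup.centralizer (S : Set G)).index = 1 ∨
      (S ⊔ Subgroup.centralizer (S : Set G)).index = 2 := by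
  classical
  obtain ⟨e⟩ := hS
  haveI : Fact (Nat.Prime 5) := ⟨by norm_num⟩
  obtain ⟨hfin, hle⟩ := haut
  let eA : MulAut S ≃* MulAut (Matrix.SpecialLinearGroup (Fin 2) (ZMod 5)) := MulAut.congr e
  haveI : Finite (MulAut S) := Finite.of_equiv _ eA.symm.toEquiv
  have hA : Nat.card (MulAut S) ≤ 120 := by
    rw [Nat.card_congr eA.toEquiv]; exact hle
  let φ : G →* MulAut S := MulAut.conjNormal
  have hφ : ∀ (g : G) (h : S), ((φ g h : S) : G) = g * h * g⁻¹ := fun g h =>
    MulAut.conjNormal_apply g h
  have hker : φ.ker = Subgroup.centralizer (S : Set G) := by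
    ext g
    rw [MonoidHom.mem_ker, Subgroup.mem_centralizer_iff]
    constructor
    · intro hg h hh
      have h1 : ((φ g ⟨h, hh⟩ : S) : G) = h := by rw [hg]; rfl
      rw [hφ] at h1
      calc h * g = (g * h * g⁻¹) * g := by rw [h1]
        _ = g * h := by group
    · intro hg
      ext h
      rw [hφ]
      have h1 := hg h h.2
      show g * (h : G) * g⁻¹ = ((1 : MulAut S) h : S)
      rw [MulAut.one_apply, ← h1]
      group
  have hsup : S ⊔ Subgroup.centralizer (S : Set G) = (S.map φ).comap φ := by
    apply le_antisymm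
    · apply sup_le
      · exact Subgroup.le_comap_map φ S
      · rw [← hker]; exact MonoidHom.ker_le_comap φ _
    · intro g hg
      obtain ⟨s, hs, hsg⟩ := Subgroup.mem_map.mp (Subgroup.mem_comap.mp hg)
      have hk : s⁻¹ * g ∈ φ.ker := by
        rw [MonoidHom.mem_ker, map_mul, map_inv, hsg]; simp
      rw [hker] at hk
      have hgs : g = s * (s⁻¹ * g) := by group
      rw [hgs]
      exact Subgroup.mul_mem _ (Subgroup.mem_sup_left hs) (Subgroup.mem_sup_right hk)
  rw [hsup, Subgroup.index_comap]
  have hIR : S.map φ ≤ φ.range := Subgroup.map_le_range φ S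
  have hcardS : Nat.card S = 120 := by
    rw [Nat.card_congr e.toEquiv,
      Cfsg.Agent.Lib.helper7.card_SL2 (F := ZMod 5) (q := 5) (ZMod.card 5)]
    norm_num
  have hc : φ.ker.subgroupOf S = Subgroup.center S := by
    ext s
    rw [Subgroup.mem_subgroupOf, hker, Subgroup.mem_centralizer_iff, Subgroup.mem_center_iff]
    constructor
    · intro h t
      apply Subtype.ext
      have := h t t.2
      simpa using this
    · intro h t ht
      have := congrArg Subtype.val (h ⟨t, ht⟩)
      simpa using this
  have hZ : Nat.card (φ.ker.subgroupOf S) ≤ 2 := by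
    rw [hc, z2d_card_center e]
    exact z2d_card_center_le
  have hI : 60 ≤ Nat.card (S.map φ) := by
    rw [← Subgroup.relIndex_ker (K := S) φ]
    have h1 := Subgroup.card_mul_index (φ.ker.subgroupOf S)
    rw [hcardS] at h1
    have h2 : (φ.ker.subgroupOf S).index = φ.ker.relIndex S := rfl
    rw [h2] at h1
    have hpos : 0 < Nat.card (φ.ker.subgroupOf S) := Nat.card_pos
    by_contra hlt
    push Not at hlt
    have : Nat.card (φ.ker.subgroupOf S) * φ.ker.relIndex S ≤ 2 * 59 :=
      Nat.mul_le_mul hZ (by omega)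
    omega
  have hR : Nat.card φ.range ≤ 120 := (Subgroup.card_le_card_group φ.range).trans hA
  have h3 := Subgroup.card_mul_index ((S.map φ).subgroupOf φ.range)
  have h4 : ((S.map φ).subgroupOf φ.range).index = (S.map φ).relIndex φ.range := rfl
  have h5 : Nat.card ((S.map φ).subgroupOf φ.range) = Nat.card (S.map φ) :=
    Nat.card_congr (Subgroup.subgroupOfEquivOfLe hIR).toEquiv
  rw [h4, h5] at h3
  have hpos : 0 < (S.map φ).relIndex φ.range := by
    rcases Nat.eq_zero_or_pos ((S.map φ).relIndex φ.range) with h0 | h0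
    · rw [h0, mul_zero] at h3
      have : 0 < Nat.card φ.range := Nat.card_pos
      omega
    · exact h0
  have hle2 : (S.map φ).relIndex φ.range ≤ 2 := by
    by_contra hgt
    push Not at hgt
    have : 60 * 3 ≤ Nat.card (S.map φ) * (S.map φ).relIndex φ.range :=
      Nat.mul_le_mul hI hgt
    omega
  omega

end Cfsg.Agent.Lib.helper53
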