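import Mathlib
import Cfsg.Agent.Lib.helper62.FrobExtract
import Cfsg.Agent.Lib.helper62.LinRegQ8A

set_option autoImplicit false

namespace Cfsg.Agent.Lib.helper53

open Cfsg.Agent.Lib.helper62.FrobExtract

universe u v

/-- PIECE H -/
theorem sylow_cyclic_of_odd {G : Type u} [Group G] [Finite G] (h : HasFpfMod.{u, v} G)
    (M : Subgroup G) (hodd : Odd (Nat.card M)) (p : ℕ) [Fact p.Prime] (P : Sylow p M) :
    IsCyclic P := by
  classical
  have hP : HasFpfMod.{u, v} (P : Subgroup M) :=
    HasFpfMod.comap (M.subtype.comp (P : Subgroup M).subtype)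
      (M.subtype_injective.comp (P : Subgroup M).subtype_injective) h
  rcases Cfsg.Agent.Lib.helper62.LinRegQ8.fpf_pgroup_cyclic_or_quat hP p P.isPGroup' with h1 | ⟨h2, -⟩
  · exact h1
  · subst h2
    obtain ⟨n, hn⟩ := (P.isPGroup').exists_card_eq
    have hdvd : Nat.card (P : Subgroup M) ∣ Nat.card M := Subgroup.card_subgroup_dvd_card _
    have hn0 : n = 0 := by
      by_contra hne
      have h2 : 2 ∣ Nat.card (P : Subgroup M) := by
        rw [hn]; exact dvd_pow_self 2 hne
      have h2M : 2 ∣ Nat.card M := h2.trans hdvd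
      rcases hodd with ⟨k, hk⟩
      omega
    rw [hn0, pow_zero] at hn
    haveI : Subsingleton (P : Subgroup M) := (Nat.card_eq_one_iff_unique.mp hn).1
    exact isCyclic_of_subsingleton

end Cfsg.Agent.Lib.helper53
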