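import Mathlib
import Cfsg.Agent.Lib.helper16.U34CDefs

set_option autoImplicit false

namespace Cfsg.Agent.Lib.helper16.U34C

open Cfsg
open scoped commutatorElement

/-- PIECE B1 -/
theorem gens_of_rel {H : Type*} [Group H] (u x : H) (h : Rel u x)
    (hgen : Subgroup.closure {u, x} = ⊤) :
    Gens (cj x u 0) (cj x u 1) (cj x u 2) (cj x u 3) (ca u x) (cb u x) x := by
  -- centrality of `a`, `b`
  have cen : ∀ c : H, Commute c u → Commute c x → ∀ g : H, Commute c g := by
    intro c hcu hcx g
    have hle : (⊤ : Subgroup H) ≤ Subgroup.centralizer {c} := by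
      rw [← hgen, Subgroup.closure_le]
      rintro k (rfl | rfl)
      · intro y hy
        rw [Set.mem_singleton_iff] at hy
        subst hy
        exact hcu.eq
      · intro y hy
        rw [Set.mem_singleton_iff] at hy
        subst hy
        exact hcx.eq
    have hg : g ∈ Subgroup.centralizer {c} := hle (Subgroup.mem_top g)
    exact hg c (Set.mem_singleton c)
  have ac : ∀ g : H, Commute (ca u x) g := cen _ h.au h.ax
  have bc : ∀ g : H, Commute (cb u x) g := cen _ h.bu h.bx
  -- the swap lemma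
  have key : ∀ (g k c : H), ⁅g, k⁆ = c → c ^ 2 = 1 → (∀ y, Commute c y) → k * g = g * k * c := by
    intro g k c hc h2 hcen
    have h1 : c⁻¹ = c := inv_eq_of_mul_eq_one_left (by rw [← sq]; exact h2)
    calc k * g = c⁻¹ * (g * k) := by rw [← hc, commutatorElement_def]; group
      _ = c * (g * k) := by rw [h1]
      _ = g * k * c := (hcen (g * k)).eq
  have cj_succ : ∀ i : ℕ, x * cj x u i * x⁻¹ = cj x u (i + 1) := by
    intro i
    simp only [cj]
    group
  have step : ∀ (i j : ℕ) (c : H), (∀ g, Commute c g) → ⁅cj x u i, cj x u j⁆ = c →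
      ⁅cj x u (i + 1), cj x u (j + 1)⁆ = c := by
    intro i j c hcen hc
    have e : ⁅cj x u (i + 1), cj x u (j + 1)⁆ = x * ⁅cj x u i, cj x u j⁆ * x⁻¹ := by
      rw [← cj_succ i, ← cj_succ j, commutatorElement_def, commutatorElement_def]
      group
    rw [e, hc, ← (hcen x).eq, mul_inv_cancel_right]
  have e01 : ⁅cj x u 0, cj x u 1⁆ = ca u x := by
    simp [cj, ca]
  have e02 : ⁅cj x u 0, cj x u 2⁆ = cb u x := by
    simp [cj, cb]
  have e12 := step 0 1 _ ac e01
  have e23 := step 1 2 _ ac e12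
  have e13 := step 0 2 _ bc e02
  have e24 := step 1 3 _ bc e13
  have e35 := step 2 4 _ bc e24
  have c50 : cj x u 5 = cj x u 0 := by
    simp [cj, h.x5, inv_pow]
  have b1 : (cb u x)⁻¹ = cb u x := inv_eq_of_mul_eq_one_left (by rw [← sq]; exact h.b2)
  have e03 : ⁅cj x u 0, cj x u 3⁆ = cb u x := by
    have e30 : ⁅cj x u 3, cj x u 0⁆ = cb u x := by
      have := e35
      simp only [Nat.reduceAdd] at this
      rw [c50] at this
      exact this
    rw [← commutatorElement_inv, e30, b1]
  have sq_step : ∀ i : ℕ, cj x u i ^ 2 = ca u x * cb u x → cj x u (i + 1) ^ 2 = ca u x * cb u x := by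
    intro i hi
    have e : cj x u (i + 1) ^ 2 = x * cj x u i ^ 2 * x⁻¹ := by
      rw [← cj_succ i, sq, sq]
      group
    rw [e, hi, ← ((ac x).mul_left (bc x)).eq, mul_inv_cancel_right]
  have s0 : cj x u 0 ^ 2 = ca u x * cb u x := by
    have : cj x u 0 = u := by simp [cj]
    rw [this]
    exact h.u2
  have s1 := sq_step 0 s0
  have s2 := sq_step 1 s1
  have s3 := sq_step 2 s2
  have e5 : (u * x) ^ 5 = u * x * (u * x) * (u * x) * (u * x) * (u * x) := by
    simp only [pow_succ, pow_zero, one_mul]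
  have h5 : cj x u 0 * cj x u 1 * cj x u 2 * cj x u 3 * cj x u 4 = (u * x) ^ 5 * (x ^ 5)⁻¹ := by
    rw [e5]
    simp only [cj]
    group
  rw [h.ux5, h.x5, inv_one, mul_one] at h5
  exact
    { a2 := h.a2
      b2 := h.b2
      ac := ac
      bc := bc
      sq0 := s0
      sq1 := s1
      sq2 := s2
      sq3 := s3
      c01 := key _ _ _ e01 h.a2 ac
      c02 := key _ _ _ e02 h.b2 bc
      c03 := key _ _ _ e03 h.b2 bc
      c12 := key _ _ _ e12 h.a2 ac
      c13 := key _ _ _ e13 h.b2 bc
      c23 := key _ _ _ e23 h.a2 ac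
      x5 := h.x5
      x0 := cj_succ 0
      x1 := cj_succ 1
      x2 := cj_succ 2
      x3 := by
        rw [cj_succ 3]
        exact eq_inv_of_mul_eq_one_right h5 }

end Cfsg.Agent.Lib.helper16.U34C
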