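import Mathlib
import Cfsg.Agent.Lib.helper69.SNDefs

set_option autoImplicit false

namespace Cfsg.Agent.Lib.helper53.SNG

open Cfsg.Agent.Lib.helper69.SNG

universe u v

/-- **[NILP]** -/
theorem sn_nilpotent_sub_comm {G : Type u} [Group G] [Finite G] (h : SN G)
    (hnil : Group.IsNilpotent G) (H : Subgroup G) (hH : H ≠ ⊤) : IsMulCommutative H := by
  by_contra hc
  have h1 := h H hc
  have h2 := (normalizerCondition_iff_only_full_group_self_normalizing.mp
    Group.normalizerCondition_of_isNilpotent) H h1
  exact hH h2

end Cfsg.Agent.Lib.helper53.SNG
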