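import Mathlib
import Cfsg.Agent.Lib.helper69.SNDefs

set_option autoImplicit false

namespace Cfsg.Agent.Lib.helper53.SNG

open Cfsg.Agent.Lib.helper69.SNG

universe u v

/-- In a minimal non-abelian 2-group the centralizer of a non-central element is abelian of
index 2. -/
theorem h53_centralizer_index_two {S : Type u} [Group S] [Finite S] (hS : IsPGroup 2 S)
    (hsub : ∀ H : Subgroup S, H ≠ ⊤ → IsMulCommutative H) (x : S)
    (hx : x ∉ Subgroup.center S) :
    (Subgroup.centralizer ({x} : Set S)).index = 2 ∧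
      (∀ a ∈ Subgroup.centralizer ({x} : Set S), ∀ b ∈ Subgroup.centralizer ({x} : Set S),
        a * b = b * a) := by
  haveI : Fact (Nat.Prime 2) := ⟨Nat.prime_two⟩
  obtain ⟨C, hCdef⟩ : ∃ C : Subgroup S, C = Subgroup.centralizer ({x} : Set S) := ⟨_, rfl⟩
  rw [← hCdef]
  have hxC : x ∈ C := by
    rw [hCdef, Subgroup.mem_centralizer_iff]
    intro h hh
    rw [Set.mem_singleton_iff] at hh
    rw [hh]
  have hCtop : C ≠ ⊤ := by
    intro htop
    apply hx
    rw [Subgroup.mem_center_iff]
    intro g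
    have hg : g ∈ C := by rw [htop]; exact Subgroup.mem_top g
    rw [hCdef, Subgroup.mem_centralizer_iff] at hg
    exact (hg x rfl).symm
  have hCab := (comm_iff C).mp (hsub C hCtop)
  refine ⟨?_, hCab⟩
  obtain ⟨n, hn⟩ := (IsPGroup.iff_card).mp hS
  obtain ⟨m, hm⟩ := (IsPGroup.iff_card).mp (hS.to_subgroup C)
  have hdvd : Nat.card C ∣ Nat.card S := Subgroup.card_subgroup_dvd_card C
  have hmn : m ≤ n := by
    rw [hm, hn] at hdvd
    exact (Nat.pow_dvd_pow_iff_le_right (by norm_num)).mp hdvd
  have hmn' : m ≠ n := by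
    intro h
    apply hCtop
    rw [← Subgroup.card_eq_iff_eq_top, hm, hn, h]
  have hn1 : 1 ≤ n := by omega
  have hd2 : 2 ^ (n - 1) ∣ Nat.card S := by
    rw [hn]; exact pow_dvd_pow 2 (by omega)
  obtain ⟨K, hKcard, hCK⟩ := Sylow.exists_subgroup_card_pow_prime_le 2 hd2 C hm (by omega)
  have hKtop : K ≠ ⊤ := by
    intro h
    rw [← Subgroup.card_eq_iff_eq_top, hKcard, hn] at h
    have := Nat.pow_right_injective (le_refl 2) h
    omega
  have hKab := (comm_iff K).mp (hsub K hKtop)
  have hKC : K ≤ C := by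
    intro k hk
    rw [hCdef, Subgroup.mem_centralizer_iff]
    intro h hh
    rw [Set.mem_singleton_iff] at hh
    rw [hh]
    exact hKab x (hCK hxC) k hk
  have hCK' : C = K := le_antisymm hCK hKC
  have h1 := Subgroup.card_mul_index C
  rw [hCK', hKcard, hn] at h1
  rw [hCK']
  have h2 : 2 ^ n = 2 ^ (n - 1) * 2 := by
    rw [← pow_succ]; congr 1; omega
  rw [h2] at h1
  exact Nat.eq_of_mul_eq_mul_left (by positivity) h1

/-- **[TWO-CENTER]** -/
theorem two_group_center_index {S : Type u} [Group S] [Finite S] (hS : IsPGroup 2 S)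
    (hna : ¬ IsMulCommutative S) (hsub : ∀ H : Subgroup S, H ≠ ⊤ → IsMulCommutative H) :
    (Subgroup.center S).index = 4 := by
  -- a non-central element x
  have hex : ∃ x : S, x ∉ Subgroup.center S := by
    by_contra hall
    push Not at hall
    apply hna
    rw [comm_iff_top]
    intro a b
    have := hall b
    rw [Subgroup.mem_center_iff] at this
    exact this a
  obtain ⟨x, hx⟩ := hex
  obtain ⟨hMi, hMab⟩ := h53_centralizer_index_two hS hsub x hx
  obtain ⟨M, hMdef⟩ : ∃ M : Subgroup S, M = Subgroup.centralizer ({x} : Set S) := ⟨_, rfl⟩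
  rw [← hMdef] at hMi hMab
  have hxM : x ∈ M := by
    rw [hMdef, Subgroup.mem_centralizer_iff]
    intro h hh
    rw [Set.mem_singleton_iff] at hh
    rw [hh]
  have hZM : Subgroup.center S ≤ M := by
    intro z hz
    rw [hMdef, Subgroup.mem_centralizer_iff]
    intro h hh
    rw [Subgroup.mem_center_iff] at hz
    exact hz h
  -- y ∉ M
  have hMtop : M ≠ ⊤ := by
    intro h
    rw [h, Subgroup.index_top] at hMi
    omega
  have hey : ∃ y : S, y ∉ M := by
    by_contra hall
    push Not at hall
    exact hMtop (eq_top_iff.mpr (fun g _ => hall g))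
  obtain ⟨y, hy⟩ := hey
  have hyZ : y ∉ Subgroup.center S := fun h => hy (hZM h)
  obtain ⟨hM'i, hM'ab⟩ := h53_centralizer_index_two hS hsub y hyZ
  obtain ⟨M', hM'def⟩ : ∃ M' : Subgroup S, M' = Subgroup.centralizer ({y} : Set S) := ⟨_, rfl⟩
  rw [← hM'def] at hM'i hM'ab
  have hZM' : Subgroup.center S ≤ M' := by
    intro z hz
    rw [hM'def, Subgroup.mem_centralizer_iff]
    intro h hh
    rw [Subgroup.mem_center_iff] at hz
    exact hz h
  -- center = M ⊓ M'
  have hZ : Subgroup.center S = M ⊓ M' := by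
    apply le_antisymm (le_inf hZM hZM')
    intro z hz
    obtain ⟨hz1, hz2⟩ := Subgroup.mem_inf.mp hz
    have hzy : y * z = z * y := by
      rw [hM'def, Subgroup.mem_centralizer_iff] at hz2
      exact hz2 y rfl
    rw [Subgroup.mem_center_iff]
    intro s
    by_cases hs : s ∈ M
    · exact hMab s hs z hz1
    · have h1 : y⁻¹ * s ∈ M := by
        rw [Subgroup.mul_mem_iff_of_index_two hMi]
        constructor
        · intro h; exact absurd (by simpa using M.inv_mem h) hy
        · intro h; exact absurd h hs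
      have h2 : (y⁻¹ * s) * z = z * (y⁻¹ * s) := hMab _ h1 z hz1
      calc s * z = y * ((y⁻¹ * s) * z) := by group
        _ = y * (z * (y⁻¹ * s)) := by rw [h2]
        _ = (y * z) * (y⁻¹ * s) := by group
        _ = (z * y) * (y⁻¹ * s) := by rw [hzy]
        _ = z * s := by group
  rw [hZ]
  have hle := Subgroup.index_inf_le (H := M) (K := M')
  rw [hMi, hM'i] at hle
  have hmul := Subgroup.relIndex_mul_index (inf_le_left : M ⊓ M' ≤ M)
  rw [hMi] at hmul
  have hr1 : (M ⊓ M').relIndex M ≠ 1 := by
    intro h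
    rw [Subgroup.relIndex_eq_one] at h
    have hxM' : x ∈ M' := (h hxM).2
    rw [hM'def, Subgroup.mem_centralizer_iff] at hxM'
    have hyx := hxM' y rfl
    apply hy
    rw [hMdef, Subgroup.mem_centralizer_iff]
    intro h hh
    rw [Set.mem_singleton_iff] at hh
    rw [hh]
    exact hyx.symm
  have hne : (M ⊓ M').index ≠ 0 := Subgroup.index_ne_zero_of_finite
  have hr0 : (M ⊓ M').relIndex M ≠ 0 := by
    intro h
    rw [h] at hmul
    omega
  omega

end Cfsg.Agent.Lib.helper53.SNG
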