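import Mathlib

/-! S0997 split project, piece AR1 (`ar_plus`): pure arithmetic, the case `ε = 1`. -/

set_option autoImplicit false

namespace Cfsg.Agent.Lib.helper53.BU

/-- AR1 : the case `ε = 1`. -/
theorem ar_plus (p q e b : ℕ) (hp : p.Prime) (hq : q.Prime) (he2 : 2 ≤ e)
    (hpe : p - 1 = 2 * e) (h1 : q ∣ e - 1) (h2 : q ∣ p + 1) (h3 : p + 1 ∣ p * q ^ b * e) :
    q = 2 ∧ ∃ c : ℕ, p + 1 = 2 ^ c := by
  have hp1 : p = 2 * e + 1 := by
    have := hp.two_le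
    omega
  subst hp1
  have hq2 : q = 2 := by
    have h4 : q ∣ 4 := by
      have h5 : 2 * e + 1 + 1 = 2 * (e - 1) + 4 := by omega
      rw [h5] at h2
      exact (Nat.dvd_add_right (Dvd.dvd.mul_left h1 2)).mp h2
    have h6 : q ∣ 2 ^ 2 := by
      norm_num
      exact h4
    have h7 := hq.dvd_of_dvd_pow h6
    exact (Nat.prime_dvd_prime_iff_eq hq Nat.prime_two).mp h7
  subst hq2
  refine ⟨rfl, ?_⟩
  have h5 : e + 1 ∣ (2 * e + 1) * (2 ^ b * e) := by
    have h8 : e + 1 ∣ 2 * e + 1 + 1 := ⟨2, by ring⟩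
    have h9 := h8.trans h3
    rw [mul_assoc] at h9
    exact h9
  have hc2 : Nat.Coprime (e + 1) e := by
    simp
  have hc1 : Nat.Coprime (e + 1) (2 * e + 1) := by
    have h10 : 2 * e + 1 = e + (e + 1) := by ring
    rw [h10, Nat.coprime_add_self_right]
    exact hc2
  have h6 : e + 1 ∣ 2 ^ b := by
    have h11 := hc1.dvd_of_dvd_mul_left h5
    exact hc2.dvd_of_dvd_mul_right h11
  obtain ⟨j, _, hj2⟩ := (Nat.dvd_prime_pow Nat.prime_two).mp h6
  exact ⟨j + 1, by rw [pow_succ]; omega⟩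

end Cfsg.Agent.Lib.helper53.BU
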