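import Mathlib
import Cfsg.Prelude.Def_GeometricClasses

set_option autoImplicit false

namespace Cfsg.Agent.Lib.helper2

open Cfsg.Geo Matrix

/-- CENT -/
theorem qfc_cent_mem {F : Type*} [Field F] {ι : Type} [Fintype ι] [DecidableEq ι]
    (K : Subalgebra F (Matrix ι ι F)) (κ : Matrix ι ι F) (hκK : κ ∈ K)
    (hspan : ∀ k ∈ K, ∃ a b : F, k = a • (1 : Matrix ι ι F) + b • κ)
    (g : GL ι F) (hg : (g : Matrix ι ι F) * κ = κ * (g : Matrix ι ι F)) :
    g ∈ subalgebraNormalizer K := by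
  have hgg : (g : Matrix ι ι F) * ((g⁻¹ : GL ι F) : Matrix ι ι F) = 1 := by
    rw [← Units.val_mul, mul_inv_cancel, Units.val_one]
  have hgg' : ((g⁻¹ : GL ι F) : Matrix ι ι F) * (g : Matrix ι ι F) = 1 := by
    rw [← Units.val_mul, inv_mul_cancel, Units.val_one]
  have hconj : ∀ a b : F, (g : Matrix ι ι F) * (a • (1 : Matrix ι ι F) + b • κ) *
      ((g⁻¹ : GL ι F) : Matrix ι ι F) = a • (1 : Matrix ι ι F) + b • κ := by
    intro a b
    rw [Matrix.mul_add, Matrix.add_mul, Matrix.mul_smul, Matrix.mul_smul, Matrix.smul_mul,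
      Matrix.smul_mul, mul_one, hgg, hg, mul_assoc, hgg, mul_one]
  have hmem : ∀ a b : F, a • (1 : Matrix ι ι F) + b • κ ∈ K :=
    fun a b => K.add_mem (K.smul_mem K.one_mem a) (K.smul_mem hκK b)
  have h5 : ∀ M : Matrix ι ι F, ((g⁻¹ : GL ι F) : Matrix ι ι F) *
      ((g : Matrix ι ι F) * M * ((g⁻¹ : GL ι F) : Matrix ι ι F)) * (g : Matrix ι ι F) = M := by
    intro M
    calc ((g⁻¹ : GL ι F) : Matrix ι ι F) *
          ((g : Matrix ι ι F) * M * ((g⁻¹ : GL ι F) : Matrix ι ι F)) * (g : Matrix ι ι F)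
        = (((g⁻¹ : GL ι F) : Matrix ι ι F) * (g : Matrix ι ι F)) * M *
          (((g⁻¹ : GL ι F) : Matrix ι ι F) * (g : Matrix ι ι F)) := by simp only [mul_assoc]
      _ = M := by rw [hgg', one_mul, mul_one]
  show ∀ k : Matrix ι ι F, k ∈ K ↔ (g : Matrix ι ι F) * k * ((g⁻¹ : GL ι F) : Matrix ι ι F) ∈ K
  intro k
  constructor
  · intro hk
    obtain ⟨a, b, rfl⟩ := hspan k hk
    rw [hconj]
    exact hmem a b
  · intro hk
    obtain ⟨a, b, hab⟩ := hspan _ hk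
    have h3 : (g : Matrix ι ι F) * k * ((g⁻¹ : GL ι F) : Matrix ι ι F) =
        (g : Matrix ι ι F) * (a • (1 : Matrix ι ι F) + b • κ) * ((g⁻¹ : GL ι F) : Matrix ι ι F) := by
      rw [hab, hconj]
    have h4 : k = a • (1 : Matrix ι ι F) + b • κ := by
      rw [← h5 k, h3, h5]
    rw [h4]
    exact hmem a b

end Cfsg.Agent.Lib.helper2
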