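import Mathlib
import Cfsg.Prelude.Def_GeometricClasses

set_option autoImplicit false

namespace Cfsg.Agent.Lib.helper2

open Cfsg.Geo Matrix

/-- QK (racer copy) -/
theorem h53_qfc_qk_nondeg {F : Type*} [Field F] {ι : Type} [Fintype ι] [DecidableEq ι]
    (h2 : (2 : F) ≠ 0) (Q : (ι → F) → F) (hQ : IsNondegenerateQuadraticForm Q)
    (δ : F) [Fact (∀ r : F, r ^ 2 ≠ δ + 0 * r)] (κ : Matrix ι ι F)
    (hκ : κ * κ = δ • (1 : Matrix ι ι F))
    (hsa : ∀ u v : ι → F, QuadraticMap.polar Q (κ *ᵥ u) v = QuadraticMap.polar Q u (κ *ᵥ v))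
    (d : ℕ) (Φ : (Fin d → QuadraticAlgebra F δ 0) ≃+ (ι → F))
    (hΦ : ∀ (z : QuadraticAlgebra F δ 0) (k : Fin d → QuadraticAlgebra F δ 0),
        Φ (z • k) = z.re • Φ k + z.im • (κ *ᵥ Φ k)) :
    IsNondegenerateQuadraticForm
      (fun k : Fin d → QuadraticAlgebra F δ 0 =>
        (⟨Q (Φ k), QuadraticMap.polar Q (κ *ᵥ Φ k) (Φ k) / (2 * δ)⟩ : QuadraticAlgebra F δ 0)) := by
  have hδ : δ ≠ 0 := by
    intro h
    have := (Fact.out : ∀ r : F, r ^ 2 ≠ δ + 0 * r) 0
    simp [h] at this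
  have hB := hQ.polar_bilinear
  have hBc : ∀ u v : ι → F, QuadraticMap.polar Q u v = QuadraticMap.polar Q v u := fun u v => QuadraticMap.polar_comm Q u v
  have hQadd : ∀ u v : ι → F, Q (u + v) = Q u + Q v + QuadraticMap.polar Q u v := by
    intro u v
    simp only [QuadraticMap.polar]
    ring
  have hBvv : ∀ v : ι → F, QuadraticMap.polar Q v v = 2 * Q v := by
    intro v
    have h := hQadd v v
    have h' : v + v = (2 : F) • v := (two_smul F v).symm
    rw [h', hQ.smul] at h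
    linear_combination -h
  have hκκ : ∀ v : ι → F, κ *ᵥ (κ *ᵥ v) = δ • v := by
    intro v
    rw [Matrix.mulVec_mulVec, hκ, Matrix.smul_mulVec, Matrix.one_mulVec]
  have hBκκ : ∀ u v : ι → F, QuadraticMap.polar Q (κ *ᵥ u) (κ *ᵥ v) = δ * QuadraticMap.polar Q u v := by
    intro u v
    rw [hsa, hκκ, hB.smul_right]
  have hQκ : ∀ v : ι → F, Q (κ *ᵥ v) = δ * Q v := by
    intro v
    have h1 := hBvv (κ *ᵥ v)
    rw [hBκκ, hBvv] at h1
    have h3 : (2 : F) * (Q (κ *ᵥ v) - δ * Q v) = 0 := by linear_combination -h1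
    have h4 := (mul_eq_zero.mp h3).resolve_left h2
    linear_combination h4
  have hBκ : ∀ v w : ι → F, QuadraticMap.polar Q v (κ *ᵥ w) = QuadraticMap.polar Q (κ *ᵥ v) w := fun v w => (hsa v w).symm
  have hQlin : ∀ (a b : F) (u w : ι → F),
      Q (a • u + b • w) = a ^ 2 * Q u + b ^ 2 * Q w + a * b * QuadraticMap.polar Q u w := by
    intro a b u w
    rw [hQadd, hQ.smul, hQ.smul, hB.smul_left, hB.smul_right]
    ring
  have hBlin : ∀ (a b : F) (u w x : ι → F),
      QuadraticMap.polar Q (a • u + b • w) x = a * QuadraticMap.polar Q u x + b * QuadraticMap.polar Q w x := by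
    intro a b u w x
    rw [hB.add_left, hB.smul_left, hB.smul_left]
  have hBlinR : ∀ (a b : F) (x u w : ι → F),
      QuadraticMap.polar Q x (a • u + b • w) = a * QuadraticMap.polar Q x u + b * QuadraticMap.polar Q x w := by
    intro a b x u w
    rw [hB.add_right, hB.smul_right, hB.smul_right]
  have hκlin : ∀ (a b : F) (v : ι → F),
      κ *ᵥ (a • v + b • (κ *ᵥ v)) = a • (κ *ᵥ v) + (b * δ) • v := by
    intro a b v
    rw [Matrix.mulVec_add, Matrix.mulVec_smul, Matrix.mulVec_smul, hκκ, smul_smul]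
  -- the two scalar identities
  have S1 : ∀ (a b : F) (v : ι → F), Q (a • v + b • (κ *ᵥ v)) =
      (a ^ 2 + δ * b ^ 2) * Q v + a * b * QuadraticMap.polar Q (κ *ᵥ v) v := by
    intro a b v
    rw [hQlin, hQκ, hBκ]
    ring
  have S2 : ∀ (a b : F) (v : ι → F),
      QuadraticMap.polar Q (κ *ᵥ (a • v + b • (κ *ᵥ v))) (a • v + b • (κ *ᵥ v)) =
      (a ^ 2 + δ * b ^ 2) * QuadraticMap.polar Q (κ *ᵥ v) v + 4 * a * b * δ * Q v := by
    intro a b v
    rw [hκlin, hBlin, hBlinR, hBlinR, hBκκ, hBvv, hBκ]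
    ring
  -- the formula for the polar form
  have hpol : ∀ k k' : Fin d → QuadraticAlgebra F δ 0,
      QuadraticMap.polar (fun k : Fin d → QuadraticAlgebra F δ 0 =>
        (⟨Q (Φ k), QuadraticMap.polar Q (κ *ᵥ Φ k) (Φ k) / (2 * δ)⟩ : QuadraticAlgebra F δ 0)) k k' =
      ⟨QuadraticMap.polar Q (Φ k) (Φ k'), QuadraticMap.polar Q (κ *ᵥ Φ k) (Φ k') / δ⟩ := by
    intro k k'
    have e2 : QuadraticMap.polar Q (κ *ᵥ (Φ k + Φ k')) (Φ k + Φ k') / (2 * δ) -
        QuadraticMap.polar Q (κ *ᵥ Φ k) (Φ k) / (2 * δ) - QuadraticMap.polar Q (κ *ᵥ Φ k') (Φ k') / (2 * δ) =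
        QuadraticMap.polar Q (κ *ᵥ Φ k) (Φ k') / δ := by
      rw [Matrix.mulVec_add, hB.add_left, hB.add_right, hB.add_right,
        hBc (κ *ᵥ Φ k') (Φ k), hBκ]
      field_simp
      ring
    refine QuadraticAlgebra.ext ?_ ?_
    · simp only [QuadraticMap.polar, QuadraticAlgebra.re_sub, map_add]
    · simp only [QuadraticMap.polar, QuadraticAlgebra.im_sub, map_add]
      exact e2
  have hfun : QuadraticMap.polar (fun k : Fin d → QuadraticAlgebra F δ 0 =>
        (⟨Q (Φ k), QuadraticMap.polar Q (κ *ᵥ Φ k) (Φ k) / (2 * δ)⟩ : QuadraticAlgebra F δ 0)) =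
      fun k k' => ⟨QuadraticMap.polar Q (Φ k) (Φ k'), QuadraticMap.polar Q (κ *ᵥ Φ k) (Φ k') / δ⟩ := by
    funext k k'
    exact hpol k k'
  refine ⟨?_, ?_, ?_⟩
  · -- smul
    intro z k
    show (⟨Q (Φ (z • k)), QuadraticMap.polar Q (κ *ᵥ Φ (z • k)) (Φ (z • k)) / (2 * δ)⟩ :
        QuadraticAlgebra F δ 0) = z ^ 2 * ⟨Q (Φ k), QuadraticMap.polar Q (κ *ᵥ Φ k) (Φ k) / (2 * δ)⟩
    rw [hΦ, S1, S2]
    refine QuadraticAlgebra.ext ?_ ?_
    · simp only [pow_two, QuadraticAlgebra.re_mul, QuadraticAlgebra.im_mul]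
      field_simp
      ring
    · simp only [pow_two, QuadraticAlgebra.re_mul, QuadraticAlgebra.im_mul]
      field_simp
      ring
  · -- bilinear
    rw [hfun]
    refine ⟨?_, ?_, ?_, ?_⟩
    · intro x y v
      refine QuadraticAlgebra.ext ?_ ?_
      · simp only [map_add, hB.add_left, QuadraticAlgebra.re_add]
      · simp only [map_add, Matrix.mulVec_add, hB.add_left, QuadraticAlgebra.im_add, add_div]
    · intro c x v
      show (⟨QuadraticMap.polar Q (Φ (c • x)) (Φ v), QuadraticMap.polar Q (κ *ᵥ Φ (c • x)) (Φ v) / δ⟩ :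
        QuadraticAlgebra F δ 0) = c * ⟨QuadraticMap.polar Q (Φ x) (Φ v), QuadraticMap.polar Q (κ *ᵥ Φ x) (Φ v) / δ⟩
      rw [hΦ, hκlin, hBlin, hBlin]
      refine QuadraticAlgebra.ext ?_ ?_
      · simp only [QuadraticAlgebra.re_mul]
        field_simp
      · simp only [QuadraticAlgebra.im_mul]
        field_simp
        ring
    · intro v x y
      refine QuadraticAlgebra.ext ?_ ?_
      · simp only [map_add, hB.add_right, QuadraticAlgebra.re_add]
      · simp only [map_add, hB.add_right, QuadraticAlgebra.im_add, add_div]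
    · intro c v x
      show (⟨QuadraticMap.polar Q (Φ v) (Φ (c • x)), QuadraticMap.polar Q (κ *ᵥ Φ v) (Φ (c • x)) / δ⟩ :
        QuadraticAlgebra F δ 0) = c * ⟨QuadraticMap.polar Q (Φ v) (Φ x), QuadraticMap.polar Q (κ *ᵥ Φ v) (Φ x) / δ⟩
      rw [hΦ, hBlinR, hBlinR, hBκκ, hBκ]
      refine QuadraticAlgebra.ext ?_ ?_
      · simp only [QuadraticAlgebra.re_mul]
        field_simp
      · simp only [QuadraticAlgebra.im_mul]
        field_simp
        ring
  · -- nondegenerate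
    rw [hfun]
    intro k hk
    have hv : Φ k ≠ 0 := by
      intro h
      exact hk (Φ.injective (h.trans (map_zero Φ).symm))
    obtain ⟨⟨x, hx⟩, ⟨y, hy⟩⟩ := hQ.nondegenerate (Φ k) hv
    refine ⟨⟨Φ.symm x, ?_⟩, ⟨Φ.symm y, ?_⟩⟩
    · intro h
      apply hx
      have h' := congrArg QuadraticAlgebra.re h
      simpa using h'
    · intro h
      apply hy
      have h' := congrArg QuadraticAlgebra.re h
      simpa using h'

end Cfsg.Agent.Lib.helper2
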