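import Mathlib
import Cfsg.Prelude.Def_LocalStructure
import Cfsg.Agent.Lib.helper21.BRLDefs

set_option autoImplicit false

/-!
# S3875, piece B1: a minimal non-`p`-closed group has no nontrivial normal `p`-subgroup (helper53)
-/

namespace Cfsg.Agent.Lib.helper21.BRL

open Cfsg

/-- B1 -/
theorem no_normal_pgroup {H : Type*} [Group H] [Finite H] (p : ℕ) [Fact p.Prime]
    (h : MinBad p H) (K : Subgroup H) (hK : K.Normal) (hKp : IsPGroup p K) : K = ⊥ := by
  by_contra hK1
  haveI := hK
  have hq := h.quot K hK1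
  apply h.bad
  intro P
  have hn : ((P.mapSurjective (QuotientGroup.mk'_surjective K) : Sylow p (H ⧸ K)) :
      Subgroup (H ⧸ K)).Normal := hq _
  rw [Sylow.coe_mapSurjective] at hn
  have hc : (Subgroup.comap (QuotientGroup.mk' K)
      ((P : Subgroup H).map (QuotientGroup.mk' K))).Normal := hn.comap _
  rw [QuotientGroup.comap_map_mk'] at hc
  have hle : K ≤ (P : Subgroup H) :=
    sup_eq_right.mp (P.is_maximal' (hKp.to_sup_of_normal_left P.isPGroup') le_sup_right)
  rwa [sup_eq_right.mpr hle] at hc

end Cfsg.Agent.Lib.helper21.BRL
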