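import Mathlib
import Cfsg.Prelude.Def_LocalStructure
import Cfsg.Agent.Lib.helper21.BRLDefs
import Cfsg.Agent.Lib.helper53.BRL_B1

set_option autoImplicit false

/-!
# S3875, piece B3: in a minimal non-`p`-closed group, a normal subgroup of order divisible by `p`
is the whole group (helper53)
-/

namespace Cfsg.Agent.Lib.helper21.BRL

open Cfsg

/-- B3 -/
theorem top_of_dvd {H : Type*} [Group H] [Finite H] (p : ℕ) [Fact p.Prime] (h : MinBad p H)
    (N : Subgroup H) (hN : N.Normal) (hpN : p ∣ Nat.card N) : N = ⊤ := by
  by_contra hne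
  haveI := hN
  have hcl := h.sub N hne
  obtain ⟨Q⟩ : Nonempty (Sylow p N) := inferInstance
  have hQn : (Q : Subgroup N).Normal := hcl Q
  haveI : (Q : Subgroup N).Characteristic := Q.characteristic_of_normal hQn
  have hnorm : ((Q : Subgroup N).map N.subtype).Normal :=
    ConjAct.normal_of_characteristic_of_normal
  have hp' : IsPGroup p ((Q : Subgroup N).map N.subtype) := Q.isPGroup'.map N.subtype
  have hbot := no_normal_pgroup p h _ hnorm hp'
  have hQbot : (Q : Subgroup N) = ⊥ := by
    rw [Subgroup.map_eq_bot_iff_of_injective _ N.subtype_injective] at hbot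
    exact hbot
  exact Q.ne_bot_of_dvd_card hpN hQbot

end Cfsg.Agent.Lib.helper21.BRL
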