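import Mathlib
import Cfsg.Prelude.Def_LocalStructure
import Cfsg.Agent.Lib.helper21.BRLDefs

set_option autoImplicit false

/-!
# S3875, piece B4: in a minimal non-`p`-closed group, `N P = H` for a nontrivial normal subgroup
`N` and a non-normal Sylow `p`-subgroup `P` (helper53)
-/

namespace Cfsg.Agent.Lib.helper21.BRL

open Cfsg

/-- B4 -/
theorem sup_eq_top_of_coprime {H : Type*} [Group H] [Finite H] (p : ℕ) [Fact p.Prime]
    (h : MinBad p H) (N : Subgroup H) (hN : N.Normal) (hN1 : N ≠ ⊥) (hpN : ¬ p ∣ Nat.card N)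
    (P : Sylow p H) (hP : ¬ (P : Subgroup H).Normal) : N ⊔ (P : Subgroup H) = ⊤ := by
  by_contra hne
  haveI := hN
  have hq := h.quot N hN1
  have hn : ((P.mapSurjective (QuotientGroup.mk'_surjective N) : Sylow p (H ⧸ N)) :
      Subgroup (H ⧸ N)).Normal := hq _
  rw [Sylow.coe_mapSurjective] at hn
  have hc : (Subgroup.comap (QuotientGroup.mk' N)
      ((P : Subgroup H).map (QuotientGroup.mk' N))).Normal := hn.comap _
  rw [QuotientGroup.comap_map_mk'] at hc
  have hcl := h.sub (N ⊔ (P : Subgroup H)) hne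
  have hle : (P : Subgroup H) ≤ N ⊔ (P : Subgroup H) := le_sup_right
  have hQn : ((P.subtype hle : Sylow p ↥(N ⊔ (P : Subgroup H))) :
      Subgroup ↥(N ⊔ (P : Subgroup H))).Normal := hcl _
  haveI := hc
  haveI : ((P.subtype hle : Sylow p ↥(N ⊔ (P : Subgroup H))) :
      Subgroup ↥(N ⊔ (P : Subgroup H))).Characteristic :=
    Sylow.characteristic_of_normal _ hQn
  have hnorm : (((P.subtype hle : Sylow p ↥(N ⊔ (P : Subgroup H))) :
      Subgroup ↥(N ⊔ (P : Subgroup H))).map (N ⊔ (P : Subgroup H)).subtype).Normal :=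
    ConjAct.normal_of_characteristic_of_normal
  rw [Sylow.coe_subtype, Subgroup.map_subgroupOf_eq_of_le hle] at hnorm
  exact hP hnorm

end Cfsg.Agent.Lib.helper21.BRL
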