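import Mathlib
import Cfsg.Agent.Lib.helper21.BRDefs
import Cfsg.Prelude.Def_Perm

set_option autoImplicit false

/-!
# S0999 (Brauer–Reynolds): cores of the pieces M2 (`degX_of_num`) and M5' (`brself_of_num`)

The cores take the statements of the pieces they depend on as hypotheses, so that this file
depends only on the definitions.  (helper53)
-/

namespace Cfsg.Agent.Lib.helper53.BR

open Cfsg Cfsg.Agent.Lib.helper21 Cfsg.Agent.Lib.helper21.BR

universe u

variable {G : Type u} [Group G] [Fintype G]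
variable {p : ℕ} [Fact p.Prime] {P : Sylow p G}
variable {e t n v : ℕ} {X Y : Finset (IrrCharacter G)} {εX : IrrCharacter G → ℤ} {ε : ℤ}

/-- `|G : C_G(P)| = e (1 + n p)`. -/
theorem index_centralizer_of_num (hN : BRNum p P e t n v) :
    (Subgroup.centralizer ((P : Subgroup G) : Set G)).index = e * (1 + n * p) := by
  have h1 := Subgroup.card_mul_index (Subgroup.centralizer ((P : Subgroup G) : Set G))
  rw [hN.cardC, hN.cardG] at h1
  have hpv : 0 < p * v := by
    have : 0 < Nat.card (Subgroup.centralizer ((P : Subgroup G) : Set G)) := Nat.card_pos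
    rwa [hN.cardC] at this
  have h2 : p * v * (Subgroup.centralizer ((P : Subgroup G) : Set G)).index =
      p * v * (e * (1 + n * p)) := by
    rw [h1]; ring
  exact Nat.eq_of_mul_eq_mul_left hpv h2

theorem v_pos_of_num (hN : BRNum p P e t n v) : 0 < v := by
  have : 0 < Nat.card (Subgroup.centralizer ((P : Subgroup G) : Set G)) := Nat.card_pos
  rw [hN.cardC] at this
  exact Nat.pos_of_mul_pos_left this |> fun h => by
    rcases Nat.eq_zero_or_pos v with h0 | h0
    · subst h0; simp at this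
    · exact h0

/-- Core of M2: the degrees of the members of `X`. -/
theorem degX_of_num_core
    (hAR1 : ∀ (p e t n x : ℕ) (_ : p.Prime) (_ : e * t = p - 1) (_ : 2 ≤ e) (_ : 2 ≤ t)
      (_ : e * n < p) (_ : x ∣ e * (1 + n * p)) (s : ℤ) (_ : s = 1 ∨ s = -1)
      (_ : (p : ℤ) ∣ (x : ℤ) - s),
      (s = 1 ∧ (x = 1 ∨ x = 1 + n * p)) ∨ (s = -1 ∧ x = p - 1 ∧ n + 1 = t))
    (hCH2 : ∀ (χ : IrrCharacter G) (z : G),
      ((χ : G → ℂ) z = 1 ∨ (χ : G → ℂ) z = -1) →
      charDegree (χ : G → ℂ) ∣ (Subgroup.centralizer ({z} : Set G)).index)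
    (hCH7 : ∀ χ : IrrCharacter G, charDegree (χ : G → ℂ) = 1 → χ = trivIrr G)
    (hGT8 : ∀ x : G, x ∈ (P : Subgroup G) → x ≠ 1 →
      Subgroup.centralizer ({x} : Set G) = Subgroup.centralizer (((P : Subgroup G)) : Set G))
    (hN : BRNum p P e t n v) (hD : BRData (P : Subgroup G) p e X Y εX ε) :
    ∀ χ ∈ X, χ = trivIrr G ∨ (εX χ = 1 ∧ charDegree (χ : G → ℂ) = 1 + n * p) ∨
      (εX χ = -1 ∧ charDegree (χ : G → ℂ) = p - 1 ∧ n + 1 = t) := by
  have hp : p.Prime := Fact.out
  -- a nontrivial element of `P`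
  have hnt : Nontrivial (P : Subgroup G) := by
    have h1 : 1 < Nat.card (P : Subgroup G) := by
      have := hN.cardP
      rw [show Nat.card (P : Subgroup G) = p from this]
      exact hp.one_lt
    exact (Finite.one_lt_card_iff_nontrivial).mp h1
  obtain ⟨z, hz1⟩ := exists_ne (1 : (P : Subgroup G))
  have hzP : (z : G) ∈ (P : Subgroup G) := z.2
  have hz1' : (z : G) ≠ 1 := fun h => hz1 (Subtype.ext h)
  have hidx := index_centralizer_of_num hN
  have hv := v_pos_of_num hN
  have hen : e * n < p := by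
    have h1 : e * n ≤ e * v * n := by
      calc e * n = e * 1 * n := by ring
        _ ≤ e * v * n := by gcongr; exact hv
    exact lt_of_le_of_lt h1 hN.small
  intro χ hχ
  have hval := hD.valX χ hχ (z : G) hzP hz1' 1 (Subgroup.one_mem _)
    (by rw [orderOf_one]; exact hp.not_dvd_one)
  rw [mul_one] at hval
  have hs := hD.sgnX χ hχ
  have hz : (χ : G → ℂ) (z : G) = 1 ∨ (χ : G → ℂ) (z : G) = -1 := by
    rcases hs with h | h
    · left; rw [hval, h]; norm_num
    · right; rw [hval, h]; norm_num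
  have hdvd := hCH2 χ (z : G) hz
  rw [hGT8 (z : G) hzP hz1', hidx] at hdvd
  rcases hAR1 p e t n (charDegree (χ : G → ℂ)) hp hN.et hN.e_ge hN.t_ge hen hdvd (εX χ) hs
    (hD.degX χ hχ) with ⟨h1, h2 | h2⟩ | ⟨h1, h2, h3⟩
  · exact Or.inl (hCH7 χ h2)
  · exact Or.inr (Or.inl ⟨h1, h2⟩)
  · exact Or.inr (Or.inr ⟨h1, h2, h3⟩)

/-- Core of M5': the self-centralizing stage. -/
theorem brself_of_num_core
    (hM2 : ∀ χ ∈ X, χ = trivIrr G ∨ (εX χ = 1 ∧ charDegree (χ : G → ℂ) = 1 + n * p) ∨
      (εX χ = -1 ∧ charDegree (χ : G → ℂ) = p - 1 ∧ n + 1 = t))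
    (hM3 : ∃ χ ∈ X, εX χ = -1)
    (hM4 : ∀ χ₀ : IrrCharacter G, χ₀ ∈ X → εX χ₀ = -1 → charDegree (χ₀ : G → ℂ) = p - 1 →
      Nat.card (Subgroup.centralizer ((P : Subgroup G) : Set G)) = p)
    (hM5 : Nat.card G = p * (p - 1) * (p - e) → 2 ≤ e → e * t = p - 1 → 2 ≤ t →
      ∃ f₀ : ℕ, (∀ θ ∈ Y, charDegree (θ : G → ℂ) = f₀) ∧
        ((ε = 1 ∧ f₀ = e) ∨ (ε = -1 ∧ f₀ = p - e)))
    (hN : BRNum p P e t n v) (hD : BRData (P : Subgroup G) p e X Y εX ε) :
    ∃ f₀ : ℕ, BRSelf p P e t X Y εX ε f₀ := by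
  have hp : p.Prime := Fact.out
  obtain ⟨χ₀, hχ₀, hs⟩ := hM3
  rcases hM2 χ₀ hχ₀ with h | ⟨h1, -⟩ | ⟨-, hdeg, hnt⟩
  · exfalso
    rw [h, hD.one_sgn] at hs
    norm_num at hs
  · exfalso
    rw [h1] at hs
    norm_num at hs
  · have hC := hM4 χ₀ hχ₀ hs hdeg
    have hv : v = 1 := by
      have h1 := hN.cardC
      rw [hC] at h1
      have h2 : p * 1 = p * v := by rw [mul_one]; exact h1
      exact (Nat.eq_of_mul_eq_mul_left hp.pos h2).symm
    -- `p = e (n + 1) + 1`
    have hp1 : p = e * (n + 1) + 1 := by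
      have h1 := hN.et
      rw [← hnt] at h1
      have := hp.one_lt
      omega
    have hpm1 : p - 1 = e * (n + 1) := by omega
    have hpe : p - e = e * n + 1 := by
      have : e * (n + 1) = e * n + e := by ring
      omega
    have hcardG : Nat.card G = p * (p - 1) * (p - e) := by
      rw [hN.cardG, hv, hpm1, hpe]
      have : 1 + n * p = (n + 1) * (e * n + 1) := by
        conv_lhs => rw [hp1]
        ring
      rw [this]; ring
    have hcardN : Nat.card (Subgroup.normalizer ((P : Subgroup G) : Set G)) = p * e := by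
      have hle : Subgroup.centralizer ((P : Subgroup G) : Set G) ≤
          Subgroup.normalizer ((P : Subgroup G) : Set G) :=
        Subgroup.centralizer_le_normalizer _
      have h1 := Subgroup.card_mul_index
        ((Subgroup.centralizer ((P : Subgroup G) : Set G)).subgroupOf
          (Subgroup.normalizer ((P : Subgroup G) : Set G)))
      have h2 : Nat.card ((Subgroup.centralizer ((P : Subgroup G) : Set G)).subgroupOf
          (Subgroup.normalizer ((P : Subgroup G) : Set G))) =
          Nat.card (Subgroup.centralizer ((P : Subgroup G) : Set G)) :=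
        Nat.card_congr (Subgroup.subgroupOfEquivOfLe hle).toEquiv
      rw [h2, hC] at h1
      have h3 : ((Subgroup.centralizer ((P : Subgroup G) : Set G)).subgroupOf
          (Subgroup.normalizer ((P : Subgroup G) : Set G))).index = e := hN.relIdx
      rw [h3] at h1
      exact h1.symm
    obtain ⟨f₀, hdegY, hf⟩ := hM5 hcardG hN.e_ge hN.et hN.t_ge
    refine ⟨f₀, ?_⟩
    exact
      { simple := hN.simple
        noncyc := hN.noncyc
        cardP := hN.cardP
        data := hD
        cardC := hC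
        cardN := hcardN
        cardG := hcardG
        e_ge := hN.e_ge
        et := hN.et
        t_ge := by have := hN.n_ge; omega
        degX := by
          intro χ hχ
          rcases hM2 χ hχ with h | ⟨h1, h2⟩ | ⟨h1, h2, -⟩
          · exact Or.inl h
          · refine Or.inr (Or.inl ⟨h1, ?_⟩)
            rw [h2, ← hnt]; simp
          · exact Or.inr (Or.inr ⟨h1, h2⟩)
        minus := ⟨χ₀, hχ₀, hs⟩
        degY := hdegY
        fcases := hf }

end Cfsg.Agent.Lib.helper53.BR
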