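import Mathlib
import Cfsg.Agent.Lib.helper21.BRDefs
import Cfsg.Prelude.Def_Perm
import Cfsg.Agent.Lib.helper31.BR_AR1
import Cfsg.Agent.Lib.helper72.BR_CH2
import Cfsg.Agent.Lib.helper72.BR_CH7
import Cfsg.Agent.Lib.helper78.BR_GT8
import Cfsg.Agent.Lib.helper53.BR_Cores

set_option autoImplicit false

/-!
# S0999 (Brauer–Reynolds), piece M2: the degrees of the members of `X` (helper53)
-/

namespace Cfsg.Agent.Lib.helper21.BR

open Cfsg Cfsg.Agent.Lib.helper21

universe u

section Chars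

variable {G : Type u} [Group G] [Fintype G]

variable (p : ℕ) [Fact p.Prime] (P : Sylow p G)

variable {p P}
variable {e t n v : ℕ} {X Y : Finset (IrrCharacter G)} {εX : IrrCharacter G → ℤ} {ε : ℤ}
  {f₀ : ℕ}

/-- M2 -/
theorem degX_of_num (hN : BRNum p P e t n v) (hD : BRData (P : Subgroup G) p e X Y εX ε) :
    ∀ χ ∈ X, χ = trivIrr G ∨ (εX χ = 1 ∧ charDegree (χ : G → ℂ) = 1 + n * p) ∨
      (εX χ = -1 ∧ charDegree (χ : G → ℂ) = p - 1 ∧ n + 1 = t) := by
  haveI := hN.simple
  exact Cfsg.Agent.Lib.helper53.BR.degX_of_num_core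
    (fun p e t n x hp het he ht hen hx s hs hmod =>
      degX_arith p e t n x hp het he ht hen hx s hs hmod)
    (fun χ z hz => deg_dvd_index χ z hz)
    (fun χ h => eq_trivIrr_of_degree_one hN.noncyc χ h)
    (fun x hx hx1 => centralizer_singleton_eq p (P : Subgroup G) hN.cardP x hx hx1)
    hN hD

end Chars

end Cfsg.Agent.Lib.helper21.BR
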