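import Mathlib
import Cfsg.Agent.Lib.helper24.S6eDefs

set_option autoImplicit false

namespace Cfsg.Agent.Lib.helper24

open Matrix Cfsg Cfsg.Geo

/-- Abstract Gauss-sum count: a group of order 32 with centre `{1, z}`, squares in `{1, z}` and
commutators in `{1, z}` has 12 or 20 elements of square 1. -/
theorem helper53_gauss_count {G : Type*} [Group G] [Finite G] (z : G) (hz1 : z ≠ 1)
    (hz2 : z * z = 1) (hzc : ∀ t : G, z * t = t * z) (hcard : Nat.card G = 32)
    (hcen : ∀ s : G, (∀ t : G, s * t = t * s) → s = 1 ∨ s = z)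
    (hsq : ∀ s : G, s * s = 1 ∨ s * s = z)
    (hcomm : ∀ s t : G, s * t = t * s ∨ s * t = z * (t * s)) :
    Nat.card {s : G // s * s = 1} = 12 ∨ Nat.card {s : G // s * s = 1} = 20 := by
  classical
  haveI := Fintype.ofFinite G
  have hcardF : Fintype.card G = 32 := by rw [← Nat.card_eq_fintype_card]; exact hcard
  -- the sign function on `{1, z}`
  set sgn : G → ℤ := fun g => if g = 1 then 1 else -1 with hsgn
  have sgn1 : sgn 1 = 1 := by simp [hsgn]
  have sgnz : sgn z = -1 := by simp [hsgn, hz1]
  have sgn_mul : ∀ a b : G, (a = 1 ∨ a = z) → (b = 1 ∨ b = z) → sgn (a * b) = sgn a * sgn b := by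
    intro a b ha hb
    rcases ha with rfl | rfl <;> rcases hb with rfl | rfl <;> simp [sgn1, sgnz, hz2]
  have cl_mul : ∀ a b : G, (a = 1 ∨ a = z) → (b = 1 ∨ b = z) → (a * b = 1 ∨ a * b = z) := by
    intro a b ha hb
    rcases ha with rfl | rfl <;> rcases hb with rfl | rfl <;> simp [hz2]
  have cen : ∀ c : G, (c = 1 ∨ c = z) → ∀ t : G, c * t = t * c := by
    intro c hc t
    rcases hc with rfl | rfl
    · simp
    · exact hzc t
  have sgn_sq : ∀ a : G, (a = 1 ∨ a = z) → sgn a * sgn a = 1 := by
    intro a ha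
    rcases ha with rfl | rfl <;> simp [sgn1, sgnz]
  -- the functions ε and κ
  set ε : G → ℤ := fun s => sgn (s * s) with hε
  set κ : G → G → ℤ := fun s t => if s * t = t * s then 1 else -1 with hκ
  -- commutation constants
  have hc : ∀ s t : G, ∃ c : G, (c = 1 ∨ c = z) ∧ s * t = c * (t * s) ∧ κ s t = sgn c := by
    intro s t
    rcases hcomm s t with h | h
    · exact ⟨1, Or.inl rfl, by simpa using h, by simp [hκ, h, sgn1]⟩
    · refine ⟨z, Or.inr rfl, h, ?_⟩
      have hne : s * t ≠ t * s := by
        intro h'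
        rw [h'] at h
        exact hz1 (by simpa using h.symm)
      simp [hκ, hne, sgnz]
  have hK : ∀ s t c : G, (c = 1 ∨ c = z) → s * t = c * (t * s) → κ s t = sgn c := by
    intro s t c hcc h
    rcases hcc with rfl | rfl
    · have h' : s * t = t * s := by simpa using h
      simp [hκ, h', sgn1]
    · have hne : s * t ≠ t * s := by
        intro h'
        rw [h'] at h
        exact hz1 (by simpa using h.symm)
      simp [hκ, hne, sgnz]
  -- ε (s u) = κ(s,u) ε(s) ε(u)
  have hεmul : ∀ s u : G, ε (s * u) = κ s u * ε s * ε u := by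
    intro s u
    obtain ⟨c, hcc, hsu, hκc⟩ := hc s u
    have hcc2 : c * c = 1 := by rcases hcc with rfl | rfl <;> simp [hz2]
    have hus : u * s = c * (s * u) := by rw [hsu, ← mul_assoc, hcc2, one_mul]
    have hsq2 : (s * u) * (s * u) = c * ((s * s) * (u * u)) := by
      calc (s * u) * (s * u) = s * (u * s) * u := by simp only [mul_assoc]
        _ = s * (c * (s * u)) * u := by rw [hus]
        _ = c * ((s * s) * (u * u)) := by
            rw [← mul_assoc s c, ← cen c hcc s]; simp only [mul_assoc]
    show sgn ((s * u) * (s * u)) = κ s u * sgn (s * s) * sgn (u * u)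
    rw [hsq2, sgn_mul c _ hcc (cl_mul _ _ (hsq s) (hsq u)), sgn_mul _ _ (hsq s) (hsq u), hκc]
    ring
  -- κ (t s, u) = κ(t,u) κ(s,u)
  have hκmul : ∀ t s u : G, κ (t * s) u = κ t u * κ s u := by
    intro t s u
    obtain ⟨c₁, hc1, htu, hκ1⟩ := hc t u
    obtain ⟨c₂, hc2, hsu, hκ2⟩ := hc s u
    have h : (t * s) * u = (c₁ * c₂) * (u * (t * s)) := by
      calc (t * s) * u = t * (s * u) := by simp only [mul_assoc]
        _ = t * (c₂ * (u * s)) := by rw [hsu]
        _ = c₂ * ((t * u) * s) := by
            rw [← mul_assoc t c₂, ← cen c₂ hc2 t]; simp only [mul_assoc]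
        _ = c₂ * ((c₁ * (u * t)) * s) := by rw [htu]
        _ = (c₁ * c₂) * (u * (t * s)) := by
            rw [← cen c₂ hc2 c₁]; simp only [mul_assoc]
    rw [hK _ _ _ (cl_mul _ _ hc1 hc2) h, sgn_mul _ _ hc1 hc2, hκ1, hκ2]
  -- character sums
  have hKsum : ∀ u : G, ∑ s : G, κ s u = if u = 1 ∨ u = z then 32 else 0 := by
    intro u
    by_cases hu : u = 1 ∨ u = z
    · rw [if_pos hu]
      have : ∀ s : G, κ s u = 1 := by
        intro s
        have := cen u hu s
        simp [hκ, this]
      simp [this, hcardF]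
    · rw [if_neg hu]
      have hnc : ¬ ∀ t : G, u * t = t * u := fun h => hu (hcen u h)
      push Not at hnc
      obtain ⟨t₀, ht₀⟩ := hnc
      have hκt : κ t₀ u = -1 := by
        have : t₀ * u ≠ u * t₀ := fun h => ht₀ h.symm
        simp [hκ, this]
      have h1 : ∑ s : G, κ s u = ∑ s : G, κ (t₀ * s) u :=
        (Equiv.sum_comp (Equiv.mulLeft t₀) (fun s => κ s u)).symm
      have h2 : ∑ s : G, κ (t₀ * s) u = - ∑ s : G, κ s u := by
        rw [← Finset.sum_neg_distrib]
        refine Finset.sum_congr rfl (fun s _ => ?_)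
        rw [hκmul, hκt]; ring
      linarith
  -- the square of the sum
  have hS : (∑ s : G, ε s) * (∑ s : G, ε s) = 64 := by
    have e1 : (∑ s : G, ε s) * (∑ s : G, ε s) = ∑ s : G, ∑ u : G, ε s * ε (s * u) := by
      rw [Finset.sum_mul]
      refine Finset.sum_congr rfl (fun s _ => ?_)
      rw [Finset.mul_sum]
      exact (Equiv.sum_comp (Equiv.mulLeft s) (fun t => ε s * ε t)).symm
    have e2 : ∀ s u : G, ε s * ε (s * u) = ε u * κ s u := by
      intro s u
      rw [hεmul]
      have : ε s * ε s = 1 := sgn_sq _ (hsq s)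
      linear_combination (κ s u * ε u) * this
    rw [e1]
    simp_rw [e2]
    rw [Finset.sum_comm]
    simp_rw [← Finset.mul_sum, hKsum]
    have e3 : ∀ u : G, ε u * (if u = 1 ∨ u = z then (32 : ℤ) else 0) =
        (if u = 1 then 32 else 0) + (if u = z then 32 else 0) := by
      intro u
      by_cases h1 : u = 1
      · subst h1
        have : (1 : G) ≠ z := fun h => hz1 h.symm
        simp [hε, sgn1, this]
      · by_cases h2 : u = z
        · subst h2
          simp [hε, hz2, sgn1, h1]
        · simp [h1, h2]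
    simp_rw [e3]
    rw [Finset.sum_add_distrib]
    simp
  -- the count
  have hcount : (∑ s : G, ε s) = 2 * (Nat.card {s : G // s * s = 1} : ℤ) - 32 := by
    have e1 : ∀ s : G, ε s = 2 * (if s * s = 1 then (1 : ℤ) else 0) - 1 := by
      intro s
      by_cases h : s * s = 1 <;> simp [hε, hsgn, h]
    simp_rw [e1]
    rw [Finset.sum_sub_distrib, ← Finset.mul_sum, Nat.card_eq_fintype_card, Fintype.card_subtype,
      Finset.natCast_card_filter]
    simp [hcardF]
  rw [hcount] at hS
  have hle : Nat.card {s : G // s * s = 1} ≤ 32 := by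
    rw [← hcard]
    exact Nat.card_le_card_of_injective (fun s => s.1) Subtype.val_injective
  have h3 : ((Nat.card {s : G // s * s = 1} : ℤ) - 12) * ((Nat.card {s : G // s * s = 1} : ℤ) - 20) = 0 := by
    have h4 : (4 : ℤ) * (((Nat.card {s : G // s * s = 1} : ℤ) - 12) *
        ((Nat.card {s : G // s * s = 1} : ℤ) - 20)) = 0 := by
      linear_combination hS
    exact (mul_eq_zero.mp h4).resolve_left (by norm_num)
  rcases mul_eq_zero.mp h3 with h | h
  · left; omega
  · right; omega

/-- ACNT (L). Gauss sum. -/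
theorem s6_count {F : Type*} [Field F] [Fintype F] (h2 : (2 : F) ≠ 0) (R : Subgroup (GL S6I F))
    (hR5 : Nat.card R = 32) (hneg : ∃ z ∈ R, (z : Matrix S6I S6I F) = -1)
    (hcen : ∀ s ∈ R, (∀ t ∈ R, s * t = t * s) → ((s : Matrix S6I S6I F) = 1 ∨ (s : Matrix S6I S6I F) = -1))
    (hsq : ∀ s ∈ R, (s : Matrix S6I S6I F) * (s : Matrix S6I S6I F) = 1 ∨ (s : Matrix S6I S6I F) * (s : Matrix S6I S6I F) = -1)
    (hcomm : ∀ s ∈ R, ∀ t ∈ R, (s : Matrix S6I S6I F) * (t : Matrix S6I S6I F) = (t : Matrix S6I S6I F) * (s : Matrix S6I S6I F) ∨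
      (s : Matrix S6I S6I F) * (t : Matrix S6I S6I F) = -((t : Matrix S6I S6I F) * (s : Matrix S6I S6I F))) :
    Nat.card {s : GL S6I F // s ∈ R ∧ (s : Matrix S6I S6I F) * (s : Matrix S6I S6I F) = 1} = 12 ∨
      Nat.card {s : GL S6I F // s ∈ R ∧ (s : Matrix S6I S6I F) * (s : Matrix S6I S6I F) = 1} = 20 := by
  classical
  obtain ⟨z, hzR, hz⟩ := hneg
  haveI : Finite R := Nat.finite_of_card_ne_zero (by omega)
  -- matrix equalities to group equalities
  have hext : ∀ a b : GL S6I F, (a : Matrix S6I S6I F) = (b : Matrix S6I S6I F) → a = b :=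
    fun a b h => Units.ext h
  have hz1 : (⟨z, hzR⟩ : R) ≠ 1 := by
    intro h
    have h' : (z : Matrix S6I S6I F) = 1 := by
      have := congrArg (fun s : R => ((s : GL S6I F) : Matrix S6I S6I F)) h
      simpa using this
    rw [hz] at h'
    have h00 := congrFun (congrFun h' (Sum.inl 0)) (Sum.inl 0)
    simp only [Matrix.neg_apply, Matrix.one_apply_eq] at h00
    apply h2
    linear_combination -h00
  have key := helper53_gauss_count (G := R) ⟨z, hzR⟩ hz1
    (by
      apply Subtype.ext
      apply hext
      simp [hz])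
    (by
      intro t
      apply Subtype.ext
      apply hext
      simp [hz])
    hR5
    (by
      intro s hs
      rcases hcen s.1 s.2 (fun t ht => congrArg Subtype.val (hs ⟨t, ht⟩)) with h | h
      · left
        apply Subtype.ext
        apply hext
        simpa using h
      · right
        apply Subtype.ext
        apply hext
        simpa [hz] using h)
    (by
      intro s
      rcases hsq s.1 s.2 with h | h
      · left
        apply Subtype.ext
        apply hext
        simpa using h
      · right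
        apply Subtype.ext
        apply hext
        simpa [hz] using h)
    (by
      intro s t
      rcases hcomm s.1 s.2 t.1 t.2 with h | h
      · left
        apply Subtype.ext
        apply hext
        simpa using h
      · right
        apply Subtype.ext
        apply hext
        simpa [hz] using h)
  have hcongr : Nat.card {s : GL S6I F // s ∈ R ∧ (s : Matrix S6I S6I F) * (s : Matrix S6I S6I F) = 1} =
      Nat.card {s : R // s * s = 1} := by
    refine Nat.card_congr
      ⟨fun s => ⟨⟨s.1, s.2.1⟩, ?_⟩, fun s => ⟨s.1.1, s.1.2, ?_⟩, fun _ => rfl, fun _ => rfl⟩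
    · apply Subtype.ext
      apply hext
      simpa using s.2.2
    · have := congrArg (fun s : R => ((s : GL S6I F) : Matrix S6I S6I F)) s.2
      simpa using this
  rw [hcongr]
  exact key

end Cfsg.Agent.Lib.helper24
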