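import Mathlib

set_option autoImplicit false

namespace Cfsg.Agent.Lib.helper70.SM

universe u

/-- W1 (the Klein four group inside `⟨a, b | a³, b², (ab)³⟩`). -/
theorem a4_comm {G : Type*} [Group G] (a b : G) (ha : a ^ 3 = 1) (hb : b ^ 2 = 1)
    (hab : (a * b) ^ 3 = 1) : b * (a * b * a⁻¹) = (a * b * a⁻¹) * b := by
  have hbinv : b⁻¹ = b := by
    rw [inv_eq_iff_mul_eq_one, ← pow_two]; exact hb
  -- c d b = 1 where c = a b a⁻¹, d = a² b a⁻²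
  have h1 : (a * b * a⁻¹) * (a * (a * b * a⁻¹) * a⁻¹) * b = 1 := by
    have : (a * b * a⁻¹) * (a * (a * b * a⁻¹) * a⁻¹) * b
        = (a * b) ^ 3 * (b⁻¹ * (a ^ 3)⁻¹ * b) := by
      simp only [pow_succ, pow_zero, one_mul]
      group
    rw [this, hab, ha]; group
  -- d = (c)⁻¹ * b⁻¹ ... so d = (b*c)⁻¹
  have hd : a * (a * b * a⁻¹) * a⁻¹ = (b * (a * b * a⁻¹))⁻¹ := by
    have h3 : a * (a * b * a⁻¹) * a⁻¹ * b = (a * b * a⁻¹)⁻¹ := by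
      rw [eq_inv_iff_mul_eq_one]
      calc a * (a * b * a⁻¹) * a⁻¹ * b * (a * b * a⁻¹)
          = (a * b * a⁻¹)⁻¹ * ((a * b * a⁻¹) * (a * (a * b * a⁻¹) * a⁻¹) * b) * (a * b * a⁻¹) := by
            group
        _ = 1 := by rw [h1]; group
    calc a * (a * b * a⁻¹) * a⁻¹ = (a * (a * b * a⁻¹) * a⁻¹ * b) * b⁻¹ := by group
      _ = (a * b * a⁻¹)⁻¹ * b⁻¹ := by rw [h3]
      _ = (b * (a * b * a⁻¹))⁻¹ := by group
  have hd2 : (a * (a * b * a⁻¹) * a⁻¹) * (a * (a * b * a⁻¹) * a⁻¹) = 1 := by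
    have : (a * (a * b * a⁻¹) * a⁻¹) * (a * (a * b * a⁻¹) * a⁻¹)
        = a * a * (b ^ 2) * a⁻¹ * a⁻¹ := by
      simp only [pow_succ, pow_zero, one_mul]; group
    rw [this, hb]; group
  rw [hd] at hd2
  -- (b c)⁻¹ (b c)⁻¹ = 1 → b c b c = 1
  have h4 : (b * (a * b * a⁻¹)) * (b * (a * b * a⁻¹)) = 1 := by
    have := congrArg (fun z => z⁻¹) hd2
    simpa [mul_assoc] using this
  have hc2 : (a * b * a⁻¹) * (a * b * a⁻¹) = 1 := by
    have : (a * b * a⁻¹) * (a * b * a⁻¹) = a * b ^ 2 * a⁻¹ := by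
      simp only [pow_succ, pow_zero, one_mul]; group
    rw [this, hb]; group
  have hcinv : (a * b * a⁻¹)⁻¹ = a * b * a⁻¹ := by
    rw [inv_eq_iff_mul_eq_one]; exact hc2
  -- b c = (b c)⁻¹ = c⁻¹ b⁻¹ = c b
  have h5 : b * (a * b * a⁻¹) = (b * (a * b * a⁻¹))⁻¹ := by
    rw [eq_inv_iff_mul_eq_one]; exact h4
  rw [h5, mul_inv_rev, hcinv, hbinv]

end Cfsg.Agent.Lib.helper70.SM
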