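import Mathlib
import Cfsg.Agent.S0003

set_option autoImplicit false

namespace Cfsg.Agent.Lib.helper26.S4409

theorem hall {S : Type*} [Group S] [Finite S] [Group.IsSolvable S] (X : Sylow 2 S) :
    ∃ H : Subgroup S, Nat.card ↥H = (X : Subgroup S).index := by
  haveI : Fact (Nat.Prime 2) := ⟨Nat.prime_two⟩
  exact Cfsg.Agent.S0003.result (X : Subgroup S).index (Nat.card ↥(X : Subgroup S))
    ((X : Subgroup S).index_mul_card).symm (Sylow.card_coprime_index X).symm

end Cfsg.Agent.Lib.helper26.S4409
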