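import Mathlib
import Cfsg.Agent.Lib.helper45.RUDefs

set_option autoImplicit false

namespace Cfsg.Agent.Lib.helper45.RU

open Matrix Cfsg.Agent.Lib.helper44

variable {n : ℕ} {F : Type*} [Field F] {S : Set (Matrix (Fin n) (Fin n) F)}

/-- V -/
theorem vmat_conj (hn : 3 ≤ n) (c : F) (z o l' l : Fin n) (hz : z.val = 0) (ho : o.val = 1)
    (hl' : l'.val + 2 = n) (hl : l.val + 1 = n) :
    (1 + Matrix.single l z c) * jm F n = vmat c z o l' l * (1 + Matrix.single l z c) := by
  have hA : Matrix.single l z c = vecMulVec (Pi.single l 1) (c • Pi.single z 1) :=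
    add_left_cancel (one_add_single_eq l z c)
  have h1 : Matrix.single l z c * jm F n = Matrix.single l z c + Matrix.single l o c := by
    have hB : Matrix.single l o c = vecMulVec (Pi.single l 1) (c • Pi.single o 1) :=
      add_left_cancel (one_add_single_eq l o c)
    rw [hA, hB, Matrix.vecMulVec_mul, Matrix.smul_vecMul, single_vecMul_jm z o (by omega),
      smul_add, Matrix.vecMulVec_add]
  have h2 : jm F n * Matrix.single l z c = Matrix.single l z c + Matrix.single l' z c := by
    have hB : Matrix.single l' z c = vecMulVec (Pi.single l' 1) (c • Pi.single z 1) :=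
      add_left_cancel (one_add_single_eq l' z c)
    rw [hA, hB, Matrix.mul_vecMulVec, jm_mulVec_single l l' (by omega), Matrix.add_vecMulVec]
  have hol : o ≠ l := by
    intro h
    have := congrArg Fin.val h
    omega
  have hzl : z ≠ l := by
    intro h
    have := congrArg Fin.val h
    omega
  have h3 : Matrix.single l o c * Matrix.single l z c = 0 := by
    rw [Matrix.single_mul_single_of_ne]
    exact hol
  have h4 : Matrix.single l' z c * Matrix.single l z c = 0 := by
    rw [Matrix.single_mul_single_of_ne]
    exact hzl
  unfold vmat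
  rw [add_mul, one_mul, h1, mul_add, mul_one, sub_mul, add_mul, h2, h3, h4]
  abel

end Cfsg.Agent.Lib.helper45.RU
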