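import Mathlib
import Cfsg.Agent.Lib.helper3.GfDefs

set_option autoImplicit false

namespace Cfsg.Agent.Lib.helper3.Gf

universe u

/-- a finite `ZMod p`-vector space has as many linear functionals as elements -/
theorem helper53_card_dual_zmod (p : ℕ) [Fact p.Prime] {M : Type*} [AddCommGroup M]
    [Module (ZMod p) M] [Finite M] : Nat.card (M →ₗ[ZMod p] ZMod p) = Nat.card M := by
  classical
  exact (Nat.card_congr (Module.finBasis (ZMod p) M).toDualEquiv.toEquiv).symm

/-- a finite abelian group of exponent `p` has as many homomorphisms to `ZMod p` as elements -/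
theorem helper53_card_hom_zmod (p : ℕ) [Fact p.Prime] {M : Type*} [AddCommGroup M] [Finite M]
    (hM : ∀ n : M, p • n = 0) : Nat.card (M →+ ZMod p) = Nat.card M := by
  letI inst : Module (ZMod p) M := AddCommGroup.zmodModule hM
  rw [Nat.card_congr (AddMonoidHom.toZModLinearMapEquiv p).toEquiv]
  exact helper53_card_dual_zmod p

/-- ALGI -/
theorem algi (p q : ℕ) [Fact p.Prime] [Fact q.Prime] (hpq : p ≠ q) {V M : Type*}
    [AddCommGroup V] [Finite V] [AddCommGroup M] [Finite M] (T : V ≃+ V) (h : Irr p q T)
    (κ : V → V → M) (π : V → M)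
    (hκl : ∀ u u' v, κ (u + u') v = κ u v + κ u' v) (hκr : ∀ u v v', κ u (v + v') = κ u v + κ u v')
    (hκa : ∀ v, κ v v = 0) (hκT : ∀ u v, κ (T u) (T v) = κ u v)
    (hπ : ∀ u v, π (u + v) = π u + π v + (p.choose 2) • κ v u) (hπT : ∀ v, π (T v) = π v)
    (hgen : AddSubgroup.closure (Set.range (fun uv : V × V => κ uv.1 uv.2) ∪ Set.range π) = ⊤)
    (a : ℕ)
    (hF : (a % 2 = 1 → ∀ β : V → V → ZMod p, InvAlt p T β → β = 0) ∧
      (a % 2 = 0 → Nat.card {β : V → V → ZMod p // InvAlt p T β} ≤ p ^ (a / 2))) :
    (a % 2 = 1 → ∀ n : M, n = 0) ∧ (a % 2 = 0 → Nat.card M ≤ p ^ (a / 2)) := by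
  classical
  haveI : NeZero p := ⟨(Fact.out : p.Prime).ne_zero⟩
  have hκ0l : ∀ v, κ 0 v = 0 := fun v => by
    have := hκl 0 0 v
    simpa using this
  have hκ0r : ∀ u, κ u 0 = 0 := fun u => by
    have := hκr u 0 0
    simpa using this
  have hκnl : ∀ (k : ℕ) u v, κ (k • u) v = k • κ u v := by
    intro k u v
    induction k with
    | zero => simp [hκ0l]
    | succ k ih => rw [succ_nsmul, hκl, ih, succ_nsmul]
  have hκnr : ∀ (k : ℕ) u v, κ u (k • v) = k • κ u v := by
    intro k u v
    induction k with
    | zero => simp [hκ0r]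
    | succ k ih => rw [succ_nsmul, hκr, ih, succ_nsmul]
  have hπ0 : π 0 = 0 := by
    have := hπ 0 0
    rw [add_zero, hκ0l, smul_zero, add_zero] at this
    simpa using this
  have hπn : ∀ (k : ℕ) v, π (k • v) = k • π v := by
    intro k v
    induction k with
    | zero => simp [hπ0]
    | succ k ih => rw [succ_nsmul, hπ, ih, hκnr, hκa, smul_zero, smul_zero, add_zero, succ_nsmul]
  have hMexp : ∀ n : M, p • n = 0 := by
    intro n
    have hn : n ∈ AddSubgroup.closure
        (Set.range (fun uv : V × V => κ uv.1 uv.2) ∪ Set.range π) := by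
      rw [hgen]; trivial
    induction hn using AddSubgroup.closure_induction with
    | mem x hx =>
      rcases hx with ⟨⟨u, v⟩, rfl⟩ | ⟨v, rfl⟩
      · show p • κ u v = 0
        rw [← hκnl, h.exp, hκ0l]
      · rw [← hπn, h.exp, hπ0]
    | zero => simp
    | add x y _ _ hx hy => rw [smul_add, hx, hy, add_zero]
    | neg x _ hx => rw [smul_neg, hx, neg_zero]
  -- `T - 1` is surjective
  have hsurj : ∀ v : V, ∃ w : V, T w - w = v := by
    let W : AddSubgroup V :=
      { carrier := {v | T v = v}
        add_mem' := by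
          intro x y hx hy
          show T (x + y) = x + y
          rw [map_add, show T x = x from hx, show T y = y from hy]
        zero_mem' := map_zero T
        neg_mem' := by
          intro x hx
          show T (-x) = -x
          rw [map_neg, show T x = x from hx] }
    have hWmem : ∀ v, v ∈ W ↔ T v = v := fun _ => Iff.rfl
    have hW : W = ⊥ := by
      rcases h.irr W (fun w hw => by rw [hWmem] at hw ⊢; rw [hw]; exact hw) with h1 | h1
      · exact h1
      · exfalso
        obtain ⟨v, hv⟩ := h.ne
        exact hv ((hWmem v).1 (by rw [h1]; trivial))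
    have hinj : Function.Injective (fun w : V => T w - w) := by
      intro x y hxy
      have hmem : x - y ∈ W := by
        rw [hWmem, map_sub]
        exact sub_eq_sub_iff_sub_eq_sub.1 hxy
      rw [hW, AddSubgroup.mem_bot, sub_eq_zero] at hmem
      exact hmem
    exact Finite.injective_iff_surjective.1 hinj
  -- a hom killing `κ` is zero
  have hkey : ∀ g : M →+ ZMod p, (∀ u v, g (κ u v) = 0) → g = 0 := by
    intro g hg
    have hadd : ∀ u v, g (π (u + v)) = g (π u) + g (π v) := by
      intro u v
      rw [hπ, map_add, map_add, map_nsmul, hg, smul_zero, add_zero]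
    have hgπ : ∀ v, g (π v) = 0 := by
      intro v
      obtain ⟨w, rfl⟩ := hsurj v
      have h1 := hadd (T w - w) w
      rw [sub_add_cancel, hπT] at h1
      exact (add_eq_right.1 h1.symm)
    have hle : AddSubgroup.closure (Set.range (fun uv : V × V => κ uv.1 uv.2) ∪ Set.range π)
        ≤ g.ker := by
      rw [AddSubgroup.closure_le]
      rintro x (⟨⟨u, v⟩, rfl⟩ | ⟨v, rfl⟩)
      · exact hg u v
      · exact hgπ v
    rw [hgen] at hle
    ext n
    exact hle (AddSubgroup.mem_top n)
  have hInv : ∀ f : M →+ ZMod p, InvAlt p T (fun u v => f (κ u v)) := by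
    intro f
    refine ⟨fun u u' v => ?_, fun u v v' => ?_, fun v => ?_, fun u v => ?_⟩
    · show f (κ (u + u') v) = f (κ u v) + f (κ u' v)
      rw [hκl, map_add]
    · show f (κ u (v + v')) = f (κ u v) + f (κ u v')
      rw [hκr, map_add]
    · show f (κ v v) = 0
      rw [hκa, map_zero]
    · show f (κ (T u) (T v)) = f (κ u v)
      rw [hκT]
  have hcard := helper53_card_hom_zmod p hMexp
  refine ⟨fun ha n => ?_, fun ha => ?_⟩
  · have hall : ∀ f : M →+ ZMod p, f = 0 := by
      intro f
      apply hkey
      intro u v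
      have := hF.1 ha _ (hInv f)
      exact congrFun (congrFun this u) v
    haveI : Subsingleton (M →+ ZMod p) := ⟨fun f g => by rw [hall f, hall g]⟩
    have h1 : Nat.card M ≤ 1 := by
      rw [← hcard]
      exact Finite.card_le_one_iff_subsingleton.2 inferInstance
    haveI : Subsingleton M := Finite.card_le_one_iff_subsingleton.1 h1
    exact Subsingleton.elim n 0
  · rw [← hcard]
    refine le_trans ?_ (hF.2 ha)
    refine Nat.card_le_card_of_injective
      (fun f : M →+ ZMod p => (⟨fun u v => f (κ u v), hInv f⟩ : {β : V → V → ZMod p // InvAlt p T β})) ?_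
    intro f₁ f₂ h12
    have h12' : (fun u v => f₁ (κ u v)) = (fun u v => f₂ (κ u v)) := congrArg Subtype.val h12
    have : f₁ - f₂ = 0 := by
      apply hkey
      intro u v
      rw [AddMonoidHom.sub_apply, sub_eq_zero]
      exact congrFun (congrFun h12' u) v
    exact sub_eq_zero.1 this

end Cfsg.Agent.Lib.helper3.Gf
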