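import Cfsg.Prelude.Def_LocalStructure
import Cfsg.Agent.Lib.helper53.PCore
import Cfsg.Agent.Lib.helper53.Quot

set_option autoImplicit false

namespace Cfsg.Agent.Lib.helper53

open scoped commutatorElement Pointwise

variable {G : Type*} [Group G] {G' : Type*} [Group G']

theorem pResidual_map_le {p : ℕ} (f : G →* G') :
    (Cfsg.pResidual p G).map f ≤ Cfsg.pResidual p G' := by
  unfold Cfsg.pResidual
  rw [MonoidHom.map_closure]
  apply Subgroup.closure_mono
  rintro _ ⟨g, hg, rfl⟩
  exact Nat.Coprime.coprime_dvd_left (orderOf_map_dvd f g) hg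

theorem pResidual_le_map {p : ℕ} [Fact p.Prime] [Finite G] (f : G →* G')
    (hf : Function.Surjective f) : Cfsg.pResidual p G' ≤ (Cfsg.pResidual p G).map f := by
  have := pResidual_normal p G
  have : ((Cfsg.pResidual p G).map f).Normal := Subgroup.Normal.map inferInstance f hf
  apply pResidual_le_of_isPGroup_quotient
  intro x
  obtain ⟨y, rfl⟩ := QuotientGroup.mk_surjective x
  obtain ⟨g, rfl⟩ := hf y
  obtain ⟨k, hk⟩ := isPGroup_quotient_pResidual p G (QuotientGroup.mk g)
  refine ⟨k, ?_⟩
  rw [← QuotientGroup.mk_pow, QuotientGroup.eq_one_iff] at hk ⊢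
  rw [← map_pow]
  exact Subgroup.mem_map_of_mem f hk

theorem pResidual_map_eq {p : ℕ} [Fact p.Prime] [Finite G] (f : G →* G')
    (hf : Function.Surjective f) : (Cfsg.pResidual p G).map f = Cfsg.pResidual p G' :=
  le_antisymm (pResidual_map_le f) (pResidual_le_map f hf)

/-- `p`-closedness passes through surjections with `p`-group kernel, both ways. -/
theorem isPClosed_iff_of_surjective {p : ℕ} [Fact p.Prime] [Finite G] (f : G →* G')
    (hf : Function.Surjective f) (hk : IsPGroup p f.ker) :
    Cfsg.IsPClosed p G ↔ Cfsg.IsPClosed p G' := by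
  have : Finite G' := Finite.of_surjective f hf
  constructor
  · intro h
    obtain ⟨P⟩ : Nonempty (Sylow p G) := inferInstance
    apply isPClosed_of_normal_sylow (P.mapSurjective hf)
    rw [Sylow.coe_mapSurjective]
    exact Subgroup.Normal.map (h P) f hf
  · intro h P
    have h1 := h (P.mapSurjective hf)
    rw [Sylow.coe_mapSurjective] at h1
    have h2 : ((P : Subgroup G).map f).comap f = P := by
      rw [Subgroup.comap_map_eq]
      apply sup_eq_left.mpr
      exact (le_pCore (MonoidHom.normal_ker f) hk).trans (pCore_le_sylow P)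
    rw [← h2]
    exact Subgroup.Normal.comap h1 f

/-- For a homomorphism with `p`-group kernel, a subgroup is `p`-closed iff its image is. -/
theorem isPClosed_map_iff {p : ℕ} [Fact p.Prime] [Finite G] (f : G →* G')
    (hk : IsPGroup p f.ker) (N : Subgroup G) :
    Cfsg.IsPClosed p ↥N ↔ Cfsg.IsPClosed p ↥(N.map f) := by
  apply isPClosed_iff_of_surjective (f.subgroupMap N) (f.subgroupMap_surjective N)
  intro x
  have hx : ((x : ↥N) : G) ∈ f.ker := by
    have := x.2
    rw [MonoidHom.mem_ker] at this ⊢
    exact congrArg Subtype.val this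
  obtain ⟨k, hk'⟩ := hk ⟨_, hx⟩
  refine ⟨k, ?_⟩
  apply Subtype.ext
  apply Subtype.ext
  have := congrArg Subtype.val hk'
  simpa using this

/-- `O_p(H/D)` pulls back to `O_p(H)` for a normal `p`-subgroup `D`. -/
theorem comap_pCore_quotient {p : ℕ} (D : Subgroup G) [D.Normal] (hD : IsPGroup p D) :
    (Cfsg.pCore p (G ⧸ D)).comap (QuotientGroup.mk' D) = Cfsg.pCore p G := by
  apply le_antisymm
  · apply le_pCore
    · exact Subgroup.Normal.comap (pCore_normal p _) _
    · intro x
      obtain ⟨k, hk⟩ := pCore_isPGroup p (G ⧸ D) ⟨QuotientGroup.mk' D x.1, x.2⟩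
      have h1 : (x : G) ^ p ^ k ∈ D := by
        have := congrArg Subtype.val hk
        simp only [Subgroup.coe_pow, Subgroup.coe_one] at this
        rw [← map_pow] at this
        exact (QuotientGroup.eq_one_iff _).mp this
      obtain ⟨j, hj⟩ := hD ⟨_, h1⟩
      refine ⟨k + j, ?_⟩
      apply Subtype.ext
      have := congrArg Subtype.val hj
      simp only [Subgroup.coe_pow, Subgroup.coe_one] at this ⊢
      rw [pow_add, pow_mul]
      exact this
  · rw [← Subgroup.map_le_iff_le_comap]
    apply le_pCore
    · exact Subgroup.Normal.map (pCore_normal p G) _ (QuotientGroup.mk'_surjective D)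
    · exact (pCore_isPGroup p G).map _

theorem ker_mk'_isPGroup {p : ℕ} (D : Subgroup G) [D.Normal] (hD : IsPGroup p D) :
    IsPGroup p (QuotientGroup.mk' D).ker := by
  rw [QuotientGroup.ker_mk']; exact hD

/-- `H` is `p`-irreducible iff `H/D` is, for a normal `p`-subgroup `D`. -/
theorem isPIrreducible_quotient_iff {p : ℕ} [Fact p.Prime] [Finite G] (D : Subgroup G) [D.Normal]
    (hD : IsPGroup p D) : Cfsg.IsPIrreducible p G ↔ Cfsg.IsPIrreducible p (G ⧸ D) := by
  have hk := ker_mk'_isPGroup D hD
  have hsurj := QuotientGroup.mk'_surjective D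
  have hres := pResidual_map_eq (p := p) (QuotientGroup.mk' D) hsurj
  unfold Cfsg.IsPIrreducible
  rw [isPClosed_iff_of_surjective (QuotientGroup.mk' D) hsurj hk]
  apply and_congr_right
  intro _
  constructor
  · intro h Nb hNb hnc
    have := hNb
    have h1 : ¬ Cfsg.IsPClosed p ↥(Nb.comap (QuotientGroup.mk' D)) := by
      rw [isPClosed_map_iff (QuotientGroup.mk' D) hk, map_comap_mk']
      exact hnc
    have h2 := h _ (Subgroup.Normal.comap hNb _) h1
    rw [← hres, Subgroup.map_le_iff_le_comap]
    exact h2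
  · intro h N hN hnc
    have := hN
    have h1 : ¬ Cfsg.IsPClosed p ↥(N.map (QuotientGroup.mk' D)) := by
      rw [← isPClosed_map_iff (QuotientGroup.mk' D) hk]
      exact hnc
    have h2 := h _ (Subgroup.Normal.map hN _ hsurj) h1
    rw [← hres, Subgroup.map_le_iff_le_comap, comap_map_mk'] at h2
    exact pResidual_le_of_le_sup hD h2

/-- `H` is strongly `p`-irreducible iff `H/D` is, for a normal `p`-subgroup `D`. -/
theorem isStronglyPIrreducible_quotient_iff {p : ℕ} [Fact p.Prime] [Finite G] (D : Subgroup G)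
    [D.Normal] (hD : IsPGroup p D) :
    Cfsg.IsStronglyPIrreducible p G ↔ Cfsg.IsStronglyPIrreducible p (G ⧸ D) := by
  have hk := ker_mk'_isPGroup D hD
  have hsurj := QuotientGroup.mk'_surjective D
  have hres := pResidual_map_eq (p := p) (QuotientGroup.mk' D) hsurj
  have htop : (⊤ : Subgroup G).map (QuotientGroup.mk' D) = ⊤ := by
    rw [← MonoidHom.range_eq_map, MonoidHom.range_eq_top]; exact hsurj
  unfold Cfsg.IsStronglyPIrreducible
  rw [isPClosed_iff_of_surjective (QuotientGroup.mk' D) hsurj hk]
  apply and_congr_right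
  intro _
  constructor
  · intro h Nb hNb hnc
    have := hNb
    have h1 : ¬ ⁅Nb.comap (QuotientGroup.mk' D), (⊤ : Subgroup G)⁆ ≤ Cfsg.pCore p G := by
      intro hle
      apply hnc
      have h3 := Subgroup.map_mono (f := QuotientGroup.mk' D) hle
      rw [Subgroup.map_commutator, map_comap_mk', htop] at h3
      refine h3.trans ?_
      rw [Subgroup.map_le_iff_le_comap, comap_pCore_quotient D hD]
    have h2 := h _ (Subgroup.Normal.comap hNb _) h1
    rw [← hres, Subgroup.map_le_iff_le_comap]
    exact h2
  · intro h N hN hnc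
    have := hN
    have h1 : ¬ ⁅N.map (QuotientGroup.mk' D), (⊤ : Subgroup (G ⧸ D))⁆ ≤ Cfsg.pCore p (G ⧸ D) := by
      intro hle
      apply hnc
      rw [← htop, ← Subgroup.map_commutator, Subgroup.map_le_iff_le_comap,
        comap_pCore_quotient D hD] at hle
      exact hle
    have h2 := h _ (Subgroup.Normal.map hN _ hsurj) h1
    rw [← hres, Subgroup.map_le_iff_le_comap, comap_map_mk'] at h2
    exact pResidual_le_of_le_sup hD h2

end Cfsg.Agent.Lib.helper53
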