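import Mathlib

/-! S3806 split project (helper12), piece B1 (`exists_twoStep`): the two-step centralizer
`C_T(γ_{i+1}/γ_{i+3})` as a normal subgroup. -/

set_option autoImplicit false

namespace Cfsg.Agent.Lib.helper12.MC

open Subgroup
open scoped commutatorElement

/-- B1: the two-step centralizer `C_T(γ_{i+1}/γ_{i+3})` as a normal subgroup. -/
theorem exists_twoStep {T : Type*} [Group T] (i : ℕ) :
    ∃ C : Subgroup T, C.Normal ∧
      (∀ t : T, t ∈ C ↔ ∀ y ∈ (⊤ : Subgroup T).lowerCentralSeries i,
        ⁅y, t⁆ ∈ (⊤ : Subgroup T).lowerCentralSeries (i + 2)) ∧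
      (C = ⊤ → (⊤ : Subgroup T).lowerCentralSeries (i + 1) ≤
        (⊤ : Subgroup T).lowerCentralSeries (i + 2)) := by
  haveI hNn : ((⊤ : Subgroup T).lowerCentralSeries (i + 2)).Normal := inferInstance
  haveI hLn : ((⊤ : Subgroup T).lowerCentralSeries i).Normal := inferInstance
  haveI hmapn : (((⊤ : Subgroup T).lowerCentralSeries i).map
      (QuotientGroup.mk' ((⊤ : Subgroup T).lowerCentralSeries (i + 2)))).Normal :=
    Subgroup.Normal.map hLn _ (QuotientGroup.mk'_surjective _)
  have hmem : ∀ t : T, t ∈ (Subgroup.centralizer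
      ((((⊤ : Subgroup T).lowerCentralSeries i).map
        (QuotientGroup.mk' ((⊤ : Subgroup T).lowerCentralSeries (i + 2))) :
          Subgroup (T ⧸ (⊤ : Subgroup T).lowerCentralSeries (i + 2))) :
            Set (T ⧸ (⊤ : Subgroup T).lowerCentralSeries (i + 2)))).comap
        (QuotientGroup.mk' ((⊤ : Subgroup T).lowerCentralSeries (i + 2))) ↔
      ∀ y ∈ (⊤ : Subgroup T).lowerCentralSeries i,
        ⁅y, t⁆ ∈ (⊤ : Subgroup T).lowerCentralSeries (i + 2) := by
    intro t
    rw [Subgroup.mem_comap, Subgroup.mem_centralizer_iff]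
    constructor
    · intro h1 y hy
      have h2 := h1 _ (Subgroup.mem_map_of_mem
        (QuotientGroup.mk' ((⊤ : Subgroup T).lowerCentralSeries (i + 2))) hy)
      have h3 : (QuotientGroup.mk' ((⊤ : Subgroup T).lowerCentralSeries (i + 2))) ⁅y, t⁆ = 1 := by
        rw [map_commutatorElement, commutatorElement_eq_one_iff_commute]
        exact h2
      exact (QuotientGroup.eq_one_iff _).mp h3
    · intro h
      rintro _ ⟨y, hy, rfl⟩
      have h3 : (QuotientGroup.mk' ((⊤ : Subgroup T).lowerCentralSeries (i + 2))) ⁅y, t⁆ = 1 :=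
        (QuotientGroup.eq_one_iff _).mpr (h y hy)
      rw [map_commutatorElement, commutatorElement_eq_one_iff_commute] at h3
      exact h3
  refine ⟨_, ?_, hmem, ?_⟩
  · exact Subgroup.Normal.comap inferInstance _
  · intro hC
    rw [Subgroup.lowerCentralSeries_succ, Subgroup.commutator_le]
    intro y hy t _
    exact (hmem t).mp (by rw [hC]; trivial) y hy

end Cfsg.Agent.Lib.helper12.MC
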