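import Mathlib
import Cfsg.Agent.Lib.helper44.SL3Defs
import Cfsg.Agent.Lib.helper53.SL3SPAN

set_option autoImplicit false

namespace Cfsg.Agent.Lib.helper44.SL3

open Polynomial

-- C1a
theorem core1_z0 {G : Type*} [Group G] {F : Type*} [Field F] [Fintype F] {p : ℕ} [Fact p.Prime]
    [Algebra (ZMod p) F] (x y : F → G) (h g d : G) (ω κ : F) (hT : IsTor1 x y h g d ω κ)
    (hκ : Algebra.adjoin (ZMod p) {κ} = ⊤) :
    (∀ a, Commute (x a) (cm (x 1) (y 1))) ∧ (∀ a, Commute (y a) (cm (x 1) (y 1))) := by
  obtain ⟨z, hz⟩ : ∃ z, z = cm (x 1) (y 1) := ⟨_, rfl⟩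
  rw [← hz]
  have hzx : Commute (x 1) z := by rw [hz]; exact hT.z_x
  have hzy : Commute (y 1) z := by rw [hz]; exact hT.z_y
  have hzd : Commute d z := by rw [hz]; exact hT.z_d
  have hx0 : x 0 = 1 := by
    have h1 := hT.x_add 0 0
    rw [add_zero] at h1
    have h2 : x 0 * x 0 = x 0 * 1 := by rw [mul_one]; exact h1.symm
    exact mul_left_cancel h2
  have hy0 : y 0 = 1 := by
    have h1 := hT.y_add 0 0
    rw [add_zero] at h1
    have h2 : y 0 * y 0 = y 0 * 1 := by rw [mul_one]; exact h1.symm
    exact mul_left_cancel h2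
  have hxpow : ∀ n : ℕ, Commute (x (κ ^ n)) z := by
    intro n
    induction n with
    | zero => rw [pow_zero]; exact hzx
    | succ n ih =>
      rw [pow_succ', ← hT.d_x]
      exact (hzd.mul_left ih).mul_left hzd.inv_left
  have hypow : ∀ n : ℕ, Commute (y (κ ^ n)) z := by
    intro n
    induction n with
    | zero => rw [pow_zero]; exact hzy
    | succ n ih =>
      rw [pow_succ', ← hT.d_y]
      exact (hzd.inv_left.mul_left ih).mul_left hzd
  constructor
  · have key := span_mul (p := p) κ 1 hκ {a | Commute (x a) z}
      (by show Commute (x 0) z; rw [hx0]; exact Commute.one_left z)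
      (by
        intro a b ha hb
        show Commute (x (a + b)) z
        rw [hT.x_add]; exact Commute.mul_left ha hb)
      (by
        intro n
        show Commute (x (1 * κ ^ n)) z
        rw [one_mul]; exact hxpow n)
    intro a
    have h1 := key a
    rw [one_mul] at h1
    exact h1
  · have key := span_mul (p := p) κ 1 hκ {a | Commute (y a) z}
      (by show Commute (y 0) z; rw [hy0]; exact Commute.one_left z)
      (by
        intro a b ha hb
        show Commute (y (a + b)) z
        rw [hT.y_add]; exact Commute.mul_left ha hb)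
      (by
        intro n
        show Commute (y (1 * κ ^ n)) z
        rw [one_mul]; exact hypow n)
    intro a
    have h1 := key a
    rw [one_mul] at h1
    exact h1

end Cfsg.Agent.Lib.helper44.SL3
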