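import Mathlib
import Cfsg.Prelude.Def_Classical
import Cfsg.Agent.Lib.helper44.SUWDefs
import Cfsg.Agent.Lib.helper44.SUODefs
import Cfsg.Agent.Lib.helper9.SUWUMEM

set_option autoImplicit false

namespace Cfsg.Agent.Lib.helper44.SUW

open Matrix Cfsg

/-- OUMEM (M): reduce to `uMat_mem` (block diagonal) -/
theorem uoMat_mem {K : Type*} [Field K] [Fintype K] {q m : ℕ} (hK : Fintype.card K = q ^ 2)
    (σ : K →+* K) (hσ : ∀ x, σ x = x ^ q) (ε : K) (hε : ε * σ ε = -1)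
    (C : Matrix (Fin m) (Fin m) K) (hC : C ∈ skewH σ m) :
    (uoMat σ ε C).det = 1 ∧ ∀ u v : Fin (m + m + 1) → K,
      Cfsg.hermForm (m + m + 1) K q (uoMat σ ε C *ᵥ u) (uoMat σ ε C *ᵥ v) =
        Cfsg.hermForm (m + m + 1) K q u v := by
  classical
  obtain ⟨hdet, hform⟩ := uMat_mem hK σ hσ ε hε C hC
  obtain ⟨A, hA⟩ : ∃ A : Matrix (Fin m ⊕ Fin m) (Fin m ⊕ Fin m) K,
      A = Matrix.fromBlocks (1 + C) (σ ε • C) (ε • C) (1 - C) := ⟨_, rfl⟩
  have hU : uMat σ ε C = A.submatrix finSumFinEquiv.symm finSumFinEquiv.symm := by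
    rw [hA]; rfl
  have hUo : uoMat σ ε C
      = (Matrix.fromBlocks A 0 0 (1 : Matrix (Fin 1) (Fin 1) K)).submatrix (e3 m) (e3 m) := by
    rw [hA]; rfl
  have hdetA : A.det = 1 := by
    rw [hU, Matrix.det_submatrix_equiv_self] at hdet
    exact hdet
  have hAform : ∀ x₁ y₁ : Fin m ⊕ Fin m → K,
      ∑ a, (A *ᵥ x₁) a * ((A *ᵥ y₁) a) ^ q = ∑ a, x₁ a * (y₁ a) ^ q := by
    intro x₁ y₁
    have h := hform (x₁ ∘ finSumFinEquiv.symm) (y₁ ∘ finSumFinEquiv.symm)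
    unfold Cfsg.hermForm at h
    rw [hU, Matrix.submatrix_mulVec_equiv, Matrix.submatrix_mulVec_equiv] at h
    simp only [Function.comp_def, Equiv.symm_symm, Equiv.symm_apply_apply] at h
    rw [← Equiv.sum_comp finSumFinEquiv.symm (fun a => (A *ᵥ x₁) a * ((A *ᵥ y₁) a) ^ q),
      ← Equiv.sum_comp finSumFinEquiv.symm (fun a => x₁ a * (y₁ a) ^ q)]
    exact h
  refine ⟨?_, ?_⟩
  · rw [hUo, Matrix.det_submatrix_equiv_self, Matrix.det_fromBlocks_zero₂₁, hdetA, Matrix.det_one,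
      mul_one]
  · intro u v
    unfold Cfsg.hermForm
    rw [hUo, Matrix.submatrix_mulVec_equiv, Matrix.submatrix_mulVec_equiv]
    rw [Matrix.fromBlocks_mulVec, Matrix.fromBlocks_mulVec]
    simp only [Matrix.zero_mulVec, Matrix.one_mulVec, add_zero, zero_add, Function.comp_apply]
    rw [Equiv.sum_comp (e3 m) (fun y => Sum.elim _ _ y * Sum.elim _ _ y ^ q),
      ← Equiv.sum_comp (e3 m).symm (fun i => u i * v i ^ q),
      Fintype.sum_sum_type]
    conv_rhs => rw [Fintype.sum_sum_type]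
    simp only [Sum.elim_inl, Sum.elim_inr]
    rw [hAform]
    rfl

end Cfsg.Agent.Lib.helper44.SUW
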