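import Mathlib

set_option autoImplicit false

namespace Cfsg.Agent.Lib.helper45.PearlC

/-- C3 GENERATION (S/M). -/
theorem cg_centralizer {G : Type*} [Group G] [Finite G] (p : ℕ)
    (hstrict : ∀ A B : Subgroup G, A < B → p * Nat.card ↥A ≤ Nat.card ↥B)
    (E D : Subgroup G) (hDE : D ≤ E) (hidx : Nat.card ↥E ≤ p * Nat.card ↥D)
    (e : G) (he : e ∈ E) (heD : e ∉ D) (g : G)
    (hgD : ∀ d ∈ D, d * g = g * d) (hge : e * g = g * e) :
    g ∈ Subgroup.centralizer (E : Set G) := by
  have heK : e ∈ D ⊔ Subgroup.zpowers e :=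
    (le_sup_right : Subgroup.zpowers e ≤ D ⊔ Subgroup.zpowers e) (Subgroup.mem_zpowers e)
  have hlt : D < D ⊔ Subgroup.zpowers e := by
    refine lt_of_le_of_ne le_sup_left ?_
    intro h
    apply heD
    rw [h]
    exact heK
  have hKE : D ⊔ Subgroup.zpowers e ≤ E :=
    sup_le hDE ((Subgroup.zpowers_le).mpr he)
  have hcard : Nat.card ↥E ≤ Nat.card ↥(D ⊔ Subgroup.zpowers e) :=
    le_trans hidx (hstrict _ _ hlt)
  have hKeq : D ⊔ Subgroup.zpowers e = E := Subgroup.eq_of_le_of_card_ge hKE hcard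
  have hKc : D ⊔ Subgroup.zpowers e ≤ Subgroup.centralizer ({g} : Set G) := by
    refine sup_le ?_ ((Subgroup.zpowers_le).mpr ?_)
    · intro d hd
      rw [Subgroup.mem_centralizer_iff]
      intro h hh
      rw [Set.mem_singleton_iff] at hh
      subst hh
      exact (hgD d hd).symm
    · rw [Subgroup.mem_centralizer_iff]
      intro h hh
      rw [Set.mem_singleton_iff] at hh
      subst hh
      exact hge.symm
  rw [Subgroup.mem_centralizer_iff]
  intro h hh
  have h1 : h ∈ Subgroup.centralizer ({g} : Set G) := hKc (by rw [hKeq]; exact hh)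
  rw [Subgroup.mem_centralizer_iff] at h1
  exact (h1 g (Set.mem_singleton g)).symm

end Cfsg.Agent.Lib.helper45.PearlC
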