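import Mathlib
import Cfsg.Agent.Lib.helper45.RUDefs

set_option autoImplicit false

namespace Cfsg.Agent.Lib.helper45.RU

open Matrix Cfsg.Agent.Lib.helper44

variable {n : ℕ} {F : Type*} [Field F] {S : Set (Matrix (Fin n) (Fin n) F)}

/-- DM -/
theorem dm_mem (hn : 3 ≤ n) (hS : MatGrp S) (hJ : jm F n ∈ S) (c : F) (z o l' l : Fin n)
    (hz : z.val = 0) (ho : o.val = 1) (hl' : l'.val + 2 = n) (hl : l.val + 1 = n)
    (hv : vmat c z o l' l ∈ S) :
    1 + vecMulVec (((-1 : F) ^ (n - 1)) • altVec F n) (c • rowv F n 1)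
      - vecMulVec (Pi.single l 1) (c • Pi.single z 1) ∈ S := by
  apply hS.cancel_left hJ
  have hψ : rowv F n 1 = Pi.single z 1 + Pi.single o 1 := by
    have h := rowv_succ (F := F) (n := n) 0
    rw [zero_add] at h
    rw [h, rowv_zero z hz, single_vecMul_jm z o (by omega)]
  have hε : ((-1 : F) ^ (n - 1)) * ((-1 : F) ^ (n - 1)) = 1 := by
    rw [← pow_add]; exact Even.neg_one_pow ⟨n - 1, rfl⟩
  have hJa : jm F n *ᵥ (((-1 : F) ^ (n - 1)) • altVec F n) = Pi.single l 1 := by
    rw [Matrix.mulVec_smul, jm_mulVec_alt l hl, smul_smul, hε, one_smul]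
  have hJl : jm F n *ᵥ Pi.single l (1 : F) = Pi.single l 1 + Pi.single l' 1 :=
    jm_mulVec_single l l' (by omega)
  have hE1 : Matrix.single l o c = vecMulVec (Pi.single l 1) (c • Pi.single o 1) :=
    add_left_cancel (one_add_single_eq l o c)
  have hE2 : Matrix.single l' z c = vecMulVec (Pi.single l' 1) (c • Pi.single z 1) :=
    add_left_cancel (one_add_single_eq l' z c)
  have key : jm F n * (1 + vecMulVec (((-1 : F) ^ (n - 1)) • altVec F n) (c • rowv F n 1)
      - vecMulVec (Pi.single l 1) (c • Pi.single z 1)) = vmat c z o l' l := by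
    unfold vmat
    rw [mul_sub, mul_add, mul_one, Matrix.mul_vecMulVec, Matrix.mul_vecMulVec, hJa, hJl, hψ,
      hE1, hE2, smul_add, Matrix.vecMulVec_add, Matrix.add_vecMulVec]
    abel
  rw [key]; exact hv

end Cfsg.Agent.Lib.helper45.RU
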