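import Mathlib
import Cfsg.Prelude.Def_LinearParabolics
import Cfsg.Agent.Lib.helper45.SVDefs
import Cfsg.Agent.Lib.helper53.SV_CSUM

set_option autoImplicit false
open scoped MatrixGroups

namespace Cfsg.Agent.Lib.helper45.SV

/-- SUMN (S), racer copy. -/
theorem helper53_sum_compOf {n : ℕ} (D : Finset (Fin n)) (hD : D ∈ endSets n) :
    ∑ i, compOf D i = n := by
  have h := helper53_csum_lt D n le_rfl
  have h1 : Finset.univ.filter (fun k : Fin n => k.val < n) = Finset.univ := by
    ext k
    simp
  have h2 : D.filter (fun d => d.val < n) = D := by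
    ext k
    simp
  rw [h1, h2] at h
  rw [h]
  rcases Nat.eq_zero_or_pos n with rfl | hn
  · have : D = ∅ := by
      ext k
      exact Fin.elim0 k
    rw [this]
    simp
  · apply le_antisymm
    · apply Finset.sup_le
      intro b hb
      rw [Finset.mem_image] at hb
      obtain ⟨d, -, rfl⟩ := hb
      exact d.isLt
    · have hmem : (⟨n - 1, by omega⟩ : Fin n) ∈ D := by
        unfold endSets at hD
        rw [Finset.mem_filter] at hD
        exact hD.2 _ (by simp; omega)
      have hle := Finset.le_sup (f := id) (Finset.mem_image_of_mem (fun d : Fin n => d.val + 1) hmem)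
      simp only [id] at hle
      omega

end Cfsg.Agent.Lib.helper45.SV
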