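import Mathlib
import Cfsg.Agent.Lib.helper49.SPEDefs

set_option autoImplicit false

namespace Cfsg.Agent.Lib.helper49.SPE

open Matrix

/-- a double sum concentrated at one index pair -/
theorem helper53_sum_pair {F : Type*} [Field F] {n : ℕ} (a b : Fin n) (f : Fin n → Fin n → F) :
    ∑ i, ∑ j, (if i = a ∧ j = b then f i j else 0) = f a b := by
  rw [Finset.sum_eq_single a]
  · rw [Finset.sum_eq_single b]
    · simp
    · intro j _ hj
      simp [hj]
    · intro h; exact absurd (Finset.mem_univ b) h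
  · intro i _ hi
    apply Finset.sum_eq_zero
    intro j _
    simp [hi]
  · intro h; exact absurd (Finset.mem_univ a) h

/-- HNE (S/M) -/
theorem polar_ne {F : Type*} [Field F] {n : ℕ} (hn : 2 ≤ n) (y : Matrix (Fin n) (Fin n) F)
    (h : gam y (a01 F n) ≠ 0) : ∃ u v : Fin n → F, polar (qfy y) u v ≠ 0 := by
  classical
  obtain ⟨i0, hi0⟩ : ∃ i0 : Fin n, i0.1 = 0 := ⟨⟨0, by omega⟩, rfl⟩
  obtain ⟨i1, hi1⟩ : ∃ i1 : Fin n, i1.1 = 1 := ⟨⟨1, by omega⟩, rfl⟩
  have h01 : i0 ≠ i1 := by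
    intro hh
    rw [hh] at hi0
    omega
  have hle : i0 ≤ i1 := by
    rw [Fin.le_def]; omega
  have hnle : ¬ i1 ≤ i0 := by
    rw [Fin.le_def]; omega
  -- the pairing
  have hgam : gam y (a01 F n) = y i0 i1 := by
    unfold gam a01
    have e : ∀ i j : Fin n, upT y i j * (if (i.1 = 0 ∧ j.1 = 1) ∨ (i.1 = 1 ∧ j.1 = 0) then (1 : F) else 0)
        = (if i = i0 ∧ j = i1 then upT y i j else 0) + (if i = i1 ∧ j = i0 then upT y i j else 0) := by
      intro i j
      by_cases c1 : i = i0 ∧ j = i1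
      · have c2 : ¬ (i = i1 ∧ j = i0) := fun c => h01 (c1.1.symm.trans c.1)
        have c3 : (i.1 = 0 ∧ j.1 = 1) ∨ (i.1 = 1 ∧ j.1 = 0) := by
          left; rw [c1.1, c1.2]; exact ⟨hi0, hi1⟩
        rw [if_pos c1, if_neg c2, if_pos c3, mul_one, add_zero]
      · by_cases c2 : i = i1 ∧ j = i0
        · have c3 : (i.1 = 0 ∧ j.1 = 1) ∨ (i.1 = 1 ∧ j.1 = 0) := by
            right; rw [c2.1, c2.2]; exact ⟨hi1, hi0⟩
          rw [if_neg c1, if_pos c2, if_pos c3, mul_one, zero_add]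
        · have c3 : ¬ ((i.1 = 0 ∧ j.1 = 1) ∨ (i.1 = 1 ∧ j.1 = 0)) := by
            rintro (⟨ha, hb⟩ | ⟨ha, hb⟩)
            · exact c1 ⟨Fin.ext (ha.trans hi0.symm), Fin.ext (hb.trans hi1.symm)⟩
            · exact c2 ⟨Fin.ext (ha.trans hi1.symm), Fin.ext (hb.trans hi0.symm)⟩
          rw [if_neg c1, if_neg c2, if_neg c3, mul_zero, add_zero]
    simp only [e, Finset.sum_add_distrib]
    rw [helper53_sum_pair i0 i1 (upT y), helper53_sum_pair i1 i0 (upT y)]
    unfold upT
    rw [if_pos hle, if_neg hnle, add_zero]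
  refine ⟨Pi.single i0 1, Pi.single i1 1, ?_⟩
  have hpol : polar (qfy y) (Pi.single i0 1) (Pi.single i1 1) = y i0 i1 := by
    unfold polar qfy
    rw [← Finset.sum_sub_distrib, ← Finset.sum_sub_distrib]
    have e : ∀ i : Fin n,
        (∑ j, upT y i j * ((Pi.single i0 1 + Pi.single i1 1 : Fin n → F) i)
            * ((Pi.single i0 1 + Pi.single i1 1 : Fin n → F) j)
          - ∑ j, upT y i j * (Pi.single i0 1 : Fin n → F) i * (Pi.single i0 1 : Fin n → F) j)
          - ∑ j, upT y i j * (Pi.single i1 1 : Fin n → F) i * (Pi.single i1 1 : Fin n → F) j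
        = ∑ j, ((if i = i0 ∧ j = i1 then upT y i j else 0)
            + (if i = i1 ∧ j = i0 then upT y i j else 0)) := by
      intro i
      rw [← Finset.sum_sub_distrib, ← Finset.sum_sub_distrib]
      refine Finset.sum_congr rfl (fun j _ => ?_)
      simp only [Pi.add_apply, Pi.single_apply]
      by_cases a0 : i = i0 <;> by_cases a1 : i = i1 <;> by_cases b0 : j = i0 <;> by_cases b1 : j = i1 <;>
        simp [a0, a1, b0, b1, h01, h01.symm]
    simp only [e, Finset.sum_add_distrib]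
    rw [helper53_sum_pair i0 i1 (upT y), helper53_sum_pair i1 i0 (upT y)]
    unfold upT
    rw [if_pos hle, if_neg hnle, add_zero]
  rw [hpol, ← hgam]
  exact h

end Cfsg.Agent.Lib.helper49.SPE
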