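import Cfsg.Prelude.Def_LocalStructure
import Cfsg.Agent.Lib.helper51.Amalgam
import Cfsg.Agent.Lib.helper53.PCore
import Cfsg.Agent.Lib.helper53.Comm

set_option autoImplicit false

namespace Cfsg.Agent.Lib.helper53

open Cfsg

open scoped commutatorElement

section AmalgamV

variable {X : Type*} [Group X] {p : ℕ} {M₁ M₂ : Subgroup X}

/-! ### The action on the coset graph preserves distances -/

theorem cosetGraph_dist_smul_le (hconn : (cosetGraph M₁ M₂).Connected) (g : X)
    (a b : CosetVertex M₁ M₂) :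
    (cosetGraph M₁ M₂).dist (g • a) (g • b) ≤ (cosetGraph M₁ M₂).dist a b := by
  obtain ⟨w, hw⟩ := hconn.exists_walk_length_eq_dist a b
  have h1 := SimpleGraph.dist_le (w.map (helper51.smulHom g))
  rw [SimpleGraph.Walk.length_map, hw] at h1
  exact h1

theorem cosetGraph_dist_smul (hconn : (cosetGraph M₁ M₂).Connected) (g : X)
    (a b : CosetVertex M₁ M₂) :
    (cosetGraph M₁ M₂).dist (g • a) (g • b) = (cosetGraph M₁ M₂).dist a b := by
  apply le_antisymm (cosetGraph_dist_smul_le hconn g a b)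
  have h1 := cosetGraph_dist_smul_le hconn g⁻¹ (g • a) (g • b)
  rwa [inv_smul_smul, inv_smul_smul] at h1

/-! ### Equivariance of `Z_δ` and `V_δ^{(n)}` -/

theorem isSylowIn_conj [Fact p.Prime] {T H : Subgroup X} [Finite H]
    (hT : helper51.IsSylowIn p T H) (g : X) :
    helper51.IsSylowIn p (T.map (MulAut.conj g).toMonoidHom)
      (H.map (MulAut.conj g).toMonoidHom) := by
  haveI : Finite ↥(H.map (MulAut.conj g).toMonoidHom) :=
    Finite.of_equiv _ (H.equivMapOfInjective _ (MulAut.conj g).injective).toEquiv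
  refine helper51.isSylowIn_of_card (Subgroup.map_mono hT.le) ?_
  rw [Subgroup.card_map_of_injective (MulAut.conj g).injective,
    Subgroup.card_map_of_injective (MulAut.conj g).injective, hT.card]

theorem sylowCenterClosure_conj_le [Fact p.Prime] (H : Subgroup X) [Finite H] (g : X) :
    (sylowCenterClosure p H).map (MulAut.conj g).toMonoidHom ≤
      sylowCenterClosure p (H.map (MulAut.conj g).toMonoidHom) := by
  rw [Subgroup.map_le_iff_le_comap]
  apply helper51.sylowCenterClosure_le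
  intro T hT
  rw [← Subgroup.map_le_iff_le_comap, helper51.omegaOne_map_equiv,
    Subgroup.map_inf_eq _ _ _ (MulAut.conj g).injective, helper51.centralizer_map_equiv]
  exact helper51.le_sylowCenterClosure (isSylowIn_conj hT g)

theorem sylowCenterClosure_conj [Fact p.Prime] (H : Subgroup X) [Finite H] (g : X) :
    sylowCenterClosure p (H.map (MulAut.conj g).toMonoidHom) =
      (sylowCenterClosure p H).map (MulAut.conj g).toMonoidHom := by
  apply le_antisymm _ (sylowCenterClosure_conj_le H g)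
  haveI : Finite ↥(H.map (MulAut.conj g).toMonoidHom) :=
    Finite.of_equiv _ (H.equivMapOfInjective _ (MulAut.conj g).injective).toEquiv
  have h1 := sylowCenterClosure_conj_le (p := p) (H.map (MulAut.conj g).toMonoidHom) g⁻¹
  rw [conj_conj, inv_mul_cancel, conj_one] at h1
  have h2 := conj_mono h1 g
  rwa [conj_conj, mul_inv_cancel, conj_one] at h2

theorem vertexZ_smul [Fact p.Prime] (h : IsCharPAmalgamPair p M₁ M₂) (g : X)
    (δ : CosetVertex M₁ M₂) :
    vertexZ p (g • δ) = (vertexZ p δ).map (MulAut.conj g).toMonoidHom := by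
  haveI := helper51.finite_stab h δ
  show sylowCenterClosure p (MulAction.stabilizer X (g • δ)) = _
  rw [MulAction.stabilizer_smul_eq_stabilizer_map_conj]
  exact sylowCenterClosure_conj _ g

theorem le_vertexVIter {n : ℕ} {δ ν : CosetVertex M₁ M₂}
    (hν : (cosetGraph M₁ M₂).dist δ ν ≤ n) : vertexZ p ν ≤ vertexVIter p M₁ M₂ n δ := by
  unfold vertexVIter
  exact le_iSup (fun μ : {μ : CosetVertex M₁ M₂ // (cosetGraph M₁ M₂).dist δ μ ≤ n} =>
    vertexZ p (μ : CosetVertex M₁ M₂)) ⟨ν, hν⟩

theorem vertexVIter_le {n : ℕ} {δ : CosetVertex M₁ M₂} {K : Subgroup X}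
    (hK : ∀ ν : CosetVertex M₁ M₂, (cosetGraph M₁ M₂).dist δ ν ≤ n → vertexZ p ν ≤ K) :
    vertexVIter p M₁ M₂ n δ ≤ K := by
  unfold vertexVIter
  exact iSup_le (fun μ => hK μ.1 μ.2)

theorem vertexVIter_smul_le [Fact p.Prime] (h : IsCharPAmalgamPair p M₁ M₂) (g : X) (n : ℕ)
    (δ : CosetVertex M₁ M₂) :
    (vertexVIter p M₁ M₂ n δ).map (MulAut.conj g).toMonoidHom ≤
      vertexVIter p M₁ M₂ n (g • δ) := by
  have hconn := helper51.cosetGraph_connected h.1.1
  rw [Subgroup.map_le_iff_le_comap]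
  apply vertexVIter_le
  intro ν hν
  rw [← Subgroup.map_le_iff_le_comap, ← vertexZ_smul h g ν]
  exact le_vertexVIter (by rw [cosetGraph_dist_smul hconn]; exact hν)

theorem stab_le_normalizer_vertexVIter [Fact p.Prime] (h : IsCharPAmalgamPair p M₁ M₂) (n : ℕ)
    (δ : CosetVertex M₁ M₂) :
    MulAction.stabilizer X δ ≤ Subgroup.normalizer (vertexVIter p M₁ M₂ n δ : Set X) := by
  apply helper51.le_normalizer_of_map_conj_le
  intro g hg
  have h1 := vertexVIter_smul_le h g n δ
  rwa [MulAction.mem_stabilizer_iff.mp hg] at h1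

theorem vertexVIter_le_vertexVIter (hconn : (cosetGraph M₁ M₂).Connected)
    {a b : CosetVertex M₁ M₂} {m n : ℕ} (hd : (cosetGraph M₁ M₂).dist a b + m ≤ n) :
    vertexVIter p M₁ M₂ m b ≤ vertexVIter p M₁ M₂ n a := by
  apply vertexVIter_le
  intro ν hν
  apply le_vertexVIter
  have h1 : (cosetGraph M₁ M₂).dist a ν ≤
      (cosetGraph M₁ M₂).dist a b + (cosetGraph M₁ M₂).dist b ν := hconn.dist_triangle
  omega

/-- `V_λ^{(n)}` is generated by the `G_λ`-conjugates of `V_μ^{(n-1)}`, `μ` a neighbour of `λ`. -/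
theorem vertexVIter_le_of_stab_le_normalizer [Fact p.Prime] (h : IsCharPAmalgamPair p M₁ M₂)
    {lam μ : CosetVertex M₁ M₂} (hadj : (cosetGraph M₁ M₂).Adj lam μ) {n : ℕ} (hn : 1 ≤ n)
    {U : Subgroup X} (hWU : vertexVIter p M₁ M₂ (n - 1) μ ≤ U)
    (hU : MulAction.stabilizer X lam ≤ Subgroup.normalizer (U : Set X)) :
    vertexVIter p M₁ M₂ n lam ≤ U := by
  have hconn := helper51.cosetGraph_connected h.1.1
  haveI := helper51.finite_stab h lam
  apply vertexVIter_le
  intro ν hν
  rcases Nat.eq_zero_or_pos ((cosetGraph M₁ M₂).dist lam ν) with h0 | hpos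
  · have hlν : lam = ν := hconn.dist_eq_zero_iff.mp h0
    subst hlν
    obtain ⟨T, hT⟩ := helper51.exists_isSylowIn p
      (MulAction.stabilizer X lam ⊓ MulAction.stabilizer X μ)
    obtain ⟨hT1, hT2⟩ := helper51.edge_sylow h hadj hT
    apply helper51.sylowCenterClosure_le
    intro T' hT'
    obtain ⟨g, hg, rfl⟩ := hT1.exists_conj hT'
    have hZμ : vertexZ p μ ≤ vertexVIter p M₁ M₂ (n - 1) μ :=
      le_vertexVIter (by rw [SimpleGraph.dist_self]; exact Nat.zero_le _)
    have h1 : omegaOne p (T ⊓ Subgroup.centralizer (T : Set X)) ≤ U :=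
      (helper51.le_sylowCenterClosure hT2).trans (hZμ.trans hWU)
    have h2 := conj_mono h1 g
    rw [helper51.omegaOne_map_equiv, Subgroup.map_inf_eq _ _ _ (MulAut.conj g).injective,
      helper51.centralizer_map_equiv, conj_eq_self_of_mem_normalizer (hU hg)] at h2
    exact h2
  · obtain ⟨k, hk⟩ : ∃ k, (cosetGraph M₁ M₂).dist lam ν = k + 1 :=
      ⟨(cosetGraph M₁ M₂).dist lam ν - 1, by omega⟩
    obtain ⟨w, hw, hwd⟩ := helper51.exists_adj_dist_eq hconn hk
    obtain ⟨g, hg, rfl⟩ := helper51.exists_stab_smul_eq hadj hw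
    have hd : (cosetGraph M₁ M₂).dist μ (g⁻¹ • ν) ≤ n - 1 := by
      rw [← cosetGraph_dist_smul hconn g, smul_inv_smul]
      omega
    have h1 : vertexZ p (g⁻¹ • ν) ≤ U := (le_vertexVIter hd).trans hWU
    have h2 := conj_mono h1 g
    rw [← vertexZ_smul h, smul_inv_smul, conj_eq_self_of_mem_normalizer (hU hg)] at h2
    exact h2

/-! ### `Z_δ ≠ 1` -/

theorem inf_centralizer_ne_bot_of_isPGroup [Fact p.Prime] {T : Subgroup X} [Finite T]
    (hT : IsPGroup p T) (hne : T ≠ ⊥) : T ⊓ Subgroup.centralizer (T : Set X) ≠ ⊥ := by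
  haveI : Nontrivial ↥T := (Subgroup.nontrivial_iff_ne_bot T).mpr hne
  haveI := hT.center_nontrivial
  obtain ⟨z, hz⟩ := exists_ne (1 : ↥(Subgroup.center ↥T))
  intro hbot
  apply hz
  have h1 : ((z : ↥T) : X) ∈ T ⊓ Subgroup.centralizer (T : Set X) := by
    refine Subgroup.mem_inf.mpr ⟨(z : ↥T).2, ?_⟩
    rw [Subgroup.mem_centralizer_iff]
    intro t ht
    have h2 := (Subgroup.mem_center_iff.mp z.2) ⟨t, ht⟩
    exact congrArg Subtype.val h2
  rw [hbot, Subgroup.mem_bot] at h1
  exact Subtype.ext (Subtype.ext h1)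

theorem vertexZ_ne_bot [Fact p.Prime] (h : IsCharPAmalgamPair p M₁ M₂)
    (δ : CosetVertex M₁ M₂) : vertexZ p δ ≠ ⊥ := by
  haveI := helper51.finite_stab h δ
  have hp : p.Prime := Fact.out
  obtain ⟨T, hT⟩ := helper51.exists_isSylowIn p (MulAction.stabilizer X δ)
  have hdvd : p ∣ Nat.card ↥(MulAction.stabilizer X δ) := by
    obtain ⟨-, -, -, hd1, hd2, -⟩ := h
    rcases helper51.vertex_cases δ with ⟨x, rfl⟩ | ⟨x, rfl⟩
    · rw [← Nat.card_congr (helper51.stabEquivInl M₁ M₂ x).toEquiv]; exact hd1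
    · rw [← Nat.card_congr (helper51.stabEquivInr M₁ M₂ x).toEquiv]; exact hd2
  haveI : Finite ↥T := Finite.of_injective _ (Subgroup.inclusion_injective hT.le)
  have hTne : T ≠ ⊥ := by
    intro hT0
    have hc := hT.card
    rw [hT0, Subgroup.card_bot] at hc
    have h0 : (Nat.card ↥(MulAction.stabilizer X δ)).factorization p = 0 := by
      by_contra hne
      have : 1 < p ^ (Nat.card ↥(MulAction.stabilizer X δ)).factorization p :=
        Nat.one_lt_pow hne hp.one_lt
      omega
    have h1 : 0 < (Nat.card ↥(MulAction.stabilizer X δ)).factorization p :=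
      hp.factorization_pos_of_dvd Nat.card_pos.ne' hdvd
    omega
  have hZT := inf_centralizer_ne_bot_of_isPGroup hT.isPGroup hTne
  intro hbot
  have h1 := helper51.le_sylowCenterClosure hT
  have h2 : omegaOne p (T ⊓ Subgroup.centralizer (T : Set X)) = ⊥ := by
    rw [eq_bot_iff]
    exact h1.trans hbot.le
  exact hZT (helper51.eq_bot_of_omegaOne_eq_bot (hT.isPGroup.to_le inf_le_left) h2)

/-! ### The key contradiction -/

theorem vertexVIter_not_le [Fact p.Prime] (h : IsCharPAmalgamPair p M₁ M₂)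
    {lam μ : CosetVertex M₁ M₂} (hadj : (cosetGraph M₁ M₂).Adj lam μ) {n : ℕ} (hn : 1 ≤ n)
    (hVQ : vertexVIter p M₁ M₂ n lam ≤ vertexQ p lam)
    (hle : vertexVIter p M₁ M₂ n lam ≤ vertexVIter p M₁ M₂ (n - 1) μ) : False := by
  have hconn := helper51.cosetGraph_connected h.1.1
  have hd1 : (cosetGraph M₁ M₂).dist lam μ = 1 := SimpleGraph.dist_eq_one_iff_adj.mpr hadj
  have heq : vertexVIter p M₁ M₂ n lam = vertexVIter p M₁ M₂ (n - 1) μ :=
    le_antisymm hle (vertexVIter_le_vertexVIter hconn (by omega))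
  have hN1 := stab_le_normalizer_vertexVIter h n lam
  have hN2 := stab_le_normalizer_vertexVIter h (n - 1) μ
  rw [← heq] at hN2
  have hnorm : (vertexVIter p M₁ M₂ n lam).Normal := by
    rw [← Subgroup.normalizer_eq_top_iff]
    exact top_le_iff.mp ((helper51.edge_sup_eq_top h.1.1 hadj).ge.trans (sup_le hN1 hN2))
  have hle2 : vertexVIter p M₁ M₂ n lam ≤
      MulAction.stabilizer X lam ⊓ MulAction.stabilizer X μ :=
    hVQ.trans (le_inf (helper51.pCoreOf_le p _)
      ((helper51.vertexQ_le_neighbourKernel h lam).trans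
        (helper51.neighbourKernel_le_of_adj hadj)))
  have hbot := helper51.edge_core_free h.1.2.2.2 hadj _ hle2 hnorm
  have hZ : vertexZ p lam ≤ vertexVIter p M₁ M₂ n lam :=
    le_vertexVIter (by rw [SimpleGraph.dist_self]; exact Nat.zero_le _)
  apply vertexZ_ne_bot h lam
  rw [eq_bot_iff]
  exact hZ.trans hbot.le

/-! ### Frattini: `G_λ` normalizes what `O^p(L_λ)` and the edge stabilizer normalize -/

theorem stab_le_normalizer_of_residual [Fact p.Prime] (h : IsSpeAmalgamPair p M₁ M₂)
    {lam μ : CosetVertex M₁ M₂} (hadj : (cosetGraph M₁ M₂).Adj lam μ) {U : Subgroup X}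
    (hR : (pResidual p ↥(pElementClosure p (MulAction.stabilizer X lam))).map
        (pElementClosure p (MulAction.stabilizer X lam)).subtype ≤
      Subgroup.normalizer (U : Set X))
    (hE : MulAction.stabilizer X lam ⊓ MulAction.stabilizer X μ ≤
      Subgroup.normalizer (U : Set X)) :
    MulAction.stabilizer X lam ≤ Subgroup.normalizer (U : Set X) := by
  have hcp := h.1
  haveI := helper51.finite_stab hcp lam
  obtain ⟨T, hT⟩ := helper51.exists_isSylowIn p
    (MulAction.stabilizer X lam ⊓ MulAction.stabilizer X μ)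
  obtain ⟨hT1, hT2⟩ := helper51.edge_sylow hcp hadj hT
  have hspe := helper51.spe_edge h hadj hT
  have hLG : pElementClosure p (MulAction.stabilizer X lam) ≤ MulAction.stabilizer X lam :=
    helper51.pElementClosure_le p _
  haveI : Finite ↥(pElementClosure p (MulAction.stabilizer X lam)) :=
    Finite.of_injective _ (Subgroup.inclusion_injective hLG)
  have hTL : T ≤ pElementClosure p (MulAction.stabilizer X lam) :=
    helper51.le_pElementClosure hT1.le hT1.isPGroup
  obtain ⟨P, hP⟩ := hT1.of_le hTL hLG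
  have h1 : (pResidual p ↥(pElementClosure p (MulAction.stabilizer X lam)) ⊔
      (P : Subgroup ↥(pElementClosure p (MulAction.stabilizer X lam)))).map
        (pElementClosure p (MulAction.stabilizer X lam)).subtype =
      pElementClosure p (MulAction.stabilizer X lam) := by
    rw [pResidual_sup_sylow P, ← MonoidHom.range_eq_map, Subgroup.range_subtype]
  rw [Subgroup.map_sup, ← hP] at h1
  have hLN : pElementClosure p (MulAction.stabilizer X lam) ≤
      Subgroup.normalizer (U : Set X) := by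
    rw [← h1]
    exact sup_le hR (hT.le.trans hE)
  refine (helper51.le_pElementClosure_sup_normalizer hT1).trans (sup_le hLN ?_)
  refine le_trans (le_inf inf_le_left ?_) hE
  rw [hspe]
  exact inf_le_left

theorem le_normalizer_of_commutator_le_self {U R : Subgroup X} (h : ⁅U, R⁆ ≤ U) :
    R ≤ Subgroup.normalizer (U : Set X) := by
  apply helper51.le_normalizer_of_map_conj_le
  intro r hr
  rw [conj_le_iff]
  intro u hu
  have h1 : ⁅u, r⁆ ∈ U := h (Subgroup.commutator_mem_commutator hu hr)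
  have h2 : r * u * r⁻¹ = ⁅u, r⁆⁻¹ * u := by
    rw [commutatorElement_def]; group
  rw [h2]
  exact U.mul_mem (U.inv_mem h1) hu

/-! ### A nilpotent non-generator lemma -/

theorem le_of_le_sup_commutator_of_isNilpotent {Q V W : Subgroup X}
    [hQ : Group.IsNilpotent ↥Q] (hVQ : V ≤ Q) (hWV : W ≤ V)
    (hQW : Q ≤ Subgroup.normalizer (W : Set X)) (h : V ≤ W ⊔ ⁅V, Q⁆) : V ≤ W := by
  have key : ∀ i : ℕ, V ≤ W ⊔ Q.lowerCentralSeries i := by
    intro i
    induction i with
    | zero => exact hVQ.trans le_sup_right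
    | succ i ih =>
      refine h.trans (sup_le le_sup_left ?_)
      rw [Subgroup.commutator_le]
      intro v hv q hq
      have hWD : W ≤ Subgroup.normalizer ((Q.lowerCentralSeries i : Subgroup X) : Set X) :=
        (hWV.trans hVQ).trans (Q.self_le_normalizer_lowerCentralSeries i)
      have hv' := ih hv
      rw [sup_comm, mem_sup_of_le_normalizer' hWD] at hv'
      obtain ⟨w, hw, u, hu, rfl⟩ := hv'
      have h1 : ⁅w * u, q⁆ = (w * ⁅u, q⁆ * w⁻¹) * ⁅w, q⁆ := by
        simp only [commutatorElement_def]; group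
      rw [h1]
      refine Subgroup.mul_mem _ (Subgroup.mem_sup_right ?_) (Subgroup.mem_sup_left ?_)
      · have h2 : ⁅u, q⁆ ∈ Q.lowerCentralSeries (i + 1) := by
          rw [Subgroup.lowerCentralSeries_succ]
          exact Subgroup.commutator_mem_commutator hu hq
        have hwQ : w ∈ Q := hVQ (hWV hw)
        exact (Subgroup.mem_normalizer_iff.mp
          (Q.self_le_normalizer_lowerCentralSeries (i + 1) hwQ) _).mp h2
      · have h3 : q * w⁻¹ * q⁻¹ ∈ W :=
          (Subgroup.mem_normalizer_iff.mp (hQW hq) _).mp (W.inv_mem hw)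
        have h4 : ⁅w, q⁆ = w * (q * w⁻¹ * q⁻¹) := by
          rw [commutatorElement_def]; group
        rw [h4]
        exact W.mul_mem hw h3
  obtain ⟨n, hn⟩ := (Subgroup.isNilpotent_iff_lowerCentralSeries Q).mp hQ
  have h1 := key n
  rw [hn, sup_bot_eq] at h1
  exact h1

/-! ### The two statements -/

theorem exists_adj (lam : CosetVertex M₁ M₂) : ∃ μ, (cosetGraph M₁ M₂).Adj lam μ := by
  rcases helper51.vertex_cases lam with ⟨x, rfl⟩ | ⟨x, rfl⟩
  · exact ⟨_, helper51.adj_inl_inr x⟩
  · exact ⟨_, helper51.adj_inr_inl x⟩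

/-- `O^p(L_λ)` does not centralize `V_λ^{(n)} / V_λ^{(n-2)}`. -/
theorem vertexVIter_commutator_not_le_sub_two [Fact p.Prime] (h : IsSpeAmalgamPair p M₁ M₂)
    (lam : CosetVertex M₁ M₂) (n : ℕ) (hn : 2 ≤ n)
    (hVQ : vertexVIter p M₁ M₂ n lam ≤ vertexQ p lam) :
    ¬ ⁅vertexVIter p M₁ M₂ n lam,
        (pResidual p ↥(pElementClosure p (MulAction.stabilizer X lam))).map
          (pElementClosure p (MulAction.stabilizer X lam)).subtype⁆ ≤
      vertexVIter p M₁ M₂ (n - 2) lam := by
  intro hcon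
  have hcp := h.1
  have hconn := helper51.cosetGraph_connected hcp.1.1
  obtain ⟨μ, hadj⟩ := exists_adj lam
  have hd1 : (cosetGraph M₁ M₂).dist lam μ = 1 := SimpleGraph.dist_eq_one_iff_adj.mpr hadj
  have hd1' : (cosetGraph M₁ M₂).dist μ lam = 1 :=
    SimpleGraph.dist_eq_one_iff_adj.mpr hadj.symm
  have hWV : vertexVIter p M₁ M₂ (n - 1) μ ≤ vertexVIter p M₁ M₂ n lam :=
    vertexVIter_le_vertexVIter hconn (by omega)
  have hV2W : vertexVIter p M₁ M₂ (n - 2) lam ≤ vertexVIter p M₁ M₂ (n - 1) μ :=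
    vertexVIter_le_vertexVIter hconn (by omega)
  have hR : (pResidual p ↥(pElementClosure p (MulAction.stabilizer X lam))).map
        (pElementClosure p (MulAction.stabilizer X lam)).subtype ≤
      Subgroup.normalizer (vertexVIter p M₁ M₂ (n - 1) μ : Set X) := by
    apply le_normalizer_of_commutator_le_self
    exact ((Subgroup.commutator_mono hWV le_rfl).trans hcon).trans hV2W
  have hE : MulAction.stabilizer X lam ⊓ MulAction.stabilizer X μ ≤
      Subgroup.normalizer (vertexVIter p M₁ M₂ (n - 1) μ : Set X) :=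
    inf_le_right.trans (stab_le_normalizer_vertexVIter hcp (n - 1) μ)
  have hG := stab_le_normalizer_of_residual h hadj hR hE
  have hle := vertexVIter_le_of_stab_le_normalizer hcp hadj (by omega : 1 ≤ n) le_rfl hG
  exact vertexVIter_not_le hcp hadj (by omega) hVQ hle

/-- `O^p(L_λ)` does not centralize `V_λ^{(n)} / [V_λ^{(n)}, Q_λ]`. -/
theorem vertexVIter_commutator_not_le_commutator [Fact p.Prime] (h : IsSpeAmalgamPair p M₁ M₂)
    (lam : CosetVertex M₁ M₂) (n : ℕ) (hn : 1 ≤ n)
    (hVQ : vertexVIter p M₁ M₂ n lam ≤ vertexQ p lam) :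
    ¬ ⁅vertexVIter p M₁ M₂ n lam,
        (pResidual p ↥(pElementClosure p (MulAction.stabilizer X lam))).map
          (pElementClosure p (MulAction.stabilizer X lam)).subtype⁆ ≤
      ⁅vertexVIter p M₁ M₂ n lam, vertexQ p lam⁆ := by
  intro hcon
  have hcp := h.1
  have hconn := helper51.cosetGraph_connected hcp.1.1
  haveI := helper51.finite_stab hcp lam
  obtain ⟨μ, hadj⟩ := exists_adj lam
  have hd1 : (cosetGraph M₁ M₂).dist lam μ = 1 := SimpleGraph.dist_eq_one_iff_adj.mpr hadj
  have hWV : vertexVIter p M₁ M₂ (n - 1) μ ≤ vertexVIter p M₁ M₂ n lam :=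
    vertexVIter_le_vertexVIter hconn (by omega)
  have hNV := stab_le_normalizer_vertexVIter hcp n lam
  have hQG : vertexQ p lam ≤ MulAction.stabilizer X lam := helper51.pCoreOf_le p _
  have hQE : vertexQ p lam ≤ MulAction.stabilizer X lam ⊓ MulAction.stabilizer X μ :=
    le_inf hQG ((helper51.vertexQ_le_neighbourKernel hcp lam).trans
      (helper51.neighbourKernel_le_of_adj hadj))
  have hCV : ⁅vertexVIter p M₁ M₂ n lam, vertexQ p lam⁆ ≤ vertexVIter p M₁ M₂ n lam :=
    commutator_le_left_of_le_normalizer (hQG.trans hNV)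
  have hUV : vertexVIter p M₁ M₂ (n - 1) μ ⊔ ⁅vertexVIter p M₁ M₂ n lam, vertexQ p lam⁆ ≤
      vertexVIter p M₁ M₂ n lam := sup_le hWV hCV
  have hNQ : MulAction.stabilizer X lam ≤ Subgroup.normalizer (vertexQ p lam : Set X) :=
    helper51.le_normalizer_of_map_conj_le (fun g hg => by
      rw [conj_le_iff]
      rintro _ ⟨y, hy, rfl⟩
      have h1 : (⟨g, hg⟩ : ↥(MulAction.stabilizer X lam)) * y *
          (⟨g, hg⟩ : ↥(MulAction.stabilizer X lam))⁻¹ ∈ pCore p ↥(MulAction.stabilizer X lam) :=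
        (pCore_normal p ↥(MulAction.stabilizer X lam)).conj_mem y hy _
      exact ⟨_, h1, rfl⟩)
  have hNC : MulAction.stabilizer X lam ≤ Subgroup.normalizer
      ((⁅vertexVIter p M₁ M₂ n lam, vertexQ p lam⁆ : Subgroup X) : Set X) :=
    fun g hg => mem_normalizer_commutator (hNV hg) (hNQ hg)
  have hR : (pResidual p ↥(pElementClosure p (MulAction.stabilizer X lam))).map
        (pElementClosure p (MulAction.stabilizer X lam)).subtype ≤
      Subgroup.normalizer ((vertexVIter p M₁ M₂ (n - 1) μ ⊔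
        ⁅vertexVIter p M₁ M₂ n lam, vertexQ p lam⁆ : Subgroup X) : Set X) := by
    apply le_normalizer_of_commutator_le_self
    exact ((Subgroup.commutator_mono hUV le_rfl).trans hcon).trans le_sup_right
  have hE : MulAction.stabilizer X lam ⊓ MulAction.stabilizer X μ ≤
      Subgroup.normalizer ((vertexVIter p M₁ M₂ (n - 1) μ ⊔
        ⁅vertexVIter p M₁ M₂ n lam, vertexQ p lam⁆ : Subgroup X) : Set X) := by
    intro g hg
    have h1 : g ∈ Subgroup.normalizer (vertexVIter p M₁ M₂ (n - 1) μ : Set X) :=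
      stab_le_normalizer_vertexVIter hcp (n - 1) μ hg.2
    have h2 := hNC hg.1
    rw [← conj_eq_self_iff] at h1 h2 ⊢
    rw [Subgroup.map_sup, h1, h2]
  have hG := stab_le_normalizer_of_residual h hadj hR hE
  have hle := vertexVIter_le_of_stab_le_normalizer hcp hadj hn le_sup_left hG
  haveI : Finite ↥(vertexQ p lam) := Finite.of_injective _ (Subgroup.inclusion_injective hQG)
  haveI : Group.IsNilpotent ↥(vertexQ p lam) := (helper51.isPGroup_pCoreOf _).isNilpotent
  have hQW : vertexQ p lam ≤ Subgroup.normalizer (vertexVIter p M₁ M₂ (n - 1) μ : Set X) :=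
    (hQE.trans inf_le_right).trans (stab_le_normalizer_vertexVIter hcp (n - 1) μ)
  have hVW := le_of_le_sup_commutator_of_isNilpotent hVQ hWV hQW hle
  exact vertexVIter_not_le hcp hadj hn hVQ hVW

end AmalgamV

end Cfsg.Agent.Lib.helper53
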