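import Cfsg.Prelude.Def_LocalStructure
import Cfsg.Agent.Lib.helper53.Conj
import Cfsg.Agent.Lib.helper53.WeakClosed
import Cfsg.Agent.Lib.helper53.Large

set_option autoImplicit false

namespace Cfsg.Agent.Lib.helper53

open scoped commutatorElement Pointwise

variable {G : Type*} [Group G]

/-- Two conjugates of an asymmetric subgroup that normalize each other commute. -/
theorem asym_conj_le_centralizer {A B B' : Subgroup G} (hasym : ¬ Cfsg.IsSymmetricIn A)
    (hB : ∃ a : G, B = A.map (MulAut.conj a).toMonoidHom)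
    (hB' : ∃ b : G, B' = A.map (MulAut.conj b).toMonoidHom)
    (h1 : B ≤ Subgroup.normalizer (B' : Set G)) (h2 : B' ≤ Subgroup.normalizer (B : Set G)) :
    B ≤ Subgroup.centralizer (B' : Set G) := by
  obtain ⟨a, rfl⟩ := hB
  obtain ⟨b, rfl⟩ := hB'
  have e1 : (A.map (MulAut.conj b).toMonoidHom) =
      (A.map (MulAut.conj (a⁻¹ * b)).toMonoidHom).map (MulAut.conj a).toMonoidHom := by
    rw [conj_conj]; congr 3; group
  rw [e1] at h1 h2 ⊢
  rw [normalizer_conj] at h1 h2
  rw [centralizer_conj]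
  have e : ∀ K : Subgroup G, (K.map (MulAut.conj a).toMonoidHom).map
      (MulAut.conj a⁻¹).toMonoidHom = K := by
    intro K; rw [conj_conj, inv_mul_cancel, conj_one]
  have h1' : A ≤ Subgroup.normalizer
      ((A.map (MulAut.conj (a⁻¹ * b)).toMonoidHom : Subgroup G) : Set G) := by
    have := conj_mono h1 a⁻¹
    rwa [e, e] at this
  have h2' : A.map (MulAut.conj (a⁻¹ * b)).toMonoidHom ≤ Subgroup.normalizer (A : Set G) := by
    have := conj_mono h2 a⁻¹
    rwa [e, e] at this
  have h4 : ⁅A, A.map (MulAut.conj (a⁻¹ * b)).toMonoidHom⁆ ≤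
      A ⊓ A.map (MulAut.conj (a⁻¹ * b)).toMonoidHom :=
    commutator_le_inf_of_le_normalizer h2' h1'
  have h5 : ⁅A, A.map (MulAut.conj (a⁻¹ * b)).toMonoidHom⁆ = ⊥ := by
    by_contra hne
    exact hasym ⟨_, hne, h4⟩
  exact conj_mono (Subgroup.commutator_eq_bot_iff_le_centralizer.mp h5) a

/-- The amalgam argument for an asymmetric subgroup: let `M i` be subgroups with normal
`p`-subgroups `P i` and normal subgroups `Y i ≤ P i`, all `Y i` conjugate to the asymmetric
`p`-subgroup `A`, such that `P i ≤ M j` for all `i, j` and every `p`-subgroup of `C_{M i}(Y i)`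
lies in `P i`. Then every conjugate of `Y i` under a product of elements of the `M k` lies in
every `P j`. -/
theorem asym_amalgam_list {ι : Type*} {p : ℕ} {A : Subgroup G}
    (hasym : ¬ Cfsg.IsSymmetricIn A) (hAp : IsPGroup p A) (M Y P : ι → Subgroup G)
    (hconj : ∀ i, ∃ a : G, Y i = A.map (MulAut.conj a).toMonoidHom)
    (hYP : ∀ i, Y i ≤ P i)
    (hMY : ∀ i, M i ≤ Subgroup.normalizer (Y i : Set G))
    (hMP : ∀ i, M i ≤ Subgroup.normalizer (P i : Set G))
    (hPM : ∀ i j, P i ≤ M j)
    (hcl : ∀ i (B : Subgroup G), IsPGroup p B → B ≤ M i →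
      B ≤ Subgroup.centralizer (Y i : Set G) → B ≤ P i) :
    ∀ n : ℕ, ∀ l : List G, l.length = n → (∀ x ∈ l, ∃ k, x ∈ M k) →
      ∀ i j, (Y i).map (MulAut.conj l.prod).toMonoidHom ≤ P j := by
  -- the key step: a conjugate of `Y i` inside `P k` that is normalized by `Y j` lies in `P j`
  have key : ∀ (w : G) (i j k : ι), (Y i).map (MulAut.conj w).toMonoidHom ≤ P k →
      (Y j).map (MulAut.conj w⁻¹).toMonoidHom ≤ M i →
      (Y i).map (MulAut.conj w).toMonoidHom ≤ P j := by
    intro w i j k h1 h2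
    have hn1 : (Y i).map (MulAut.conj w).toMonoidHom ≤ Subgroup.normalizer (Y j : Set G) :=
      (h1.trans (hPM k j)).trans (hMY j)
    have hn2 : Y j ≤ Subgroup.normalizer
        (((Y i).map (MulAut.conj w).toMonoidHom : Subgroup G) : Set G) := by
      rw [normalizer_conj, le_conj_iff]
      exact h2.trans (hMY i)
    obtain ⟨a, ha⟩ := hconj i
    have hc1 : ∃ a' : G, (Y i).map (MulAut.conj w).toMonoidHom =
        A.map (MulAut.conj a').toMonoidHom := ⟨w * a, by rw [ha, conj_conj]⟩
    have h3 := asym_conj_le_centralizer hasym hc1 (hconj j) hn1 hn2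
    have hp : IsPGroup p ((Y i).map (MulAut.conj w).toMonoidHom) := by
      rw [ha, conj_conj]; exact isPGroup_conj hAp _
    exact hcl j _ hp (h1.trans (hPM k j)) h3
  intro n
  induction n with
  | zero =>
    intro l hl _ i j
    have hnil : l = [] := List.length_eq_zero_iff.mp hl
    subst hnil
    rw [List.prod_nil]
    apply key 1 i j i
    · rw [conj_one]; exact hYP i
    · rw [inv_one, conj_one]; exact (hYP j).trans (hPM j i)
  | succ n ih =>
    intro l hl hmem i j
    -- first decomposition `l = a :: t`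
    obtain ⟨a, t, rfl⟩ : ∃ a t, l = a :: t := by
      cases l with
      | nil => simp at hl
      | cons a t => exact ⟨a, t, rfl⟩
    have ht : t.length = n := by simpa using hl
    obtain ⟨k, hak⟩ := hmem a (by simp)
    have hmt : ∀ x ∈ t, ∃ k, x ∈ M k := fun x hx => hmem x (by simp [hx])
    have hstar : (Y i).map (MulAut.conj (a :: t).prod).toMonoidHom ≤ P k := by
      rw [List.prod_cons, ← conj_conj]
      have := conj_mono (ih t ht hmt i k) a
      rwa [conj_eq_self_of_mem_normalizer (hMP k hak)] at this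
    -- second decomposition `l = t' ++ [b]`
    obtain ⟨t', b, hl'⟩ : ∃ t' b, a :: t = t' ++ [b] := by
      rcases List.eq_nil_or_concat (a :: t) with h | ⟨t', b, h⟩
      · simp at h
      · exact ⟨t', b, by simpa using h⟩
    have ht' : t'.length = n := by
      have := congrArg List.length hl'
      simp at this
      omega
    obtain ⟨k', hbk'⟩ := hmem b (by rw [hl']; simp)
    have hmt' : ∀ x ∈ (t'.map fun x => x⁻¹).reverse, ∃ k, x ∈ M k := by
      intro x hx
      rw [List.mem_reverse, List.mem_map] at hx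
      obtain ⟨y, hy, rfl⟩ := hx
      obtain ⟨k₀, hk₀⟩ := hmem y (by rw [hl']; simp [hy])
      exact ⟨k₀, (M k₀).inv_mem hk₀⟩
    have hlen' : ((t'.map fun x => x⁻¹).reverse).length = n := by simpa using ht'
    have h2 : (Y j).map (MulAut.conj ((a :: t).prod)⁻¹).toMonoidHom ≤ M i := by
      rw [hl', List.prod_append, List.prod_singleton, mul_inv_rev, ← conj_conj,
        List.prod_inv_reverse]
      have := conj_mono (ih _ hlen' hmt' j k') b⁻¹
      rw [conj_eq_self_of_mem_normalizer (hMP k' ((M k').inv_mem hbk'))] at this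
      exact this.trans (hPM k' i)
    exact key _ i j k hstar h2

/-- The amalgam argument, subgroup form: every conjugate of `Y i` under `⨆ k, M k` lies in every
`P j`. -/
theorem asym_amalgam {ι : Type*} {p : ℕ} {A : Subgroup G}
    (hasym : ¬ Cfsg.IsSymmetricIn A) (hAp : IsPGroup p A) (M Y P : ι → Subgroup G)
    (hconj : ∀ i, ∃ a : G, Y i = A.map (MulAut.conj a).toMonoidHom)
    (hYP : ∀ i, Y i ≤ P i)
    (hMY : ∀ i, M i ≤ Subgroup.normalizer (Y i : Set G))
    (hMP : ∀ i, M i ≤ Subgroup.normalizer (P i : Set G))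
    (hPM : ∀ i j, P i ≤ M j)
    (hcl : ∀ i (B : Subgroup G), IsPGroup p B → B ≤ M i →
      B ≤ Subgroup.centralizer (Y i : Set G) → B ≤ P i)
    {w : G} (hw : w ∈ ⨆ k, M k) (i j : ι) :
    (Y i).map (MulAut.conj w).toMonoidHom ≤ P j := by
  have e : (⨆ k, M k) = Subgroup.closure (⋃ k, (M k : Set G)) := by
    rw [Subgroup.closure_iUnion]
    simp
  rw [e, ← Subgroup.mem_toSubmonoid, Subgroup.closure_toSubmonoid] at hw
  obtain ⟨l, hl, rfl⟩ := Submonoid.exists_list_of_mem_closure hw
  refine asym_amalgam_list hasym hAp M Y P hconj hYP hMY hMP hPM hcl l.length l rfl ?_ i j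
  intro x hx
  rcases hl x hx with h | h
  · obtain ⟨k, hk⟩ := Set.mem_iUnion.mp h
    exact ⟨k, hk⟩
  · obtain ⟨k, hk⟩ := Set.mem_iUnion.mp (Set.mem_inv.mp h)
    exact ⟨k, by simpa using (M k).inv_mem hk⟩

end Cfsg.Agent.Lib.helper53
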