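import Cfsg.Agent.Lib.helper53.FrakM3
import Cfsg.Agent.Lib.helper52.Subn

set_option autoImplicit false

namespace Cfsg.Agent.Lib.helper53

open scoped commutatorElement Pointwise

variable {G : Type*} [Group G]

/-- The elements of `V` normalizing `W` that are fixed modulo `W` by `X`. -/
def fixMod (V W X : Subgroup G) : Subgroup G where
  carrier := {v | v ∈ V ∧ v ∈ Subgroup.normalizer (W : Set G) ∧ ∀ x ∈ X, ⁅v, x⁆ ∈ W}
  one_mem' := by
    refine ⟨V.one_mem, Subgroup.one_mem _, ?_⟩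
    intro x _
    rw [commutatorElement_one_left]
    exact W.one_mem
  mul_mem' := by
    rintro a b ⟨ha1, ha2, ha3⟩ ⟨hb1, hb2, hb3⟩
    refine ⟨V.mul_mem ha1 hb1, Subgroup.mul_mem _ ha2 hb2, ?_⟩
    intro x hx
    have e : ⁅a * b, x⁆ = a * ⁅b, x⁆ * a⁻¹ * ⁅a, x⁆ := by
      simp only [commutatorElement_def]; group
    rw [e]
    exact W.mul_mem ((Subgroup.mem_normalizer_iff.mp ha2 _).mp (hb3 x hx)) (ha3 x hx)
  inv_mem' := by
    rintro a ⟨ha1, ha2, ha3⟩
    refine ⟨V.inv_mem ha1, Subgroup.inv_mem _ ha2, ?_⟩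
    intro x hx
    have e : ⁅a⁻¹, x⁆ = a⁻¹ * ⁅a, x⁆⁻¹ * a⁻¹⁻¹ := by
      simp only [commutatorElement_def]; group
    rw [e]
    exact (Subgroup.mem_normalizer_iff.mp (Subgroup.inv_mem _ ha2) _).mp (W.inv_mem (ha3 x hx))

theorem mem_fixMod {V W X : Subgroup G} {v : G} :
    v ∈ fixMod V W X ↔ v ∈ V ∧ v ∈ Subgroup.normalizer (W : Set G) ∧ ∀ x ∈ X, ⁅v, x⁆ ∈ W :=
  Iff.rfl

theorem fixMod_le (V W X : Subgroup G) : fixMod V W X ≤ V := fun _ hv => hv.1

/-- The elements normalizing `W` and fixing `v` modulo `W`. -/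
def elemStab (W : Subgroup G) (v : G) : Subgroup G where
  carrier := {g | g ∈ Subgroup.normalizer (W : Set G) ∧ ⁅v, g⁆ ∈ W}
  one_mem' := by
    refine ⟨Subgroup.one_mem _, ?_⟩
    rw [commutatorElement_one_right]
    exact W.one_mem
  mul_mem' := by
    rintro g h ⟨hg1, hg2⟩ ⟨hh1, hh2⟩
    refine ⟨Subgroup.mul_mem _ hg1 hh1, ?_⟩
    have e : ⁅v, g * h⁆ = ⁅v, g⁆ * (g * ⁅v, h⁆ * g⁻¹) := by
      simp only [commutatorElement_def]; group
    rw [e]
    exact W.mul_mem hg2 ((Subgroup.mem_normalizer_iff.mp hg1 _).mp hh2)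
  inv_mem' := by
    rintro g ⟨hg1, hg2⟩
    refine ⟨Subgroup.inv_mem _ hg1, ?_⟩
    have e : ⁅v, g⁻¹⁆ = g⁻¹ * ⁅v, g⁆⁻¹ * g⁻¹⁻¹ := by
      simp only [commutatorElement_def]; group
    rw [e]
    exact (Subgroup.mem_normalizer_iff.mp (Subgroup.inv_mem _ hg1) _).mp (W.inv_mem hg2)

theorem mem_fixMod_sup {V W X X' : Subgroup G} {v : G}
    (hX : X ≤ Subgroup.normalizer (W : Set G)) (hX' : X' ≤ Subgroup.normalizer (W : Set G))
    (h1 : v ∈ fixMod V W X) (h2 : v ∈ fixMod V W X') : v ∈ fixMod V W (X ⊔ X') := by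
  refine ⟨h1.1, h1.2.1, ?_⟩
  have h : X ⊔ X' ≤ elemStab W v :=
    sup_le (fun x hx => ⟨hX hx, h1.2.2 x hx⟩) (fun x hx => ⟨hX' hx, h2.2.2 x hx⟩)
  intro x hx
  exact (h hx).2

theorem conj_mem_fixMod {V W X : Subgroup G} {v n : G} (hv : v ∈ fixMod V W X)
    (hn1 : n ∈ Subgroup.normalizer (V : Set G)) (hn2 : n ∈ Subgroup.normalizer (W : Set G))
    (hn3 : n ∈ Subgroup.normalizer (X : Set G)) : n * v * n⁻¹ ∈ fixMod V W X := by
  obtain ⟨hv1, hv2, hv3⟩ := hv
  refine ⟨(Subgroup.mem_normalizer_iff.mp hn1 v).mp hv1,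
    Subgroup.mul_mem _ (Subgroup.mul_mem _ hn2 hv2) (Subgroup.inv_mem _ hn2), ?_⟩
  intro x hx
  have hx' : n⁻¹ * x * n⁻¹⁻¹ ∈ X :=
    (Subgroup.mem_normalizer_iff.mp (Subgroup.inv_mem _ hn3) x).mp hx
  have e : ⁅n * v * n⁻¹, x⁆ = n * ⁅v, n⁻¹ * x * n⁻¹⁻¹⁆ * n⁻¹ := by
    simp only [commutatorElement_def]; group
  rw [e]
  exact (Subgroup.mem_normalizer_iff.mp hn2 _).mp (hv3 _ hx')

theorem le_normalizer_fixMod [Finite G] {K V W X : Subgroup G}
    (h1 : K ≤ Subgroup.normalizer (V : Set G)) (h2 : K ≤ Subgroup.normalizer (W : Set G))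
    (h3 : K ≤ Subgroup.normalizer (X : Set G)) :
    K ≤ Subgroup.normalizer ((fixMod V W X : Subgroup G) : Set G) := by
  intro n hn
  apply mem_normalizer_of_conj_le
  rw [conj_le_iff]
  intro v hv
  exact conj_mem_fixMod hv (h1 hn) (h2 hn) (h3 hn)

theorem le_fixMod {V W X : Subgroup G} (hWV : W ≤ V)
    (hX : X ≤ Subgroup.normalizer (W : Set G)) : W ≤ fixMod V W X := by
  intro w hw
  refine ⟨hWV hw, Subgroup.le_normalizer hw, ?_⟩
  intro x hx
  have e : ⁅w, x⁆ = w * (x * w⁻¹ * x⁻¹) := by simp only [commutatorElement_def]; group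
  rw [e]
  exact W.mul_mem hw ((Subgroup.mem_normalizer_iff.mp (hX hx) _).mp (W.inv_mem hw))

/-- Elements of `V` normalizing `W` and centralizing `X` are fixed by `X` modulo `W`. -/
theorem mem_fixMod_of_mem_centralizer {V W X : Subgroup G} {c : G} (hc : c ∈ V)
    (hcW : c ∈ Subgroup.normalizer (W : Set G))
    (hcX : c ∈ Subgroup.centralizer (X : Set G)) : c ∈ fixMod V W X := by
  refine ⟨hc, hcW, ?_⟩
  intro x hx
  have h : x * c = c * x := Subgroup.mem_centralizer_iff.mp hcX x hx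
  have e : ⁅c, x⁆ = 1 := by
    rw [commutatorElement_eq_one_iff_commute]
    exact h.symm
  rw [e]
  exact W.one_mem

/-- An element `t` with `[A, t] ⊆ A` normalizes the finite subgroup `A`. -/
theorem mem_normalizer_of_commutator_mem [Finite G] {A : Subgroup G} {t : G}
    (h : ∀ a ∈ A, ⁅a, t⁆ ∈ A) : t ∈ Subgroup.normalizer (A : Set G) := by
  apply mem_normalizer_of_conj_le
  rw [conj_le_iff]
  intro a ha
  have e : t * a * t⁻¹ = ⁅a, t⁆⁻¹ * a := by simp only [commutatorElement_def]; group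
  rw [e]
  exact A.mul_mem (A.inv_mem (h a ha)) ha

/-- A `p`-group `P` normalizing the `p`-group `V` and `W < V` fixes, modulo `W`, some element of
`V` outside `W`. -/
theorem exists_mem_fixMod_not_mem [Finite G] {p : ℕ} [Fact p.Prime] {V W P : Subgroup G}
    (hV : IsPGroup p V) (hP : IsPGroup p P) (hWV : W < V)
    (hVW : V ≤ Subgroup.normalizer (W : Set G)) (hPV : P ≤ Subgroup.normalizer (V : Set G)) :
    ∃ v ∈ fixMod V W P, v ∉ W := by
  have hE : IsPGroup p (V ⊔ P : Subgroup G) := hV.to_sup_of_normal_left' hP hPV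
  haveI : Group.IsNilpotent ↥(V ⊔ P) := hE.isNilpotent
  obtain ⟨n, hn⟩ := Group.IsNilpotent.nilpotent ↥(V ⊔ P)
  obtain ⟨v₀, hv₀V, hv₀W⟩ := SetLike.exists_of_lt hWV
  have hex : ∃ i : ℕ, ∃ x : ↥(V ⊔ P), (x : G) ∈ V ∧ x ∈ Subgroup.upperCentralSeries ↥(V ⊔ P) i ∧
      (x : G) ∉ W :=
    ⟨n, ⟨v₀, le_sup_left (b := P) hv₀V⟩, hv₀V, by rw [hn]; exact Subgroup.mem_top _, hv₀W⟩
  classical
  obtain ⟨x, hxV, hxZ, hxW⟩ := Nat.find_spec hex
  have hmin := fun j (hj : j < Nat.find hex) => Nat.find_min hex hj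
  rcases Nat.eq_zero_or_pos (Nat.find hex) with h0 | hpos
  · exfalso
    rw [h0, Subgroup.upperCentralSeries_zero, Subgroup.mem_bot] at hxZ
    apply hxW
    rw [hxZ]
    exact W.one_mem
  · obtain ⟨j, hj⟩ := Nat.exists_eq_succ_of_ne_zero hpos.ne'
    rw [hj] at hxZ
    refine ⟨(x : G), ⟨hxV, hVW hxV, ?_⟩, hxW⟩
    intro g hg
    by_contra hcon
    have hgE : g ∈ V ⊔ P := le_sup_right (a := V) hg
    have h1 := Subgroup.mem_upperCentralSeries_succ_iff.mp hxZ ⟨g, hgE⟩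
    apply hmin j (by rw [hj]; exact Nat.lt_succ_self j)
    refine ⟨⁅x, ⟨g, hgE⟩⁆, ?_, h1, hcon⟩
    have e : ((⁅x, (⟨g, hgE⟩ : ↥(V ⊔ P))⁆ : ↥(V ⊔ P)) : G) = (x : G) * (g * (x : G)⁻¹ * g⁻¹) := by
      simp only [commutatorElement_def, Subgroup.coe_mul, Subgroup.coe_inv]; group
    rw [e]
    exact V.mul_mem hxV ((Subgroup.mem_normalizer_iff.mp (hPV hg) _).mp (V.inv_mem hxV))

/-- Coprime action on a series: a `p'`-element acting trivially on `V / B` and `B / W` acts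
trivially on `V / W`, for a `p`-group `V`. -/
theorem mem_stabMod_of_coprime [Finite G] {p : ℕ} [Fact p.Prime] {V B W : Subgroup G}
    (hV : IsPGroup p V) {x : G} (h1 : x ∈ stabMod V B) (h2 : x ∈ stabMod B W)
    (hcop : (orderOf x).Coprime p) : x ∈ stabMod V W := by
  have hZ1 : Subgroup.zpowers x ≤ stabMod V B := by rw [Subgroup.zpowers_le]; exact h1
  have hZ2 : Subgroup.zpowers x ≤ stabMod B W := by rw [Subgroup.zpowers_le]; exact h2
  have hZV : Subgroup.zpowers x ≤ Subgroup.normalizer (V : Set G) := fun z hz => (hZ1 hz).1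
  obtain ⟨n, hn⟩ := IsPGroup.iff_card.mp hV
  have hcard : (Nat.card (Subgroup.zpowers x)).Coprime (Nat.card V) := by
    rw [Nat.card_zpowers, hn]
    exact Nat.Coprime.pow_right n hcop
  have hsolv : Group.IsSolvable ↥(Subgroup.zpowers x) ∨ Group.IsSolvable ↥V := by
    left
    infer_instance
  have e := Cfsg.Agent.Lib.helper1.commutator_commutator_eq (Subgroup.zpowers x) V hZV hcard hsolv
  have h3 : ⁅V, Subgroup.zpowers x⁆ ≤ B := by
    rw [Subgroup.commutator_le]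
    intro v hv z hz
    exact (hZ1 hz).2.2 v hv
  have h4 : ⁅B, Subgroup.zpowers x⁆ ≤ W := by
    rw [Subgroup.commutator_le]
    intro v hv z hz
    exact (hZ2 hz).2.2 v hv
  have h5 : ⁅V, Subgroup.zpowers x⁆ ≤ W := by
    rw [← e]
    exact (Subgroup.commutator_mono h3 le_rfl).trans h4
  refine ⟨h1.1, h2.2.1, ?_⟩
  intro u hu
  exact h5 (Subgroup.commutator_mem_commutator hu (Subgroup.mem_zpowers x))

/-- `(V, W)` is a chief pair of `H`: both are `H`-invariant, `W < V`, and there is no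
`H`-invariant subgroup strictly in between. -/
def IsChiefPair (H V W : Subgroup G) : Prop :=
  H ≤ Subgroup.normalizer (V : Set G) ∧ H ≤ Subgroup.normalizer (W : Set G) ∧ W < V ∧
    ∀ Z : Subgroup G, H ≤ Subgroup.normalizer (Z : Set G) → W ≤ Z → Z ≤ V → Z = W ∨ Z = V

/-- A normal `p`-subgroup `R` of `H` acts trivially on the chief factors of `H` inside `R`. -/
theorem IsChiefPair.commutator_mem [Finite G] {p : ℕ} [Fact p.Prime] {H R V W : Subgroup G}
    (hc : IsChiefPair H V W) (hR : IsPGroup p R) (hRH : R ≤ H)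
    (hHR : H ≤ Subgroup.normalizer (R : Set G)) (hVR : V ≤ R) :
    ∀ v ∈ V, ∀ r ∈ R, ⁅v, r⁆ ∈ W := by
  obtain ⟨hHV, hHW, hWV, hch⟩ := hc
  have h1 : H ≤ Subgroup.normalizer ((fixMod V W R : Subgroup G) : Set G) :=
    le_normalizer_fixMod hHV hHW hHR
  have h2 : W ≤ fixMod V W R := le_fixMod hWV.le (hRH.trans hHW)
  obtain ⟨v₀, hv₀, hv₀W⟩ := exists_mem_fixMod_not_mem (hR.to_le hVR) hR hWV
    ((hVR.trans hRH).trans hHW) (hRH.trans hHV)
  rcases hch _ h1 h2 (fixMod_le V W R) with h | h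
  · exact absurd (h ▸ hv₀) hv₀W
  · intro v hv r hr
    have hv' : v ∈ fixMod V W R := by rw [h]; exact hv
    exact hv'.2.2 r hr

/-- A `p'`-element of `H` acting trivially on all chief factors of `H` inside the `p`-group `R`
centralizes every `H`-invariant subgroup of `R`. -/
theorem mem_centralizer_of_forall_chief [Finite G] {p : ℕ} [Fact p.Prime] {H R : Subgroup G}
    (hR : IsPGroup p R) {x : G} (hcop : (orderOf x).Coprime p)
    (h : ∀ V W : Subgroup G, IsChiefPair H V W → V ≤ R → ∀ v ∈ V, ⁅v, x⁆ ∈ W)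
    (V : Subgroup G) : V ≤ R → H ≤ Subgroup.normalizer (V : Set G) →
      x ∈ Subgroup.centralizer (V : Set G) := by
  induction V using (wellFounded_lt (α := Subgroup G)).induction with
  | _ V ih =>
  intro hVR hHV
  by_cases hbot : V = ⊥
  · rw [hbot, Subgroup.mem_centralizer_iff]
    intro u hu
    have : u = 1 := Subgroup.mem_bot.mp hu
    rw [this]; group
  · have hne : ({W : Subgroup G | W < V ∧ H ≤ Subgroup.normalizer (W : Set G)}).Nonempty := by
      refine ⟨⊥, bot_lt_iff_ne_bot.mpr hbot, ?_⟩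
      intro g _
      rw [Subgroup.mem_normalizer_iff]
      intro u
      simp only [Subgroup.mem_bot]
      constructor
      · intro hu; rw [hu]; group
      · intro hu
        have : u = g⁻¹ * (g * u * g⁻¹) * g := by group
        rw [this, hu]; group
    obtain ⟨W, ⟨hWV, hHW⟩, hmax⟩ := (wellFounded_gt (α := Subgroup G)).has_min _ hne
    have hchief : IsChiefPair H V W := by
      refine ⟨hHV, hHW, hWV, ?_⟩
      intro Z hHZ hWZ hZV
      by_cases hZ : Z = V
      · exact Or.inr hZ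
      · left
        have h1 : ¬ Z > W := hmax Z ⟨lt_of_le_of_ne hZV hZ, hHZ⟩
        exact (eq_of_le_of_not_lt hWZ h1).symm
    have hxW : x ∈ Subgroup.centralizer (W : Set G) := ih W hWV (hWV.le.trans hVR) hHW
    rw [Subgroup.mem_centralizer_iff]
    intro v hv
    have h1 : ⁅v, x⁆ ∈ W := h V W hchief hVR v hv
    have h2 : ⁅v, x⁆ = 1 := by
      apply commutatorElement_eq_one_of_coprime hcop
      · obtain ⟨k, hk⟩ := hR ⟨_, hVR (hWV.le h1)⟩
        refine ⟨k, ?_⟩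
        have := congrArg Subtype.val hk
        simpa using this
      · exact (Subgroup.mem_centralizer_iff.mp hxW _ h1)
    rw [commutatorElement_eq_one_iff_commute] at h2
    exact h2.eq

/-- In a group `H` of characteristic `p` (with `R = O_p(H)`), a `p'`-element acting trivially on
all chief factors of `H` inside `R` is trivial. -/
theorem eq_one_of_forall_chief [Finite G] {p : ℕ} [Fact p.Prime] {H R : Subgroup G}
    (hR : IsPGroup p R) (hHR : H ≤ Subgroup.normalizer (R : Set G))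
    (hchar : H ⊓ Subgroup.centralizer (R : Set G) ≤ R) {x : G} (hx : x ∈ H)
    (hcop : (orderOf x).Coprime p)
    (h : ∀ V W : Subgroup G, IsChiefPair H V W → V ≤ R → ∀ v ∈ V, ⁅v, x⁆ ∈ W) : x = 1 := by
  have h1 : x ∈ Subgroup.centralizer (R : Set G) :=
    mem_centralizer_of_forall_chief hR hcop h R le_rfl hHR
  have h2 : x ∈ R := hchar ⟨hx, h1⟩
  obtain ⟨k, hk⟩ := hR ⟨x, h2⟩
  have h3 : x ^ p ^ k = 1 := by
    have := congrArg Subtype.val hk
    simpa using this
  have h4 : orderOf x ∣ p ^ k := orderOf_dvd_of_pow_eq_one h3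
  have h5 : orderOf x = 1 := Nat.Coprime.eq_one_of_dvd (Nat.Coprime.pow_right k hcop) h4
  exact orderOf_eq_one_iff.mp h5

end Cfsg.Agent.Lib.helper53
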