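import Cfsg.Agent.Lib.helper53.AsymL1

set_option autoImplicit false

namespace Cfsg.Agent.Lib.helper53

open scoped commutatorElement Pointwise

variable {G : Type*} [Group G]

/-- Two subgroups `Y₁ ≤ T₁`, `Y₂ ≤ T₂` of `H` (in use `Y₂, T₂` conjugates of `Y₁, T₁`), each `T_i`
centralizing `Y_i`, all normalized by the normal `p`-subgroup `R` of `H`, with
`H = ⟨Y₁, T₂⟩ = ⟨Y₂, T₁⟩`. -/
structure AsymPair (p : ℕ) (H R Y₁ T₁ Y₂ T₂ : Subgroup G) : Prop where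
  hR : IsPGroup p R
  hRH : R ≤ H
  hHR : H ≤ Subgroup.normalizer (R : Set G)
  hYT₁ : Y₁ ≤ T₁
  hTH₁ : T₁ ≤ H
  hTY₁ : T₁ ≤ Subgroup.centralizer (Y₁ : Set G)
  hRY₁ : R ≤ Subgroup.normalizer (Y₁ : Set G)
  hRT₁ : R ≤ Subgroup.normalizer (T₁ : Set G)
  hYT₂ : Y₂ ≤ T₂
  hTH₂ : T₂ ≤ H
  hTY₂ : T₂ ≤ Subgroup.centralizer (Y₂ : Set G)
  hRY₂ : R ≤ Subgroup.normalizer (Y₂ : Set G)
  hRT₂ : R ≤ Subgroup.normalizer (T₂ : Set G)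
  hH₁ : Y₁ ⊔ T₂ = H
  hH₂ : Y₂ ⊔ T₁ = H

theorem AsymPair.symm {p : ℕ} {H R Y₁ T₁ Y₂ T₂ : Subgroup G} (c : AsymPair p H R Y₁ T₁ Y₂ T₂) :
    AsymPair p H R Y₂ T₂ Y₁ T₁ :=
  ⟨c.hR, c.hRH, c.hHR, c.hYT₂, c.hTH₂, c.hTY₂, c.hRY₂, c.hRT₂, c.hYT₁, c.hTH₁, c.hTY₁, c.hRY₁,
    c.hRT₁, c.hH₂, c.hH₁⟩

/-- If `[V, X] ≤ I ≤ V` then `X` normalizes `I`. -/
theorem le_normalizer_of_commutator_le_of_le [Finite G] {V X I : Subgroup G} (h1 : ⁅V, X⁆ ≤ I)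
    (h2 : I ≤ V) : X ≤ Subgroup.normalizer (I : Set G) := by
  intro x hx
  apply mem_normalizer_of_commutator_mem
  intro i hi
  exact h1 (Subgroup.commutator_mem_commutator (h2 hi) hx)

section
variable [Finite G] {p : ℕ} [Fact p.Prime] {H R Y₁ T₁ Y₂ T₂ V W : Subgroup G}

/-- For a noncentral chief pair, the fixed points of `H` modulo `W` are `W`. -/
theorem IsChiefPair.fixMod_top_le (hc : IsChiefPair H V W) (hnc : ¬ ⁅V, H⁆ ≤ W) :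
    fixMod V W H ≤ W := by
  obtain ⟨hHV, hHW, hWV, hch⟩ := hc
  rcases hch _ (le_normalizer_fixMod hHV hHW Subgroup.le_normalizer) (le_fixMod hWV.le hHW)
    (fixMod_le V W H) with h | h
  · exact h.le
  · exfalso
    apply hnc
    rw [Subgroup.commutator_le]
    intro v hv g hg
    have hv' : v ∈ fixMod V W H := by rw [h]; exact hv
    exact hv'.2.2 g hg

/-- A subgroup `O` with `H = O T`, `T` a `p`-group, acts nontrivially on a noncentral chief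
factor `V / W` with `V` a `p`-group. -/
theorem IsChiefPair.not_commutator_le (hc : IsChiefPair H V W) (hnc : ¬ ⁅V, H⁆ ≤ W)
    (hV : IsPGroup p V) (hVH : V ≤ H) {O T : Subgroup G} (hT : IsPGroup p T)
    (hOT : O ⊔ T = H) : ¬ ⁅V, O⁆ ≤ W := by
  intro hcon
  have hOH : O ≤ H := le_sup_left.trans hOT.le
  have hTH : T ≤ H := le_sup_right.trans hOT.le
  obtain ⟨v, hv, hvW⟩ := exists_mem_fixMod_not_mem hV hT hc.2.2.1 (hVH.trans hc.2.1)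
    (hTH.trans hc.1)
  have h1 : v ∈ fixMod V W O :=
    ⟨hv.1, hv.2.1, fun o ho => hcon (Subgroup.commutator_mem_commutator hv.1 ho)⟩
  have h2 : v ∈ fixMod V W (O ⊔ T) :=
    mem_fixMod_sup (hOH.trans hc.2.1) (hTH.trans hc.2.1) h1 hv
  rw [hOT] at h2
  exact hvW (hc.fixMod_top_le hnc h2)

theorem AsymPair.inf_le_fixMod (c : AsymPair p H R Y₁ T₁ Y₂ T₂) (hc : IsChiefPair H V W)
    (hVR : V ≤ R) : V ⊓ T₁ ≤ fixMod V W Y₁ := by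
  intro x hx
  exact mem_fixMod_of_mem_centralizer hx.1 (hc.2.1 (c.hRH (hVR hx.1))) (c.hTY₁ hx.2)

theorem AsymPair.inf_le_fixMod' (c : AsymPair p H R Y₁ T₁ Y₂ T₂) (hc : IsChiefPair H V W)
    (hVR : V ≤ R) : V ⊓ Y₁ ≤ fixMod V W T₁ := by
  intro x hx
  exact mem_fixMod_of_mem_centralizer hx.1 (hc.2.1 (c.hRH (hVR hx.1)))
    (Subgroup.le_centralizer_iff.mp c.hTY₁ hx.2)

theorem AsymPair.commutator_le_inf_T (c : AsymPair p H R Y₁ T₁ Y₂ T₂) (hc : IsChiefPair H V W)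
    (hVR : V ≤ R) : ⁅V, T₁⁆ ≤ V ⊓ T₁ :=
  commutator_le_inf_of_le_normalizer (c.hTH₁.trans hc.1) (hVR.trans c.hRT₁)

theorem AsymPair.commutator_le_inf_Y (c : AsymPair p H R Y₁ T₁ Y₂ T₂) (hc : IsChiefPair H V W)
    (hVR : V ≤ R) : ⁅V, Y₁⁆ ≤ V ⊓ Y₁ :=
  commutator_le_inf_of_le_normalizer ((c.hYT₁.trans c.hTH₁).trans hc.1) (hVR.trans c.hRY₁)

theorem AsymPair.A_le_V (c : AsymPair p H R Y₁ T₁ Y₂ T₂) (hc : IsChiefPair H V W)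
    (hVR : V ≤ R) : ⁅V, Y₁⁆ ⊔ W ≤ V :=
  sup_le ((c.commutator_le_inf_Y hc hVR).trans inf_le_left) hc.2.2.1.le

theorem AsymPair.A_le_B (c : AsymPair p H R Y₁ T₁ Y₂ T₂) (hc : IsChiefPair H V W)
    (hVR : V ≤ R) : ⁅V, Y₁⁆ ⊔ W ≤ fixMod V W Y₁ :=
  sup_le ((c.commutator_le_inf_Y hc hVR).trans
      ((inf_le_inf_left V c.hYT₁).trans (c.inf_le_fixMod hc hVR)))
    (le_fixMod hc.2.2.1.le ((c.hYT₁.trans c.hTH₁).trans hc.2.1))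

theorem AsymPair.A_le_fixMod_T (c : AsymPair p H R Y₁ T₁ Y₂ T₂) (hc : IsChiefPair H V W)
    (hVR : V ≤ R) : ⁅V, Y₁⁆ ⊔ W ≤ fixMod V W T₁ :=
  sup_le ((c.commutator_le_inf_Y hc hVR).trans (c.inf_le_fixMod' hc hVR))
    (le_fixMod hc.2.2.1.le (c.hTH₁.trans hc.2.1))

theorem AsymPair.A_inf_B_le (c : AsymPair p H R Y₁ T₁ Y₂ T₂) (hc : IsChiefPair H V W)
    (hVR : V ≤ R) (hnc : ¬ ⁅V, H⁆ ≤ W) : (⁅V, Y₂⁆ ⊔ W) ⊓ fixMod V W Y₁ ≤ W := by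
  intro v hv
  have h1 : v ∈ fixMod V W T₂ := c.symm.A_le_fixMod_T hc hVR hv.1
  have h2 : v ∈ fixMod V W (Y₁ ⊔ T₂) :=
    mem_fixMod_sup ((c.hYT₁.trans c.hTH₁).trans hc.2.1) (c.hTH₂.trans hc.2.1) hv.2 h1
  rw [c.hH₁] at h2
  exact hc.fixMod_top_le hnc h2

theorem AsymPair.comm_le (c : AsymPair p H R Y₁ T₁ Y₂ T₂) (hc : IsChiefPair H V W)
    (hVR : V ≤ R) : ⁅V, V⁆ ≤ W := by
  rw [Subgroup.commutator_le]
  intro v hv u hu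
  exact hc.commutator_mem c.hR c.hRH c.hHR hVR v hv u (hVR hu)

theorem AsymPair.V_le_normalizer (c : AsymPair p H R Y₁ T₁ Y₂ T₂) (hc : IsChiefPair H V W)
    (hVR : V ≤ R) {I : Subgroup G} (hWI : W ≤ I) (hIV : I ≤ V) :
    V ≤ Subgroup.normalizer (I : Set G) :=
  le_normalizer_of_commutator_le_of_le ((c.comm_le hc hVR).trans hWI) hIV

theorem AsymPair.A_sup_B (c : AsymPair p H R Y₁ T₁ Y₂ T₂) (hc : IsChiefPair H V W)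
    (hVR : V ≤ R) (hnc : ¬ ⁅V, H⁆ ≤ W) : ⁅V, Y₁⁆ ⊔ W ⊔ fixMod V W Y₂ = V := by
  have hWV := hc.2.2.1.le
  have hIV : ⁅V, Y₁⁆ ⊔ W ⊔ fixMod V W Y₂ ≤ V := sup_le (c.A_le_V hc hVR) (fixMod_le V W Y₂)
  have hT₂ : ⁅V, T₂⁆ ≤ ⁅V, Y₁⁆ ⊔ W ⊔ fixMod V W Y₂ :=
    ((c.symm.commutator_le_inf_T hc hVR).trans (c.symm.inf_le_fixMod hc hVR)).trans le_sup_right
  have h1 : Y₁ ≤ Subgroup.normalizer ((⁅V, Y₁⁆ ⊔ W ⊔ fixMod V W Y₂ : Subgroup G) : Set G) :=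
    le_normalizer_of_commutator_le_of_le (le_sup_left.trans le_sup_left) hIV
  have h2 : T₂ ≤ Subgroup.normalizer ((⁅V, Y₁⁆ ⊔ W ⊔ fixMod V W Y₂ : Subgroup G) : Set G) :=
    le_normalizer_of_commutator_le_of_le hT₂ hIV
  have h3 : H ≤ Subgroup.normalizer ((⁅V, Y₁⁆ ⊔ W ⊔ fixMod V W Y₂ : Subgroup G) : Set G) := by
    have := sup_le h1 h2
    rwa [c.hH₁] at this
  rcases hc.2.2.2 _ h3 (le_sup_right.trans le_sup_left) hIV with h | h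
  · exfalso
    apply hnc
    have h4 : ⁅V, Y₁ ⊔ T₂⁆ ≤ W :=
      commutator_sup_le hWV ((le_sup_left.trans le_sup_left).trans h.le) (hT₂.trans h.le)
    rwa [c.hH₁] at h4
  · exact h

theorem AsymPair.B_decomp (c : AsymPair p H R Y₁ T₁ Y₂ T₂) (hc : IsChiefPair H V W)
    (hVR : V ≤ R) (hnc : ¬ ⁅V, H⁆ ≤ W) {b : G} (hb : b ∈ fixMod V W Y₁) :
    ∃ a ∈ ⁅V, Y₁⁆ ⊔ W, ∃ c' ∈ fixMod V W (Y₁ ⊔ Y₂), a * c' = b := by
  have hn : fixMod V W Y₂ ≤ Subgroup.normalizer ((⁅V, Y₁⁆ ⊔ W : Subgroup G) : Set G) :=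
    (fixMod_le V W Y₂).trans (c.V_le_normalizer hc hVR le_sup_right (c.A_le_V hc hVR))
  have hbV : b ∈ ⁅V, Y₁⁆ ⊔ W ⊔ fixMod V W Y₂ := by rw [c.A_sup_B hc hVR hnc]; exact hb.1
  obtain ⟨a, ha, b₂, hb₂, hab⟩ := (mem_sup_of_le_normalizer hn).mp hbV
  refine ⟨a, ha, b₂, ?_, hab⟩
  have hb₂' : b₂ ∈ fixMod V W Y₁ := by
    have e : b₂ = a⁻¹ * b := by rw [← hab]; group
    rw [e]
    exact Subgroup.mul_mem _ (Subgroup.inv_mem _ (c.A_le_B hc hVR ha)) hb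
  exact mem_fixMod_sup ((c.hYT₁.trans c.hTH₁).trans hc.2.1) ((c.hYT₂.trans c.hTH₂).trans hc.2.1)
    hb₂' hb₂

theorem AsymPair.AA_inf_B_le (c : AsymPair p H R Y₁ T₁ Y₂ T₂) (hc : IsChiefPair H V W)
    (hVR : V ≤ R) (hnc : ¬ ⁅V, H⁆ ≤ W) :
    (⁅V, Y₁⁆ ⊔ W ⊔ (⁅V, Y₂⁆ ⊔ W)) ⊓ fixMod V W Y₁ ≤ ⁅V, Y₁⁆ ⊔ W := by
  intro x hx
  have hn : ⁅V, Y₂⁆ ⊔ W ≤ Subgroup.normalizer ((⁅V, Y₁⁆ ⊔ W : Subgroup G) : Set G) :=
    (c.symm.A_le_V hc hVR).trans (c.V_le_normalizer hc hVR le_sup_right (c.A_le_V hc hVR))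
  obtain ⟨a₁, ha₁, a₂, ha₂, h12⟩ := (mem_sup_of_le_normalizer hn).mp hx.1
  have h2 : a₂ ∈ fixMod V W Y₁ := by
    have e : a₂ = a₁⁻¹ * x := by rw [← h12]; group
    rw [e]
    exact Subgroup.mul_mem _ (Subgroup.inv_mem _ (c.A_le_B hc hVR ha₁)) hx.2
  have h3 : a₂ ∈ W := c.A_inf_B_le hc hVR hnc ⟨ha₂, h2⟩
  rw [← h12]
  exact Subgroup.mul_mem _ ha₁ (le_sup_right (a := ⁅V, Y₁⁆) h3)

theorem AsymPair.mem_normalizer_A (c : AsymPair p H R Y₁ T₁ Y₂ T₂) (hc : IsChiefPair H V W)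
    (hVR : V ≤ R) (hnc : ¬ ⁅V, H⁆ ≤ W) {h : G} (hh : h ∈ Y₁ ⊔ Y₂)
    (hcomm : Y₁.map (MulAut.conj h).toMonoidHom ≤ Subgroup.centralizer (Y₁ : Set G)) :
    h ∈ Subgroup.normalizer ((⁅V, Y₁⁆ ⊔ W : Subgroup G) : Set G) := by
  have hLH : Y₁ ⊔ Y₂ ≤ H := sup_le (c.hYT₁.trans c.hTH₁) (c.hYT₂.trans c.hTH₂)
  have hhH : h ∈ H := hLH hh
  have hV : V.map (MulAut.conj h).toMonoidHom = V := conj_eq_self_of_mem_normalizer (hc.1 hhH)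
  have hW : W.map (MulAut.conj h).toMonoidHom = W := conj_eq_self_of_mem_normalizer (hc.2.1 hhH)
  have hRh : R.map (MulAut.conj h).toMonoidHom = R :=
    conj_eq_self_of_mem_normalizer (c.hHR hhH)
  apply mem_normalizer_of_conj_le
  rw [Subgroup.map_sup, Subgroup.map_commutator, hV, hW]
  have hYhL : Y₁.map (MulAut.conj h).toMonoidHom ≤ Y₁ ⊔ Y₂ := by
    rw [conj_le_iff]
    intro y hy
    exact Subgroup.mul_mem _ (Subgroup.mul_mem _ hh (le_sup_left (b := Y₂) hy))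
      (Subgroup.inv_mem _ hh)
  have hVN : V ≤ Subgroup.normalizer
      ((Y₁.map (MulAut.conj h).toMonoidHom : Subgroup G) : Set G) := by
    rw [normalizer_conj]
    calc V ≤ R := hVR
      _ = R.map (MulAut.conj h).toMonoidHom := hRh.symm
      _ ≤ (Subgroup.normalizer (Y₁ : Set G)).map (MulAut.conj h).toMonoidHom :=
        conj_mono c.hRY₁ h
  have h1 : ⁅V, Y₁.map (MulAut.conj h).toMonoidHom⁆ ≤ V ⊓ Y₁.map (MulAut.conj h).toMonoidHom :=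
    commutator_le_inf_of_le_normalizer ((hYhL.trans hLH).trans hc.1) hVN
  have h2 : ⁅V, Y₁.map (MulAut.conj h).toMonoidHom⁆ ≤ fixMod V W Y₁ := by
    intro x hx
    have h3 := h1 hx
    exact mem_fixMod_of_mem_centralizer h3.1 (hc.2.1 (c.hRH (hVR h3.1))) (hcomm h3.2)
  have h3 : ⁅V, Y₁.map (MulAut.conj h).toMonoidHom⁆ ≤ ⁅V, Y₁⁆ ⊔ W ⊔ (⁅V, Y₂⁆ ⊔ W) :=
    (Subgroup.commutator_mono le_rfl hYhL).trans
      (commutator_sup_le (sup_le (c.A_le_V hc hVR) (c.symm.A_le_V hc hVR))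
        (le_sup_left.trans le_sup_left) (le_sup_left.trans le_sup_right))
  exact sup_le ((le_inf h3 h2).trans (c.AA_inf_B_le hc hVR hnc)) le_sup_right

theorem AsymPair.mem_stabMod_B_A (c : AsymPair p H R Y₁ T₁ Y₂ T₂) (hc : IsChiefPair H V W)
    (hVR : V ≤ R) (hnc : ¬ ⁅V, H⁆ ≤ W) {h : G} (hh : h ∈ Y₁ ⊔ Y₂)
    (hcomm : Y₁.map (MulAut.conj h).toMonoidHom ≤ Subgroup.centralizer (Y₁ : Set G)) :
    h ∈ stabMod (fixMod V W Y₁) (⁅V, Y₁⁆ ⊔ W) := by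
  have hhA := c.mem_normalizer_A hc hVR hnc hh hcomm
  have key : ∀ b ∈ fixMod V W Y₁, ⁅b, h⁆ ∈ ⁅V, Y₁⁆ ⊔ W := by
    intro b hb
    obtain ⟨a, ha, c', hc', rfl⟩ := c.B_decomp hc hVR hnc hb
    have e : ⁅a * c', h⁆ = a * ⁅c', h⁆ * a⁻¹ * (a * (h * a⁻¹ * h⁻¹)) := by
      simp only [commutatorElement_def]; group
    rw [e]
    have haV : a ∈ V := c.A_le_V hc hVR ha
    have h1 : ⁅c', h⁆ ∈ W := hc'.2.2 h hh
    have h2 : a * ⁅c', h⁆ * a⁻¹ ∈ W :=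
      (Subgroup.mem_normalizer_iff.mp (hc.2.1 (c.hRH (hVR haV))) _).mp h1
    exact Subgroup.mul_mem _ (le_sup_right (a := ⁅V, Y₁⁆) h2)
      (Subgroup.mul_mem _ ha ((Subgroup.mem_normalizer_iff.mp hhA _).mp (Subgroup.inv_mem _ ha)))
  exact ⟨mem_normalizer_of_commutator_mem (fun b hb => c.A_le_B hc hVR (key b hb)), hhA, key⟩

theorem AsymPair.T_le_stabMod_A_W (c : AsymPair p H R Y₁ T₁ Y₂ T₂) (hc : IsChiefPair H V W)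
    (hVR : V ≤ R) : T₁ ≤ stabMod (⁅V, Y₁⁆ ⊔ W) W := by
  intro t ht
  have key : ∀ a ∈ ⁅V, Y₁⁆ ⊔ W, ⁅a, t⁆ ∈ W := fun a ha => (c.A_le_fixMod_T hc hVR ha).2.2 t ht
  exact ⟨mem_normalizer_of_commutator_mem (fun a ha => le_sup_right (a := ⁅V, Y₁⁆) (key a ha)),
    hc.2.1 (c.hTH₁ ht), key⟩

theorem AsymPair.T_le_stabMod_V_B (c : AsymPair p H R Y₁ T₁ Y₂ T₂) (hc : IsChiefPair H V W)
    (hVR : V ≤ R) : T₁ ≤ stabMod V (fixMod V W Y₁) := by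
  intro t ht
  have key : ∀ v ∈ V, ⁅v, t⁆ ∈ fixMod V W Y₁ := fun v hv =>
    c.inf_le_fixMod hc hVR (c.commutator_le_inf_T hc hVR (Subgroup.commutator_mem_commutator hv ht))
  exact ⟨hc.1 (c.hTH₁ ht), mem_normalizer_of_commutator_mem (fun b hb => key b hb.1), key⟩

/-- Key step: if `h ∈ ⟨Y₁, Y₂⟩` and `Y₁^h` commutes with `Y₁`, the `p'`-elements of `⟨T₁, T₁^h⟩` act
trivially on every noncentral chief factor of `H` inside `R`. -/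
theorem AsymPair.commutator_mem_of_coprime (c : AsymPair p H R Y₁ T₁ Y₂ T₂)
    (hc : IsChiefPair H V W) (hVR : V ≤ R) (hnc : ¬ ⁅V, H⁆ ≤ W) {h : G} (hh : h ∈ Y₁ ⊔ Y₂)
    (hcomm : Y₁.map (MulAut.conj h).toMonoidHom ≤ Subgroup.centralizer (Y₁ : Set G))
    (hT : IsPGroup p T₁) {x : G} (hx : x ∈ T₁ ⊔ T₁.map (MulAut.conj h).toMonoidHom)
    (hcop : (orderOf x).Coprime p) : ∀ v ∈ V, ⁅v, x⁆ ∈ W := by
  have hLH : Y₁ ⊔ Y₂ ≤ H := sup_le (c.hYT₁.trans c.hTH₁) (c.hYT₂.trans c.hTH₂)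
  have hhH : h ∈ H := hLH hh
  have hhBA := c.mem_stabMod_B_A hc hVR hnc hh hcomm
  have hTAW := c.T_le_stabMod_A_W hc hVR
  have hTVB := c.T_le_stabMod_V_B hc hVR
  have hTN : T₁ ≤ Subgroup.normalizer
      ((stabMod (⁅V, Y₁⁆ ⊔ W) W ⊓ stabMod (fixMod V W Y₁) (⁅V, Y₁⁆ ⊔ W) ⊓
        stabMod V (fixMod V W Y₁) : Subgroup G) : Set G) := by
    intro t ht
    apply mem_normalizer_of_conj_le
    rw [conj_le_iff]
    intro g hg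
    have ht1 := hTAW ht
    have ht2 := hTVB ht
    exact ⟨⟨conj_mem_stabMod hg.1.1 ht1.1 ht1.2.1, conj_mem_stabMod hg.1.2 ht2.2.1 ht1.1⟩,
      conj_mem_stabMod hg.2 ht2.1 ht2.2.1⟩
  have hconj : T₁.map (MulAut.conj h).toMonoidHom ≤ T₁ ⊔
      (stabMod (⁅V, Y₁⁆ ⊔ W) W ⊓ stabMod (fixMod V W Y₁) (⁅V, Y₁⁆ ⊔ W) ⊓
        stabMod V (fixMod V W Y₁)) := by
    rw [conj_le_iff]
    intro t ht
    have ht1 := hTAW ht
    have ht2 := hTVB ht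
    have h1 : h * t * h⁻¹ * t⁻¹ ∈ stabMod (⁅V, Y₁⁆ ⊔ W) W ⊓
        stabMod (fixMod V W Y₁) (⁅V, Y₁⁆ ⊔ W) ⊓ stabMod V (fixMod V W Y₁) := by
      refine ⟨⟨?_, ?_⟩, ?_⟩
      · exact Subgroup.mul_mem _ (conj_mem_stabMod ht1 hhBA.2.1 (hc.2.1 hhH))
          (Subgroup.inv_mem _ ht1)
      · have e : h * t * h⁻¹ * t⁻¹ = h * (t * h⁻¹ * t⁻¹) := by group
        rw [e]
        exact Subgroup.mul_mem _ hhBA
          (conj_mem_stabMod (Subgroup.inv_mem _ hhBA) ht2.2.1 ht1.1)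
      · exact Subgroup.mul_mem _ (conj_mem_stabMod ht2 (hc.1 hhH) hhBA.1)
          (Subgroup.inv_mem _ ht2)
    have e : h * t * h⁻¹ = (h * t * h⁻¹ * t⁻¹) * t := by group
    rw [e]
    exact Subgroup.mul_mem _ (le_sup_right (a := T₁) h1) (le_sup_left (a := T₁) ht)
  have hx' := (sup_le le_sup_left hconj) hx
  have hxN := Cfsg.Agent.Lib.helper52.mem_of_mem_sup_of_coprime_of_le_normalizer hTN hT hx' hcop
  have hVp : IsPGroup p V := c.hR.to_le hVR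
  have h1 : x ∈ stabMod V (⁅V, Y₁⁆ ⊔ W) := mem_stabMod_of_coprime hVp hxN.2 hxN.1.2 hcop
  have h2 : x ∈ stabMod V W := mem_stabMod_of_coprime hVp h1 hxN.1.1 hcop
  exact h2.2.2

/-- Theorem A′ (abstract form): if `h ∈ ⟨Y₁, Y₂⟩` and `Y₁^h` commutes with `Y₁`, then
`T₁^h = T₁`, for `T₁` a weakly closed `p`-subgroup and `H` of characteristic `p`. -/
theorem AsymPair.conj_eq (c : AsymPair p H R Y₁ T₁ Y₂ T₂) (hT : IsPGroup p T₁)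
    (hchar : H ⊓ Subgroup.centralizer (R : Set G) ≤ R)
    (hwc : Cfsg.IsWeaklyClosedSubgroup p T₁) {h : G} (hh : h ∈ Y₁ ⊔ Y₂)
    (hcomm : Y₁.map (MulAut.conj h).toMonoidHom ≤ Subgroup.centralizer (Y₁ : Set G)) :
    T₁.map (MulAut.conj h).toMonoidHom = T₁ := by
  have hLH : Y₁ ⊔ Y₂ ≤ H := sup_le (c.hYT₁.trans c.hTH₁) (c.hYT₂.trans c.hTH₂)
  have hhH : h ∈ H := hLH hh
  have hThH : T₁.map (MulAut.conj h).toMonoidHom ≤ H := by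
    rw [conj_le_iff]
    intro t ht
    exact H.mul_mem (H.mul_mem hhH (c.hTH₁ ht)) (H.inv_mem hhH)
  have hp : IsPGroup p (T₁ ⊔ T₁.map (MulAut.conj h).toMonoidHom : Subgroup G) := by
    apply isPGroup_of_forall_coprime_eq_one
    intro x hx hcop
    have hxH : x ∈ H := (sup_le c.hTH₁ hThH) hx
    apply eq_one_of_forall_chief c.hR c.hHR hchar hxH hcop
    intro V W hc hVR
    by_cases hnc : ⁅V, H⁆ ≤ W
    · intro v hv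
      exact hnc (Subgroup.commutator_mem_commutator hv hxH)
    · exact c.commutator_mem_of_coprime hc hVR hnc hh hcomm hT hx hcop
  exact wc_conj_eq hwc hp le_sup_left le_sup_right

/-- An element of `Y₁` normalizing `Y₂` acts trivially on every noncentral chief factor. -/
theorem AsymPair.commutator_mem_of_mem_normalizer (c : AsymPair p H R Y₁ T₁ Y₂ T₂)
    (hc : IsChiefPair H V W) (hVR : V ≤ R) (hnc : ¬ ⁅V, H⁆ ≤ W) {a : G} (ha : a ∈ Y₁)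
    (haY₂ : a ∈ Subgroup.normalizer (Y₂ : Set G)) : ∀ v ∈ V, ⁅v, a⁆ ∈ W := by
  have haH : a ∈ H := c.hTH₁ (c.hYT₁ ha)
  have haA₂ : a ∈ Subgroup.normalizer ((⁅V, Y₂⁆ ⊔ W : Subgroup G) : Set G) := by
    have h1 : a ∈ Subgroup.normalizer ((⁅V, Y₂⁆ : Subgroup G) : Set G) :=
      mem_normalizer_commutator (hc.1 haH) haY₂
    have h2 : Subgroup.zpowers a ≤ Subgroup.normalizer ((⁅V, Y₂⁆ ⊔ W : Subgroup G) : Set G) :=
      Cfsg.Agent.Lib.helper52.le_normalizer_sup (by rw [Subgroup.zpowers_le]; exact h1)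
        (by rw [Subgroup.zpowers_le]; exact hc.2.1 haH)
    exact h2 (Subgroup.mem_zpowers a)
  intro v hv
  have hsup := c.symm.A_sup_B hc hVR hnc
  have hA₂V : ⁅V, Y₂⁆ ⊔ W ≤ V := c.symm.A_le_V hc hVR
  have hn : fixMod V W Y₁ ≤ Subgroup.normalizer ((⁅V, Y₂⁆ ⊔ W : Subgroup G) : Set G) :=
    (fixMod_le V W Y₁).trans (c.V_le_normalizer hc hVR le_sup_right hA₂V)
  have hv' : v ∈ ⁅V, Y₂⁆ ⊔ W ⊔ fixMod V W Y₁ := by rw [hsup]; exact hv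
  obtain ⟨u, hu, b, hb, rfl⟩ := (mem_sup_of_le_normalizer hn).mp hv'
  have e : ⁅u * b, a⁆ = u * ⁅b, a⁆ * u⁻¹ * ⁅u, a⁆ := by
    simp only [commutatorElement_def]; group
  rw [e]
  have huV : u ∈ V := hA₂V hu
  have h1 : u * ⁅b, a⁆ * u⁻¹ ∈ W :=
    (Subgroup.mem_normalizer_iff.mp (hc.2.1 (c.hRH (hVR huV))) _).mp (hb.2.2 a ha)
  have h2 : ⁅u, a⁆ ∈ ⁅V, Y₂⁆ ⊔ W := by
    have e2 : ⁅u, a⁆ = u * (a * u⁻¹ * a⁻¹) := by simp only [commutatorElement_def]; group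
    rw [e2]
    exact Subgroup.mul_mem _ hu
      ((Subgroup.mem_normalizer_iff.mp haA₂ _).mp (Subgroup.inv_mem _ hu))
  have h3 : ⁅u, a⁆ ∈ fixMod V W Y₁ :=
    c.A_le_B hc hVR (le_sup_left (b := W) (Subgroup.commutator_mem_commutator huV ha))
  exact W.mul_mem h1 (c.A_inf_B_le hc hVR hnc ⟨h2, h3⟩)

end

end Cfsg.Agent.Lib.helper53
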