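import Cfsg.Agent.Lib.helper53.AsymL2
import Cfsg.Agent.Lib.helper29.Zipper
import Cfsg.Agent.Lib.helper12.Fin
import Cfsg.Agent.Lib.helper27.Radical

set_option autoImplicit false

namespace Cfsg.Agent.Lib.helper53

open scoped commutatorElement Pointwise

variable {G : Type*} [Group G]

/-- The elements of `H` acting trivially on every chief factor of `H` inside `R`. -/
def chiefKer (H R : Subgroup G) : Subgroup G :=
  H ⊓ sInf {S : Subgroup G | ∃ V W : Subgroup G, IsChiefPair H V W ∧ V ≤ R ∧ S = stabMod V W}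

theorem mem_chiefKer {H R : Subgroup G} {g : G} :
    g ∈ chiefKer H R ↔
      g ∈ H ∧ ∀ V W : Subgroup G, IsChiefPair H V W → V ≤ R → g ∈ stabMod V W := by
  unfold chiefKer
  rw [Subgroup.mem_inf, Subgroup.mem_sInf]
  constructor
  · rintro ⟨h1, h2⟩
    exact ⟨h1, fun V W hc hVR => h2 _ ⟨V, W, hc, hVR, rfl⟩⟩
  · rintro ⟨h1, h2⟩
    refine ⟨h1, ?_⟩
    rintro S ⟨V, W, hc, hVR, rfl⟩
    exact h2 V W hc hVR

theorem chiefKer_le_pCoreOf [Finite G] {p : ℕ} [Fact p.Prime] {H : Subgroup G}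
    (hchar : H ⊓ Subgroup.centralizer (Cfsg.pCoreOf p H : Set G) ≤ Cfsg.pCoreOf p H) :
    chiefKer H (Cfsg.pCoreOf p H) ≤ Cfsg.pCoreOf p H := by
  apply le_pCoreOf
  · intro g hg
    exact (mem_chiefKer.mp hg).1
  · intro n hn
    apply mem_normalizer_of_conj_le
    rw [conj_le_iff]
    intro g hg
    rw [mem_chiefKer] at hg ⊢
    refine ⟨H.mul_mem (H.mul_mem hn hg.1) (H.inv_mem hn), ?_⟩
    intro V W hc hVR
    exact conj_mem_stabMod (hg.2 V W hc hVR) (hc.1 hn) (hc.2.1 hn)
  · apply isPGroup_of_forall_coprime_eq_one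
    intro x hx hcop
    rw [mem_chiefKer] at hx
    exact eq_one_of_forall_chief (pCoreOf_isPGroup p H) (le_normalizer_pCoreOf p H) hchar hx.1
      hcop (fun V W hc hVR => (hx.2 V W hc hVR).2.2)

/-- The configuration of the asymmetric `L`-lemma, in abstract form: `Y ≤ T` with `T` a weakly
closed `p`-subgroup centralizing the asymmetric subgroup `Y`, `H` of characteristic `p` minimal
over `T` with `Y ≰ O_p(H)`, and `L ≤ H` minimal over `Y` with `Y ≰ O_p(L)`. -/
structure AsymSetup (p : ℕ) (H L Y T : Subgroup G) : Prop where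
  hYT : Y ≤ T
  hTY : T ≤ Subgroup.centralizer (Y : Set G)
  hTp : IsPGroup p T
  hwc : Cfsg.IsWeaklyClosedSubgroup p T
  hNT : Subgroup.normalizer (T : Set G) ≤ Subgroup.normalizer (Y : Set G)
  hasym : ¬ Cfsg.IsSymmetricIn Y
  hRN : Cfsg.pCoreOf p H ≤ Subgroup.normalizer (T : Set G) ⊓ Subgroup.normalizer (Y : Set G)
  hTH : T ≤ H
  hfrak : ∀ P : Subgroup G, T ≤ P → P < H → Y ≤ Cfsg.pCoreOf p P
  hchar : H ⊓ Subgroup.centralizer (Cfsg.pCoreOf p H : Set G) ≤ Cfsg.pCoreOf p H
  hLH : L ≤ H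
  hYL : Y ≤ L
  hYO : ¬ Y ≤ Cfsg.pCoreOf p L
  hmin : ∀ L' : Subgroup G, L' ≤ L → Y ≤ L' → ¬ Y ≤ Cfsg.pCoreOf p L' → L' = L

section
variable [Finite G] {p : ℕ} [Fact p.Prime] {H L Y T : Subgroup G}

theorem AsymSetup.hYp (c : AsymSetup p H L Y T) : IsPGroup p Y := c.hTp.to_le c.hYT

theorem AsymSetup.sup_eq (c : AsymSetup p H L Y T) : L ⊔ T = H := by
  by_contra hne
  have h1 : L ⊔ T ≤ H := sup_le c.hLH c.hTH
  have h2 : Y ≤ Cfsg.pCoreOf p (L ⊔ T) := c.hfrak _ le_sup_right (lt_of_le_of_ne h1 hne)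
  exact c.hYO ((le_inf h2 c.hYL).trans (pCoreOf_inf_le le_sup_left))

theorem snChain_of_le_pCoreOf {X A : Subgroup G} (h : A ≤ Cfsg.pCoreOf p X) :
    Cfsg.Agent.Lib.helper29.SNChain A X := by
  haveI : Group.IsNilpotent ↥(Cfsg.pCoreOf p X) := (pCoreOf_isPGroup p X).isNilpotent
  have h1 : Cfsg.Agent.Lib.helper29.SNChain A (Cfsg.pCoreOf p X) :=
    Cfsg.Agent.Lib.helper29.snChain_iff.mpr
      ⟨h, Cfsg.Agent.Lib.helper12.isSubnormal_of_isNilpotent _⟩
  exact h1.trans
    (Cfsg.Agent.Lib.helper29.SNChain.of_normal (pCoreOf_le p X) (le_normalizer_pCoreOf p X))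

theorem AsymSetup.exists_conj (c : AsymSetup p H L Y T) :
    ∃ l ∈ L, Y ⊔ Y.map (MulAut.conj l).toMonoidHom = L := by
  by_contra hcon
  push Not at hcon
  have h1 : Cfsg.Agent.Lib.helper29.SNChain Y L := by
    apply Cfsg.Agent.Lib.helper29.wielandt_aux Y (Nat.card L) L rfl c.hYL
    intro a ha g hg
    have hx : g⁻¹ * a * g ∈ L := L.mul_mem (L.mul_mem (L.inv_mem hg) (c.hYL ha)) hg
    have hXL : Y ⊔ Y.map (MulAut.conj (g⁻¹ * a * g)).toMonoidHom ≤ L := by
      refine sup_le c.hYL ?_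
      rw [conj_le_iff]
      intro y hy
      exact L.mul_mem (L.mul_mem hx (c.hYL hy)) (L.inv_mem hx)
    apply snChain_of_le_pCoreOf (p := p)
    by_contra hn
    exact hcon _ hx (c.hmin _ hXL le_sup_left hn)
  have h2 := (Cfsg.Agent.Lib.helper29.snChain_iff.mp h1).2
  exact c.hYO (Cfsg.Agent.Lib.helper27.le_map_pCore_of_subnormal c.hYL h2 c.hYp)

theorem AsymSetup.asymPair (c : AsymSetup p H L Y T) {l : G} (hl : l ∈ L)
    (hL : Y ⊔ Y.map (MulAut.conj l).toMonoidHom = L) :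
    AsymPair p H (Cfsg.pCoreOf p H) Y T (Y.map (MulAut.conj l).toMonoidHom)
      (T.map (MulAut.conj l).toMonoidHom) := by
  have hlH : l ∈ H := c.hLH hl
  have hRl : (Cfsg.pCoreOf p H).map (MulAut.conj l).toMonoidHom = Cfsg.pCoreOf p H :=
    conj_eq_self_of_mem_normalizer (le_normalizer_pCoreOf p H hlH)
  have hHl : H.map (MulAut.conj l).toMonoidHom = H :=
    conj_eq_self_of_mem_normalizer (Subgroup.le_normalizer hlH)
  have hLl : L.map (MulAut.conj l).toMonoidHom = L :=
    conj_eq_self_of_mem_normalizer (Subgroup.le_normalizer hl)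
  have hTlH : T.map (MulAut.conj l).toMonoidHom ≤ H := by
    have := conj_mono c.hTH l
    rwa [hHl] at this
  refine ⟨pCoreOf_isPGroup p H, pCoreOf_le p H, le_normalizer_pCoreOf p H, c.hYT, c.hTH, c.hTY,
    c.hRN.trans inf_le_right, c.hRN.trans inf_le_left, conj_mono c.hYT l, hTlH, ?_, ?_, ?_, ?_, ?_⟩
  · rw [centralizer_conj]
    exact conj_mono c.hTY l
  · rw [normalizer_conj, ← hRl]
    exact conj_mono (c.hRN.trans inf_le_right) l
  · rw [normalizer_conj, ← hRl]
    exact conj_mono (c.hRN.trans inf_le_left) l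
  · apply le_antisymm (sup_le (c.hYT.trans c.hTH) hTlH)
    have h1 : H = L ⊔ T.map (MulAut.conj l).toMonoidHom := by
      have := congrArg (fun X : Subgroup G => X.map (MulAut.conj l).toMonoidHom) c.sup_eq
      simp only [Subgroup.map_sup] at this
      rw [hLl, hHl] at this
      exact this.symm
    calc H = L ⊔ T.map (MulAut.conj l).toMonoidHom := h1
      _ = (Y ⊔ Y.map (MulAut.conj l).toMonoidHom) ⊔ T.map (MulAut.conj l).toMonoidHom := by
        rw [hL]
      _ ≤ Y ⊔ T.map (MulAut.conj l).toMonoidHom :=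
        sup_le (sup_le le_sup_left ((conj_mono c.hYT l).trans le_sup_right)) le_sup_right
  · apply le_antisymm (sup_le ((conj_mono c.hYT l).trans hTlH) c.hTH)
    calc H = L ⊔ T := c.sup_eq.symm
      _ = (Y ⊔ Y.map (MulAut.conj l).toMonoidHom) ⊔ T := by rw [hL]
      _ ≤ Y.map (MulAut.conj l).toMonoidHom ⊔ T :=
        sup_le (sup_le (c.hYT.trans le_sup_right) le_sup_left) le_sup_right

/-- Theorem A′: an element `h ∈ L` with `[Y, Y^h] = 1` normalizes `Y`. -/
theorem AsymSetup.mem_normalizer_of_commute (c : AsymSetup p H L Y T) {h : G} (hh : h ∈ L)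
    (hcomm : Y ≤ Subgroup.centralizer
      ((Y.map (MulAut.conj h).toMonoidHom : Subgroup G) : Set G)) :
    h ∈ Subgroup.normalizer (Y : Set G) := by
  obtain ⟨l, hl, hL⟩ := c.exists_conj
  have pair := c.asymPair hl hL
  have hh' : h ∈ Y ⊔ Y.map (MulAut.conj l).toMonoidHom := by rw [hL]; exact hh
  have h1 := pair.conj_eq c.hTp c.hchar c.hwc hh' (Subgroup.le_centralizer_iff.mp hcomm)
  exact c.hNT (mem_normalizer_of_conj_eq_self h1)

/-- Every proper subgroup of `L` containing `Y` normalizes `Y`. -/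
theorem AsymSetup.le_normalizer_of_lt (c : AsymSetup p H L Y T) {X : Subgroup G} (hYX : Y ≤ X)
    (hXL : X < L) : X ≤ Subgroup.normalizer (Y : Set G) := by
  have hYD : Y ≤ Cfsg.pCoreOf p X := by
    by_contra hn
    exact hXL.ne (c.hmin X hXL.le hYX hn)
  have hDN : Cfsg.pCoreOf p X ≤ Subgroup.normalizer (Y : Set G) := by
    by_contra hcon
    have hlt : Cfsg.pCoreOf p X ⊓ Subgroup.normalizer (Y : Set G) < Cfsg.pCoreOf p X := by
      refine lt_of_le_of_ne inf_le_left ?_
      intro h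
      exact hcon (h ▸ inf_le_right)
    obtain ⟨w, hwD, hwn, hwN⟩ := exists_mem_normalizer_not_mem (pCoreOf_isPGroup p X) hlt
    have h1 := asym_le_centralizer_conj c.hasym (le_inf hYD Subgroup.le_normalizer)
      inf_le_right hwN
    exact hwn ⟨hwD, c.mem_normalizer_of_commute (hXL.le (pCoreOf_le p X hwD)) h1⟩
  intro x hx
  have h1 := asym_le_centralizer_conj c.hasym hYD hDN (le_normalizer_pCoreOf p X hx)
  exact c.mem_normalizer_of_commute (hXL.le hx) h1

theorem AsymSetup.inf_normalizer_lt (c : AsymSetup p H L Y T) :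
    L ⊓ Subgroup.normalizer (Y : Set G) < L := by
  refine lt_of_le_of_ne inf_le_left ?_
  intro h
  exact c.hYO (le_pCoreOf c.hYL (h ▸ inf_le_right) c.hYp)

theorem AsymSetup.sup_conj_eq (c : AsymSetup p H L Y T) {h : G} (hh : h ∈ L)
    (hn : h ∉ Subgroup.normalizer (Y : Set G)) :
    Y ⊔ Y.map (MulAut.conj h).toMonoidHom = L := by
  by_contra hne
  have hYh : Y.map (MulAut.conj h).toMonoidHom ≤ L := by
    rw [conj_le_iff]
    intro y hy
    exact L.mul_mem (L.mul_mem hh (c.hYL hy)) (L.inv_mem hh)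
  have hYh' : Y.map (MulAut.conj h⁻¹).toMonoidHom ≤ L := by
    rw [conj_le_iff]
    intro y hy
    exact L.mul_mem (L.mul_mem (L.inv_mem hh) (c.hYL hy)) (L.inv_mem (L.inv_mem hh))
  have h1 : Y.map (MulAut.conj h).toMonoidHom ≤ Subgroup.normalizer (Y : Set G) :=
    le_sup_right.trans
      (c.le_normalizer_of_lt le_sup_left (lt_of_le_of_ne (sup_le c.hYL hYh) hne))
  have hne' : Y ⊔ Y.map (MulAut.conj h⁻¹).toMonoidHom ≠ L := by
    intro h2
    apply hne
    have h3 := congrArg (fun X : Subgroup G => X.map (MulAut.conj h).toMonoidHom) h2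
    simp only [Subgroup.map_sup, conj_conj, mul_inv_cancel, conj_one] at h3
    rw [conj_eq_self_of_mem_normalizer (Subgroup.le_normalizer hh)] at h3
    rw [sup_comm]
    exact h3
  have h2 : Y.map (MulAut.conj h⁻¹).toMonoidHom ≤ Subgroup.normalizer (Y : Set G) :=
    le_sup_right.trans
      (c.le_normalizer_of_lt le_sup_left (lt_of_le_of_ne (sup_le c.hYL hYh') hne'))
  have h3 : Y ≤ Subgroup.normalizer
      ((Y.map (MulAut.conj h).toMonoidHom : Subgroup G) : Set G) := by
    rw [normalizer_conj, le_conj_iff]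
    exact h2
  have h4 : ⁅Y, Y.map (MulAut.conj h).toMonoidHom⁆ ≤ Y ⊓ Y.map (MulAut.conj h).toMonoidHom :=
    commutator_le_inf_of_le_normalizer h1 h3
  have h5 : ⁅Y, Y.map (MulAut.conj h).toMonoidHom⁆ = ⊥ := by
    by_contra hb
    exact c.hasym ⟨h, hb, h4⟩
  exact hn (c.mem_normalizer_of_commute hh (Subgroup.commutator_eq_bot_iff_le_centralizer.mp h5))

theorem AsymSetup.conj_sup_eq (c : AsymSetup p H L Y T) {h : G} (hh : h ∈ L)
    (hn : h ∉ Subgroup.normalizer (Y : Set G)) :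
    Y.map (MulAut.conj h).toMonoidHom ⊔ T = H := by
  have h1 := c.sup_conj_eq hh hn
  apply le_antisymm
  · exact sup_le ((le_sup_right.trans h1.le).trans c.hLH) c.hTH
  · calc H = L ⊔ T := c.sup_eq.symm
      _ = (Y ⊔ Y.map (MulAut.conj h).toMonoidHom) ⊔ T := by rw [h1]
      _ ≤ Y.map (MulAut.conj h).toMonoidHom ⊔ T :=
        sup_le (sup_le (c.hYT.trans le_sup_right) le_sup_left) le_sup_right

theorem AsymSetup.isMinimalOver (c : AsymSetup p H L Y T) :
    Cfsg.IsMinimalOver (Y.subgroupOf L) := by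
  have key : ∀ K : Subgroup ↥L, Y.subgroupOf L ≤ K → K ≠ ⊤ →
      K ≤ (L ⊓ Subgroup.normalizer (Y : Set G)).subgroupOf L := by
    intro K hYK hK
    have h1 : Y ≤ K.map L.subtype := by
      intro y hy
      exact ⟨⟨y, c.hYL hy⟩, hYK (Subgroup.mem_subgroupOf.mpr hy), rfl⟩
    have h2 : K.map L.subtype < L := by
      refine lt_of_le_of_ne (Subgroup.map_subtype_le K) ?_
      intro h3
      apply hK
      rw [eq_top_iff]
      intro x _
      have hx : (x : G) ∈ K.map L.subtype := by rw [h3]; exact x.2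
      obtain ⟨y, hy, hyx⟩ := hx
      have : y = x := Subtype.ext hyx
      rw [← this]
      exact hy
    have h3 := c.le_normalizer_of_lt h1 h2
    intro k hk
    rw [Subgroup.mem_subgroupOf]
    exact ⟨k.2, h3 ⟨k, hk, rfl⟩⟩
  have hM₀ : (L ⊓ Subgroup.normalizer (Y : Set G)).subgroupOf L ≠ ⊤ := by
    intro h
    rw [Subgroup.subgroupOf_eq_top] at h
    exact c.inf_normalizer_lt.ne (le_antisymm inf_le_left h)
  have hYM₀ : Y.subgroupOf L ≤ (L ⊓ Subgroup.normalizer (Y : Set G)).subgroupOf L := by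
    intro x hx
    rw [Subgroup.mem_subgroupOf] at hx ⊢
    exact ⟨x.2, Subgroup.le_normalizer hx⟩
  constructor
  · have h1 : conjClosure Y L = L := by
      by_contra hne
      have h2 : conjClosure Y L ≤ L := conjClosure_le c.hYL Subgroup.le_normalizer
      have h3 : Y ≤ Cfsg.pCoreOf p (conjClosure Y L) := by
        by_contra hn
        exact hne (c.hmin _ h2 (le_conjClosure Y L) hn)
      exact c.hYO (h3.trans (pCoreOf_le_of_normal h2 (le_normalizer_conjClosure Y L)))
    rw [eq_top_iff]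
    intro x _
    have hx : (x : G) ∈ (Subgroup.normalClosure
        ((Y.subgroupOf L : Subgroup ↥L) : Set ↥L)).map L.subtype := by
      rw [normalClosure_subgroupOf_map c.hYL, h1]
      exact x.2
    obtain ⟨y, hy, hyx⟩ := hx
    have : y = x := Subtype.ext hyx
    rw [← this]
    exact hy
  · refine ⟨(L ⊓ Subgroup.normalizer (Y : Set G)).subgroupOf L, ⟨⟨hM₀, ?_⟩, hYM₀⟩, ?_⟩
    · intro K hK
      by_contra hKt
      exact (not_le_of_gt hK) (key K (hYM₀.trans hK.le) hKt)
    · rintro M' ⟨hM'co, hYM'⟩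
      have h1 := key M' hYM' hM'co.1
      by_contra hne
      exact hM₀ (hM'co.2 _ (lt_of_le_of_ne h1 hne))

theorem AsymSetup.charP (c : AsymSetup p H L Y T) :
    Subgroup.centralizer (Cfsg.pCore p ↥L : Set ↥L) ≤ Cfsg.pCore p ↥L := by
  apply charP_subtype_of_ambient
  obtain ⟨l, hl, hL⟩ := c.exists_conj
  have pair := c.asymPair hl hL
  have hRL : Cfsg.pCoreOf p H ≤ Subgroup.normalizer (L : Set G) := by
    have := Cfsg.Agent.Lib.helper52.le_normalizer_sup pair.hRY₁ pair.hRY₂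
    rwa [hL] at this
  apply le_pCoreOf inf_le_left
  · exact Cfsg.Agent.Lib.helper52.le_normalizer_inf Subgroup.le_normalizer
      ((le_normalizer_pCoreOf p L).trans (normalizer_le_normalizer_centralizer53 _))
  · apply isPGroup_of_forall_coprime_eq_one
    intro x hx hcop
    obtain ⟨hxL, hxC⟩ := Subgroup.mem_inf.mp hx
    have hxH : x ∈ H := c.hLH hxL
    have h1 : x ∈ Subgroup.centralizer (Cfsg.pCoreOf p H : Set G) := by
      rw [Subgroup.mem_centralizer_iff]
      intro r hr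
      have h2 : ⁅r, x⁆ ∈ Cfsg.pCoreOf p H ⊓ L := by
        constructor
        · have e : ⁅r, x⁆ = r * (x * r⁻¹ * x⁻¹) := by
            simp only [commutatorElement_def]; group
          rw [e]
          exact Subgroup.mul_mem _ hr
            ((Subgroup.mem_normalizer_iff.mp (le_normalizer_pCoreOf p H hxH) _).mp
              (Subgroup.inv_mem _ hr))
        · have e : ⁅r, x⁆ = r * x * r⁻¹ * x⁻¹ := by simp only [commutatorElement_def]
          rw [e]
          exact L.mul_mem ((Subgroup.mem_normalizer_iff.mp (hRL hr) x).mp hxL) (L.inv_mem hxL)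
      have h3 : ⁅r, x⁆ ∈ Cfsg.pCoreOf p L := pCoreOf_inf_le c.hLH h2
      have h4 : ⁅r, x⁆ = 1 := by
        apply commutatorElement_eq_one_of_coprime hcop
        · obtain ⟨k, hk⟩ := (pCoreOf_isPGroup p L) ⟨_, h3⟩
          refine ⟨k, ?_⟩
          have := congrArg Subtype.val hk
          simpa using this
        · exact (Subgroup.mem_centralizer_iff.mp hxC _ h3)
      rw [commutatorElement_eq_one_iff_commute] at h4
      exact h4.eq
    have h2 : x ∈ Cfsg.pCoreOf p H := c.hchar ⟨hxH, h1⟩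
    obtain ⟨k, hk⟩ := (pCoreOf_isPGroup p H) ⟨x, h2⟩
    have h3 : x ^ p ^ k = 1 := by
      have := congrArg Subtype.val hk
      simpa using this
    have h4 : orderOf x ∣ p ^ k := orderOf_dvd_of_pow_eq_one h3
    exact orderOf_eq_one_iff.mp (Nat.Coprime.eq_one_of_dvd (Nat.Coprime.pow_right k hcop) h4)

theorem AsymSetup.pResidual_sup (c : AsymSetup p H L Y T) :
    (Cfsg.pResidual p ↥L).map L.subtype ⊔ Y = L := by
  by_contra hne
  have hOL : (Cfsg.pResidual p ↥L).map L.subtype ≤ L := Subgroup.map_subtype_le _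
  have h1 : (Cfsg.pResidual p ↥L).map L.subtype ≤ Subgroup.normalizer (Y : Set G) :=
    le_sup_left.trans
      (c.le_normalizer_of_lt le_sup_right (lt_of_le_of_ne (sup_le hOL c.hYL) hne))
  obtain ⟨P, hP⟩ := (c.hYp.comap_subtype (K := L)).exists_le_sylow
  have hYP : Y ≤ (P : Subgroup ↥L).map L.subtype := by
    intro y hy
    exact ⟨⟨y, c.hYL hy⟩, hP (Subgroup.mem_subgroupOf.mpr hy), rfl⟩
  have hPL : (P : Subgroup ↥L).map L.subtype ≤ L := Subgroup.map_subtype_le _
  have hPne : (P : Subgroup ↥L).map L.subtype ≠ L := by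
    intro h2
    have hLp : IsPGroup p L := by
      have := P.2.map L.subtype
      rwa [h2] at this
    exact c.hYO (c.hYL.trans (le_pCoreOf le_rfl Subgroup.le_normalizer hLp))
  have h2 : (P : Subgroup ↥L).map L.subtype ≤ Subgroup.normalizer (Y : Set G) :=
    c.le_normalizer_of_lt hYP (lt_of_le_of_ne hPL hPne)
  have h3 : L ≤ Subgroup.normalizer (Y : Set G) := by
    have := sup_le h1 h2
    rwa [map_pResidual_sup_sylow L P] at this
  exact c.inf_normalizer_lt.ne (le_antisymm inf_le_left (le_inf le_rfl h3))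

theorem AsymSetup.not_commutator_le (c : AsymSetup p H L Y T) {V W : Subgroup G}
    (hc : IsChiefPair H V W) (hVR : V ≤ Cfsg.pCoreOf p H) (hnc : ¬ ⁅V, H⁆ ≤ W) :
    ¬ ⁅V, (Cfsg.pResidual p ↥L).map L.subtype⁆ ≤ W := by
  apply hc.not_commutator_le hnc ((pCoreOf_isPGroup p H).to_le hVR)
    (hVR.trans (pCoreOf_le p H)) c.hTp
  apply le_antisymm (sup_le ((Subgroup.map_subtype_le _).trans c.hLH) c.hTH)
  calc H = L ⊔ T := c.sup_eq.symm
    _ = ((Cfsg.pResidual p ↥L).map L.subtype ⊔ Y) ⊔ T := by rw [c.pResidual_sup]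
    _ ≤ (Cfsg.pResidual p ↥L).map L.subtype ⊔ T :=
      sup_le (sup_le le_sup_left (c.hYT.trans le_sup_right)) le_sup_right

theorem AsymSetup.pCoreOf_le_normalizer (c : AsymSetup p H L Y T) :
    Cfsg.pCoreOf p L ≤ Subgroup.normalizer (Y : Set G) := by
  have h1 : Y ⊔ Cfsg.pCoreOf p L ≤ L := sup_le c.hYL (pCoreOf_le p L)
  have hne : Y ⊔ Cfsg.pCoreOf p L ≠ L := by
    intro h2
    have hLp : IsPGroup p L := by
      have : IsPGroup p (Y ⊔ Cfsg.pCoreOf p L : Subgroup G) :=
        c.hYp.to_sup_of_normal_right' (pCoreOf_isPGroup p L)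
          (c.hYL.trans (le_normalizer_pCoreOf p L))
      rwa [h2] at this
    exact c.hYO (c.hYL.trans (le_pCoreOf le_rfl Subgroup.le_normalizer hLp))
  exact le_sup_right.trans (c.le_normalizer_of_lt le_sup_left (lt_of_le_of_ne h1 hne))

theorem AsymSetup.normalClosure_le (c : AsymSetup p H L Y T) :
    (Subgroup.normalClosure ((((Cfsg.pCoreOf p L) ⊓ Y).subgroupOf L : Subgroup ↥L) :
      Set ↥L)).map L.subtype ≤ Cfsg.pCoreOf p H := by
  rw [normalClosure_subgroupOf_map (inf_le_right.trans c.hYL)]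
  apply conjClosure_le _ (c.hLH.trans (le_normalizer_pCoreOf p H))
  refine le_trans ?_ (chiefKer_le_pCoreOf c.hchar)
  obtain ⟨l, hl, hL⟩ := c.exists_conj
  have pair := c.asymPair hl hL
  intro a ha
  obtain ⟨haD, haY⟩ := Subgroup.mem_inf.mp ha
  have haH : a ∈ H := c.hLH (c.hYL haY)
  have haY₂ : a ∈ Subgroup.normalizer
      ((Y.map (MulAut.conj l).toMonoidHom : Subgroup G) : Set G) := by
    rw [normalizer_conj]
    have h1 : (Cfsg.pCoreOf p L).map (MulAut.conj l).toMonoidHom = Cfsg.pCoreOf p L :=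
      conj_eq_self_of_mem_normalizer (le_normalizer_pCoreOf p L hl)
    have h2 := conj_mono c.pCoreOf_le_normalizer l
    rw [h1] at h2
    exact h2 haD
  rw [mem_chiefKer]
  refine ⟨haH, ?_⟩
  intro V W hc hVR
  refine ⟨hc.1 haH, hc.2.1 haH, ?_⟩
  by_cases hnc : ⁅V, H⁆ ≤ W
  · intro v hv
    exact hnc (Subgroup.commutator_mem_commutator hv haH)
  · exact pair.commutator_mem_of_mem_normalizer hc hVR hnc haY haY₂

end

/-- The hypotheses of the asymmetric `L`-lemma give the abstract configuration. -/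
theorem asymSetup_of_frak [Finite G] {p : ℕ} [Fact p.Prime] (S : Sylow p G) {Q : Subgroup G}
    (hQp : IsPGroup p Q) (hQ : Cfsg.IsLarge Q) {M : Subgroup G} (hSM : (S : Subgroup G) ≤ M)
    (hM : Cfsg.IsInFrakM p M) (hasym : ¬ Cfsg.IsSymmetricIn (Cfsg.largestPReducedOf p M))
    {H : Subgroup G} (hH : Cfsg.IsInFrakH p M H) {L : Subgroup G} (hLH : L ≤ H)
    (hYL : Cfsg.largestPReducedOf p M ≤ L)
    (hYO : ¬ Cfsg.largestPReducedOf p M ≤ Cfsg.pCoreOf p L)
    (hmin : ∀ L' : Subgroup G, L' ≤ L → Cfsg.largestPReducedOf p M ≤ L' →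
      ¬ Cfsg.largestPReducedOf p M ≤ Cfsg.pCoreOf p L' → L' = L) :
    AsymSetup p H L (Cfsg.largestPReducedOf p M) (Cfsg.pCoreOf p M) :=
  { hYT := largestPReducedOf_le_pCoreOf p M
    hTY := pCoreOf_le_centralizer_largestPReducedOf p M
    hTp := pCoreOf_isPGroup p M
    hwc := frakM_pCoreOf_wc S hQp hQ hSM hM hasym
    hNT := ((frakM_normalizer_le S hQp hQ hSM hM hasym (pCoreOf_isPGroup p M) le_rfl).2).trans
      inf_le_left
    hasym := hasym
    hRN := frakH_pCoreOf_le S hQp hQ hSM hM hasym hH.2.1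
    hTH := hH.2.1
    hfrak := hH.2.2.2
    hchar := charP_ambient_of_subtype hH.1
    hLH := hLH
    hYL := hYL
    hYO := hYO
    hmin := hmin }

end Cfsg.Agent.Lib.helper53
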