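import Mathlib
import Cfsg.Prelude.Def_Characters
import Cfsg.Agent.Lib.helper4.FinOrder

/-! S4504 split project (helper2), piece B (`norm_central`): for a faithful character `ψ`,
`‖ψ g‖ = ‖ψ 1‖` forces `g` to be central. -/

set_option autoImplicit false

open Cfsg
open scoped ComplexConjugate

namespace Cfsg.Agent.Lib.helper2.BG

variable {G : Type*} [Group G] [Fintype G]

/-- B. -/
theorem norm_central (ψ : G → ℂ) (hψ : IsCharacter G ψ)
    (hfaith : ∀ g : G, ψ g = ψ 1 → g = 1) (g : G) (h : ‖ψ g‖ = ‖ψ 1‖) :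
    g ∈ Subgroup.center G := by
  obtain ⟨n, ρ, rfl⟩ := hψ
  have hfin : Module.finrank ℂ (Fin n → ℂ) = n := by simp
  have h1 : ρ.character 1 = (n : ℂ) := by rw [Representation.char_one, hfin]
  have hnorm : ‖ρ.character g‖ = (Module.finrank ℂ (Fin n → ℂ) : ℝ) := by
    rw [h, h1, hfin]
    simp
  obtain ⟨ω, hω⟩ := (Cfsg.Agent.Lib.helper4.norm_char_eq_iff ρ g).mp hnorm
  rw [Subgroup.mem_center_iff]
  intro k
  have hcomm : ρ k * ρ g = ρ g * ρ k := by
    rw [hω]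
    ext v
    simp
  have h2 : ρ (k * g * k⁻¹ * g⁻¹) = 1 := by
    have e1 : ρ (k * g * k⁻¹ * g⁻¹) = ρ k * ρ g * ρ k⁻¹ * ρ g⁻¹ := by
      rw [map_mul, map_mul, map_mul]
    rw [e1, hcomm, mul_assoc (ρ g) (ρ k) (ρ k⁻¹), ← map_mul ρ k k⁻¹, mul_inv_cancel, map_one,
      mul_one, ← map_mul, mul_inv_cancel, map_one]
  have h3 : ρ.character (k * g * k⁻¹ * g⁻¹) = ρ.character 1 := by
    show LinearMap.trace ℂ _ (ρ (k * g * k⁻¹ * g⁻¹)) = LinearMap.trace ℂ _ (ρ 1)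
    rw [h2, map_one ρ]
  have h4 := hfaith _ h3
  calc k * g = (k * g * k⁻¹ * g⁻¹) * (g * k) := by group
    _ = g * k := by rw [h4, one_mul]

end Cfsg.Agent.Lib.helper2.BG
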