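import Mathlib
import Cfsg.Prelude.Def_Characters
import Cfsg.Agent.Lib.helper4.FinOrder
import Cfsg.Agent.Lib.helper4.RepBasic

/-! S4504 split project (helper2), piece C (`central_scalar`): a central element acts on an
irreducible character by a scalar of norm one (Schur). -/

set_option autoImplicit false

open Cfsg
open scoped ComplexConjugate

namespace Cfsg.Agent.Lib.helper2.BG

/-- Schur: an element whose operator commutes with the whole image of an irreducible
representation acts as a scalar. -/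
theorem helper53_schur {G V : Type*} [Group G] [AddCommGroup V] [Module ℂ V]
    [FiniteDimensional ℂ V] (ρ : Representation ℂ G V) (hρ : ρ.IsIrreducible) (k : G)
    (hk : ∀ g : G, ρ g * ρ k = ρ k * ρ g) :
    ∃ t : ℂ, ρ k = t • (LinearMap.id : V →ₗ[ℂ] V) := by
  let f : Representation.IntertwiningMap ρ ρ :=
    { toLinearMap := ρ k
      isIntertwining' := fun g => (hk g).symm }
  obtain ⟨t, ht⟩ :=
    (Representation.IsIrreducible.algebraMap_intertwiningMap_bijective_of_isAlgClosed (ρ := ρ)).2 f
  refine ⟨t, ?_⟩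
  have h1 := congrArg Representation.IntertwiningMap.toLinearMap ht
  rw [Representation.IntertwiningMap.algebraMap_apply] at h1
  exact h1.symm

variable {G : Type*} [Group G] [Fintype G]

/-- C. -/
theorem central_scalar (χ : IrrCharacter G) (z : G) (hz : z ∈ Subgroup.center G) :
    ∃ μ : ℂ, ‖μ‖ = 1 ∧ ∀ g : G, (χ : G → ℂ) (g * z) = μ * (χ : G → ℂ) g := by
  obtain ⟨m, ρ, hρ, hχ⟩ := χ.2
  have hcomm : ∀ g : G, ρ g * ρ z = ρ z * ρ g := by
    intro g
    rw [← map_mul, ← map_mul, Subgroup.mem_center_iff.mp hz g]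
  obtain ⟨t, ht⟩ := helper53_schur ρ hρ z hcomm
  refine ⟨t, ?_, ?_⟩
  · haveI := hρ
    haveI : Nontrivial (Fin m → ℂ) := Cfsg.Agent.Lib.helper4.nontrivial_of_isIrreducible ρ
    obtain ⟨v, hv⟩ := exists_ne (0 : Fin m → ℂ)
    have hk : 0 < orderOf z := orderOf_pos z
    have h1 : ρ z ^ orderOf z = 1 := by rw [← map_pow, pow_orderOf_eq_one, map_one]
    have hpow : ∀ j : ℕ, (t • (LinearMap.id : (Fin m → ℂ) →ₗ[ℂ] (Fin m → ℂ))) ^ j
        = (t ^ j) • (LinearMap.id : (Fin m → ℂ) →ₗ[ℂ] (Fin m → ℂ)) := by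
      intro j
      induction j with
      | zero => simp; rfl
      | succ j ih =>
        rw [pow_succ, ih]
        ext w
        simp [pow_succ, mul_smul]
        ring
    have h2 : (t ^ orderOf z) • v = v := by
      rw [ht, hpow] at h1
      have h := congrArg (fun f : Module.End ℂ (Fin m → ℂ) => f v) h1
      simpa using h
    have h3 : t ^ orderOf z = 1 := by
      have h4 : (t ^ orderOf z - 1) • v = 0 := by rw [sub_smul, h2, one_smul, sub_self]
      rcases smul_eq_zero.mp h4 with h5 | h5
      · exact sub_eq_zero.mp h5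
      · exact absurd h5 hv
    have h6 : ‖t‖ ^ orderOf z = 1 := by rw [← norm_pow, h3, norm_one]
    exact (pow_eq_one_iff_of_nonneg (norm_nonneg t) hk.ne').mp h6
  · intro g
    rw [← hχ]
    show LinearMap.trace ℂ _ (ρ (g * z)) = t * LinearMap.trace ℂ _ (ρ g)
    have h7 : ρ (g * z) = t • ρ g := by
      rw [map_mul, ht]
      ext w
      simp
    rw [h7, map_smul, smul_eq_mul]

end Cfsg.Agent.Lib.helper2.BG
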