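import Mathlib
import Cfsg.Agent.Lib.helper21.BRDefs
import Cfsg.Prelude.Def_Perm
import Cfsg.Agent.Lib.helper53.BR_Cores
import Cfsg.Agent.Lib.helper53.BR_M2
import Cfsg.Agent.Lib.helper22.BR_M3
import Cfsg.Agent.Lib.helper51.BR_M4
import Cfsg.Agent.Lib.helper51.BR_M5

set_option autoImplicit false

/-!
# S0999 (Brauer–Reynolds), piece M5': the self-centralizing stage (helper53)
-/

namespace Cfsg.Agent.Lib.helper21.BR

open Cfsg Cfsg.Agent.Lib.helper21

universe u

section Chars

variable {G : Type u} [Group G] [Fintype G]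

variable (p : ℕ) [Fact p.Prime] (P : Sylow p G)

variable {p P}
variable {e t n v : ℕ} {X Y : Finset (IrrCharacter G)} {εX : IrrCharacter G → ℤ} {ε : ℤ}
  {f₀ : ℕ}

/-- M5' -/
theorem brself_of_num (hN : BRNum p P e t n v) (hD : BRData (P : Subgroup G) p e X Y εX ε) :
    ∃ f₀ : ℕ, BRSelf p P e t X Y εX ε f₀ := by
  haveI := hN.simple
  have hM2 := degX_of_num hN hD
  exact Cfsg.Agent.Lib.helper53.BR.brself_of_num_core hM2 (exists_minus hN hD hM2)
    (fun χ₀ hχ hs hdeg => centralizer_card_eq hN.noncyc hN.cardP hD χ₀ hχ hs hdeg)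
    (fun hcard he het ht => exc_degree hN.noncyc hD hcard he het ht)
    hN hD

end Chars

end Cfsg.Agent.Lib.helper21.BR
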