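import Mathlib

/-! S0997 split project, piece AR3 (`ar_fin_minus`): pure arithmetic, the final bound in the
case `ε = -1`, `p = 2 e + 1`, `e = 2^a ≥ 4`. -/

set_option autoImplicit false

namespace Cfsg.Agent.Lib.helper53.BU

/-- AR3 : the final bound in the case `ε = -1`, `p = 2 e + 1`, `e = 2^a ≥ 4`
(`d` = a degree with `d ≥ 2^b`, `d² < |G| = e p N`). -/
theorem ar_fin_minus (p e a b N d : ℕ) (hpe : p - 1 = 2 * e) (hea : e = 2 ^ a) (he4 : 4 ≤ e)
    (hN : e * N = 2 ^ b * (e + 1)) (h1 : e * N ≤ d * (e + 1)) (h2 : d * d < e * p * N) :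
    2 * N < (p + 1) * (p + 2) := by
  have hp : p = 2 * e + 1 := by omega
  subst hp
  have hcop : Nat.Coprime e (e + 1) := by simp
  have hdvd : e ∣ 2 ^ b := hcop.dvd_of_dvd_mul_right ⟨N, hN.symm⟩
  obtain ⟨m, hm⟩ := hdvd
  have he0 : 0 < e := by omega
  have hNm : N = m * (e + 1) := by
    have h : e * N = e * (m * (e + 1)) := by
      rw [hN, hm]
      ring
    exact Nat.eq_of_mul_eq_mul_left he0 h
  have hm2 : m ∣ 2 ^ b := ⟨e, by rw [hm]; ring⟩
  obtain ⟨j, _, hj⟩ := (Nat.dvd_prime_pow Nat.prime_two).mp hm2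
  have h3 : e * m ≤ d := by
    rw [hNm] at h1
    have h : (e * m) * (e + 1) ≤ d * (e + 1) := by
      calc (e * m) * (e + 1) = e * (m * (e + 1)) := by ring
        _ ≤ d * (e + 1) := h1
    exact Nat.le_of_mul_le_mul_right h (by omega)
  have h4 : (e * m) * (e * m) < e * (2 * e + 1) * (m * (e + 1)) := by
    rw [hNm] at h2
    calc (e * m) * (e * m) ≤ d * d := Nat.mul_le_mul h3 h3
      _ < _ := h2
  have h5 : e * m < (2 * e + 1) * (e + 1) := by
    have h : (e * m) * (e * m) < (e * m) * ((2 * e + 1) * (e + 1)) := by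
      calc (e * m) * (e * m) < e * (2 * e + 1) * (m * (e + 1)) := h4
        _ = (e * m) * ((2 * e + 1) * (e + 1)) := by ring
    exact Nat.lt_of_mul_lt_mul_left h
  have h6 : m ≤ 2 * e + 3 := by
    by_contra hcon
    push Not at hcon
    have h : e * (2 * e + 4) ≤ e * m := Nat.mul_le_mul_left e hcon
    nlinarith
  have h7 : m ≠ 2 * e + 3 := by
    intro h
    rcases Nat.eq_zero_or_pos j with hj0 | hjpos
    · rw [hj0] at hj
      simp at hj
      omega
    · have h' : 2 ∣ m := by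
        rw [hj]
        exact dvd_pow_self 2 (by omega)
      omega
  have h8 : m ≤ 2 * e + 2 := by omega
  rw [hNm]
  nlinarith

end Cfsg.Agent.Lib.helper53.BU
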