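import Mathlib
import Cfsg.Prelude.Def_Characters
import Cfsg.Prelude.Def_Blocks
import Cfsg.Agent.Lib.helper84.BrDefs
import Cfsg.Agent.Lib.helper81.CharOrtho

/-! S0997 split project, piece T3 (`Y_block`): a `q`-block contains all of `Y` or nothing
of `Y`. -/

set_option autoImplicit false

namespace Cfsg.Agent.Lib.helper53.BU

open Cfsg Cfsg.Agent.Lib.helper81 Cfsg.Agent.Lib.helper84.Br
open scoped ComplexConjugate

universe u

variable {G : Type u} [Group G] [Fintype G]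
variable {p : ℕ} [Fact p.Prime] {P : Sylow p G} {e : ℕ}

/-- the number of non-identity elements of `P` -/
theorem h53_card_nonid (hP : Nat.card P = p) [DecidablePred fun g : G => g ∈ (P : Subgroup G) ∧ g ≠ 1] :
    (Finset.univ.filter (fun g : G => g ∈ (P : Subgroup G) ∧ g ≠ 1)).card = p - 1 := by
  classical
  have h1 : Finset.univ.filter (fun g : G => g ∈ (P : Subgroup G) ∧ g ≠ 1)
      = (Finset.univ.filter (fun g => g ∈ (P : Subgroup G))).erase 1 := by
    ext g; simp [and_comm]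
  rw [h1, Finset.card_erase_of_mem (by simp)]
  have h2 : (Finset.univ.filter (fun g => g ∈ (P : Subgroup G))).card
      = Nat.card (P : Subgroup G) := by
    rw [Nat.card_eq_fintype_card, Fintype.card_subtype]
  rw [h2]
  have h3 : Nat.card (P : Subgroup G) = p := hP
  omega

/-- `psum` of a function constant on `P ∖ 1` -/
theorem h53_psum_const (hP : Nat.card P = p) (f : G → ℂ) (c : ℂ)
    (hf : ∀ x : G, x ∈ (P : Subgroup G) → x ≠ 1 → f x = c) :
    psum (P : Subgroup G) f = ((p - 1 : ℕ) : ℂ) * c := by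
  classical
  unfold psum
  have h1 : ∀ g : G, (if g ∈ (P : Subgroup G) ∧ g ≠ 1 then f g else 0)
      = if g ∈ (P : Subgroup G) ∧ g ≠ 1 then c else 0 := by
    intro g
    split_ifs with hg
    · exact hf g hg.1 hg.2
    · rfl
  rw [Finset.sum_congr rfl (fun g _ => h1 g), ← Finset.sum_filter, Finset.sum_const,
    h53_card_nonid hP, nsmul_eq_mul]

/-- `psum` commutes with finite sums -/
theorem h53_psum_sum (H : Subgroup G) {ι : Type*} (s : Finset ι) (f : ι → G → ℂ) :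
    psum H (fun g => ∑ i ∈ s, f i g) = ∑ i ∈ s, psum H (f i) := by
  classical
  unfold psum
  rw [Finset.sum_comm]
  refine Finset.sum_congr rfl fun g _ => ?_
  split_ifs with hg
  · rfl
  · simp

/-- T3 : a `q`-block contains all of `Y` or nothing of `Y`. -/
theorem Y_block (hP : Nat.card P = p) (D : Data G p P e) (q : ℕ)
    (B' : Set (IrrCharacter G)) [DecidablePred (· ∈ B')]
    (hreg : ∀ y : G, q ∣ orderOf y → ¬ p ∣ orderOf y)
    (hpsum : ∀ θ ∈ D.Y, psum (P : Subgroup G) (θ : G → ℂ) = -(D.ε : ℂ) * (e : ℂ))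
    (hnv : ∀ θ ∈ D.Y, ∃ y : G, q ∣ orderOf y ∧ (θ : G → ℂ) y ≠ 0)
    (hrel : ∀ x : G, x ∈ (P : Subgroup G) → x ≠ 1 → ∀ y : G, q ∣ orderOf y →
      ∑ χ ∈ D.X.filter (· ∈ B'), (D.δ χ : ℂ) * conj ((χ : G → ℂ) y) +
        ∑ θ ∈ D.Y.filter (· ∈ B'), (θ : G → ℂ) x * conj ((θ : G → ℂ) y) = 0) :
    (∀ θ ∈ D.Y, θ ∈ B') ∨ (∀ θ ∈ D.Y, θ ∉ B') := by
  classical
  have hp : p.Prime := Fact.out
  rcases D.Y.eq_empty_or_nonempty with hY | ⟨θ₀, hθ₀⟩
  · left
    intro θ hθ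
    rw [hY] at hθ
    simp at hθ
  obtain ⟨y₀, hy₀, hne⟩ := hnv θ₀ hθ₀
  have hy₀p : ¬ p ∣ orderOf y₀ := hreg y₀ hy₀
  have hA : ∃ A : ℂ, A = ∑ χ ∈ D.X.filter (· ∈ B'), (D.δ χ : ℂ) * conj ((χ : G → ℂ) y₀) :=
    ⟨_, rfl⟩
  obtain ⟨A, hAdef⟩ := hA
  have hc : ∃ c₀ : ℂ, c₀ = conj ((θ₀ : G → ℂ) y₀) := ⟨_, rfl⟩
  obtain ⟨c₀, hc₀⟩ := hc
  have hc₀ne : c₀ ≠ 0 := by
    rw [hc₀]
    exact (map_ne_zero _).mpr hne
  have hJ : ∃ J : Finset (IrrCharacter G), J = D.Y.filter (· ∈ B') := ⟨_, rfl⟩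
  obtain ⟨J, hJdef⟩ := hJ
  have hJY : J ⊆ D.Y := by
    rw [hJdef]
    exact Finset.filter_subset _ _
  -- the partial sums are constant on `P ∖ 1`
  have key : ∀ x : G, x ∈ (P : Subgroup G) → x ≠ 1 →
      ∑ θ ∈ J, (θ : G → ℂ) x = -A / c₀ := by
    intro x hx hx1
    have h := hrel x hx hx1 y₀ hy₀
    rw [← hAdef, ← hJdef] at h
    have h2 : ∑ θ ∈ J, (θ : G → ℂ) x * conj ((θ : G → ℂ) y₀)
        = (∑ θ ∈ J, (θ : G → ℂ) x) * c₀ := by
      rw [Finset.sum_mul]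
      refine Finset.sum_congr rfl fun θ hθ => ?_
      rw [D.agree θ (hJY hθ) θ₀ hθ₀ y₀ hy₀p, hc₀]
    rw [h2] at h
    field_simp
    linear_combination h
  -- sum over `P ∖ 1`
  have hs1 : psum (P : Subgroup G) (fun g => ∑ θ ∈ J, (θ : G → ℂ) g)
      = ((p - 1 : ℕ) : ℂ) * (-A / c₀) := h53_psum_const hP _ _ key
  have hs2 : psum (P : Subgroup G) (fun g => ∑ θ ∈ J, (θ : G → ℂ) g)
      = (J.card : ℂ) * (-(D.ε : ℂ) * (e : ℂ)) := by
    rw [h53_psum_sum, Finset.sum_congr rfl (fun θ hθ => hpsum θ (hJY hθ)), Finset.sum_const,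
      nsmul_eq_mul]
  -- a non-identity element of `P`
  have hx : ∃ x : G, x ∈ (P : Subgroup G) ∧ x ≠ 1 := by
    have h := h53_card_nonid (P := P) hP
    have hne' : (Finset.univ.filter (fun g : G => g ∈ (P : Subgroup G) ∧ g ≠ 1)).Nonempty :=
      Finset.card_pos.mp (by have := hp.two_le; omega)
    obtain ⟨x, hx⟩ := hne'
    simp only [Finset.mem_filter, Finset.mem_univ, true_and] at hx
    exact ⟨x, hx⟩
  obtain ⟨x, hxP, hx1⟩ := hx
  -- `-A / c₀` is an algebraic integer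
  have hint : IsIntegral ℤ (-A / c₀) := by
    rw [← key x hxP hx1]
    exact IsIntegral.sum _ fun θ _ => irr_isIntegral θ x
  -- `e ≠ 0`, `|Y| ≠ 0`
  have hcardY := D.cardY
  have he0 : e ≠ 0 := by
    rintro rfl
    have := hp.two_le
    omega
  have hY0 : D.Y.card ≠ 0 := by
    intro h0
    rw [h0] at hcardY
    have := hp.two_le
    omega
  have hcast : ((p - 1 : ℕ) : ℂ) = (D.Y.card : ℂ) * (e : ℂ) := by
    rw [← hcardY]
    push_cast
    ring
  -- `-A / c₀ = -ε |J| / |Y|`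
  have hval : (D.Y.card : ℂ) * (-A / c₀) = -(D.ε : ℂ) * (J.card : ℂ) := by
    have h3 := hs1.symm.trans hs2
    rw [hcast] at h3
    have he0' : (e : ℂ) ≠ 0 := by exact_mod_cast he0
    have h4 : (e : ℂ) * ((D.Y.card : ℂ) * (-A / c₀)) = (e : ℂ) * (-(D.ε : ℂ) * (J.card : ℂ)) := by
      linear_combination h3
    exact mul_left_cancel₀ he0' h4
  have hε2 : (D.ε : ℂ) * (D.ε : ℂ) = 1 := by
    rcases D.ε_sq with h | h <;> rw [h] <;> norm_num
  have hY0' : (D.Y.card : ℂ) ≠ 0 := by exact_mod_cast hY0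
  have hint2 : IsIntegral ℤ ((J.card : ℂ) / (D.Y.card : ℂ)) := by
    have h5 : (J.card : ℂ) / (D.Y.card : ℂ) = -(D.ε : ℂ) * (-A / c₀) := by
      rw [div_eq_iff hY0']
      have h6 : -(D.ε : ℂ) * (-A / c₀) * (D.Y.card : ℂ)
          = -(D.ε : ℂ) * ((D.Y.card : ℂ) * (-A / c₀)) := by ring
      rw [h6, hval]
      linear_combination (-(J.card : ℂ)) * hε2
    rw [h5]
    refine IsIntegral.mul ?_ hint
    exact IsIntegral.neg (isIntegral_algebraMap (R := ℤ) (A := ℂ) (x := D.ε) |> fun h => by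
      simpa using h)
  have hdvd : D.Y.card ∣ J.card := dvd_of_isIntegral_div hY0 hint2
  have hle : J.card ≤ D.Y.card := Finset.card_le_card hJY
  rcases Nat.eq_zero_or_pos J.card with h0 | hpos
  · right
    intro θ hθ hθB
    have : θ ∈ J := by
      rw [hJdef]
      exact Finset.mem_filter.mpr ⟨hθ, hθB⟩
    rw [Finset.card_eq_zero] at h0
    rw [h0] at this
    simp at this
  · left
    have hcard : J.card = D.Y.card := le_antisymm hle (Nat.le_of_dvd hpos hdvd)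
    have hJeq : J = D.Y := Finset.eq_of_subset_of_card_le hJY (le_of_eq hcard.symm)
    intro θ hθ
    rw [← hJeq, hJdef] at hθ
    exact (Finset.mem_filter.mp hθ).2

end Cfsg.Agent.Lib.helper53.BU
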