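import Mathlib
import Cfsg.Agent.Lib.helper16.CG33Defs

/-!
# S3412, piece NF: the 13 normalized non-zero vectors of `F_3^3` (helper53)
-/

set_option autoImplicit false

open Matrix
open Cfsg.Agent.Lib.helper16.CG33

namespace Cfsg.Agent.Lib.helper53.CG33

theorem h53_vec_eq (v : Fin 3 → ZMod 3) : v = ![v 0, v 1, v 2] := by
  ext i
  fin_cases i <;> rfl

theorem h53_exists_pt_aux : ∀ a b c : ZMod 3, (a ≠ 0 ∨ b ≠ 0 ∨ c ≠ 0) →
    ∃ i : Fin 13, (![a, b, c] : Fin 3 → ZMod 3) = pt i ∨ ![a, b, c] = -pt i := by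
  decide

/-- PIECE NF (1/3). -/
theorem pt_ne_zero (i : Fin 13) : pt i ≠ 0 := by
  revert i
  decide

/-- PIECE NF (2/3). -/
theorem exists_pt (v : Fin 3 → ZMod 3) (hv : v ≠ 0) : ∃ i : Fin 13, v = pt i ∨ v = -pt i := by
  have h := h53_vec_eq v
  have hne : v 0 ≠ 0 ∨ v 1 ≠ 0 ∨ v 2 ≠ 0 := by
    by_contra hcon
    push Not at hcon
    apply hv
    rw [h, hcon.1, hcon.2.1, hcon.2.2]
    ext i
    fin_cases i <;> rfl
  obtain ⟨i, hi⟩ := h53_exists_pt_aux (v 0) (v 1) (v 2) hne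
  refine ⟨i, ?_⟩
  rw [h]
  exact hi

/-- PIECE NF (3/3). -/
theorem pt_inj (i j : Fin 13) (h : pt j = pt i ∨ pt j = -pt i) : i = j := by
  revert i j
  decide

end Cfsg.Agent.Lib.helper53.CG33
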