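import Mathlib
import Cfsg.Agent.Lib.helper16.CG33Defs
import Cfsg.Agent.S0249

/-!
# S3412, piece SIM: `PSL(3,3) ≃* SL(3,3)` and `SL(3,3)` has no subgroup of index `2` (helper53)
-/

set_option autoImplicit false

open Matrix
open Cfsg.Agent.Lib.helper16.CG33

namespace Cfsg.Agent.Lib.helper53.CG33

theorem h53_center_S33 : Subgroup.center S33 = ⊥ := by
  rw [eq_bot_iff]
  intro A hA
  rw [Matrix.SpecialLinearGroup.mem_center_iff] at hA
  obtain ⟨r, hr, hA⟩ := hA
  have hall : ∀ r : ZMod 3, r ^ 3 = 1 → r = 1 := by decide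
  have hr1 : r = 1 := by
    have h3 : Fintype.card (Fin 3) = 3 := Fintype.card_fin 3
    rw [h3] at hr
    exact hall r hr
  rw [Subgroup.mem_bot]
  apply Matrix.SpecialLinearGroup.ext
  intro i j
  rw [← hA, hr1]
  simp

/-- PIECE SIM (1/2). -/
theorem psl_equiv :
    Nonempty (Matrix.ProjectiveSpecialLinearGroup (Fin 3) (ZMod 3) ≃* S33) :=
  ⟨(QuotientGroup.quotientMulEquivOfEq h53_center_S33).trans QuotientGroup.quotientBot⟩

theorem h53_simple_S33 : IsSimpleGroup S33 := by
  obtain ⟨e⟩ := psl_equiv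
  haveI : IsSimpleGroup (Matrix.ProjectiveSpecialLinearGroup (Fin 3) (ZMod 3)) :=
    Cfsg.Agent.S0249.result 3 le_rfl
  exact e.symm.isSimpleGroup

/-- an element of order `3`. -/
def h53_x3 : S33 := ⟨!![1, 1, 0; 0, 1, 0; 0, 0, 1], by decide⟩

theorem h53_x3_ne : h53_x3 ≠ 1 := by decide

theorem h53_x3_pow : h53_x3 ^ 3 = 1 := by decide

/-- PIECE SIM (2/2). -/
theorem no_index_two_S33 : ∀ K : Subgroup S33, K.index ≠ 2 := by
  intro K hK
  haveI := h53_simple_S33
  haveI : K.Normal := Subgroup.normal_of_index_eq_two hK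
  rcases Subgroup.Normal.eq_bot_or_eq_top (inferInstance : K.Normal) with h | h
  · rw [h, Subgroup.index_bot] at hK
    have ho : orderOf h53_x3 = 3 := by
      haveI : Fact (Nat.Prime 3) := ⟨by norm_num⟩
      exact orderOf_eq_prime h53_x3_pow h53_x3_ne
    have hd := orderOf_dvd_natCard h53_x3
    rw [ho, hK] at hd
    omega
  · rw [h, Subgroup.index_top] at hK
    omega

end Cfsg.Agent.Lib.helper53.CG33
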