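import Cfsg.Prelude.Def_LocalStructure
import Cfsg.Agent.Lib.helper53.CharP

set_option autoImplicit false

namespace Cfsg.Agent.Lib.helper53

open scoped commutatorElement Pointwise

variable {H : Type*} [Group H]

/-- If the weakly closed `Q ≤ L` and `L` normalize the `p`-subgroup `P`, then
`[P, Q] ≤ O_p(L)`. -/
theorem wc_commutator_le_pCoreOf [Finite H] {p : ℕ} [Fact p.Prime] {Q : Subgroup H}
    (hQp : IsPGroup p Q) (hwc : Cfsg.IsWeaklyClosedSubgroup p Q) {L : Subgroup H} (hQL : Q ≤ L)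
    {P : Subgroup H} (hP : IsPGroup p P) (hLP : L ≤ Subgroup.normalizer (P : Set H)) :
    ⁅P, Q⁆ ≤ Cfsg.pCoreOf p L := by
  have hQP : Q ≤ Subgroup.normalizer (P : Set H) := hQL.trans hLP
  have hPQ : IsPGroup p (P ⊔ Q : Subgroup H) := hP.to_sup_of_normal_left' hQp hQP
  have h1 : P ≤ Subgroup.normalizer (Q : Set H) :=
    le_sup_left.trans (wc_le_normalizer hwc hPQ le_sup_right)
  have h2 : ⁅P, Q⁆ ≤ P ⊓ Q := commutator_le_inf_of_le_normalizer hQP h1
  refine h2.trans ((inf_le_inf_left P hQL).trans ?_)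
  apply le_pCoreOf inf_le_right _ (hP.to_le inf_le_left)
  exact (le_inf hLP Subgroup.le_normalizer).trans (normalizer_inf_le53 P L)

/-- Let `Q ≤ L ≤ K` with `Q` weakly closed, and let `P` be a `p`-subgroup normalized by `K` with
`C_K(P) ≤ P`. Then `C_K(O_p(L))` normalizes `Q`. -/
theorem wc_centralizer_le_normalizer_of_charP [Finite H] {p : ℕ} [Fact p.Prime] {Q : Subgroup H}
    (hQp : IsPGroup p Q) (hwc : Cfsg.IsWeaklyClosedSubgroup p Q) {L K : Subgroup H}
    (hQL : Q ≤ L) (hLK : L ≤ K) {P : Subgroup H} (hP : IsPGroup p P)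
    (hKP : K ≤ Subgroup.normalizer (P : Set H))
    (hchar : K ⊓ Subgroup.centralizer (P : Set H) ≤ P) :
    K ⊓ Subgroup.centralizer (Cfsg.pCoreOf p L : Set H) ≤ Subgroup.normalizer (Q : Set H) := by
  have hQK := hQL.trans hLK
  apply wc_le_normalizer_of_stab hQp hwc _ hP (hQK.trans hKP) (inf_le_left.trans hKP)
  · intro x hx hc hxC
    exact eq_one_of_mem_pgroup_of_coprime hP
      (hchar (Subgroup.mem_inf.mpr ⟨(Subgroup.mem_inf.mp hx).1, hxC⟩)) hc
  · exact inf_le_right.trans
      (Subgroup.centralizer_le (wc_commutator_le_pCoreOf hQp hwc hQL hP (hLK.trans hKP)))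
  · refine le_trans ?_ (normalizer_inf_le53 _ _)
    exact le_inf (hQK.trans Subgroup.le_normalizer)
      ((hQL.trans (le_normalizer_pCoreOf p L)).trans (normalizer_le_normalizer_centralizer53 _))

/-- A normal subgroup of a group of characteristic `p` has characteristic `p` (ambient form). -/
theorem charP_of_normal [Finite H] {p : ℕ} [Fact p.Prime] {N G : Subgroup H} (hNG : N ≤ G)
    (hGN : G ≤ Subgroup.normalizer (N : Set H))
    (hG : G ⊓ Subgroup.centralizer (Cfsg.pCoreOf p G : Set H) ≤ Cfsg.pCoreOf p G) :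
    N ⊓ Subgroup.centralizer (Cfsg.pCoreOf p N : Set H) ≤ Cfsg.pCoreOf p N := by
  have hGX : G ≤ Subgroup.normalizer
      ((N ⊓ Subgroup.centralizer (Cfsg.pCoreOf p N : Set H) : Subgroup H) : Set H) := by
    refine le_trans ?_ (normalizer_inf_le53 _ _)
    exact le_inf hGN ((hGN.trans (normalizer_le_normalizer_pCoreOf p N)).trans
      (normalizer_le_normalizer_centralizer53 _))
  have hXG : N ⊓ Subgroup.centralizer (Cfsg.pCoreOf p N : Set H) ≤ G := inf_le_left.trans hNG
  have h1 : ⁅Cfsg.pCoreOf p G, N ⊓ Subgroup.centralizer (Cfsg.pCoreOf p N : Set H)⁆ ≤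
      Cfsg.pCoreOf p N := by
    have h2 := commutator_le_inf_of_le_normalizer (A := Cfsg.pCoreOf p G)
      (B := N ⊓ Subgroup.centralizer (Cfsg.pCoreOf p N : Set H))
      (hXG.trans (le_normalizer_pCoreOf p G)) ((pCoreOf_le p G).trans hGX)
    refine h2.trans ((inf_le_inf_left _ inf_le_left).trans ?_)
    apply le_pCoreOf inf_le_right _ ((pCoreOf_isPGroup p G).to_le inf_le_left)
    refine le_trans ?_ (normalizer_inf_le53 _ _)
    exact le_inf (hNG.trans (le_normalizer_pCoreOf p G)) Subgroup.le_normalizer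
  have hX : IsPGroup p (N ⊓ Subgroup.centralizer (Cfsg.pCoreOf p N : Set H) : Subgroup H) := by
    apply isPGroup_of_forall_coprime_eq_one
    intro x hx hc
    have h3 : x ∈ Subgroup.centralizer (Cfsg.pCoreOf p G : Set H) := by
      rw [Subgroup.mem_centralizer_iff]
      intro u hu
      have hw := h1 (Subgroup.commutator_mem_commutator hu hx)
      have h4 : ⁅u, x⁆ = 1 := by
        apply commutatorElement_eq_one_of_coprime hc
        · obtain ⟨k, hk⟩ := pCoreOf_isPGroup p N ⟨_, hw⟩
          refine ⟨k, ?_⟩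
          have := congrArg Subtype.val hk
          simpa using this
        · exact (Subgroup.mem_centralizer_iff.mp (Subgroup.mem_inf.mp hx).2 _ hw)
      rw [commutatorElement_eq_one_iff_commute] at h4
      exact h4.eq
    exact eq_one_of_mem_pgroup_of_coprime (pCoreOf_isPGroup p G)
      (hG (Subgroup.mem_inf.mpr ⟨hXG hx, h3⟩)) hc
  exact le_pCoreOf inf_le_left (hNG.trans hGX) hX

/-- S2842 core: `C_H(O_p(L)) ≤ N(Q)` under either characteristic `p` hypothesis. -/
theorem wc_charP_centralizer_le_normalizer [Finite H] {p : ℕ} [Fact p.Prime] {Q : Subgroup H}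
    (hQp : IsPGroup p Q) (hwc : Cfsg.IsWeaklyClosedSubgroup p Q)
    (hCQ : Subgroup.centralizer (Q : Set H) ≤ Q) {L : Subgroup H} (hQL : Q ≤ L)
    (hyp : Subgroup.centralizer (Cfsg.pCore p H : Set H) ≤ Cfsg.pCore p H ∨
      ∃ y : H, y ≠ 1 ∧ y ∈ Cfsg.pCoreOf p L ⊓ Subgroup.centralizer (Q : Set H) ∧
        Subgroup.centralizer (Cfsg.pCore p ↥(Subgroup.centralizer ({y} : Set H)) :
          Set ↥(Subgroup.centralizer ({y} : Set H))) ≤
          Cfsg.pCore p ↥(Subgroup.centralizer ({y} : Set H))) :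
    Subgroup.centralizer (Cfsg.pCoreOf p L : Set H) ≤ Subgroup.normalizer (Q : Set H) := by
  have hLD : L ≤ Subgroup.normalizer
      ((Subgroup.centralizer (Cfsg.pCoreOf p L : Set H) : Subgroup H) : Set H) :=
    (le_normalizer_pCoreOf p L).trans (normalizer_le_normalizer_centralizer53 _)
  rcases hyp with h | ⟨y, -, hy, hK⟩
  · have hn : (Cfsg.pCore p H).Normal := pCore_normal p H
    have h1 := wc_centralizer_le_normalizer_of_charP hQp hwc hQL (le_top : L ≤ ⊤)
      (pCore_isPGroup p H) (by rw [Subgroup.normalizer_eq_top])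
      (inf_le_right.trans h)
    rwa [top_inf_eq] at h1
  · obtain ⟨hyR, hyQ⟩ := Subgroup.mem_inf.mp hy
    have hK' := charP_ambient_of_subtype hK
    have hQK : Q ≤ Subgroup.centralizer ({y} : Set H) := by
      intro q hq
      rw [Subgroup.mem_centralizer_iff]
      intro h hh
      rw [Set.mem_singleton_iff] at hh
      rw [hh]
      exact (Subgroup.mem_centralizer_iff.mp hyQ q hq).symm
    have hDK : Subgroup.centralizer (Cfsg.pCoreOf p L : Set H) ≤
        Subgroup.centralizer ({y} : Set H) := by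
      intro d hd
      rw [Subgroup.mem_centralizer_iff]
      intro h hh
      rw [Set.mem_singleton_iff] at hh
      rw [hh]
      exact Subgroup.mem_centralizer_iff.mp hd y hyR
    have hQD : Q ≤ Subgroup.normalizer
        ((Subgroup.centralizer (Cfsg.pCoreOf p L : Set H) : Subgroup H) : Set H) := hQL.trans hLD
    -- L' = Q ⊔ D has characteristic p
    have hL'K : Q ⊔ Subgroup.centralizer (Cfsg.pCoreOf p L : Set H) ≤
        Subgroup.centralizer ({y} : Set H) := sup_le hQK hDK
    have h1 := wc_centralizer_le_normalizer_of_charP hQp hwc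
      (le_sup_left : Q ≤ Q ⊔ Subgroup.centralizer (Cfsg.pCoreOf p L : Set H)) hL'K
      (pCoreOf_isPGroup p _) (le_normalizer_pCoreOf p _) hK'
    have h2 := (wc_centralizer_core hQp hCQ
      (le_sup_left : Q ≤ Q ⊔ Subgroup.centralizer (Cfsg.pCoreOf p L : Set H))
      (inf_le_right) (by
        refine le_trans ?_ (normalizer_inf_le53 _ _)
        exact le_inf (hL'K.trans Subgroup.le_normalizer)
          ((le_normalizer_pCoreOf p _).trans (normalizer_le_normalizer_centralizer53 _))) h1).2.2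
    have h3 : (Q ⊔ Subgroup.centralizer (Cfsg.pCoreOf p L : Set H)) ⊓
        Subgroup.centralizer (Cfsg.pCoreOf p
          (Q ⊔ Subgroup.centralizer (Cfsg.pCoreOf p L : Set H)) : Set H) ≤
        Cfsg.pCoreOf p (Q ⊔ Subgroup.centralizer (Cfsg.pCoreOf p L : Set H)) := by
      intro x hx
      obtain ⟨hx1, hx2⟩ := Subgroup.mem_inf.mp hx
      exact h2 (Subgroup.mem_inf.mpr ⟨Subgroup.mem_inf.mpr ⟨hL'K hx1, hx2⟩, hx1⟩)
    -- D has characteristic p
    have h4 := charP_of_normal (le_sup_right : Subgroup.centralizer (Cfsg.pCoreOf p L : Set H) ≤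
      Q ⊔ Subgroup.centralizer (Cfsg.pCoreOf p L : Set H)) (sup_le hQD Subgroup.le_normalizer) h3
    apply wc_le_normalizer_of_stab hQp hwc hQD (pCoreOf_isPGroup p _)
      (hQD.trans (normalizer_le_normalizer_pCoreOf p _)) (le_normalizer_pCoreOf p _)
    · intro x hx hc hxC
      exact eq_one_of_mem_pgroup_of_coprime (pCoreOf_isPGroup p _)
        (h4 (Subgroup.mem_inf.mpr ⟨hx, hxC⟩)) hc
    · exact Subgroup.centralizer_le (wc_commutator_le_pCoreOf hQp hwc hQL (pCoreOf_isPGroup p _)
        (hLD.trans (normalizer_le_normalizer_pCoreOf p _)))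

end Cfsg.Agent.Lib.helper53
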