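import Cfsg.Agent.Lib.helper53.FrakM3
import Cfsg.Agent.Lib.helper28.Components
import Cfsg.Agent.Lib.helper52.RelPRed

set_option autoImplicit false

namespace Cfsg.Agent.Lib.helper53

open scoped commutatorElement Pointwise

/-- In a finite group `X` with `O_p(X) = 1`, a `p`-subgroup normalized by `F*(X)` is trivial. -/
theorem eq_bot_of_isPGroup_of_fstar_le_normalizer {X : Type*} [Group X] [Finite X] {p : ℕ}
    (hO : Cfsg.pCore p X = ⊥) {B : Subgroup X} (hB : IsPGroup p B)
    (hn : Cfsg.generalizedFittingSubgroup X ≤ Subgroup.normalizer (B : Set X)) : B = ⊥ := by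
  haveI := Cfsg.Agent.Lib.helper28.generalizedFittingSubgroup_normal X
  have key : ∀ W : Subgroup X, IsPGroup p W → W ≤ Cfsg.generalizedFittingSubgroup X →
      Cfsg.generalizedFittingSubgroup X ≤ Subgroup.normalizer (W : Set X) → W = ⊥ := by
    intro W hW hWF hFW
    have h1 : W ≤ Cfsg.pCoreOf p (Cfsg.generalizedFittingSubgroup X) := le_pCoreOf hWF hFW hW
    have h2 : (Cfsg.pCoreOf p (Cfsg.generalizedFittingSubgroup X)).Normal := by
      have h3 := normalizer_le_normalizer_pCoreOf p (Cfsg.generalizedFittingSubgroup X)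
      rw [Subgroup.normalizer_eq_top] at h3
      exact Subgroup.normalizer_eq_top_iff.mp (top_le_iff.mp h3)
    have h4 := le_pCore h2 (pCoreOf_isPGroup p (Cfsg.generalizedFittingSubgroup X))
    rw [hO] at h4
    exact le_bot_iff.mp (h1.trans h4)
  have h5 : ⁅B, Cfsg.generalizedFittingSubgroup X⁆ = ⊥ := by
    apply key
    · exact hB.to_le (commutator_le_left_of_le_normalizer hn)
    · exact Subgroup.commutator_le_right B _
    · intro f hf
      exact mem_normalizer_commutator (hn hf) (Subgroup.le_normalizer hf)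
  have h6 : B ≤ Cfsg.generalizedFittingSubgroup X :=
    (Subgroup.commutator_eq_bot_iff_le_centralizer.mp h5).trans
      (Cfsg.Agent.Lib.helper28.centralizer_generalizedFittingSubgroup_le X)
  exact key B hB h6 hn

variable {G : Type*} [Group G]

/-- If `O_p(X / C_X) = 1`, a subgroup `D₂ ≤ X` normalized by the preimage of `F*(X / C_X)` and
consisting of `p`-elements modulo `C` lies in `C`. -/
theorem le_of_fstar_quotient_le_normalizer [Finite G] {p : ℕ} {X C : Subgroup G}
    [hn : (C.subgroupOf X).Normal]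
    (hO : Cfsg.pCore p (↥X ⧸ C.subgroupOf X) = ⊥)
    {D₂ : Subgroup G} (hD₂ : D₂ ≤ X)
    (hFD : ((Cfsg.generalizedFittingSubgroup (↥X ⧸ C.subgroupOf X)).comap
      (QuotientGroup.mk' (C.subgroupOf X))).map X.subtype ≤ Subgroup.normalizer (D₂ : Set G))
    (hp : ∀ d ∈ D₂, ∃ k : ℕ, d ^ (p ^ k) ∈ C) : D₂ ≤ C := by
  have hB : IsPGroup p ↥((D₂.subgroupOf X).map (QuotientGroup.mk' (C.subgroupOf X))) := by
    rintro ⟨_, ⟨d, hd, rfl⟩⟩
    obtain ⟨k, hk⟩ := hp d (Subgroup.mem_subgroupOf.mp hd)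
    refine ⟨k, ?_⟩
    apply Subtype.ext
    rw [Subgroup.coe_pow, Subgroup.coe_one, ← map_pow, QuotientGroup.mk'_apply,
      QuotientGroup.eq_one_iff]
    exact Subgroup.mem_subgroupOf.mpr (by simpa using hk)
  have hnB : Cfsg.generalizedFittingSubgroup (↥X ⧸ C.subgroupOf X) ≤
      Subgroup.normalizer (((D₂.subgroupOf X).map (QuotientGroup.mk' (C.subgroupOf X)) :
        Subgroup (↥X ⧸ C.subgroupOf X)) : Set (↥X ⧸ C.subgroupOf X)) := by
    intro f hf
    obtain ⟨f', rfl⟩ := QuotientGroup.mk'_surjective (C.subgroupOf X) f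
    have hf' : (f' : G) ∈ Subgroup.normalizer (D₂ : Set G) := hFD ⟨f', hf, rfl⟩
    have h1 : f' ∈ Subgroup.normalizer ((D₂.subgroupOf X : Subgroup ↥X) : Set ↥X) := by
      rw [Subgroup.mem_normalizer_iff]
      intro x
      rw [Subgroup.mem_subgroupOf, Subgroup.mem_subgroupOf]
      exact Subgroup.mem_normalizer_iff.mp hf' x
    exact Subgroup.le_normalizer_map _ (Subgroup.mem_map_of_mem _ h1)
  have h2 := eq_bot_of_isPGroup_of_fstar_le_normalizer hO hB hnB
  rw [Subgroup.map_eq_bot_iff, QuotientGroup.ker_mk'] at h2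
  intro d hd
  exact Subgroup.mem_subgroupOf.mp
    (h2 (Subgroup.mem_subgroupOf.mpr hd : (⟨d, hD₂ hd⟩ : ↥X) ∈ D₂.subgroupOf X))

/-- `O_p(X / C_X(Y_X)) = 1`. -/
theorem pCore_quotient_centralizer_eq_bot_of_eq (p : ℕ) {X Y : Subgroup G}
    (hY : Y = Cfsg.largestPReducedOf p X)
    [hn : ((Subgroup.centralizer ((Y : Subgroup G) : Set G)).subgroupOf X).Normal] :
    Cfsg.pCore p (↥X ⧸ (Subgroup.centralizer ((Y : Subgroup G) : Set G)).subgroupOf X) = ⊥ := by
  subst hY
  rw [Cfsg.Agent.Lib.helper52.pCore_quotient_eq_bot_iff]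
  intro D hD hDp
  have hR := Cfsg.Agent.Lib.helper52.relPRed_largestPReducedOf p X
  have h1 := hR.2.2.2 (D.map X.subtype) (Subgroup.map_subtype_le D)
    (Cfsg.Agent.Lib.helper52.le_normalizer_map_subtype X D (hD := hD)) (by
      rintro _ ⟨d, hd, rfl⟩
      obtain ⟨k, hk⟩ := hDp d hd
      exact ⟨k, by simpa using Subgroup.mem_subgroupOf.mp hk⟩)
  intro d hd
  exact Subgroup.mem_subgroupOf.mpr (h1 ⟨d, hd, rfl⟩)

/-- Abstract form of `Y_M ≤ Y_H`: `Y ≤ D ≤ C = C(Y)`, every `p`-subgroup containing `D` lies in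
`Md`, and subgroups of `Md` normalized by `H ∩ Md` consisting of `p`-elements modulo `C` lie in
`C`. Then `Y ≤ Y_H` for `H ≥ D` of characteristic `p`. -/
theorem largestPReducedOf_le_of_fstar_aux [Finite G] {p : ℕ} [Fact p.Prime]
    {Y D Md C H : Subgroup G} (hC : C = Subgroup.centralizer (Y : Set G))
    (hYE : Cfsg.IsElementaryAbelian p Y) (hYD : Y ≤ D) (hDp : IsPGroup p D)
    (hDn : ∀ L : Subgroup G, IsPGroup p L → D ≤ L → L ≤ Md)
    (hK : ∀ D₂ : Subgroup G, D₂ ≤ Md → H ⊓ Md ≤ Subgroup.normalizer (D₂ : Set G) →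
      (∀ d ∈ D₂, ∃ k : ℕ, d ^ (p ^ k) ∈ C) → D₂ ≤ C)
    (hDH : D ≤ H)
    (hH : Subgroup.centralizer (Cfsg.pCore p ↥H : Set ↥H) ≤ Cfsg.pCore p ↥H) :
    Y ≤ Cfsg.largestPReducedOf p H := by
  have hPp : IsPGroup p (Cfsg.pCoreOf p H) := pCoreOf_isPGroup p H
  have hHP : H ≤ Subgroup.normalizer (Cfsg.pCoreOf p H : Set G) := le_normalizer_pCoreOf p H
  have hPH : Cfsg.pCoreOf p H ≤ H := pCoreOf_le p H
  have hPMd : Cfsg.pCoreOf p H ≤ Md := by
    have h1 : IsPGroup p ↥(D ⊔ Cfsg.pCoreOf p H) :=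
      hDp.to_sup_of_normal_right' hPp (hDH.trans hHP)
    exact le_sup_right.trans (hDn _ h1 le_sup_left)
  have hPC : Cfsg.pCoreOf p H ≤ C := by
    apply hK _ hPMd (inf_le_left.trans hHP)
    intro d hd
    obtain ⟨k, hk⟩ := hPp ⟨d, hd⟩
    refine ⟨k, ?_⟩
    have : d ^ p ^ k = 1 := by simpa using congrArg Subtype.val hk
    rw [this]; exact C.one_mem
  have hYH : Y ≤ H := hYD.trans hDH
  have hcomm : ∀ y ∈ Y, ∀ x ∈ Cfsg.pCoreOf p H, x * y = y * x := by
    intro y hy x hx
    have h1 := hPC hx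
    rw [hC, Subgroup.mem_centralizer_iff] at h1
    exact (h1 y hy).symm
  have hYP : Y ≤ Cfsg.pCoreOf p H := by
    intro y hy
    have h1 : (⟨y, hYH hy⟩ : ↥H) ∈ Subgroup.centralizer (Cfsg.pCore p ↥H : Set ↥H) := by
      rw [Subgroup.mem_centralizer_iff]
      intro x hx
      apply Subtype.ext
      exact hcomm y hy x ⟨x, hx, rfl⟩
    exact ⟨⟨y, hYH hy⟩, hH h1, rfl⟩
  have hYcP : Y ≤ Subgroup.centralizer (Cfsg.pCoreOf p H : Set G) := by
    intro y hy
    rw [Subgroup.mem_centralizer_iff]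
    intro x hx
    exact hcomm y hy x hx
  have hYom : Y ≤ Cfsg.Agent.Lib.helper52.omegaZ p (Cfsg.pCoreOf p H) :=
    fun y hy => ⟨hYP hy, hYcP hy, hYE.2 y hy⟩
  have hHom : H ≤ Subgroup.normalizer
      ((Cfsg.Agent.Lib.helper52.omegaZ p (Cfsg.pCoreOf p H) : Subgroup G) : Set G) := by
    intro h hh
    apply mem_normalizer_of_conj_le
    rw [conj_le_iff]
    intro x hx
    exact Cfsg.Agent.Lib.helper52.conj_mem_omegaZ (hHP hh) hx
  have hVom : conjClosure Y H ≤ Cfsg.Agent.Lib.helper52.omegaZ p (Cfsg.pCoreOf p H) :=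
    conjClosure_le hYom hHom
  have hVE : Cfsg.IsElementaryAbelian p (conjClosure Y H) :=
    Cfsg.Agent.Lib.helper52.isElementaryAbelian_of_le hVom
      (Cfsg.Agent.Lib.helper52.omegaZ_isElementaryAbelian p _)
  have hVH : conjClosure Y H ≤ H :=
    hVom.trans ((Cfsg.Agent.Lib.helper52.omegaZ_le p _).trans hPH)
  have hHV : H ≤ Subgroup.normalizer ((conjClosure Y H : Subgroup G) : Set G) :=
    le_normalizer_conjClosure Y H
  have hCV : Subgroup.centralizer ((conjClosure Y H : Subgroup G) : Set G) ≤ C := by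
    rw [hC]
    exact Subgroup.centralizer_le (SetLike.coe_subset_coe.mpr (le_conjClosure Y H))
  have hR : Cfsg.Agent.Lib.helper52.RelPRed p H (conjClosure Y H) := by
    refine ⟨hVH, hHV, hVE, ?_⟩
    intro D₁ hD₁H hHD₁ hD₁p
    have hD₁C : D₁ ≤ C := by
      obtain ⟨TH, hTH⟩ := (hDp.comap_subtype (K := H)).exists_le_sylow
      have hTMd : (TH : Subgroup ↥H).map H.subtype ≤ Md := by
        apply hDn _ (TH.2.map _)
        intro d hd
        exact ⟨⟨d, hDH hd⟩, hTH (Subgroup.mem_subgroupOf.mpr hd), rfl⟩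
      haveI hD₁n : (D₁.subgroupOf H).Normal := Subgroup.normal_subgroupOf_of_le_normalizer hHD₁
      haveI hCn : ((Subgroup.centralizer ((conjClosure Y H : Subgroup G) : Set G)).subgroupOf
          H).Normal :=
        Subgroup.normal_subgroupOf_of_le_normalizer
          (hHV.trans (Cfsg.Agent.Lib.helper52.normalizer_le_normalizer_centralizer _))
      have h1 := Cfsg.Agent.Lib.helper52.le_inf_sup_inf_sylow TH (D₁.subgroupOf H)
        ((Subgroup.centralizer ((conjClosure Y H : Subgroup G) : Set G)).subgroupOf H) (by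
          intro d hd
          obtain ⟨k, hk⟩ := hD₁p d (Subgroup.mem_subgroupOf.mp hd)
          exact ⟨k, Subgroup.mem_subgroupOf.mpr (by simpa using hk)⟩)
      have h2 : D₁ ⊓ Md ≤ C := by
        apply hK _ inf_le_right
        · exact Cfsg.Agent.Lib.helper52.le_normalizer_inf (inf_le_left.trans hHD₁)
            (inf_le_right.trans Subgroup.le_normalizer)
        · intro d hd
          obtain ⟨k, hk⟩ := hD₁p d hd.1
          exact ⟨k, hCV hk⟩
      have h4 : (D₁.subgroupOf H ⊓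
          (Subgroup.centralizer ((conjClosure Y H : Subgroup G) : Set G)).subgroupOf H) ⊔
          (D₁.subgroupOf H ⊓ (TH : Subgroup ↥H)) ≤ C.subgroupOf H := by
        refine sup_le ?_ ?_
        · intro x hx
          rw [Subgroup.mem_subgroupOf]
          exact hCV (Subgroup.mem_subgroupOf.mp hx.2)
        · intro x hx
          rw [Subgroup.mem_subgroupOf]
          exact h2 ⟨Subgroup.mem_subgroupOf.mp hx.1, hTMd ⟨x, hx.2, rfl⟩⟩
      intro d hd
      have h3 := h1 (Subgroup.mem_subgroupOf.mpr hd : (⟨d, hD₁H hd⟩ : ↥H) ∈ D₁.subgroupOf H)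
      exact Subgroup.mem_subgroupOf.mp (h4 h3)
    rw [Subgroup.le_centralizer_iff]
    unfold conjClosure
    apply iSup_le
    intro h
    rw [conj_le_iff]
    intro y hy
    rw [Subgroup.mem_centralizer_iff]
    intro d hd
    have h5 : (h : G)⁻¹ * d * (h : G) ∈ D₁ := by
      have := (Subgroup.mem_normalizer_iff.mp (hHD₁ (H.inv_mem h.2)) d).mp hd
      simpa using this
    have h6 := hD₁C h5
    rw [hC, Subgroup.mem_centralizer_iff] at h6
    have h7 := h6 y hy
    have e1 : d * ((h : G) * y * (h : G)⁻¹) =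
        (h : G) * ((h : G)⁻¹ * d * (h : G) * y) * (h : G)⁻¹ := by group
    rw [e1, ← h7]; group
  exact (le_conjClosure Y H).trans hR.le_largestPReducedOf

/-- S2851: if `Y_M` is asymmetric and `H` is a subgroup of characteristic `p` containing the
preimage in `M†` of `F*(M† / C_{M†}(Y_M))`, then `Y_M ≤ Y_H`. -/
theorem frakM_largestPReducedOf_le_of_fstar_le [Finite G] {p : ℕ} [Fact p.Prime] (S : Sylow p G)
    {Q : Subgroup G} (hQp : IsPGroup p Q) (hQ : Cfsg.IsLarge Q) {M : Subgroup G}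
    (hSM : (S : Subgroup G) ≤ M) (hM : Cfsg.IsInFrakM p M)
    (hasym : ¬ Cfsg.IsSymmetricIn (Cfsg.largestPReducedOf p M))
    [hn : ((Subgroup.centralizer ((Cfsg.largestPReducedOf p M : Subgroup G) : Set G)).subgroupOf
      (M ⊔ Subgroup.centralizer ((Cfsg.largestPReducedOf p M : Subgroup G) : Set G))).Normal]
    {H : Subgroup G}
    (hFH : ((Cfsg.generalizedFittingSubgroup
      (↥(M ⊔ Subgroup.centralizer ((Cfsg.largestPReducedOf p M : Subgroup G) : Set G)) ⧸
        (Subgroup.centralizer ((Cfsg.largestPReducedOf p M : Subgroup G) : Set G)).subgroupOf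
          (M ⊔ Subgroup.centralizer ((Cfsg.largestPReducedOf p M : Subgroup G) : Set G)))).comap
      (QuotientGroup.mk'
        ((Subgroup.centralizer ((Cfsg.largestPReducedOf p M : Subgroup G) : Set G)).subgroupOf
          (M ⊔ Subgroup.centralizer ((Cfsg.largestPReducedOf p M : Subgroup G) : Set G))))).map
      (M ⊔ Subgroup.centralizer ((Cfsg.largestPReducedOf p M : Subgroup G) : Set G)).subtype ≤ H)
    (hH : Subgroup.centralizer (Cfsg.pCore p ↥H : Set ↥H) ≤ Cfsg.pCore p ↥H) :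
    Cfsg.largestPReducedOf p M ≤ Cfsg.largestPReducedOf p H := by
  have hpc := pCore_quotient_centralizer_eq_bot_of_eq p
    (X := M ⊔ Subgroup.centralizer ((Cfsg.largestPReducedOf p M : Subgroup G) : Set G))
    (Y := Cfsg.largestPReducedOf p M) hM.2.2.2.1
  refine largestPReducedOf_le_of_fstar_aux (D := Cfsg.pCoreOf p M)
    (Md := M ⊔ Subgroup.centralizer ((Cfsg.largestPReducedOf p M : Subgroup G) : Set G))
    (C := Subgroup.centralizer ((Cfsg.largestPReducedOf p M : Subgroup G) : Set G)) rfl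
    (Cfsg.Agent.Lib.helper52.largestPReducedOf_isElementaryAbelian p M)
    (largestPReducedOf_le_pCoreOf p M) (pCoreOf_isPGroup p M) ?_ ?_ ?_ hH
  · intro L hLp hDL
    have h1 := frakM_normalizer_le S hQp hQ hSM hM hasym hLp hDL
    exact (Subgroup.le_normalizer.trans (h1.2.trans inf_le_right)).trans
      (frakM_normalizer_pCoreOf_le hM)
  · intro D₂ hD₂ hn2 hp2
    refine le_of_fstar_quotient_le_normalizer hpc hD₂ (le_trans (le_inf hFH ?_) hn2) hp2
    exact Subgroup.map_subtype_le _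
  · refine le_trans ?_ hFH
    intro d hd
    have hdC : d ∈ Subgroup.centralizer ((Cfsg.largestPReducedOf p M : Subgroup G) : Set G) :=
      pCoreOf_le_centralizer_largestPReducedOf p M hd
    refine ⟨⟨d, le_sup_right (a := M) hdC⟩, ?_, rfl⟩
    rw [SetLike.mem_coe, Subgroup.mem_comap, QuotientGroup.mk'_apply,
      (QuotientGroup.eq_one_iff _).mpr (Subgroup.mem_subgroupOf.mpr hdC)]
    exact Subgroup.one_mem _

end Cfsg.Agent.Lib.helper53
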