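import Cfsg.Agent.Lib.helper53.FrakM2
import Cfsg.Agent.Lib.helper53.CharP2
import Cfsg.Agent.Lib.helper52.ZL

set_option autoImplicit false

namespace Cfsg.Agent.Lib.helper53

open scoped commutatorElement Pointwise

variable {G : Type*} [Group G]

/-- The join of the `H`-conjugates of `A` (the normal closure of `A` in `H` when `A ≤ H`). -/
def conjClosure (A H : Subgroup G) : Subgroup G :=
  ⨆ h : H, A.map (MulAut.conj (h : G)).toMonoidHom

theorem conj_le_conjClosure (A : Subgroup G) {H : Subgroup G} {h : G} (hh : h ∈ H) :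
    A.map (MulAut.conj h).toMonoidHom ≤ conjClosure A H :=
  le_iSup (fun h : H => A.map (MulAut.conj (h : G)).toMonoidHom) ⟨h, hh⟩

theorem le_conjClosure (A H : Subgroup G) : A ≤ conjClosure A H := by
  have h := conj_le_conjClosure A (H.one_mem)
  rwa [conj_one] at h

theorem conjClosure_le {A H K : Subgroup G} (hAK : A ≤ K)
    (hHK : H ≤ Subgroup.normalizer (K : Set G)) : conjClosure A H ≤ K := by
  apply iSup_le
  intro h
  have := conj_mono hAK (h : G)
  rwa [conj_eq_self_of_mem_normalizer (hHK h.2)] at this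

theorem le_normalizer_conjClosure [Finite G] (A H : Subgroup G) :
    H ≤ Subgroup.normalizer (conjClosure A H : Set G) := by
  intro x hx
  apply mem_normalizer_of_conj_le
  unfold conjClosure
  rw [Subgroup.map_iSup]
  apply iSup_le
  intro w
  rw [conj_conj]
  exact conj_le_conjClosure A (H.mul_mem hx w.2)

/-- The normal closure of `A ≤ H` in `H`, viewed in `G`, is the join of the `H`-conjugates. -/
theorem normalClosure_subgroupOf_map [Finite G] {A H : Subgroup G} (hAH : A ≤ H) :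
    (Subgroup.normalClosure ((A.subgroupOf H : Subgroup ↥H) : Set ↥H)).map H.subtype =
      conjClosure A H := by
  apply le_antisymm
  · rw [Subgroup.map_le_iff_le_comap]
    have hn : ((conjClosure A H).comap H.subtype).Normal := by
      constructor
      intro n hn g
      rw [Subgroup.mem_comap] at hn ⊢
      exact (Subgroup.mem_normalizer_iff.mp (le_normalizer_conjClosure A H g.2) _).mp hn
    exact Subgroup.normalClosure_le_normal
      (fun x hx => le_conjClosure A H (Subgroup.mem_subgroupOf.mp hx))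
  · apply iSup_le
    intro h
    rw [conj_le_iff]
    intro a ha
    exact ⟨h * ⟨a, hAH ha⟩ * h⁻¹, Subgroup.normalClosure_normal.conj_mem _
      (Subgroup.subset_normalClosure (Subgroup.mem_subgroupOf.mpr ha)) h, rfl⟩

/-- Conjugation invariance of characteristic `p` (ambient form). -/
theorem charP_ambient_conj {p : ℕ} {L : Subgroup G}
    (h : L ⊓ Subgroup.centralizer (Cfsg.pCoreOf p L : Set G) ≤ Cfsg.pCoreOf p L) (c : G) :
    L.map (MulAut.conj c).toMonoidHom ⊓ Subgroup.centralizer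
        (Cfsg.pCoreOf p (L.map (MulAut.conj c).toMonoidHom) : Set G) ≤
      Cfsg.pCoreOf p (L.map (MulAut.conj c).toMonoidHom) := by
  rw [pCoreOf_conj, centralizer_conj]
  intro x hx
  rw [Subgroup.mem_inf, mem_conj_iff, mem_conj_iff] at hx
  rw [mem_conj_iff]
  exact h hx

/-- A subgroup containing `O_p(H)` of a group `H` of characteristic `p` has characteristic `p`
(ambient forms). -/
theorem charP_of_pCoreOf_le {p : ℕ} {X H : Subgroup G} (hXH : X ≤ H)
    (hDX : Cfsg.pCoreOf p H ≤ X)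
    (hH : H ⊓ Subgroup.centralizer (Cfsg.pCoreOf p H : Set G) ≤ Cfsg.pCoreOf p H) :
    X ⊓ Subgroup.centralizer (Cfsg.pCoreOf p X : Set G) ≤ Cfsg.pCoreOf p X := by
  have h1 : Cfsg.pCoreOf p H ≤ Cfsg.pCoreOf p X :=
    le_pCoreOf hDX (hXH.trans (le_normalizer_pCoreOf p H)) (pCoreOf_isPGroup p H)
  exact (inf_le_inf hXH (Subgroup.centralizer_le h1)).trans (hH.trans h1)

/-- `O_p` of a normal subgroup lies in `O_p`. -/
theorem pCoreOf_le_of_normal [Finite G] {p : ℕ} {N H : Subgroup G} (hNH : N ≤ H)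
    (hHN : H ≤ Subgroup.normalizer (N : Set G)) : Cfsg.pCoreOf p N ≤ Cfsg.pCoreOf p H :=
  le_pCoreOf ((pCoreOf_le p N).trans hNH) (hHN.trans (normalizer_le_normalizer_pCoreOf p N))
    (pCoreOf_isPGroup p N)

/-- `O_p(K) ∩ X ≤ O_p(X)` for `X ≤ K`. -/
theorem pCoreOf_inf_le {p : ℕ} {X K : Subgroup G} (hXK : X ≤ K) :
    Cfsg.pCoreOf p K ⊓ X ≤ Cfsg.pCoreOf p X := by
  apply le_pCoreOf inf_le_right _ ((pCoreOf_isPGroup p K).to_le inf_le_left)
  exact Cfsg.Agent.Lib.helper52.le_normalizer_inf (hXK.trans (le_normalizer_pCoreOf p K))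
    Subgroup.le_normalizer

/-- The set of subgroups of characteristic `p` containing `O_p(M)` in whose `p`-core `Y_M` does
not lie; `ℌ_G(O_p(M))` consists of its minimal members. -/
def frakHSet (p : ℕ) (M : Subgroup G) : Set (Subgroup G) :=
  {H | Cfsg.pCoreOf p M ≤ H ∧
    H ⊓ Subgroup.centralizer (Cfsg.pCoreOf p H : Set G) ≤ Cfsg.pCoreOf p H ∧
    ¬ Cfsg.largestPReducedOf p M ≤ Cfsg.pCoreOf p H}

/-- Members of `ℌ_G(O_p(M))` are in `frakHSet`. -/
theorem frakH_mem_frakHSet {p : ℕ} {M H : Subgroup G} (hH : Cfsg.IsInFrakH p M H) :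
    H ∈ frakHSet p M :=
  ⟨hH.2.1, charP_ambient_of_subtype hH.1, hH.2.2.1⟩

/-- In a minimal member `H` of `frakHSet`, `H` is the normal closure of `O_p(M)`. -/
theorem frakHSet_minimal_conjClosure [Finite G] {p : ℕ} [Fact p.Prime] {M H : Subgroup G}
    (hH : H ∈ frakHSet p M) (hmin : ∀ K ∈ frakHSet p M, K ≤ H → H ≤ K) :
    conjClosure (Cfsg.pCoreOf p M) H = H := by
  have h1 : conjClosure (Cfsg.pCoreOf p M) H ≤ H := conjClosure_le hH.1 Subgroup.le_normalizer
  have h2 := le_normalizer_conjClosure (Cfsg.pCoreOf p M) H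
  apply le_antisymm h1
  apply hmin _ _ h1
  refine ⟨le_conjClosure _ _, charP_of_normal h1 h2 hH.2.1, ?_⟩
  intro h3
  exact hH.2.2 (h3.trans (pCoreOf_le_of_normal h1 h2))

/-- Existence of members of `ℌ_G(O_p(M))` when `Y_M` is char-`p`-tall and asymmetric. -/
theorem frakH_exists [Finite G] {p : ℕ} [Fact p.Prime] (S : Sylow p G) {Q : Subgroup G}
    (hQp : IsPGroup p Q) (hQ : Cfsg.IsLarge Q) {M : Subgroup G} (hSM : (S : Subgroup G) ≤ M)
    (hM : Cfsg.IsInFrakM p M) (hasym : ¬ Cfsg.IsSymmetricIn (Cfsg.largestPReducedOf p M))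
    (htall : Cfsg.IsCharPTall p (Cfsg.largestPReducedOf p M)) :
    ∃ H : Subgroup G, Cfsg.IsInFrakH p M H := by
  have hcl := hM.2.2.2.2.1
  have hPeq := pCoreOf_eq_sylow_inf_centralizer S hSM hcl
  have hYP := largestPReducedOf_le_pCoreOf p M
  -- step 1: a member of `frakHSet`
  have hne : (frakHSet p M).Nonempty := by
    obtain ⟨T, L, hTL, hLchar, hYL⟩ := htall
    have hSC : (S : Subgroup G) ≤ Subgroup.normalizer
        ((Subgroup.centralizer (Cfsg.largestPReducedOf p M : Set G) : Subgroup G) : Set G) :=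
      hSM.trans (le_normalizer_centralizer_largestPReducedOf p M)
    obtain ⟨P₀, hP₀⟩ := Cfsg.Agent.Lib.helper52.exists_sylow_inf_of_le_normalizer S _ hSC
    obtain ⟨c, hc⟩ := MulAction.exists_smul_eq
      ↥(Subgroup.centralizer (Cfsg.largestPReducedOf p M : Set G)) T P₀
    refine ⟨L.map (MulAut.conj (c : G)).toMonoidHom, ?_, ?_, ?_⟩
    · intro y hy
      rw [mem_conj_iff]
      apply hTL
      rw [← Cfsg.Agent.Lib.helper52.mem_smul_sylow_map, hc, hP₀]
      rw [hPeq] at hy
      exact ⟨⟨y, hy.2⟩, Subgroup.mem_subgroupOf.mpr hy, rfl⟩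
    · exact charP_ambient_conj (charP_ambient_of_subtype hLchar) _
    · intro hcon
      apply hYL
      rw [pCoreOf_conj] at hcon
      intro y hy
      have h1 := mem_conj_iff.mp (hcon hy)
      have h2 : (c : G)⁻¹ * y * (c : G) = y := by
        have := Subgroup.mem_centralizer_iff.mp c.2 y hy
        rw [mul_assoc, this]; group
      rwa [h2] at h1
  obtain ⟨L₀, hL₀⟩ := hne
  obtain ⟨H, -, hHmin⟩ := (Set.toFinite (frakHSet p M)).exists_le_minimal hL₀
  have hH := hHmin.1
  have hmin : ∀ K ∈ frakHSet p M, K ≤ H → H ≤ K := fun K hK hKH => hHmin.2 hK hKH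
  refine ⟨H, charP_subtype_of_ambient hH.2.1, hH.1, hH.2.2, ?_⟩
  intro X hPX hXH
  -- `O_p(H)` normalizes `O_p(M)`
  obtain ⟨T, -, hTN, -⟩ := frakM_exists_sylow_le S hQp hQ hSM hM hasym hH.1
  have hDT : Cfsg.pCoreOf p H ≤ (T : Subgroup ↥H).map H.subtype :=
    Subgroup.map_mono (pCore_le_sylow T)
  have hDN : Cfsg.pCoreOf p H ≤ Subgroup.normalizer (Cfsg.pCoreOf p M : Set G) := hDT.trans hTN
  have hXD : X ⊔ Cfsg.pCoreOf p H ≤ H := sup_le hXH.le (pCoreOf_le p H)
  by_cases hcase : X ⊔ Cfsg.pCoreOf p H = H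
  · exfalso
    have h1 : conjClosure (Cfsg.pCoreOf p M) H ≤ X := by
      apply iSup_le
      intro h
      have hh : (h : G) ∈ X ⊔ Cfsg.pCoreOf p H := by rw [hcase]; exact h.2
      obtain ⟨x, hx, d, hd, e⟩ := Cfsg.Agent.Lib.helper52.exists_mul_of_mem_sup
        (hXH.le.trans (le_normalizer_pCoreOf p H)) hh
      rw [e, ← conj_conj, conj_eq_self_of_mem_normalizer (hDN hd)]
      have := conj_mono hPX x
      rwa [conj_eq_self_of_mem_normalizer (Subgroup.le_normalizer hx)] at this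
    rw [frakHSet_minimal_conjClosure hH hmin] at h1
    exact (not_le_of_gt hXH) h1
  · have hlt : X ⊔ Cfsg.pCoreOf p H < H := lt_of_le_of_ne hXD hcase
    have h1 : Cfsg.largestPReducedOf p M ≤ Cfsg.pCoreOf p (X ⊔ Cfsg.pCoreOf p H) := by
      by_contra hcon
      have : X ⊔ Cfsg.pCoreOf p H ∈ frakHSet p M :=
        ⟨hPX.trans le_sup_left, charP_of_pCoreOf_le hXD le_sup_right hH.2.1, hcon⟩
      exact (not_le_of_gt hlt) (hmin _ this hXD)
    exact (le_inf h1 (hYP.trans hPX)).trans (pCoreOf_inf_le le_sup_left)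

end Cfsg.Agent.Lib.helper53
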