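import Cfsg.Agent.Lib.helper53.FrakH
import Cfsg.Agent.Lib.helper53.Comm

set_option autoImplicit false

namespace Cfsg.Agent.Lib.helper53

open scoped commutatorElement Pointwise

variable {G : Type*} [Group G]

/-- Ambient form: `O^p(H) ≤ N` if `N` is normal in `H = N T` with `T` a `p`-group. -/
theorem map_pResidual_le_of_sup_eq {p : ℕ} {H N T : Subgroup G} (hNH : N ≤ H)
    (hHN : H ≤ Subgroup.normalizer (N : Set G)) (hT : IsPGroup p T) (hTH : T ≤ H)
    (h : N ⊔ T = H) : (Cfsg.pResidual p ↥H).map H.subtype ≤ N := by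
  haveI : (N.subgroupOf H).Normal := (Subgroup.normal_subgroupOf_iff_le_normalizer hNH).mpr hHN
  have h1 : N.subgroupOf H ⊔ T.subgroupOf H = ⊤ := by
    rw [← Subgroup.subgroupOf_sup hNH hTH, h]
    exact Subgroup.subgroupOf_self H
  have h2 := pResidual_le_of_sup_eq_top (hT.comap_subtype (K := H)) h1
  have h3 := Subgroup.map_mono (f := H.subtype) h2
  rwa [Subgroup.map_subgroupOf_eq_of_le hNH] at h3

/-- Ambient form: `O^p(H) T = H` for a Sylow `p`-subgroup `T` of `H`. -/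
theorem map_pResidual_sup_sylow [Finite G] {p : ℕ} [Fact p.Prime] (H : Subgroup G)
    (T : Sylow p ↥H) :
    (Cfsg.pResidual p ↥H).map H.subtype ⊔ (T : Subgroup ↥H).map H.subtype = H := by
  have h1 := pResidual_sup_sylow T
  have h2 := congrArg (fun X : Subgroup ↥H => X.map H.subtype) h1
  simp only [Subgroup.map_sup] at h2
  rw [h2, ← MonoidHom.range_eq_map, Subgroup.range_subtype]

/-- `H` normalizes `O^p(H)`. -/
theorem le_normalizer_map_pResidual (p : ℕ) (H : Subgroup G) :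
    H ≤ Subgroup.normalizer (((Cfsg.pResidual p ↥H).map H.subtype : Subgroup G) : Set G) := by
  haveI := pResidual_normal p ↥H
  exact Cfsg.Agent.Lib.helper52.le_normalizer_map_subtype H (Cfsg.pResidual p ↥H)

/-- If a subgroup `K ≤ H` contains a Sylow `p`-subgroup of `H`, then every Sylow `p`-subgroup of
`K` is a Sylow `p`-subgroup of `H`. -/
theorem exists_sylow_map_eq_of_le [Finite G] {p : ℕ} [Fact p.Prime] {H K : Subgroup G}
    (hKH : K ≤ H) (T₀ : Sylow p ↥H) (hT₀ : (T₀ : Subgroup ↥H).map H.subtype ≤ K)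
    (T : Sylow p ↥K) :
    ∃ P' : Sylow p ↥H, (P' : Subgroup ↥H).map H.subtype = (T : Subgroup ↥K).map K.subtype := by
  have hp : IsPGroup p ↥(((T₀ : Subgroup ↥H).map H.subtype).subgroupOf K) :=
    (T₀.2.map H.subtype).comap_subtype
  obtain ⟨T₁, hT₁⟩ := hp.exists_le_sylow
  have h1 : (T₀ : Subgroup ↥H).map H.subtype ≤ (T₁ : Subgroup ↥K).map K.subtype := by
    intro y hy
    exact ⟨⟨y, hT₀ hy⟩, hT₁ (Subgroup.mem_subgroupOf.mpr hy), rfl⟩
  have h2 : (T₁ : Subgroup ↥K).map K.subtype = (T₀ : Subgroup ↥H).map H.subtype := by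
    have hp2 : IsPGroup p ↥(((T₁ : Subgroup ↥K).map K.subtype).subgroupOf H) :=
      (T₁.2.map K.subtype).comap_subtype
    have h3 : (T₀ : Subgroup ↥H) ≤ ((T₁ : Subgroup ↥K).map K.subtype).subgroupOf H := by
      intro y hy
      rw [Subgroup.mem_subgroupOf]
      exact h1 ⟨y, hy, rfl⟩
    have h4 := T₀.3 hp2 h3
    have h5 := congrArg (fun X : Subgroup ↥H => X.map H.subtype) h4
    rwa [Subgroup.map_subgroupOf_eq_of_le ((Subgroup.map_subtype_le _).trans hKH)] at h5
  obtain ⟨k, hk⟩ := MulAction.exists_smul_eq ↥K T₁ T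
  refine ⟨(⟨(k : G), hKH k.2⟩ : ↥H) • T₀, ?_⟩
  ext y
  rw [Cfsg.Agent.Lib.helper52.mem_smul_sylow_map, ← hk,
    Cfsg.Agent.Lib.helper52.mem_smul_sylow_map, h2]

/-- A normal subgroup of `H ∈ ℌ_G(O_p(M))` containing `O_p(M)` is `H`. -/
theorem frakH_eq_of_normal [Finite G] {p : ℕ} {M H X : Subgroup G}
    (hH : Cfsg.IsInFrakH p M H) (hPX : Cfsg.pCoreOf p M ≤ X) (hXH : X ≤ H)
    (hHX : H ≤ Subgroup.normalizer (X : Set G)) : X = H := by
  by_contra hne
  have hlt : X < H := lt_of_le_of_ne hXH hne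
  exact hH.2.2.1 ((hH.2.2.2 X hPX hlt).trans (pCoreOf_le_of_normal hXH hHX))

/-- `H ∈ ℌ_G(O_p(M))` is the normal closure of `O_p(M)` in `H`. -/
theorem frakH_conjClosure_pCoreOf [Finite G] {p : ℕ} {M H : Subgroup G}
    (hH : Cfsg.IsInFrakH p M H) : conjClosure (Cfsg.pCoreOf p M) H = H :=
  frakH_eq_of_normal hH (le_conjClosure _ _) (conjClosure_le hH.2.1 Subgroup.le_normalizer)
    (le_normalizer_conjClosure _ _)

/-- `O_p(H)` normalizes `O_p(M)` and `Y_M` for `H ∈ ℌ_G(O_p(M))`. -/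
theorem frakH_pCoreOf_le [Finite G] {p : ℕ} [Fact p.Prime] (S : Sylow p G) {Q : Subgroup G}
    (hQp : IsPGroup p Q) (hQ : Cfsg.IsLarge Q) {M : Subgroup G} (hSM : (S : Subgroup G) ≤ M)
    (hM : Cfsg.IsInFrakM p M) (hasym : ¬ Cfsg.IsSymmetricIn (Cfsg.largestPReducedOf p M))
    {H : Subgroup G} (hPH : Cfsg.pCoreOf p M ≤ H) :
    Cfsg.pCoreOf p H ≤ Subgroup.normalizer (Cfsg.pCoreOf p M : Set G) ⊓
      Subgroup.normalizer ((Cfsg.largestPReducedOf p M : Subgroup G) : Set G) := by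
  obtain ⟨T, -, hTN, -⟩ := frakM_exists_sylow_le S hQp hQ hSM hM hasym hPH
  have hDT : Cfsg.pCoreOf p H ≤ (T : Subgroup ↥H).map H.subtype :=
    Subgroup.map_mono (pCore_le_sylow T)
  have h1 := (frakM_normalizer_le S hQp hQ hSM hM hasym (pCoreOf_isPGroup p M) le_rfl).2
  exact le_inf (hDT.trans hTN) ((hDT.trans hTN).trans (h1.trans inf_le_left))

/-- `H = O^p(H) O_p(M)` for `H ∈ ℌ_G(O_p(M))`. -/
theorem frakH_sup [Finite G] {p : ℕ} [Fact p.Prime] (S : Sylow p G) {Q : Subgroup G}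
    (hQp : IsPGroup p Q) (hQ : Cfsg.IsLarge Q) {M : Subgroup G} (hSM : (S : Subgroup G) ≤ M)
    (hM : Cfsg.IsInFrakM p M) (hasym : ¬ Cfsg.IsSymmetricIn (Cfsg.largestPReducedOf p M))
    {H : Subgroup G} (hH : Cfsg.IsInFrakH p M H) :
    (Cfsg.pResidual p ↥H).map H.subtype ⊔ Cfsg.pCoreOf p M = H := by
  obtain ⟨T, hPT, hTN, -⟩ := frakM_exists_sylow_le S hQp hQ hSM hM hasym hH.2.1
  have hRH : (Cfsg.pResidual p ↥H).map H.subtype ≤ H := Subgroup.map_subtype_le _
  have hTH : (T : Subgroup ↥H).map H.subtype ≤ H := Subgroup.map_subtype_le _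
  apply frakH_eq_of_normal hH le_sup_right (sup_le hRH hH.2.1)
  have hnorm : (Cfsg.pResidual p ↥H).map H.subtype ⊔ (T : Subgroup ↥H).map H.subtype ≤
      Subgroup.normalizer
        (((Cfsg.pResidual p ↥H).map H.subtype ⊔ Cfsg.pCoreOf p M : Subgroup G) : Set G) :=
    sup_le (le_sup_left.trans Subgroup.le_normalizer)
      (Cfsg.Agent.Lib.helper52.le_normalizer_sup
        (hTH.trans (le_normalizer_map_pResidual p H)) hTN)
  exact (map_pResidual_sup_sylow H T).ge.trans hnorm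

/-- The normal closure of `Y_M` in `H ∈ ℌ_G(O_p(M))` is `O^p(H) Y_M`. -/
theorem frakH_conjClosure_largestPReducedOf [Finite G] {p : ℕ} [Fact p.Prime] (S : Sylow p G)
    {Q : Subgroup G} (hQp : IsPGroup p Q) (hQ : Cfsg.IsLarge Q) {M : Subgroup G}
    (hSM : (S : Subgroup G) ≤ M) (hM : Cfsg.IsInFrakM p M)
    (hasym : ¬ Cfsg.IsSymmetricIn (Cfsg.largestPReducedOf p M))
    {H : Subgroup G} (hH : Cfsg.IsInFrakH p M H) :
    conjClosure (Cfsg.largestPReducedOf p M) H =
      (Cfsg.pResidual p ↥H).map H.subtype ⊔ Cfsg.largestPReducedOf p M := by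
  have hYP := largestPReducedOf_le_pCoreOf p M
  have hYH : Cfsg.largestPReducedOf p M ≤ H := hYP.trans hH.2.1
  have hRH : (Cfsg.pResidual p ↥H).map H.subtype ≤ H := Subgroup.map_subtype_le _
  have hVH : conjClosure (Cfsg.largestPReducedOf p M) H ≤ H :=
    conjClosure_le hYH Subgroup.le_normalizer
  have hHV := le_normalizer_conjClosure (Cfsg.largestPReducedOf p M) H
  have hsup := frakH_sup S hQp hQ hSM hM hasym hH
  apply le_antisymm
  · apply conjClosure_le le_sup_right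
    have hnorm : (Cfsg.pResidual p ↥H).map H.subtype ⊔ Cfsg.pCoreOf p M ≤
        Subgroup.normalizer (((Cfsg.pResidual p ↥H).map H.subtype ⊔
          Cfsg.largestPReducedOf p M : Subgroup G) : Set G) :=
      sup_le (le_sup_left.trans Subgroup.le_normalizer)
        (Cfsg.Agent.Lib.helper52.le_normalizer_sup
          (hH.2.1.trans (le_normalizer_map_pResidual p H))
          ((pCoreOf_le p M).trans (Cfsg.Agent.Lib.helper52.le_normalizer_largestPReducedOf p M)))
    exact hsup.ge.trans hnorm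
  · refine sup_le ?_ (le_conjClosure _ _)
    -- `H = V O_p(M)`, hence `O^p(H) ≤ V`
    have hVP : conjClosure (Cfsg.largestPReducedOf p M) H ⊔ Cfsg.pCoreOf p M = H := by
      by_contra hne
      have hlt : conjClosure (Cfsg.largestPReducedOf p M) H ⊔ Cfsg.pCoreOf p M < H :=
        lt_of_le_of_ne (sup_le hVH hH.2.1) hne
      have h1 := hH.2.2.2 _ le_sup_right hlt
      have h2 : Cfsg.largestPReducedOf p M ≤
          Cfsg.pCoreOf p (conjClosure (Cfsg.largestPReducedOf p M) H) :=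
        (le_inf h1 (le_conjClosure _ _)).trans (pCoreOf_inf_le le_sup_left)
      exact hH.2.2.1 (h2.trans (pCoreOf_le_of_normal hVH hHV))
    exact map_pResidual_le_of_sup_eq hVH hHV (pCoreOf_isPGroup p M) hH.2.1 hVP

/-- `O^p(H) = [O^p(H), Y_M]` for `H ∈ ℌ_G(O_p(M))`. -/
theorem frakH_commutator [Finite G] {p : ℕ} [Fact p.Prime] (S : Sylow p G)
    {Q : Subgroup G} (hQp : IsPGroup p Q) (hQ : Cfsg.IsLarge Q) {M : Subgroup G}
    (hSM : (S : Subgroup G) ≤ M) (hM : Cfsg.IsInFrakM p M)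
    (hasym : ¬ Cfsg.IsSymmetricIn (Cfsg.largestPReducedOf p M))
    {H : Subgroup G} (hH : Cfsg.IsInFrakH p M H) :
    ⁅(Cfsg.pResidual p ↥H).map H.subtype, Cfsg.largestPReducedOf p M⁆ =
      (Cfsg.pResidual p ↥H).map H.subtype := by
  have hYP := largestPReducedOf_le_pCoreOf p M
  have hYH : Cfsg.largestPReducedOf p M ≤ H := hYP.trans hH.2.1
  have hRH : (Cfsg.pResidual p ↥H).map H.subtype ≤ H := Subgroup.map_subtype_le _
  have hHR := le_normalizer_map_pResidual p H
  have hsup := frakH_sup S hQp hQ hSM hM hasym hH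
  have hV := frakH_conjClosure_largestPReducedOf S hQp hQ hSM hM hasym hH
  have hPY : Cfsg.pCoreOf p M ≤
      Subgroup.normalizer ((Cfsg.largestPReducedOf p M : Subgroup G) : Set G) :=
    (pCoreOf_le p M).trans (Cfsg.Agent.Lib.helper52.le_normalizer_largestPReducedOf p M)
  have hWR : ⁅(Cfsg.pResidual p ↥H).map H.subtype, Cfsg.largestPReducedOf p M⁆ ≤
      (Cfsg.pResidual p ↥H).map H.subtype := commutator_le_left_of_le_normalizer (hYH.trans hHR)
  apply le_antisymm hWR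
  -- `H` normalizes `W = [R, Y]`
  have hHW : H ≤ Subgroup.normalizer
      ((⁅(Cfsg.pResidual p ↥H).map H.subtype, Cfsg.largestPReducedOf p M⁆ : Subgroup G) :
        Set G) := by
    refine hsup.ge.trans (sup_le (le_normalizer_commutator_left _ _) ?_)
    intro u hu
    exact mem_normalizer_commutator (hHR (hH.2.1 hu)) (hPY hu)
  -- the conjugates of `Y` under `H` lie in `W Y`
  have hVW : conjClosure (Cfsg.largestPReducedOf p M) H ≤
      ⁅(Cfsg.pResidual p ↥H).map H.subtype, Cfsg.largestPReducedOf p M⁆ ⊔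
        Cfsg.largestPReducedOf p M := by
    apply iSup_le
    intro h
    have hh : (h : G) ∈ (Cfsg.pResidual p ↥H).map H.subtype ⊔ Cfsg.pCoreOf p M := hsup.ge h.2
    obtain ⟨u, hu, r, hr, e⟩ := (mem_sup_of_le_normalizer' (hH.2.1.trans hHR)).mp hh
    rw [← e, ← conj_conj]
    have h1 : (Cfsg.largestPReducedOf p M).map (MulAut.conj r).toMonoidHom ≤
        ⁅(Cfsg.pResidual p ↥H).map H.subtype, Cfsg.largestPReducedOf p M⁆ ⊔
          Cfsg.largestPReducedOf p M := by
      rw [conj_le_iff]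
      intro y hy
      have e2 : r * y * r⁻¹ = ⁅r, y⁆ * y := by rw [commutatorElement_def]; group
      rw [e2]
      exact Subgroup.mul_mem _ (le_sup_left (a := ⁅(Cfsg.pResidual p ↥H).map H.subtype,
        Cfsg.largestPReducedOf p M⁆) (Subgroup.commutator_mem_commutator hr hy))
        (le_sup_right (a := ⁅(Cfsg.pResidual p ↥H).map H.subtype,
          Cfsg.largestPReducedOf p M⁆) hy)
    have h2 := conj_mono h1 u
    rwa [conj_eq_self_of_mem_normalizer
      (Cfsg.Agent.Lib.helper52.le_normalizer_sup (hH.2.1.trans hHW) hPY hu)] at h2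
  have hWP : ⁅(Cfsg.pResidual p ↥H).map H.subtype, Cfsg.largestPReducedOf p M⁆ ⊔
      Cfsg.pCoreOf p M = H := by
    apply le_antisymm (sup_le (hWR.trans hRH) hH.2.1)
    refine hsup.ge.trans (sup_le ?_ le_sup_right)
    have h1 : (Cfsg.pResidual p ↥H).map H.subtype ≤ conjClosure (Cfsg.largestPReducedOf p M) H :=
      le_sup_left.trans hV.ge
    exact (h1.trans hVW).trans (sup_le le_sup_left (hYP.trans le_sup_right))
  exact map_pResidual_le_of_sup_eq (hWR.trans hRH) hHW (pCoreOf_isPGroup p M) hH.2.1 hWP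

end Cfsg.Agent.Lib.helper53
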