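import Cfsg.Agent.Lib.helper53.FrakH2
import Cfsg.Agent.Lib.helper53.PIrr
import Cfsg.Agent.Lib.helper53.Large2
import Cfsg.Agent.Lib.helper52.Subn

set_option autoImplicit false

namespace Cfsg.Agent.Lib.helper53

open scoped commutatorElement Pointwise

variable {G : Type*} [Group G]

theorem centralizer_bot_eq_top53 : Subgroup.centralizer ((⊥ : Subgroup G) : Set G) = ⊤ := by
  rw [eq_top_iff]
  intro x _
  rw [Subgroup.mem_centralizer_iff]
  intro y hy
  have hy1 : y = 1 := Subgroup.mem_bot.mp hy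
  rw [hy1, one_mul, mul_one]

/-- `N_G(Y_M) = M†` for `M ∈ 𝔐_G` containing a Sylow `p`-subgroup, when a large `p`-subgroup is
present. -/
theorem frakM_normalizer_largestPReducedOf_eq [Finite G] {p : ℕ} [Fact p.Prime] (S : Sylow p G)
    {Q : Subgroup G} (hQp : IsPGroup p Q) (hQ : Cfsg.IsLarge Q) {M : Subgroup G}
    (hSM : (S : Subgroup G) ≤ M) (hM : Cfsg.IsInFrakM p M) :
    Subgroup.normalizer ((Cfsg.largestPReducedOf p M : Subgroup G) : Set G) =
      M ⊔ Subgroup.centralizer (Cfsg.largestPReducedOf p M : Set G) := by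
  apply le_antisymm _ (dagger_le_normalizer p M)
  by_cases hY0 : Cfsg.largestPReducedOf p M = ⊥
  · rw [hY0, centralizer_bot_eq_top53, sup_top_eq]
    exact le_top
  · have hYp : IsPGroup p (Cfsg.largestPReducedOf p M) :=
      (pCoreOf_isPGroup p M).to_le (largestPReducedOf_le_pCoreOf p M)
    have hMN := Cfsg.Agent.Lib.helper52.le_normalizer_largestPReducedOf p M
    have hpar : Cfsg.IsParabolic p
        (Subgroup.normalizer ((Cfsg.largestPReducedOf p M : Subgroup G) : Set G)) :=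
      ⟨S, hSM.trans hMN⟩
    have hR := large_mem_charPSubgroups hQp hQ hpar (pCoreOf_normalizer_ne_bot hYp hY0)
    obtain ⟨X', hX', hRX'⟩ := exists_maxCharP_ge hR
    have e1 := hM.2.2.1 X' hX' (hMN.trans hRX')
    rw [← e1]; exact hRX'

/-- Monotonicity of `O^p` (ambient form). -/
theorem map_pResidual_mono {p : ℕ} {H K : Subgroup G} (hHK : H ≤ K) :
    (Cfsg.pResidual p ↥H).map H.subtype ≤ (Cfsg.pResidual p ↥K).map K.subtype := by
  rw [Cfsg.Agent.Lib.helper52.map_pResidual_subtype, Cfsg.Agent.Lib.helper52.map_pResidual_subtype]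
  exact Subgroup.closure_mono (fun g hg => ⟨hHK hg.1, hg.2⟩)

/-- `N(H) ≤ N(O^p(H))`. -/
theorem normalizer_le_normalizer_map_pResidual [Finite G] (p : ℕ) (H : Subgroup G) :
    Subgroup.normalizer (H : Set G) ≤
      Subgroup.normalizer (((Cfsg.pResidual p ↥H).map H.subtype : Subgroup G) : Set G) := by
  intro x hx
  apply mem_normalizer_of_conj_le
  rw [Cfsg.Agent.Lib.helper52.map_pResidual_subtype, MonoidHom.map_closure, Subgroup.closure_le]
  rintro _ ⟨g, ⟨hgH, hgc⟩, rfl⟩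
  apply Subgroup.subset_closure
  refine ⟨(Subgroup.mem_normalizer_iff.mp hx g).mp hgH, ?_⟩
  have : orderOf ((MulAut.conj x) g) = orderOf g := MulEquiv.orderOf_eq (MulAut.conj x) g
  exact this ▸ hgc

/-- `p`-subgroups of a `p`-closed subgroup lie in its `p`-core. -/
theorem isPClosed_le_pCoreOf {p : ℕ} {N B : Subgroup G} (h : Cfsg.IsPClosed p ↥N) (hBN : B ≤ N)
    (hB : IsPGroup p B) : B ≤ Cfsg.pCoreOf p N := by
  obtain ⟨P', hP'⟩ := (hB.comap_subtype (K := N)).exists_le_sylow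
  have h1 := IsPClosed.sylow_eq_pCore h P'
  intro b hb
  have h2 : (⟨b, hBN hb⟩ : ↥N) ∈ (P' : Subgroup ↥N) := hP' (Subgroup.mem_subgroupOf.mpr hb)
  rw [h1] at h2
  exact ⟨⟨b, hBN hb⟩, h2, rfl⟩

/-- A normal subgroup `N₁` of `H ∈ ℌ_G(O_p(M))` with `N₁ O_p(M) ≠ H` is `p`-closed. -/
theorem frakH_isPClosed_of_normal [Finite G] {p : ℕ} [Fact p.Prime] (S : Sylow p G)
    {Q : Subgroup G} (hQp : IsPGroup p Q) (hQ : Cfsg.IsLarge Q) {M : Subgroup G}
    (hSM : (S : Subgroup G) ≤ M) (hM : Cfsg.IsInFrakM p M)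
    (hasym : ¬ Cfsg.IsSymmetricIn (Cfsg.largestPReducedOf p M))
    {H : Subgroup G} (hH : Cfsg.IsInFrakH p M H) {N₁ : Subgroup G} (hNH : N₁ ≤ H)
    (hHN : H ≤ Subgroup.normalizer (N₁ : Set G)) (hne : N₁ ⊔ Cfsg.pCoreOf p M ≠ H) :
    Cfsg.IsPClosed p ↥N₁ := by
  have hYP := largestPReducedOf_le_pCoreOf p M
  have hYH : Cfsg.largestPReducedOf p M ≤ H := hYP.trans hH.2.1
  have hlt : N₁ ⊔ Cfsg.pCoreOf p M < H := lt_of_le_of_ne (sup_le hNH hH.2.1) hne
  have hY := hH.2.2.2 _ le_sup_right hlt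
  have hHD : H ≤ Subgroup.normalizer (Cfsg.pCoreOf p N₁ : Set G) :=
    hHN.trans (normalizer_le_normalizer_pCoreOf p N₁)
  have h1 : ⁅N₁, Cfsg.largestPReducedOf p M⁆ ≤ Cfsg.pCoreOf p N₁ := by
    have ha : ⁅N₁, Cfsg.largestPReducedOf p M⁆ ≤ N₁ :=
      commutator_le_left_of_le_normalizer (hYH.trans hHN)
    have hb : ⁅N₁, Cfsg.largestPReducedOf p M⁆ ≤ Cfsg.pCoreOf p (N₁ ⊔ Cfsg.pCoreOf p M) :=
      (Subgroup.commutator_mono le_rfl hY).trans
        (commutator_le_right_of_le_normalizer (le_sup_left.trans (le_normalizer_pCoreOf p _)))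
    exact (le_inf hb ha).trans (pCoreOf_inf_le le_sup_left)
  have h2 : ∀ h ∈ H, ⁅N₁, (Cfsg.largestPReducedOf p M).map (MulAut.conj h).toMonoidHom⁆ ≤
      Cfsg.pCoreOf p N₁ := by
    intro h hh
    have := conj_mono h1 h
    rw [Subgroup.map_commutator, conj_eq_self_of_mem_normalizer (hHN hh),
      conj_eq_self_of_mem_normalizer (hHD hh)] at this
    exact this
  have h3 : ⁅conjClosure (Cfsg.largestPReducedOf p M) H, N₁⁆ ≤ Cfsg.pCoreOf p N₁ := by
    unfold conjClosure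
    apply iSup_commutator_le
    · intro h
      have h4 := conj_mono hYH (h : G)
      rw [conj_eq_self_of_mem_normalizer (Subgroup.le_normalizer h.2)] at h4
      exact h4.trans hHD
    · intro h
      rw [Subgroup.commutator_comm]
      exact h2 h h.2
  have hRV : (Cfsg.pResidual p ↥H).map H.subtype ≤ conjClosure (Cfsg.largestPReducedOf p M) H :=
    le_sup_left.trans (frakH_conjClosure_largestPReducedOf S hQp hQ hSM hM hasym hH).ge
  have h4 : ⁅(Cfsg.pResidual p ↥H).map H.subtype, N₁⁆ ≤ Cfsg.pCoreOf p N₁ :=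
    (Subgroup.commutator_mono hRV le_rfl).trans h3
  refine isPClosed_of_forall_sylow_le (D := Cfsg.pCoreOf p N₁) ?_ (pCoreOf_isPGroup p N₁) ?_
  · rw [pCoreOf_subgroupOf]; exact pCore_normal p _
  · intro T
    apply le_pCoreOf (Subgroup.map_subtype_le _) _ (T.2.map _)
    have hE : (Cfsg.pResidual p ↥N₁).map N₁.subtype ≤ (Cfsg.pResidual p ↥H).map H.subtype :=
      map_pResidual_mono hNH
    refine (map_pResidual_sup_sylow N₁ T).ge.trans (sup_le ?_ Subgroup.le_normalizer)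
    intro e he
    apply mem_normalizer_of_conj_le
    rw [conj_le_iff]
    intro t ht
    have e2 : e * t * e⁻¹ = ⁅e, t⁆ * t := by rw [commutatorElement_def]; group
    rw [e2]
    have hD₁T : Cfsg.pCoreOf p N₁ ≤ (T : Subgroup ↥N₁).map N₁.subtype :=
      Subgroup.map_mono (pCore_le_sylow T)
    exact Subgroup.mul_mem _ (hD₁T (h4 (Subgroup.commutator_mem_commutator (hE he)
      (Subgroup.map_subtype_le _ ht)))) ht

/-- Elements of `H A`, `A` a `p`-subgroup normalized by `H`, are products `h d` with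
`d ∈ O_p(H A)`. -/
theorem exists_mul_pCoreOf_sup {p : ℕ} {H A : Subgroup G} (hAp : IsPGroup p A)
    (hHA : H ≤ Subgroup.normalizer (A : Set G)) {x : G} (hx : x ∈ H ⊔ A) :
    ∃ h ∈ H, ∃ d ∈ Cfsg.pCoreOf p (H ⊔ A), x = h * d := by
  have hADt : A ≤ Cfsg.pCoreOf p (H ⊔ A) :=
    le_pCoreOf le_sup_right (sup_le hHA Subgroup.le_normalizer) hAp
  have hx' : x ∈ H ⊔ Cfsg.pCoreOf p (H ⊔ A) := (sup_le_sup_left hADt H) hx
  exact Cfsg.Agent.Lib.helper52.exists_mul_of_mem_sup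
    (le_sup_left.trans (le_normalizer_pCoreOf p (H ⊔ A))) hx'

/-- For `H ∈ ℌ_G(O_p(M))` and a `p`-subgroup `A` normalized by `H`: `H` is normal in `H A`. -/
theorem frakH_sup_le_normalizer [Finite G] {p : ℕ} [Fact p.Prime] (S : Sylow p G)
    {Q : Subgroup G} (hQp : IsPGroup p Q) (hQ : Cfsg.IsLarge Q) {M : Subgroup G}
    (hSM : (S : Subgroup G) ≤ M) (hM : Cfsg.IsInFrakM p M)
    (hasym : ¬ Cfsg.IsSymmetricIn (Cfsg.largestPReducedOf p M))
    {H : Subgroup G} (hH : Cfsg.IsInFrakH p M H) {A : Subgroup G} (hAp : IsPGroup p A)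
    (hHA : H ≤ Subgroup.normalizer (A : Set G)) :
    H ⊔ A ≤ Subgroup.normalizer (H : Set G) := by
  have hDtP : Cfsg.pCoreOf p (H ⊔ A) ≤ Subgroup.normalizer (Cfsg.pCoreOf p M : Set G) :=
    (frakH_pCoreOf_le S hQp hQ hSM hM hasym (hH.2.1.trans le_sup_left)).trans inf_le_left
  have h1 : conjClosure (Cfsg.pCoreOf p M) (H ⊔ A) ≤ H := by
    apply iSup_le
    intro x
    obtain ⟨h, hh, d, hd, e⟩ := exists_mul_pCoreOf_sup hAp hHA x.2
    rw [e, ← conj_conj, conj_eq_self_of_mem_normalizer (hDtP hd)]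
    have := conj_mono hH.2.1 h
    rwa [conj_eq_self_of_mem_normalizer (Subgroup.le_normalizer hh)] at this
  have h2 : H ≤ conjClosure (Cfsg.pCoreOf p M) (H ⊔ A) :=
    (frakH_conjClosure_pCoreOf hH).ge.trans
      (iSup_le fun h => conj_le_conjClosure _ (le_sup_left (a := H) (b := A) h.2))
  have h3 : conjClosure (Cfsg.pCoreOf p M) (H ⊔ A) = H := le_antisymm h1 h2
  have h4 := le_normalizer_conjClosure (Cfsg.pCoreOf p M) (H ⊔ A)
  rwa [h3] at h4

/-- For `H ∈ ℌ_G(O_p(M))` and a `p`-subgroup `A` normalized by `H`: `O^p(H) = O^p(H A)`. -/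
theorem frakH_sup_map_pResidual [Finite G] {p : ℕ} [Fact p.Prime] (S : Sylow p G)
    {Q : Subgroup G} (hQp : IsPGroup p Q) (hQ : Cfsg.IsLarge Q) {M : Subgroup G}
    (hSM : (S : Subgroup G) ≤ M) (hM : Cfsg.IsInFrakM p M)
    (hasym : ¬ Cfsg.IsSymmetricIn (Cfsg.largestPReducedOf p M))
    {H : Subgroup G} (hH : Cfsg.IsInFrakH p M H) {A : Subgroup G} (hAp : IsPGroup p A)
    (hHA : H ≤ Subgroup.normalizer (A : Set G)) :
    (Cfsg.pResidual p ↥H).map H.subtype =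
      (Cfsg.pResidual p ↥(H ⊔ A)).map (H ⊔ A).subtype := by
  apply le_antisymm (map_pResidual_mono le_sup_left)
  have hADt : A ≤ Cfsg.pCoreOf p (H ⊔ A) :=
    le_pCoreOf le_sup_right (sup_le hHA Subgroup.le_normalizer) hAp
  have hnorm := frakH_sup_le_normalizer S hQp hQ hSM hM hasym hH hAp hHA
  have hsup := frakH_sup S hQp hQ hSM hM hasym hH
  have hRH : (Cfsg.pResidual p ↥H).map H.subtype ≤ H := Subgroup.map_subtype_le _
  refine map_pResidual_le_of_sup_eq (T := Cfsg.pCoreOf p M ⊔ Cfsg.pCoreOf p (H ⊔ A))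
    (hRH.trans le_sup_left) (hnorm.trans (normalizer_le_normalizer_map_pResidual p H))
    ((pCoreOf_isPGroup p M).to_sup_of_normal_right' (pCoreOf_isPGroup p (H ⊔ A))
      ((hH.2.1.trans le_sup_left).trans (le_normalizer_pCoreOf p (H ⊔ A))))
    (sup_le (hH.2.1.trans le_sup_left) (pCoreOf_le p (H ⊔ A))) ?_
  rw [← sup_assoc, hsup]
  exact le_antisymm (sup_le le_sup_left (pCoreOf_le p (H ⊔ A)))
    (sup_le le_sup_left (hADt.trans le_sup_right))

/-- For `H ∈ ℌ_G(O_p(M))` and a `p`-subgroup `A` normalized by `H`: `H A` is not `p`-closed. -/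
theorem frakH_sup_not_isPClosed {p : ℕ} {M H : Subgroup G}
    (hH : Cfsg.IsInFrakH p M H) (A : Subgroup G) : ¬ Cfsg.IsPClosed p ↥(H ⊔ A) := by
  intro hcl
  have hYP := largestPReducedOf_le_pCoreOf p M
  have hYH : Cfsg.largestPReducedOf p M ≤ H := hYP.trans hH.2.1
  have h1 := isPClosed_le_pCoreOf hcl (hYH.trans le_sup_left)
    ((pCoreOf_isPGroup p M).to_le hYP)
  exact hH.2.2.1 ((le_inf h1 hYH).trans (pCoreOf_inf_le le_sup_left))

/-- For `H ∈ ℌ_G(O_p(M))` and a `p`-subgroup `A` normalized by `H`: a normal subgroup of `H A`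
not containing `O^p(H)` is `p`-closed. -/
theorem frakH_sup_isPClosed_of_normal [Finite G] {p : ℕ} [Fact p.Prime] (S : Sylow p G)
    {Q : Subgroup G} (hQp : IsPGroup p Q) (hQ : Cfsg.IsLarge Q) {M : Subgroup G}
    (hSM : (S : Subgroup G) ≤ M) (hM : Cfsg.IsInFrakM p M)
    (hasym : ¬ Cfsg.IsSymmetricIn (Cfsg.largestPReducedOf p M))
    {H : Subgroup G} (hH : Cfsg.IsInFrakH p M H) {A : Subgroup G} (hAp : IsPGroup p A)
    (hHA : H ≤ Subgroup.normalizer (A : Set G)) {N : Subgroup G} (hNHt : N ≤ H ⊔ A)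
    (hHtN : H ⊔ A ≤ Subgroup.normalizer (N : Set G))
    (hR : ¬ (Cfsg.pResidual p ↥H).map H.subtype ≤ N) : Cfsg.IsPClosed p ↥N := by
  have hHtD : H ⊔ A ≤ Subgroup.normalizer (Cfsg.pCoreOf p (H ⊔ A) : Set G) :=
    le_normalizer_pCoreOf p (H ⊔ A)
  have hHtH := frakH_sup_le_normalizer S hQp hQ hSM hM hasym hH hAp hHA
  have hDtp : IsPGroup p (Cfsg.pCoreOf p (H ⊔ A)) := pCoreOf_isPGroup p (H ⊔ A)
  have hN'H : H ⊓ (N ⊔ Cfsg.pCoreOf p (H ⊔ A)) ≤ H := inf_le_left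
  have hHtN' : H ⊔ A ≤ Subgroup.normalizer
      ((H ⊓ (N ⊔ Cfsg.pCoreOf p (H ⊔ A)) : Subgroup G) : Set G) :=
    Cfsg.Agent.Lib.helper52.le_normalizer_inf hHtH
      (Cfsg.Agent.Lib.helper52.le_normalizer_sup hHtN hHtD)
  have hHN' : H ≤ Subgroup.normalizer
      ((H ⊓ (N ⊔ Cfsg.pCoreOf p (H ⊔ A)) : Subgroup G) : Set G) := le_sup_left.trans hHtN'
  by_cases hc : H ⊓ (N ⊔ Cfsg.pCoreOf p (H ⊔ A)) ⊔ Cfsg.pCoreOf p M = H
  · exfalso
    apply hR
    have h1 : (Cfsg.pResidual p ↥H).map H.subtype ≤ H ⊓ (N ⊔ Cfsg.pCoreOf p (H ⊔ A)) :=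
      map_pResidual_le_of_sup_eq hN'H hHN' (pCoreOf_isPGroup p M) hH.2.1 hc
    have key : ∀ x : G, x ∈ H ∧ (orderOf x).Coprime p → x ∈ N := by
      intro x hx
      have hxR : x ∈ (Cfsg.pResidual p ↥H).map H.subtype := by
        rw [Cfsg.Agent.Lib.helper52.map_pResidual_subtype]
        exact Subgroup.subset_closure hx
      have hxND : x ∈ Cfsg.pCoreOf p (H ⊔ A) ⊔ N := by
        rw [sup_comm]; exact (h1 hxR).2
      exact Cfsg.Agent.Lib.helper52.mem_of_mem_sup_of_coprime_of_le_normalizer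
        ((pCoreOf_le p (H ⊔ A)).trans hHtN) hDtp hxND hx.2
    rw [Cfsg.Agent.Lib.helper52.map_pResidual_subtype, Subgroup.closure_le]
    exact key
  · have hcl := frakH_isPClosed_of_normal S hQp hQ hSM hM hasym hH hN'H hHN' hc
    have hTD : Cfsg.pCoreOf p (H ⊓ (N ⊔ Cfsg.pCoreOf p (H ⊔ A))) ≤ Cfsg.pCoreOf p (H ⊔ A) :=
      pCoreOf_le_of_normal (hN'H.trans le_sup_left) hHtN'
    refine isPClosed_of_forall_sylow_le (D := N ⊓ Cfsg.pCoreOf p (H ⊔ A)) ?_
      (hDtp.to_le inf_le_right) ?_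
    · exact (Subgroup.normal_subgroupOf_iff_le_normalizer inf_le_left).mpr
        (Cfsg.Agent.Lib.helper52.le_normalizer_inf Subgroup.le_normalizer (hNHt.trans hHtD))
    · intro B b hb
      have hBN : (B : Subgroup ↥N).map N.subtype ≤ N := Subgroup.map_subtype_le _
      have hbN : b ∈ N := hBN hb
      refine ⟨hbN, ?_⟩
      obtain ⟨h, hh, d, hd, e⟩ := exists_mul_pCoreOf_sup hAp hHA (hNHt hbN)
      have hB₁p : IsPGroup p (((B : Subgroup ↥N).map N.subtype ⊔ Cfsg.pCoreOf p (H ⊔ A)) ⊓ H :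
          Subgroup G) :=
        ((B.2.map N.subtype).to_sup_of_normal_right' hDtp ((hBN.trans hNHt).trans hHtD)).to_le
          inf_le_left
      have hB₁N' : ((B : Subgroup ↥N).map N.subtype ⊔ Cfsg.pCoreOf p (H ⊔ A)) ⊓ H ≤
          H ⊓ (N ⊔ Cfsg.pCoreOf p (H ⊔ A)) :=
        le_inf inf_le_right (inf_le_left.trans (sup_le_sup_right hBN _))
      have hhB₁ : h ∈ ((B : Subgroup ↥N).map N.subtype ⊔ Cfsg.pCoreOf p (H ⊔ A)) ⊓ H := by
        refine ⟨?_, hh⟩
        have e' : h = b * d⁻¹ := by rw [e]; group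
        rw [e']
        exact Subgroup.mul_mem _ (le_sup_left (a := (B : Subgroup ↥N).map N.subtype) hb)
          (Subgroup.inv_mem _ (le_sup_right (a := (B : Subgroup ↥N).map N.subtype) hd))
      have hhD : h ∈ Cfsg.pCoreOf p (H ⊔ A) := hTD (isPClosed_le_pCoreOf hcl hB₁N' hB₁p hhB₁)
      rw [e]
      exact Subgroup.mul_mem _ hhD hd

/-- For `H ∈ ℌ_G(O_p(M))` and a `p`-subgroup `A` normalized by `H`: `H A` is `p`-irreducible. -/
theorem frakH_sup_isPIrreducible [Finite G] {p : ℕ} [Fact p.Prime] (S : Sylow p G)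
    {Q : Subgroup G} (hQp : IsPGroup p Q) (hQ : Cfsg.IsLarge Q) {M : Subgroup G}
    (hSM : (S : Subgroup G) ≤ M) (hM : Cfsg.IsInFrakM p M)
    (hasym : ¬ Cfsg.IsSymmetricIn (Cfsg.largestPReducedOf p M))
    {H : Subgroup G} (hH : Cfsg.IsInFrakH p M H) {A : Subgroup G} (hAp : IsPGroup p A)
    (hHA : H ≤ Subgroup.normalizer (A : Set G)) : Cfsg.IsPIrreducible p ↥(H ⊔ A) := by
  refine ⟨frakH_sup_not_isPClosed hH A, ?_⟩
  intro N hNn hNcl
  by_contra hcon
  apply hNcl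
  have hk : IsPGroup p (H ⊔ A).subtype.ker := by
    rw [Subgroup.ker_subtype]; exact IsPGroup.of_bot
  rw [isPClosed_map_iff (H ⊔ A).subtype hk N]
  apply frakH_sup_isPClosed_of_normal S hQp hQ hSM hM hasym hH hAp hHA
    (Subgroup.map_subtype_le _)
    (Cfsg.Agent.Lib.helper52.le_normalizer_map_subtype (H ⊔ A) N)
  rw [frakH_sup_map_pResidual S hQp hQ hSM hM hasym hH hAp hHA]
  intro h
  exact hcon ((Subgroup.map_le_map_iff_of_injective (H ⊔ A).subtype_injective).mp h)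

end Cfsg.Agent.Lib.helper53
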