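import Cfsg.Prelude.Def_LocalStructure
import Cfsg.Agent.Lib.helper53.PCore

set_option autoImplicit false

namespace Cfsg.Agent.Lib.helper53

variable {L : Type*} [Group L]

/-- In a `Y`-minimal group with `L₀` a maximal subgroup containing `Y`, every proper subgroup
containing `Y` lies in `L₀`. -/
theorem minOver_le_of_ne_top [Finite L] {Y L₀ : Subgroup L} (hmin : Cfsg.IsMinimalOver Y)
    (hL₀ : IsCoatom L₀) (hY : Y ≤ L₀) {X : Subgroup L} (hYX : Y ≤ X) (hX : X ≠ ⊤) : X ≤ L₀ := by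
  obtain ⟨-, M, ⟨hM, hYM⟩, huniq⟩ := hmin
  obtain ⟨K, hK, hle⟩ := (eq_top_or_exists_le_coatom X).resolve_left hX
  have h1 : K = M := huniq K ⟨hK, hYX.trans hle⟩
  have h2 : L₀ = M := huniq L₀ ⟨hL₀, hY⟩
  rw [h2, ← h1]; exact hle

theorem minOver_coatom_unique {Y L₀ K : Subgroup L} (hmin : Cfsg.IsMinimalOver Y)
    (hL₀ : IsCoatom L₀) (hY : Y ≤ L₀) (hK : IsCoatom K) (hYK : Y ≤ K) : K = L₀ := by
  obtain ⟨-, M, ⟨hM, hYM⟩, huniq⟩ := hmin
  rw [huniq K ⟨hK, hYK⟩, huniq L₀ ⟨hL₀, hY⟩]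

/-- In a `Y`-minimal group, a normal subgroup containing `Y` is the whole group. -/
theorem minOver_eq_top_of_normal {Y X : Subgroup L} (hmin : Cfsg.IsMinimalOver Y) [X.Normal]
    (hYX : Y ≤ X) : X = ⊤ := by
  rw [eq_top_iff, ← hmin.1]
  exact Subgroup.normalClosure_le_normal hYX

/-- In a `Y`-minimal group, normalizers of subgroups between `Y` and `L₀` lie in `L₀`. -/
theorem minOver_normalizer_le [Finite L] {Y L₀ : Subgroup L} (hmin : Cfsg.IsMinimalOver Y)
    (hL₀ : IsCoatom L₀) (hY : Y ≤ L₀) {P : Subgroup L} (hYP : Y ≤ P) (hPL : P ≤ L₀) :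
    Subgroup.normalizer (P : Set L) ≤ L₀ := by
  apply minOver_le_of_ne_top hmin hL₀ hY (hYP.trans Subgroup.le_normalizer)
  intro htop
  haveI : P.Normal := Subgroup.normalizer_eq_top_iff.mp htop
  have := minOver_eq_top_of_normal hmin hYP
  exact hL₀.1 (top_le_iff.mp (this ▸ hPL))

theorem minOver_normalizer_coatom [Finite L] {Y L₀ : Subgroup L} (hmin : Cfsg.IsMinimalOver Y)
    (hL₀ : IsCoatom L₀) (hY : Y ≤ L₀) : Subgroup.normalizer (L₀ : Set L) = L₀ :=
  le_antisymm (minOver_normalizer_le hmin hL₀ hY hY le_rfl) Subgroup.le_normalizer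

/-- In a `Y`-minimal group, `L = ⟨Y, Y^g⟩` for every `g` outside the maximal subgroup `L₀ ≥ Y`. -/
theorem minOver_sup_conj_eq_top [Finite L] {Y L₀ : Subgroup L} (hmin : Cfsg.IsMinimalOver Y)
    (hL₀ : IsCoatom L₀) (hY : Y ≤ L₀) {g : L} (hg : g ∉ L₀) :
    Y ⊔ Y.map (MulAut.conj g).toMonoidHom = ⊤ := by
  by_contra hne
  have h1 := minOver_le_of_ne_top hmin hL₀ hY le_sup_left hne
  have h2 : Y.map (MulAut.conj g).toMonoidHom ≤ L₀ := le_sup_right.trans h1
  have h3 : Y ≤ L₀.map (MulAut.conj g⁻¹).toMonoidHom := by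
    rw [le_conj_iff, inv_inv]; exact h2
  have h4 : IsCoatom (L₀.map (MulAut.conj g⁻¹).toMonoidHom) :=
    (OrderIso.isCoatom_iff ((MulAut.conj g⁻¹).mapSubgroup) L₀).mpr hL₀
  have h5 := minOver_coatom_unique hmin hL₀ hY h4 h3
  have h6 : g⁻¹ ∈ Subgroup.normalizer (L₀ : Set L) := mem_normalizer_of_conj_eq_self h5
  rw [minOver_normalizer_coatom hmin hL₀ hY] at h6
  exact hg (by simpa using L₀.inv_mem h6)

/-- In a `Y`-minimal group with `Y` a `p`-group, `O_p(L) ≤ L₀`. -/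
theorem minOver_pCore_le [Finite L] {p : ℕ} [Fact p.Prime] {Y L₀ : Subgroup L}
    (hmin : Cfsg.IsMinimalOver Y) (hL₀ : IsCoatom L₀) (hY : Y ≤ L₀) (hYp : IsPGroup p Y) :
    Cfsg.pCore p L ≤ L₀ := by
  haveI := pCore_normal p L
  have hX : IsPGroup p (Cfsg.pCore p L ⊔ Y : Subgroup L) :=
    (pCore_isPGroup p L).to_sup_of_normal_left hYp
  by_cases htop : Cfsg.pCore p L ⊔ Y = ⊤
  · exfalso
    rw [htop] at hX
    have hLp : IsPGroup p L := hX.of_equiv Subgroup.topEquiv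
    haveI : Group.IsNilpotent L := hLp.isNilpotent
    haveI : L₀.Normal :=
      Subgroup.NormalizerCondition.normal_of_coatom L₀ Group.normalizerCondition_of_isNilpotent hL₀
    exact hL₀.1 (minOver_eq_top_of_normal hmin hY)
  · exact le_sup_left.trans (minOver_le_of_ne_top hmin hL₀ hY le_sup_right htop)

/-- In a `Y`-minimal group, a Sylow `p`-subgroup of `L₀` containing `Y` is a Sylow `p`-subgroup of
`L`. -/
theorem minOver_sylow [Finite L] {p : ℕ} [Fact p.Prime] {Y L₀ : Subgroup L}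
    (hmin : Cfsg.IsMinimalOver Y) (hL₀ : IsCoatom L₀) (T : Sylow p L₀)
    (hYT : Y ≤ (T : Subgroup L₀).map L₀.subtype) :
    ∃ P : Sylow p L, (P : Subgroup L) = (T : Subgroup L₀).map L₀.subtype := by
  have hTL : (T : Subgroup L₀).map L₀.subtype ≤ L₀ := Subgroup.map_subtype_le _
  have hY : Y ≤ L₀ := hYT.trans hTL
  have hTp : IsPGroup p ((T : Subgroup L₀).map L₀.subtype) := T.2.map _
  obtain ⟨P, hP⟩ := hTp.exists_le_sylow
  refine ⟨P, ?_⟩
  by_contra hne
  have hlt : (T : Subgroup L₀).map L₀.subtype < (P : Subgroup L) :=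
    lt_of_le_of_ne hP (fun h => hne h.symm)
  obtain ⟨y, hyP, hyT, hyN⟩ := exists_mem_normalizer_not_mem P.2 hlt
  have hyL : y ∈ L₀ := minOver_normalizer_le hmin hL₀ hY hYT hTL hyN
  have hS : IsPGroup p (((T : Subgroup L₀).map L₀.subtype ⊔ Subgroup.zpowers y : Subgroup L)) :=
    P.2.to_le (sup_le hP (by rw [Subgroup.zpowers_le]; exact hyP))
  have hS' : IsPGroup p (((T : Subgroup L₀).map L₀.subtype ⊔ Subgroup.zpowers y :
      Subgroup L).subgroupOf L₀) := hS.comap_subtype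
  have hle : (T : Subgroup L₀) ≤
      ((T : Subgroup L₀).map L₀.subtype ⊔ Subgroup.zpowers y : Subgroup L).subgroupOf L₀ := by
    intro z hz
    rw [Subgroup.mem_subgroupOf]
    exact (le_sup_left : (T : Subgroup L₀).map L₀.subtype ≤ _) ⟨z, hz, rfl⟩
  have heq := T.3 hS' hle
  apply hyT
  have hy' : (⟨y, hyL⟩ : L₀) ∈
      ((T : Subgroup L₀).map L₀.subtype ⊔ Subgroup.zpowers y : Subgroup L).subgroupOf L₀ := by
    rw [Subgroup.mem_subgroupOf]
    exact (le_sup_right : Subgroup.zpowers y ≤ _) (Subgroup.mem_zpowers y)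
  rw [heq] at hy'
  exact ⟨⟨y, hyL⟩, hy', rfl⟩

/-- In a `Y`-minimal group with `Y` abelian, `Y ∩ Y^g = C_Y(L)` for `g ∉ L₀`. -/
theorem minOver_inf_conj [Finite L] {Y L₀ : Subgroup L} (hmin : Cfsg.IsMinimalOver Y)
    (hL₀ : IsCoatom L₀) (hY : Y ≤ L₀) (hc : ∀ a ∈ Y, ∀ b ∈ Y, a * b = b * a) {g : L}
    (hg : g ∉ L₀) :
    Y ⊓ Y.map (MulAut.conj g).toMonoidHom = Y ⊓ Subgroup.center L := by
  apply le_antisymm
  · intro x hx
    refine Subgroup.mem_inf.mpr ⟨(Subgroup.mem_inf.mp hx).1, ?_⟩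
    have hx1 : x ∈ Y := (Subgroup.mem_inf.mp hx).1
    have hx2 : x ∈ Y.map (MulAut.conj g).toMonoidHom := (Subgroup.mem_inf.mp hx).2
    have h1 : Y ⊔ Y.map (MulAut.conj g).toMonoidHom ≤ Subgroup.centralizer ({x} : Set L) := by
      apply sup_le
      · intro y hy
        rw [Subgroup.mem_centralizer_iff]
        intro z hz
        rw [Set.mem_singleton_iff] at hz
        subst hz
        exact hc z hx1 y hy
      · intro y hy
        rw [Subgroup.mem_centralizer_iff]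
        intro z hz
        rw [Set.mem_singleton_iff] at hz
        subst hz
        rw [mem_conj_iff] at hy hx2
        have h2 := hc _ hx2 _ hy
        calc z * y = g * ((g⁻¹ * z * g) * (g⁻¹ * y * g)) * g⁻¹ := by group
          _ = g * ((g⁻¹ * y * g) * (g⁻¹ * z * g)) * g⁻¹ := by rw [h2]
          _ = y * z := by group
    rw [minOver_sup_conj_eq_top hmin hL₀ hY hg] at h1
    rw [Subgroup.mem_center_iff]
    intro y
    have := Subgroup.mem_centralizer_iff.mp (h1 (Subgroup.mem_top y)) x (Set.mem_singleton x)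
    exact this.symm
  · intro x hx
    have hx1 : x ∈ Y := (Subgroup.mem_inf.mp hx).1
    have hx2 : x ∈ Subgroup.center L := (Subgroup.mem_inf.mp hx).2
    refine Subgroup.mem_inf.mpr ⟨hx1, ?_⟩
    rw [mem_conj_iff]
    have h1 := Subgroup.mem_center_iff.mp hx2 g
    have h2 : g⁻¹ * x * g = x := by
      calc g⁻¹ * x * g = g⁻¹ * (x * g) := by group
        _ = g⁻¹ * (g * x) := by rw [h1]
        _ = x := by group
    rw [h2]; exact hx1

end Cfsg.Agent.Lib.helper53
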