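import Cfsg.Prelude.Def_LocalStructure
import Cfsg.Agent.Lib.helper53.MinOver
import Cfsg.Agent.Lib.helper53.Conj
import Cfsg.Agent.Lib.helper53.Comm

set_option autoImplicit false

namespace Cfsg.Agent.Lib.helper53

variable {Λ : Type*} [Group Λ]

/-- The elements commuting with `x` modulo the normal subgroup `C`. -/
def cmod (C : Subgroup Λ) [C.Normal] (x : Λ) : Subgroup Λ :=
  (Subgroup.centralizer {(QuotientGroup.mk' C x)}).comap (QuotientGroup.mk' C)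

theorem mem_cmod {C : Subgroup Λ} [C.Normal] {x a : Λ} :
    a ∈ cmod C x ↔ x * a * x⁻¹ * a⁻¹ ∈ C := by
  unfold cmod
  rw [Subgroup.mem_comap, Subgroup.mem_centralizer_iff]
  simp only [Set.mem_singleton_iff, forall_eq]
  rw [← QuotientGroup.eq_one_iff]
  simp only [QuotientGroup.mk'_apply, QuotientGroup.mk_mul, QuotientGroup.mk_inv]
  constructor
  · intro h; rw [h]; group
  · intro h
    exact mul_inv_eq_iff_eq_mul.mp (mul_inv_eq_one.mp h)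

theorem mem_cmod_comm {C : Subgroup Λ} [C.Normal] {x a : Λ} :
    a ∈ cmod C x ↔ x ∈ cmod C a := by
  rw [mem_cmod, mem_cmod]
  constructor
  · intro h
    have := C.inv_mem h
    have e : (x * a * x⁻¹ * a⁻¹)⁻¹ = a * x * a⁻¹ * x⁻¹ := by group
    rwa [e] at this
  · intro h
    have := C.inv_mem h
    have e : (a * x * a⁻¹ * x⁻¹)⁻¹ = x * a * x⁻¹ * a⁻¹ := by group
    rwa [e] at this

theorem normal_inf_center (Y : Subgroup Λ) : (Y ⊓ Subgroup.center Λ).Normal := by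
  constructor
  intro n hn g
  have h2 := (Subgroup.mem_inf.mp hn).2
  rw [Subgroup.mem_center_iff] at h2
  have : g * n * g⁻¹ = n := by rw [h2 g, mul_inv_cancel_right]
  rw [this]; exact hn

theorem conj_inf_center (Y : Subgroup Λ) (g : Λ) :
    Y.map (MulAut.conj g).toMonoidHom ⊓ Subgroup.center Λ = Y ⊓ Subgroup.center Λ := by
  ext x
  simp only [Subgroup.mem_inf, mem_conj_iff]
  constructor
  · rintro ⟨h1, h2⟩
    refine ⟨?_, h2⟩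
    have : g⁻¹ * x * g = x := by
      rw [Subgroup.mem_center_iff] at h2
      rw [mul_assoc, ← h2 g, inv_mul_cancel_left]
    rwa [this] at h1
  · rintro ⟨h1, h2⟩
    refine ⟨?_, h2⟩
    have : g⁻¹ * x * g = x := by
      rw [Subgroup.mem_center_iff] at h2
      rw [mul_assoc, ← h2 g, inv_mul_cancel_left]
    rwa [this]

theorem ppow_of_pow_eq_one {p : ℕ} [Fact p.Prime] {z : Λ} {k : ℕ} (h : z ^ p ^ k = 1) :
    ∃ m : ℕ, orderOf z = p ^ m := by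
  obtain ⟨m, -, hm⟩ := (Nat.dvd_prime_pow (Fact.out : p.Prime)).mp (orderOf_dvd_of_pow_eq_one h)
  exact ⟨m, hm⟩

theorem ppow_of_mem_pgroup {p : ℕ} [Fact p.Prime] {P : Subgroup Λ} (hP : IsPGroup p P) {x : Λ}
    (hx : x ∈ P) : ∃ m : ℕ, orderOf x = p ^ m := by
  obtain ⟨k, hk⟩ := hP ⟨x, hx⟩
  have : x ^ p ^ k = 1 := by
    have := congrArg Subtype.val hk
    simpa using this
  exact ppow_of_pow_eq_one this

/-- In a finite `p`-group `P`, if `K ≤ N` are `P`-invariant and `N ≰ K`, some element of `N`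
outside `K` is centralized by `P` modulo `K`. -/
theorem exists_central_mod [Finite Λ] {p : ℕ} [Fact p.Prime] {P N K : Subgroup Λ}
    (hP : IsPGroup p P) (hNP : N ≤ P) (hK : ∀ x ∈ P, ∀ k ∈ K, x * k * x⁻¹ ∈ K)
    (hN : ∀ x ∈ P, ∀ n ∈ N, x * n * x⁻¹ ∈ N) (hne : ¬ N ≤ K) :
    ∃ w ∈ N, w ∉ K ∧ ∀ x ∈ P, x * w * x⁻¹ * w⁻¹ ∈ K := by
  haveI hKn : (K.subgroupOf P).Normal := ⟨fun n hn g => by
    rw [Subgroup.mem_subgroupOf] at hn ⊢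
    exact hK g g.2 n hn⟩
  haveI hNn : (N.subgroupOf P).Normal := ⟨fun n hn g => by
    rw [Subgroup.mem_subgroupOf] at hn ⊢
    exact hN g g.2 n hn⟩
  let π : ↥P →* ↥P ⧸ K.subgroupOf P := QuotientGroup.mk' _
  have hπs : Function.Surjective π := QuotientGroup.mk'_surjective _
  let N' : Subgroup (↥P ⧸ K.subgroupOf P) := (N.subgroupOf P).map π
  haveI hN'n : N'.Normal := Subgroup.Normal.map hNn π hπs
  have hQ : IsPGroup p (↥P ⧸ K.subgroupOf P) := hP.to_quotient _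
  have hN'p : IsPGroup p N' := hQ.to_subgroup N'
  have hN'nt : Nontrivial N' := by
    rw [Subgroup.nontrivial_iff_ne_bot]
    intro hbot
    apply hne
    intro n hn
    have h1 : π ⟨n, hNP hn⟩ ∈ N' :=
      Subgroup.mem_map_of_mem _ (by rw [Subgroup.mem_subgroupOf]; exact hn)
    rw [hbot, Subgroup.mem_bot] at h1
    have h2 := (QuotientGroup.eq_one_iff _).mp h1
    rwa [Subgroup.mem_subgroupOf] at h2
  have key := (hQ.of_equiv ConjAct.toConjAct).exists_fixed_point_of_prime_dvd_card_of_fixed_point N'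
  have dvd : p ∣ Nat.card N' := by
    obtain ⟨n, hn0, hn⟩ := hN'p.nontrivial_iff_card.mp hN'nt
    exact hn.symm ▸ dvd_pow_self _ (ne_of_gt hn0)
  have hone : (1 : N') ∈ MulAction.fixedPoints (ConjAct (↥P ⧸ K.subgroupOf P)) N' := by
    intro g
    exact smul_one g
  obtain ⟨b, hb, hb1⟩ := key dvd hone
  obtain ⟨n, hn, hnb⟩ := b.2
  refine ⟨(n : Λ), Subgroup.mem_subgroupOf.mp hn, ?_, ?_⟩
  · intro hnK
    apply hb1
    apply Subtype.ext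
    rw [← hnb]
    exact ((QuotientGroup.eq_one_iff _).mpr (Subgroup.mem_subgroupOf.mpr hnK)).symm
  · intro x hx
    have h1 := hb (ConjAct.toConjAct (π ⟨x, hx⟩))
    have h2 : π ⟨x, hx⟩ * π n * (π ⟨x, hx⟩)⁻¹ = π n := by
      have := congrArg Subtype.val h1
      rw [ConjAct.Subgroup.val_conj_smul, ConjAct.toConjAct_smul, ← hnb] at this
      exact this
    have h3 : π (⟨x, hx⟩ * n * ⟨x, hx⟩⁻¹ * n⁻¹) = 1 := by
      rw [map_mul, map_mul, map_mul, map_inv, map_inv, h2, mul_inv_cancel]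
    have h4 := (QuotientGroup.eq_one_iff _).mp h3
    rw [Subgroup.mem_subgroupOf] at h4
    simpa using h4

/-- The abstract setting of a member of `𝔏`: `Y` an abelian `p`-subgroup of `Λ`. -/
structure LData (p : ℕ) (Y : Subgroup Λ) : Prop where
  comm : ∀ a ∈ Y, ∀ b ∈ Y, a * b = b * a
  pgrp : IsPGroup p Y
  hA : Cfsg.pCore p Λ = Subgroup.normalClosure ((Y ⊓ Cfsg.pCore p Λ : Subgroup Λ) : Set Λ)
  hAN : Cfsg.pCore p Λ ≤ Subgroup.normalizer (Y : Set Λ)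
  hmin : Cfsg.IsMinimalOver Y
  hN : Subgroup.normalizer (Y : Set Λ) ≠ ⊤
  hmax : ∀ X : Subgroup Λ, Y ≤ X → X ≠ ⊤ → X ≤ Subgroup.normalizer (Y : Set Λ)
  hchar : Subgroup.centralizer (Cfsg.pCore p Λ : Set Λ) ≤ Cfsg.pCore p Λ

theorem LData.coatom {p : ℕ} {Y : Subgroup Λ} (D : LData p Y) :
    IsCoatom (Subgroup.normalizer (Y : Set Λ)) := by
  refine ⟨D.hN, fun X hX => ?_⟩
  by_contra hne
  exact absurd (D.hmax X (Subgroup.le_normalizer.trans hX.le) hne) (not_le_of_gt hX)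

theorem LData.center_le {p : ℕ} {Y : Subgroup Λ} (D : LData p Y) :
    Subgroup.center Λ ≤ Cfsg.pCore p Λ :=
  (Subgroup.center_le_centralizer _).trans D.hchar

theorem LData.hAN_conj {p : ℕ} {Y : Subgroup Λ} (D : LData p Y) (g : Λ) :
    Cfsg.pCore p Λ ≤
      Subgroup.normalizer ((Y.map (MulAut.conj g).toMonoidHom : Subgroup Λ) : Set Λ) := by
  haveI hn := pCore_normal p Λ
  rw [normalizer_conj]
  intro a ha
  rw [mem_conj_iff]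
  exact D.hAN (hn.conj_mem' a ha g)

theorem LData.hmax_conj {p : ℕ} {Y : Subgroup Λ} (D : LData p Y) (g : Λ) (X : Subgroup Λ)
    (hYX : Y.map (MulAut.conj g).toMonoidHom ≤ X) (hX : X ≠ ⊤) :
    X ≤ Subgroup.normalizer ((Y.map (MulAut.conj g).toMonoidHom : Subgroup Λ) : Set Λ) := by
  rw [normalizer_conj, le_conj_iff]
  apply D.hmax
  · rw [le_conj_iff, inv_inv]; exact hYX
  · intro h
    apply hX
    rw [eq_top_iff]
    intro x _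
    have h1 : g⁻¹ * x * g ∈ X.map (MulAut.conj g⁻¹).toMonoidHom := by rw [h]; trivial
    rw [mem_conj_iff] at h1
    have e : g⁻¹⁻¹ * (g⁻¹ * x * g) * g⁻¹ = x := by group
    rwa [e] at h1

theorem LData.eq_top_of_normal_conj {p : ℕ} {Y : Subgroup Λ} (D : LData p Y) (g : Λ)
    (N : Subgroup Λ) [hN : N.Normal] (h : Y.map (MulAut.conj g).toMonoidHom ≤ N) : N = ⊤ := by
  apply minOver_eq_top_of_normal D.hmin
  intro y hy
  have h1 := h (conj_mem_conj (g := g) hy)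
  have h2 := hN.conj_mem' _ h1 g
  have e : g⁻¹ * (g * y * g⁻¹) * g = y := by group
  rwa [e] at h2

theorem conj_comm {Y : Subgroup Λ} (hc : ∀ a ∈ Y, ∀ b ∈ Y, a * b = b * a) (g : Λ) :
    ∀ a ∈ Y.map (MulAut.conj g).toMonoidHom, ∀ b ∈ Y.map (MulAut.conj g).toMonoidHom,
      a * b = b * a := by
  rintro a ⟨a', ha', rfl⟩ b ⟨b', hb', rfl⟩
  rw [← map_mul, ← map_mul, hc a' ha' b' hb']

theorem conj_mem_sup_inf {A Y₁ Y₂ : Subgroup Λ} [hA : A.Normal]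
    (hAN : A ≤ Subgroup.normalizer (Y₁ : Set Λ)) {y : Λ} (hy : y ∈ Y₁) :
    ((Y₁ ⊓ A) ⊔ (Y₂ ⊓ A)).map (MulAut.conj y).toMonoidHom ≤ (Y₁ ⊓ A) ⊔ (Y₂ ⊓ A) := by
  rw [Subgroup.map_sup]
  apply sup_le
  · rw [conj_le_iff]
    intro x hx
    apply Subgroup.mem_sup_left
    have hx1 := (Subgroup.mem_inf.mp hx).1
    refine Subgroup.mem_inf.mpr ⟨?_, hA.conj_mem _ (Subgroup.mem_inf.mp hx).2 y⟩
    exact Y₁.mul_mem (Y₁.mul_mem hy hx1) (Y₁.inv_mem hy)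
  · rw [conj_le_iff]
    intro x hx
    obtain ⟨hx2, hxA⟩ := Subgroup.mem_inf.mp hx
    have h1 : y * x * y⁻¹ * x⁻¹ ∈ Y₁ ⊓ A := by
      refine Subgroup.mem_inf.mpr ⟨?_, ?_⟩
      · have := (Subgroup.mem_normalizer_iff.mp (hAN hxA) y⁻¹).mp (Y₁.inv_mem hy)
        have h := Y₁.mul_mem hy this
        have e : y * (x * y⁻¹ * x⁻¹) = y * x * y⁻¹ * x⁻¹ := by group
        rwa [e] at h
      · exact A.mul_mem (hA.conj_mem _ hxA y) (A.inv_mem hxA)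
    have h2 : y * x * y⁻¹ = (y * x * y⁻¹ * x⁻¹) * x := by group
    rw [h2]
    exact Subgroup.mul_mem_sup h1 hx

theorem decomp_aux [Finite Λ] {A Y₁ Y₂ : Subgroup Λ} [hAn : A.Normal]
    (hA : A = Subgroup.normalClosure ((Y₁ ⊓ A : Subgroup Λ) : Set Λ))
    (hAN₁ : A ≤ Subgroup.normalizer (Y₁ : Set Λ)) (hAN₂ : A ≤ Subgroup.normalizer (Y₂ : Set Λ))
    (hg : Y₁ ⊔ Y₂ = ⊤) :
    ∀ a ∈ A, ∃ b₁ ∈ Y₁ ⊓ A, ∃ b₂ ∈ Y₂ ⊓ A, b₁ * b₂ = a := by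
  have hY1 : Y₁ ≤ Subgroup.normalizer (((Y₁ ⊓ A) ⊔ (Y₂ ⊓ A) : Subgroup Λ) : Set Λ) := fun y hy =>
    mem_normalizer_of_conj_le (conj_mem_sup_inf hAN₁ hy)
  have hY2 : Y₂ ≤ Subgroup.normalizer (((Y₁ ⊓ A) ⊔ (Y₂ ⊓ A) : Subgroup Λ) : Set Λ) := fun y hy => by
    apply mem_normalizer_of_conj_le
    have := conj_mem_sup_inf (Y₂ := Y₁) hAN₂ hy
    rw [sup_comm] at this
    exact this
  have hKn : Subgroup.normalizer (((Y₁ ⊓ A) ⊔ (Y₂ ⊓ A) : Subgroup Λ) : Set Λ) = ⊤ := by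
    rw [eq_top_iff, ← hg]; exact sup_le hY1 hY2
  haveI : ((Y₁ ⊓ A) ⊔ (Y₂ ⊓ A) : Subgroup Λ).Normal := Subgroup.normalizer_eq_top_iff.mp hKn
  have hAK : A ≤ (Y₁ ⊓ A) ⊔ (Y₂ ⊓ A) := by
    intro a ha
    rw [hA] at ha
    exact Subgroup.normalClosure_le_normal (N := (Y₁ ⊓ A) ⊔ (Y₂ ⊓ A))
      (SetLike.coe_subset_coe.mpr le_sup_left) ha
  have hnorm : Y₂ ⊓ A ≤ Subgroup.normalizer ((Y₁ ⊓ A : Subgroup Λ) : Set Λ) := by
    intro x hx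
    have hxA := (Subgroup.mem_inf.mp hx).2
    rw [Subgroup.mem_normalizer_iff]
    intro h
    rw [Subgroup.mem_inf, Subgroup.mem_inf, Subgroup.mem_normalizer_iff.mp (hAN₁ hxA) h,
      Subgroup.mem_normalizer_iff.mp (Subgroup.le_normalizer hxA) h]
  intro a ha
  exact (mem_sup_of_le_normalizer hnorm).mp (hAK ha)

theorem comm_mod_aux {A Y₁ Y₂ C : Subgroup Λ} [C.Normal]
    (hc₁ : ∀ a ∈ Y₁, ∀ b ∈ Y₁, a * b = b * a) (hc₂ : ∀ a ∈ Y₂, ∀ b ∈ Y₂, a * b = b * a)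
    (hAN₁ : A ≤ Subgroup.normalizer (Y₁ : Set Λ)) (hAN₂ : A ≤ Subgroup.normalizer (Y₂ : Set Λ))
    (hdec : ∀ a ∈ A, ∃ b₁ ∈ Y₁ ⊓ A, ∃ b₂ ∈ Y₂ ⊓ A, b₁ * b₂ = a)
    (hC : Y₁ ⊓ Y₂ ≤ C) :
    ∀ x ∈ A, ∀ a ∈ A, x * a * x⁻¹ * a⁻¹ ∈ C := by
  have key : ∀ b₁ ∈ Y₁ ⊓ A, ∀ c₂ ∈ Y₂ ⊓ A, c₂ ∈ cmod C b₁ := by
    intro b₁ hb₁ c₂ hc₂'
    rw [mem_cmod]
    apply hC
    refine Subgroup.mem_inf.mpr ⟨?_, ?_⟩
    · have := (Subgroup.mem_normalizer_iff.mp (hAN₁ hc₂'.2) b₁⁻¹).mp (Y₁.inv_mem hb₁.1)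
      have h := Y₁.mul_mem hb₁.1 this
      have e : b₁ * (c₂ * b₁⁻¹ * c₂⁻¹) = b₁ * c₂ * b₁⁻¹ * c₂⁻¹ := by group
      rwa [e] at h
    · have := (Subgroup.mem_normalizer_iff.mp (hAN₂ hb₁.2) c₂).mp hc₂'.1
      exact Y₂.mul_mem this (Y₂.inv_mem hc₂'.1)
  have same₁ : ∀ b₁ ∈ Y₁, ∀ c₁ ∈ Y₁, c₁ ∈ cmod C b₁ := by
    intro b₁ hb₁ c₁ hc₁'
    rw [mem_cmod, hc₁ b₁ hb₁ c₁ hc₁']
    have e : c₁ * b₁ * b₁⁻¹ * c₁⁻¹ = 1 := by group
    rw [e]; exact C.one_mem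
  have same₂ : ∀ b₁ ∈ Y₂, ∀ c₁ ∈ Y₂, c₁ ∈ cmod C b₁ := by
    intro b₁ hb₁ c₁ hc₁'
    rw [mem_cmod, hc₂ b₁ hb₁ c₁ hc₁']
    have e : c₁ * b₁ * b₁⁻¹ * c₁⁻¹ = 1 := by group
    rw [e]; exact C.one_mem
  have A1 : ∀ b₁ ∈ Y₁ ⊓ A, A ≤ cmod C b₁ := by
    intro b₁ hb₁ a ha
    obtain ⟨c₁, hc₁', c₂, hc₂', rfl⟩ := hdec a ha
    exact (cmod C b₁).mul_mem (same₁ b₁ hb₁.1 c₁ hc₁'.1) (key b₁ hb₁ c₂ hc₂')
  have A2 : ∀ b₂ ∈ Y₂ ⊓ A, A ≤ cmod C b₂ := by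
    intro b₂ hb₂ a ha
    obtain ⟨c₁, hc₁', c₂, hc₂', rfl⟩ := hdec a ha
    exact (cmod C b₂).mul_mem (mem_cmod_comm.mp (key c₁ hc₁' b₂ hb₂)) (same₂ b₂ hb₂.1 c₂ hc₂'.1)
  intro x hx a ha
  obtain ⟨b₁, hb₁, b₂, hb₂, rfl⟩ := hdec x hx
  rw [← mem_cmod, mem_cmod_comm]
  exact (cmod C a).mul_mem (mem_cmod_comm.mp (A1 b₁ hb₁ ha)) (mem_cmod_comm.mp (A2 b₂ hb₂ ha))

theorem L4_aux {A Y₁ Y₂ C : Subgroup Λ} [C.Normal]
    (hCZ : C ≤ Subgroup.center Λ)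
    (hc₁ : ∀ a ∈ Y₁, ∀ b ∈ Y₁, a * b = b * a) (hc₂ : ∀ a ∈ Y₂, ∀ b ∈ Y₂, a * b = b * a)
    (hdec : ∀ a ∈ A, ∃ b₁ ∈ Y₁ ⊓ A, ∃ b₂ ∈ Y₂ ⊓ A, b₁ * b₂ = a)
    (hnc : ∀ N : Subgroup Λ, N.Normal → Y₂ ≤ N → N = ⊤)
    (hZ : Y₂ ⊓ Subgroup.center Λ ≤ Y₁)
    {u : Λ} (hu : u ∈ Y₁) (hgen : Y₂ ⊔ Subgroup.zpowers u = ⊤)
    {a : Λ} (ha : a ∈ A) (hrel : u * a * u⁻¹ * a⁻¹ ∈ C) : a ∈ Y₁ := by
  obtain ⟨b₁, hb₁, b₂, hb₂, rfl⟩ := hdec a ha
  have h1 : b₁ ∈ cmod C u := by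
    rw [mem_cmod, hc₁ u hu b₁ hb₁.1]
    have e : b₁ * u * u⁻¹ * b₁⁻¹ = 1 := by group
    rw [e]; exact C.one_mem
  have h2 : b₂ ∈ cmod C u := by
    have := (cmod C u).mul_mem ((cmod C u).inv_mem h1) (mem_cmod.mpr hrel)
    have e : b₁⁻¹ * (b₁ * b₂) = b₂ := by group
    rwa [e] at this
  have h3 : Y₂ ⊔ Subgroup.zpowers u ≤ cmod C b₂ := by
    apply sup_le
    · intro y hy
      rw [mem_cmod, hc₂ b₂ hb₂.1 y hy]
      have e : y * b₂ * b₂⁻¹ * y⁻¹ = 1 := by group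
      rw [e]; exact C.one_mem
    · rw [Subgroup.zpowers_le]
      exact mem_cmod_comm.mp h2
  have h4 : ∀ x : Λ, x * b₂ * x⁻¹ * b₂⁻¹ ∈ Subgroup.center Λ := fun x =>
    hCZ (mem_cmod.mp (mem_cmod_comm.mp (h3 (hgen ▸ Subgroup.mem_top x))))
  have hNn : (Subgroup.centralizer ({b₂} : Set Λ)).Normal := by
    constructor
    intro n hn g
    rw [Subgroup.mem_centralizer_iff] at hn ⊢
    have hn' : b₂ * n = n * b₂ := hn b₂ rfl
    intro h hh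
    rw [Set.mem_singleton_iff] at hh
    subst hh
    have hcz := Subgroup.mem_center_iff.mp (h4 g⁻¹)
    have hc : g⁻¹ * h * g = (g⁻¹ * h * g⁻¹⁻¹ * h⁻¹) * h := by group
    calc h * (g * n * g⁻¹) = g * (g⁻¹ * h * g) * n * g⁻¹ := by group
      _ = g * ((g⁻¹ * h * g⁻¹⁻¹ * h⁻¹) * h) * n * g⁻¹ := by rw [← hc]
      _ = g * (g⁻¹ * h * g⁻¹⁻¹ * h⁻¹) * (h * n) * g⁻¹ := by group
      _ = g * (g⁻¹ * h * g⁻¹⁻¹ * h⁻¹) * (n * h) * g⁻¹ := by rw [hn']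
      _ = g * ((g⁻¹ * h * g⁻¹⁻¹ * h⁻¹) * n) * h * g⁻¹ := by group
      _ = g * (n * (g⁻¹ * h * g⁻¹⁻¹ * h⁻¹)) * h * g⁻¹ := by rw [hcz n]
      _ = g * n * g⁻¹ * h := by group
  have hNtop := hnc _ hNn (by
    intro y hy
    rw [Subgroup.mem_centralizer_iff]
    intro h hh
    rw [Set.mem_singleton_iff] at hh
    subst hh
    exact hc₂ h hb₂.1 y hy)
  have hb₂Z : b₂ ∈ Subgroup.center Λ := by
    rw [Subgroup.mem_center_iff]
    intro g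
    have hg : g ∈ Subgroup.centralizer ({b₂} : Set Λ) := hNtop ▸ Subgroup.mem_top g
    rw [Subgroup.mem_centralizer_iff] at hg
    exact (hg b₂ rfl).symm
  exact Y₁.mul_mem hb₁.1 (hZ ⟨hb₂.1, hb₂Z⟩)

theorem LData.exists_not_mem {p : ℕ} {Y : Subgroup Λ} (D : LData p Y) :
    ∃ g : Λ, g ∉ Subgroup.normalizer (Y : Set Λ) := by
  by_contra h
  push Not at h
  exact D.hN (eq_top_iff.mpr fun x _ => h x)

theorem LData.sup_conj [Finite Λ] {p : ℕ} {Y : Subgroup Λ} (D : LData p Y) {g : Λ}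
    (hg : g ∉ Subgroup.normalizer (Y : Set Λ)) :
    Y ⊔ Y.map (MulAut.conj g).toMonoidHom = ⊤ :=
  minOver_sup_conj_eq_top D.hmin D.coatom Subgroup.le_normalizer hg

theorem LData.inf_conj [Finite Λ] {p : ℕ} {Y : Subgroup Λ} (D : LData p Y) {g : Λ}
    (hg : g ∉ Subgroup.normalizer (Y : Set Λ)) :
    Y ⊓ Y.map (MulAut.conj g).toMonoidHom = Y ⊓ Subgroup.center Λ :=
  minOver_inf_conj D.hmin D.coatom Subgroup.le_normalizer D.comm hg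

theorem LData.decomp [Finite Λ] {p : ℕ} {Y : Subgroup Λ} (D : LData p Y) {g : Λ}
    (hg : g ∉ Subgroup.normalizer (Y : Set Λ)) :
    ∀ a ∈ Cfsg.pCore p Λ, ∃ b₁ ∈ Y ⊓ Cfsg.pCore p Λ,
      ∃ b₂ ∈ Y.map (MulAut.conj g).toMonoidHom ⊓ Cfsg.pCore p Λ, b₁ * b₂ = a := by
  haveI := pCore_normal p Λ
  exact decomp_aux D.hA D.hAN (D.hAN_conj g) (D.sup_conj hg)

theorem LData.comm_mod [Finite Λ] {p : ℕ} {Y : Subgroup Λ} (D : LData p Y) :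
    ∀ x ∈ Cfsg.pCore p Λ, ∀ a ∈ Cfsg.pCore p Λ, x * a * x⁻¹ * a⁻¹ ∈ Y ⊓ Subgroup.center Λ := by
  haveI := normal_inf_center Y
  obtain ⟨g, hg⟩ := D.exists_not_mem
  exact comm_mod_aux D.comm (conj_comm D.comm g) D.hAN (D.hAN_conj g) (D.decomp hg)
    (D.inf_conj hg).le

theorem LData.L5 [Finite Λ] {p : ℕ} [Fact p.Prime] {Y : Subgroup Λ} (D : LData p Y)
    {g u u' a₀ : Λ} (hu : u ∈ Y) (hu' : u' ∈ Y.map (MulAut.conj g).toMonoidHom)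
    (ha₀ : a₀ ∈ Cfsg.pCore p Λ)
    (hnu : u ∉ Subgroup.normalizer ((Y.map (MulAut.conj g).toMonoidHom : Subgroup Λ) : Set Λ))
    (hnu' : u' ∉ Subgroup.normalizer (Y : Set Λ)) :
    ∀ a ∈ Cfsg.pCore p Λ, (u * u' * a₀) * a * (u * u' * a₀)⁻¹ * a⁻¹ ∈ Y ⊓ Subgroup.center Λ →
      a ∈ Y ⊓ Subgroup.center Λ := by
  haveI := pCore_normal p Λ
  haveI := normal_inf_center Y
  have hgN : g ∉ Subgroup.normalizer (Y : Set Λ) := fun h =>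
    hnu' (Subgroup.le_normalizer (by rwa [conj_eq_self_of_mem_normalizer h] at hu'))
  have hsup := D.sup_conj hgN
  have hinf := D.inf_conj hgN
  have hc₂ := conj_comm D.comm g
  have hAN₂ := D.hAN_conj g
  have hdec := D.decomp hgN
  have hdec' : ∀ a ∈ Cfsg.pCore p Λ, ∃ b₂ ∈ Y.map (MulAut.conj g).toMonoidHom ⊓ Cfsg.pCore p Λ,
      ∃ b₁ ∈ Y ⊓ Cfsg.pCore p Λ, b₂ * b₁ = a := by
    intro a ha
    obtain ⟨b₁, hb₁, b₂, hb₂, he⟩ := hdec a⁻¹ (Subgroup.inv_mem _ ha)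
    refine ⟨b₂⁻¹, Subgroup.inv_mem _ hb₂, b₁⁻¹, Subgroup.inv_mem _ hb₁, ?_⟩
    rw [← mul_inv_rev, he, inv_inv]
  have hab := D.comm_mod
  intro a ha hrel
  have h1 : u * u' ∈ cmod (Y ⊓ Subgroup.center Λ) a := by
    have e1 : u * u' * a₀ ∈ cmod (Y ⊓ Subgroup.center Λ) a := mem_cmod_comm.mp (mem_cmod.mpr hrel)
    have e2 : a₀ ∈ cmod (Y ⊓ Subgroup.center Λ) a :=
      mem_cmod_comm.mp (mem_cmod.mpr (hab a₀ ha₀ a ha))
    have := Subgroup.mul_mem _ e1 (Subgroup.inv_mem _ e2)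
    have e : u * u' * a₀ * a₀⁻¹ = u * u' := by group
    rwa [e] at this
  have hc := mem_cmod.mp (mem_cmod_comm.mp h1)
  have h2 : u' * a * u'⁻¹ * a⁻¹ ∈ Y ⊓ Y.map (MulAut.conj g).toMonoidHom := by
    refine Subgroup.mem_inf.mpr ⟨?_, ?_⟩
    · have e : u' * a * u'⁻¹ * a⁻¹ = u⁻¹ * (u * u' * a * (u * u')⁻¹ * a⁻¹) * (a * u * a⁻¹) := by
        group
      rw [e]
      exact Y.mul_mem (Y.mul_mem (Y.inv_mem hu) (Subgroup.mem_inf.mp hc).1)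
        ((Subgroup.mem_normalizer_iff.mp (D.hAN ha) u).mp hu)
    · have e : u' * a * u'⁻¹ * a⁻¹ = u' * (a * u'⁻¹ * a⁻¹) := by group
      rw [e]
      exact Subgroup.mul_mem _ hu'
        ((Subgroup.mem_normalizer_iff.mp (hAN₂ ha) u'⁻¹).mp (Subgroup.inv_mem _ hu'))
  have h3 : u' ∈ cmod (Y ⊓ Subgroup.center Λ) a := mem_cmod_comm.mp (mem_cmod.mpr (hinf.le h2))
  have h4 : u ∈ cmod (Y ⊓ Subgroup.center Λ) a := by
    have := Subgroup.mul_mem _ h1 (Subgroup.inv_mem _ h3)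
    have e : u * u' * u'⁻¹ = u := by group
    rwa [e] at this
  have g1 : Y.map (MulAut.conj g).toMonoidHom ⊔ Subgroup.zpowers u = ⊤ := by
    by_contra hne
    exact hnu (D.hmax_conj g _ le_sup_left hne (Subgroup.mem_sup_right (Subgroup.mem_zpowers u)))
  have g2 : Y ⊔ Subgroup.zpowers u' = ⊤ := by
    by_contra hne
    exact hnu' (D.hmax _ le_sup_left hne (Subgroup.mem_sup_right (Subgroup.mem_zpowers u')))
  have m1 : a ∈ Y := L4_aux (C := Y ⊓ Subgroup.center Λ) inf_le_right D.comm hc₂ hdec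
    (fun N hN h => by haveI := hN; exact D.eq_top_of_normal_conj g N h)
    (by rw [conj_inf_center]; exact inf_le_left) hu g1 ha (mem_cmod.mp (mem_cmod_comm.mp h4))
  have m2 : a ∈ Y.map (MulAut.conj g).toMonoidHom :=
    L4_aux (C := Y ⊓ Subgroup.center Λ) inf_le_right hc₂ D.comm hdec'
    (fun N hN h => by haveI := hN; exact minOver_eq_top_of_normal D.hmin h)
    (by rw [← conj_inf_center Y g]; exact inf_le_left) hu' g2 ha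
    (mem_cmod.mp (mem_cmod_comm.mp h3))
  exact hinf.le ⟨m1, m2⟩

theorem LData.L7 [Finite Λ] {p : ℕ} [Fact p.Prime] {Y : Subgroup Λ} (D : LData p Y)
    {g₁ g₂ v v' a₀ : Λ} (hv : v ∈ Y) (hv' : v' ∈ Y) (ha₀ : a₀ ∈ Cfsg.pCore p Λ)
    (hnp : ¬ ∃ k : ℕ, orderOf (g₁ * v * g₁⁻¹ * (g₂ * v' * g₂⁻¹) * a₀) = p ^ k) :
    ∀ a ∈ Cfsg.pCore p Λ,
      (g₁ * v * g₁⁻¹ * (g₂ * v' * g₂⁻¹) * a₀) * a * (g₁ * v * g₁⁻¹ * (g₂ * v' * g₂⁻¹) * a₀)⁻¹ * a⁻¹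
        ∈ Y ⊓ Subgroup.center Λ → a ∈ Y ⊓ Subgroup.center Λ := by
  haveI hAn := pCore_normal p Λ
  haveI hCn := normal_inf_center Y
  have hAp := pCore_isPGroup p Λ
  have hu' : (g₁⁻¹ * g₂) * v' * (g₁⁻¹ * g₂)⁻¹ ∈ Y.map (MulAut.conj (g₁⁻¹ * g₂)).toMonoidHom :=
    conj_mem_conj hv'
  have ha₀' : g₁⁻¹ * a₀ * g₁ ∈ Cfsg.pCore p Λ := hAn.conj_mem' _ ha₀ g₁
  have e : v * ((g₁⁻¹ * g₂) * v' * (g₁⁻¹ * g₂)⁻¹) * (g₁⁻¹ * a₀ * g₁) =
      g₁⁻¹ * (g₁ * v * g₁⁻¹ * (g₂ * v' * g₂⁻¹) * a₀) * g₁ := by group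
  have hnp' : ¬ ∃ k : ℕ, orderOf (v * ((g₁⁻¹ * g₂) * v' * (g₁⁻¹ * g₂)⁻¹) * (g₁⁻¹ * a₀ * g₁))
      = p ^ k := by
    rw [e]
    have := (MulAut.conj g₁⁻¹).orderOf_eq (g₁ * v * g₁⁻¹ * (g₂ * v' * g₂⁻¹) * a₀)
    rw [MulAut.conj_apply, inv_inv] at this
    rw [this]
    exact hnp
  have hnu' : (g₁⁻¹ * g₂) * v' * (g₁⁻¹ * g₂)⁻¹ ∉ Subgroup.normalizer (Y : Set Λ) := by
    intro hmem
    apply hnp'
    have hz : IsPGroup p (Subgroup.zpowers ((g₁⁻¹ * g₂) * v' * (g₁⁻¹ * g₂)⁻¹)) :=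
      (isPGroup_conj D.pgrp (g₁⁻¹ * g₂)).to_le (Subgroup.zpowers_le.mpr hu')
    have h1 : IsPGroup p (Subgroup.zpowers ((g₁⁻¹ * g₂) * v' * (g₁⁻¹ * g₂)⁻¹) ⊔ Y : Subgroup Λ) :=
      hz.to_sup_of_normal_right' D.pgrp (Subgroup.zpowers_le.mpr hmem)
    have h2 := h1.to_sup_of_normal_right hAp
    apply ppow_of_mem_pgroup h2
    exact Subgroup.mul_mem _ (Subgroup.mul_mem _
      (Subgroup.mem_sup_left (Subgroup.mem_sup_right hv))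
      (Subgroup.mem_sup_left (Subgroup.mem_sup_left (Subgroup.mem_zpowers _))))
      (Subgroup.mem_sup_right ha₀')
  have hnu : v ∉ Subgroup.normalizer
      ((Y.map (MulAut.conj (g₁⁻¹ * g₂)).toMonoidHom : Subgroup Λ) : Set Λ) := by
    intro hmem
    apply hnp'
    have hz : IsPGroup p (Subgroup.zpowers v) := D.pgrp.to_le (Subgroup.zpowers_le.mpr hv)
    have h1 : IsPGroup p
        (Subgroup.zpowers v ⊔ Y.map (MulAut.conj (g₁⁻¹ * g₂)).toMonoidHom : Subgroup Λ) :=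
      hz.to_sup_of_normal_right' (isPGroup_conj D.pgrp (g₁⁻¹ * g₂)) (Subgroup.zpowers_le.mpr hmem)
    have h2 := h1.to_sup_of_normal_right hAp
    apply ppow_of_mem_pgroup h2
    exact Subgroup.mul_mem _ (Subgroup.mul_mem _
      (Subgroup.mem_sup_left (Subgroup.mem_sup_left (Subgroup.mem_zpowers _)))
      (Subgroup.mem_sup_left (Subgroup.mem_sup_right hu')))
      (Subgroup.mem_sup_right ha₀')
  have key := D.L5 hv hu' ha₀' hnu hnu'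
  intro a ha hrel
  have h1 := key (g₁⁻¹ * a * g₁) (hAn.conj_mem' _ ha g₁) (by
    rw [e]
    have e2 : g₁⁻¹ * (g₁ * v * g₁⁻¹ * (g₂ * v' * g₂⁻¹) * a₀) * g₁ * (g₁⁻¹ * a * g₁) *
        (g₁⁻¹ * (g₁ * v * g₁⁻¹ * (g₂ * v' * g₂⁻¹) * a₀) * g₁)⁻¹ * (g₁⁻¹ * a * g₁)⁻¹ =
        g₁⁻¹ * ((g₁ * v * g₁⁻¹ * (g₂ * v' * g₂⁻¹) * a₀) * a *
          (g₁ * v * g₁⁻¹ * (g₂ * v' * g₂⁻¹) * a₀)⁻¹ * a⁻¹) * g₁ := by group
    rw [e2]
    exact hCn.conj_mem' _ hrel g₁)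
  have h2 := hCn.conj_mem _ h1 g₁
  have e3 : g₁ * (g₁⁻¹ * a * g₁) * g₁⁻¹ = a := by group
  rwa [e3] at h2

theorem LData.L9 [Finite Λ] {p : ℕ} [Fact p.Prime] {Y : Subgroup Λ} (D : LData p Y)
    {h ν : Λ} {k : ℕ} (hν : ν ^ p ^ k ∈ Cfsg.pCore p Λ)
    (hcomm : h * ν * h⁻¹ * ν⁻¹ ∈ Cfsg.pCore p Λ)
    (hP : ∀ a ∈ Cfsg.pCore p Λ, (h * ν) * a * (h * ν)⁻¹ * a⁻¹ ∈ Y ⊓ Subgroup.center Λ →
      a ∈ Y ⊓ Subgroup.center Λ) :
    ∀ a ∈ Cfsg.pCore p Λ, h * a * h⁻¹ * a⁻¹ ∈ Y ⊓ Subgroup.center Λ →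
      a ∈ Y ⊓ Subgroup.center Λ := by
  haveI hAn := pCore_normal p Λ
  haveI hCn := normal_inf_center Y
  have hAp := pCore_isPGroup p Λ
  have hab := D.comm_mod
  have hCA : Y ⊓ Subgroup.center Λ ≤ Cfsg.pCore p Λ := inf_le_right.trans D.center_le
  have hCc : ∀ x : Λ, Y ⊓ Subgroup.center Λ ≤ cmod (Y ⊓ Subgroup.center Λ) x := by
    intro x c hc
    rw [mem_cmod]
    have hz := Subgroup.mem_center_iff.mp (Subgroup.mem_inf.mp hc).2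
    have e : x * c * x⁻¹ * c⁻¹ = 1 := by rw [hz x]; group
    rw [e]; exact Subgroup.one_mem _
  -- the p-group generated by ν and A
  have hπν : (QuotientGroup.mk' (Cfsg.pCore p Λ) ν) ^ p ^ k = 1 := by
    rw [← map_pow]
    exact (QuotientGroup.eq_one_iff _).mpr hν
  have hzp : IsPGroup p (Subgroup.zpowers (QuotientGroup.mk' (Cfsg.pCore p Λ) ν)) := by
    rintro ⟨x, hx⟩
    obtain ⟨i, hi⟩ := Subgroup.mem_zpowers_iff.mp hx
    refine ⟨k, Subtype.ext ?_⟩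
    rw [Subgroup.coe_pow, Subgroup.coe_one]
    show x ^ p ^ k = 1
    rw [← hi, ← zpow_natCast, ← zpow_mul, mul_comm, zpow_mul, zpow_natCast, hπν, one_zpow]
  have hP₀ : IsPGroup p ((Subgroup.zpowers (QuotientGroup.mk' (Cfsg.pCore p Λ) ν)).comap
      (QuotientGroup.mk' (Cfsg.pCore p Λ))) := by
    apply hzp.comap_of_ker_isPGroup
    rw [QuotientGroup.ker_mk']
    exact hAp
  have hAP₀ : Cfsg.pCore p Λ ≤ (Subgroup.zpowers (QuotientGroup.mk' (Cfsg.pCore p Λ) ν)).comap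
      (QuotientGroup.mk' (Cfsg.pCore p Λ)) := by
    intro x hx
    rw [Subgroup.mem_comap]
    have e1 : QuotientGroup.mk' (Cfsg.pCore p Λ) x = 1 := (QuotientGroup.eq_one_iff _).mpr hx
    rw [e1]
    exact Subgroup.one_mem _
  have hνP₀ : ν ∈ (Subgroup.zpowers (QuotientGroup.mk' (Cfsg.pCore p Λ) ν)).comap
      (QuotientGroup.mk' (Cfsg.pCore p Λ)) := by
    rw [Subgroup.mem_comap]
    exact Subgroup.mem_zpowers _
  -- W and its normalizer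
  have hAW : Cfsg.pCore p Λ ≤ Subgroup.normalizer
      ((cmod (Y ⊓ Subgroup.center Λ) h ⊓ Cfsg.pCore p Λ : Subgroup Λ) : Set Λ) := by
    intro x hx
    apply mem_normalizer_of_conj_le
    rw [conj_le_iff]
    intro w hw
    obtain ⟨hw1, hw2⟩ := Subgroup.mem_inf.mp hw
    refine Subgroup.mem_inf.mpr ⟨?_, hAn.conj_mem _ hw2 x⟩
    have e : x * w * x⁻¹ = (x * w * x⁻¹ * w⁻¹) * w := by group
    rw [e]
    exact Subgroup.mul_mem _ (hCc h (hab x hx w hw2)) hw1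
  have hνW : ν ∈ Subgroup.normalizer
      ((cmod (Y ⊓ Subgroup.center Λ) h ⊓ Cfsg.pCore p Λ : Subgroup Λ) : Set Λ) := by
    apply mem_normalizer_of_conj_le
    rw [conj_le_iff]
    intro w hw
    obtain ⟨hw1, hw2⟩ := Subgroup.mem_inf.mp hw
    have hw' : ν * w * ν⁻¹ ∈ Cfsg.pCore p Λ := hAn.conj_mem _ hw2 ν
    refine Subgroup.mem_inf.mpr ⟨?_, hw'⟩
    rw [mem_cmod]
    have e : h * (ν * w * ν⁻¹) * h⁻¹ * (ν * w * ν⁻¹)⁻¹ =
        ((h * ν * h⁻¹ * ν⁻¹) * ν) * (h * w * h⁻¹ * w⁻¹) * ((h * ν * h⁻¹ * ν⁻¹) * ν)⁻¹ *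
          ((h * ν * h⁻¹ * ν⁻¹) * (ν * w * ν⁻¹) * (h * ν * h⁻¹ * ν⁻¹)⁻¹ * (ν * w * ν⁻¹)⁻¹) := by
      group
    rw [e]
    exact Subgroup.mul_mem _ (hCn.conj_mem _ (mem_cmod.mp hw1) _) (hab _ hcomm _ hw')
  have hP₀W : (Subgroup.zpowers (QuotientGroup.mk' (Cfsg.pCore p Λ) ν)).comap
      (QuotientGroup.mk' (Cfsg.pCore p Λ)) ≤ Subgroup.normalizer
      ((cmod (Y ⊓ Subgroup.center Λ) h ⊓ Cfsg.pCore p Λ : Subgroup Λ) : Set Λ) := by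
    intro x hx
    rw [Subgroup.mem_comap] at hx
    obtain ⟨i, hi⟩ := Subgroup.mem_zpowers_iff.mp hx
    have h1 : (ν ^ i)⁻¹ * x ∈ Cfsg.pCore p Λ := by
      rw [← QuotientGroup.eq_one_iff, QuotientGroup.mk_mul, QuotientGroup.mk_inv,
        QuotientGroup.mk_zpow]
      have hi' : ((ν : Λ ⧸ Cfsg.pCore p Λ)) ^ i = (x : Λ ⧸ Cfsg.pCore p Λ) := hi
      rw [hi', inv_mul_cancel]
    have e : x = ν ^ i * ((ν ^ i)⁻¹ * x) := by group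
    rw [e]
    exact Subgroup.mul_mem _ (Subgroup.zpow_mem _ hνW i) (hAW h1)
  intro a ha hrel
  by_contra haC
  have hne : ¬ (cmod (Y ⊓ Subgroup.center Λ) h ⊓ Cfsg.pCore p Λ) ≤ Y ⊓ Subgroup.center Λ :=
    fun hle => haC (hle ⟨mem_cmod.mpr hrel, ha⟩)
  obtain ⟨w, hw, hwC, hwc⟩ := exists_central_mod hP₀ (inf_le_right.trans hAP₀)
    (fun x _ k hk => hCn.conj_mem k hk x)
    (fun x hx n hn => (Subgroup.mem_normalizer_iff.mp (hP₀W hx) n).mp hn) hne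
  obtain ⟨hw1, hw2⟩ := Subgroup.mem_inf.mp hw
  apply hwC
  apply hP w hw2
  rw [← mem_cmod, mem_cmod_comm]
  exact Subgroup.mul_mem _ (mem_cmod_comm.mp hw1) (mem_cmod_comm.mp (mem_cmod.mpr (hwc ν hνP₀)))

/-- `x` is a product of two conjugates of elements of `E`. -/
def IsProd2 {X : Type*} [Group X] (E : Subgroup X) (x : X) : Prop :=
  ∃ c₁ c₂ v v', v ∈ E ∧ v' ∈ E ∧ x = c₁ * v * c₁⁻¹ * (c₂ * v' * c₂⁻¹)

/-- Every element of `X` of order not a power of `p` has a power, or a product with a commuting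
`p`-element, that is not a `p`-element and is a product of two conjugates of elements of `E`. -/
def GoodFam (p : ℕ) {X : Type*} [Group X] (E : Subgroup X) : Prop :=
  ∀ x : X, (¬ ∃ k : ℕ, orderOf x = p ^ k) →
    (∃ j : ℕ, (¬ ∃ k : ℕ, orderOf (x ^ j) = p ^ k) ∧ IsProd2 E (x ^ j)) ∨
    (∃ n : X, (∃ k : ℕ, n ^ p ^ k = 1) ∧ n * x = x * n ∧
      (¬ ∃ k : ℕ, orderOf (x * n) = p ^ k) ∧ IsProd2 E (x * n))

theorem IsProd2.conj {X : Type*} [Group X] {E : Subgroup X} {x : X} (w : X)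
    (h : IsProd2 E (w * x * w⁻¹)) : IsProd2 E x := by
  obtain ⟨c₁, c₂, v, v', hv, hv', he⟩ := h
  refine ⟨w⁻¹ * c₁, w⁻¹ * c₂, v, v', hv, hv', ?_⟩
  have e : x = w⁻¹ * (w * x * w⁻¹) * w := by group
  rw [e, he]
  group

theorem LData.main [Finite Λ] {p : ℕ} [Fact p.Prime] {Y : Subgroup Λ} (D : LData p Y)
    {X : Type*} [Group X] (ψ : Λ →* X) (hψs : Function.Surjective ψ)
    (hψk : ψ.ker = Cfsg.pCore p Λ) (hG : GoodFam p (Y.map ψ)) (h : Λ)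
    (hnp : ¬ ∃ k : ℕ, orderOf h = p ^ k) :
    ∀ a ∈ Cfsg.pCore p Λ, h * a * h⁻¹ * a⁻¹ ∈ Y ⊓ Subgroup.center Λ →
      a ∈ Y ⊓ Subgroup.center Λ := by
  haveI hCn := normal_inf_center Y
  have hAp := pCore_isPGroup p Λ
  have hnpψ : ¬ ∃ k : ℕ, orderOf (ψ h) = p ^ k := by
    rintro ⟨k, hk⟩
    apply hnp
    have h1 : h ^ p ^ k ∈ Cfsg.pCore p Λ := by
      rw [← hψk, MonoidHom.mem_ker, map_pow, ← hk, pow_orderOf_eq_one]
    obtain ⟨l, hl⟩ := hAp ⟨h ^ p ^ k, h1⟩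
    have h2 : (h ^ p ^ k) ^ p ^ l = 1 := by
      have := congrArg Subtype.val hl
      simpa using this
    rw [← pow_mul, ← pow_add] at h2
    exact ppow_of_pow_eq_one h2
  have lift_np : ∀ z : Λ, (¬ ∃ k : ℕ, orderOf (ψ z) = p ^ k) → ¬ ∃ k : ℕ, orderOf z = p ^ k := by
    rintro z hz ⟨k, hk⟩
    apply hz
    have : (ψ z) ^ p ^ k = 1 := by rw [← map_pow, ← hk, pow_orderOf_eq_one, map_one]
    exact ppow_of_pow_eq_one this
  have lift_prod : ∀ z : Λ, IsProd2 (Y.map ψ) (ψ z) → ∃ g₁ g₂ y y' a₀, y ∈ Y ∧ y' ∈ Y ∧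
      a₀ ∈ Cfsg.pCore p Λ ∧ z = g₁ * y * g₁⁻¹ * (g₂ * y' * g₂⁻¹) * a₀ := by
    rintro z ⟨c₁, c₂, v, v', ⟨y, hy, rfl⟩, ⟨y', hy', rfl⟩, heq⟩
    obtain ⟨g₁, rfl⟩ := hψs c₁
    obtain ⟨g₂, rfl⟩ := hψs c₂
    refine ⟨g₁, g₂, y, y', (g₁ * y * g₁⁻¹ * (g₂ * y' * g₂⁻¹))⁻¹ * z, hy, hy', ?_, by group⟩
    rw [← hψk, MonoidHom.mem_ker, map_mul, map_inv, heq]
    simp only [map_mul, map_inv]
    group
  rcases hG (ψ h) hnpψ with ⟨j, hj, hprod⟩ | ⟨n, ⟨k, hk⟩, hcomm, hnp', hprod⟩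
  · rw [← map_pow] at hj hprod
    obtain ⟨g₁, g₂, y, y', a₀, hy, hy', ha₀, he⟩ := lift_prod _ hprod
    have key := D.L7 (g₁ := g₁) (g₂ := g₂) hy hy' ha₀ (by rw [← he]; exact lift_np _ hj)
    rw [← he] at key
    intro a ha hrel
    apply key a ha
    rw [← mem_cmod, mem_cmod_comm]
    exact Subgroup.pow_mem _ (mem_cmod_comm.mp (mem_cmod.mpr hrel)) j
  · obtain ⟨ν, rfl⟩ := hψs n
    rw [← map_mul] at hnp' hprod
    obtain ⟨g₁, g₂, y, y', a₀, hy, hy', ha₀, he⟩ := lift_prod _ hprod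
    have key := D.L7 (g₁ := g₁) (g₂ := g₂) hy hy' ha₀ (by rw [← he]; exact lift_np _ hnp')
    rw [← he] at key
    refine D.L9 (k := k) (ν := ν) ?_ ?_ key
    · rw [← hψk, MonoidHom.mem_ker, map_pow, hk]
    · rw [← hψk, MonoidHom.mem_ker]
      simp only [map_mul, map_inv]
      rw [← hcomm]
      group

/-- The dihedral case: if `|E| = 2` and `X = ⟨E, E^c⟩`, then `E` is a good family for `2`. -/
theorem goodFam_card_two {X : Type*} [Group X] {E : Subgroup X} (hE : Nat.card E = 2) {c : X}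
    (hgen : E ⊔ E.map (MulAut.conj c).toMonoidHom = ⊤) : GoodFam 2 E := by
  obtain ⟨t', ht1, htu⟩ := (Nat.card_eq_two_iff' (1 : E)).mp hE
  have htt' : t' * t' = 1 := by
    by_contra hne
    have := htu _ hne
    exact ht1 (by simpa using this)
  obtain ⟨t, ht⟩ : ∃ t : X, t = (t' : X) := ⟨_, rfl⟩
  have htE : t ∈ E := ht ▸ t'.2
  have htt : t * t = 1 := by
    have := congrArg Subtype.val htt'
    rw [ht]
    simpa using this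
  have hEt : ∀ e ∈ E, e = 1 ∨ e = t := by
    intro e he
    by_cases h1 : (⟨e, he⟩ : E) = 1
    · left; exact congrArg Subtype.val h1
    · right; rw [ht]; exact congrArg Subtype.val (htu _ h1)
  have htinv : t⁻¹ = t := inv_eq_of_mul_eq_one_left htt
  obtain ⟨s, hs⟩ : ∃ s : X, s = c * t * c⁻¹ := ⟨_, rfl⟩
  have hss : s * s = 1 := by
    rw [hs]
    have : c * t * c⁻¹ * (c * t * c⁻¹) = c * (t * t) * c⁻¹ := by group
    rw [this, htt]; group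
  have hsinv : s⁻¹ = s := inv_eq_of_mul_eq_one_left hss
  obtain ⟨ρ, hρ⟩ : ∃ ρ : X, ρ = t * s := ⟨_, rfl⟩
  have hconj : t * ρ * t⁻¹ = ρ⁻¹ := by
    rw [hρ, mul_inv_rev, hsinv, htinv, ← mul_assoc, htt, one_mul]
  have hzp : ∀ l : ℤ, t * ρ ^ l = ρ ^ (-l) * t := by
    intro l
    have := conj_zpow (i := l) (a := t) (b := ρ)
    rw [hconj] at this
    rw [zpow_neg, ← inv_zpow, this, htinv, mul_assoc (t * ρ ^ l), htt, mul_one]
  let D : Subgroup X :=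
    { carrier := {x | ∃ k : ℤ, x = ρ ^ k ∨ x = ρ ^ k * t}
      one_mem' := ⟨0, Or.inl (by simp)⟩
      mul_mem' := by
        rintro a b ⟨k, rfl | rfl⟩ ⟨l, rfl | rfl⟩
        · exact ⟨k + l, Or.inl (by rw [zpow_add])⟩
        · exact ⟨k + l, Or.inr (by rw [zpow_add, mul_assoc])⟩
        · exact ⟨k - l, Or.inr (by
            rw [mul_assoc, hzp, ← mul_assoc, ← zpow_add, sub_eq_add_neg])⟩
        · exact ⟨k - l, Or.inl (by
            rw [mul_assoc, ← mul_assoc t, hzp, mul_assoc, htt, mul_one, ← zpow_add,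
              sub_eq_add_neg])⟩
      inv_mem' := by
        rintro a ⟨k, rfl | rfl⟩
        · exact ⟨-k, Or.inl (by rw [zpow_neg])⟩
        · exact ⟨k, Or.inr (by rw [mul_inv_rev, htinv, ← zpow_neg, hzp, neg_neg])⟩ }
  have hD : ∀ x : X, ∃ k : ℤ, x = ρ ^ k ∨ x = ρ ^ k * t := by
    have h1 : E ≤ D := fun e he => by
      rcases hEt e he with h1 | h1
      · rw [h1]; exact D.one_mem
      · rw [h1]; exact ⟨0, Or.inr (by simp)⟩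
    have h2 : E.map (MulAut.conj c).toMonoidHom ≤ D := by
      rw [conj_le_iff]
      intro e he
      rcases hEt e he with h1 | h1
      · rw [h1]
        have : c * 1 * c⁻¹ = 1 := by group
        rw [this]; exact D.one_mem
      · rw [h1, ← hs]
        refine ⟨-1, Or.inr ?_⟩
        rw [← hzp 1, zpow_one, hρ, ← mul_assoc, htt, one_mul]
    intro x
    have : x ∈ D := (sup_le h1 h2) (hgen ▸ Subgroup.mem_top x)
    exact this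
  have key : ∀ m : ℤ, ρ ^ m * t * (ρ ^ m)⁻¹ = ρ ^ (2 * m) * t := by
    intro m
    rw [← zpow_neg, mul_assoc, hzp, neg_neg, ← mul_assoc, ← zpow_add, two_mul]
  intro x hx
  left
  refine ⟨1, by rwa [pow_one], ?_⟩
  rw [pow_one]
  obtain ⟨k, rfl | rfl⟩ := hD x
  · obtain ⟨m, rfl | rfl⟩ := Int.even_or_odd' k
    · refine ⟨ρ ^ m, 1, t, t, htE, htE, ?_⟩
      rw [key, one_mul, inv_one, mul_one, mul_assoc, htt, mul_one]
    · refine ⟨ρ ^ m, c, t, t, htE, htE, ?_⟩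
      rw [key, ← hs, zpow_add, zpow_one, mul_assoc, ← hρ]
  · exfalso
    apply hx
    have : (ρ ^ k * t) ^ 2 ^ 1 = 1 := by
      rw [pow_one, pow_two, mul_assoc, ← mul_assoc t, hzp, mul_assoc, htt, mul_one,
        ← zpow_add, add_neg_cancel, zpow_zero]
    exact ppow_of_pow_eq_one this

theorem isPGroup_zpowers {p : ℕ} {z : Λ} {k : ℕ} (h : z ^ p ^ k = 1) :
    IsPGroup p (Subgroup.zpowers z) := by
  rintro ⟨x, hx⟩
  obtain ⟨i, hi⟩ := Subgroup.mem_zpowers_iff.mp hx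
  refine ⟨k, Subtype.ext ?_⟩
  rw [Subgroup.coe_pow, Subgroup.coe_one]
  show x ^ p ^ k = 1
  rw [← hi, ← zpow_natCast, ← zpow_mul, mul_comm, zpow_mul, zpow_natCast, h, one_zpow]

/-- If `E` is a `p`-subgroup of index prime to `p`, every `p`-element is conjugate into `E`. -/
theorem exists_conj_mem_of_ppow [Finite Λ] {p : ℕ} [Fact p.Prime] {E : Subgroup Λ}
    (hE : IsPGroup p E) (hidx : ¬ p ∣ E.index) {z : Λ} {k : ℕ} (h : z ^ p ^ k = 1) :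
    ∃ c : Λ, ∃ v ∈ E, z = c * v * c⁻¹ := by
  obtain ⟨g, hg⟩ := exists_le_conj_sylow (isPGroup_zpowers h) (hE.toSylow hidx)
  have h1 := hg (Subgroup.mem_zpowers z)
  rw [mem_conj_iff, IsPGroup.toSylow_coe] at h1
  exact ⟨g, g⁻¹ * z * g, h1, by group⟩

end Cfsg.Agent.Lib.helper53
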