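import Cfsg.Agent.Lib.helper53.FrakLCore
import Cfsg.Agent.Lib.helper7.CardSL

set_option autoImplicit false

namespace Cfsg.Agent.Lib.helper53

variable {F : Type*} [Field F]

theorem sl_ext {A B : Matrix.SpecialLinearGroup (Fin 2) F}
    (h : (A : Matrix (Fin 2) (Fin 2) F) = B) : A = B := Subtype.ext h

/-- Upper unitriangular element of `SL₂`. -/
def upU (s : F) : Matrix.SpecialLinearGroup (Fin 2) F :=
  ⟨!![1, s; 0, 1], by simp [Matrix.det_fin_two]⟩

/-- Lower unitriangular element of `SL₂`. -/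
def lowU (s : F) : Matrix.SpecialLinearGroup (Fin 2) F :=
  ⟨!![1, 0; s, 1], by simp [Matrix.det_fin_two]⟩

/-- The Weyl element of `SL₂`. -/
def weylW : Matrix.SpecialLinearGroup (Fin 2) F :=
  ⟨!![0, 1; -1, 0], by simp [Matrix.det_fin_two]⟩

/-- The inverse of the Weyl element of `SL₂`. -/
def weylW' : Matrix.SpecialLinearGroup (Fin 2) F :=
  ⟨!![0, -1; 1, 0], by simp [Matrix.det_fin_two]⟩

theorem mul_entry (A B : Matrix (Fin 2) (Fin 2) F) (i j : Fin 2) :
    (A * B) i j = A i 0 * B 0 j + A i 1 * B 1 j := by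
  rw [Matrix.mul_apply, Fin.sum_univ_two]

theorem upU_mul_neg (s : F) : upU s * upU (-s) = 1 := by
  apply sl_ext
  rw [Matrix.SpecialLinearGroup.coe_mul, Matrix.SpecialLinearGroup.coe_one]
  simp [upU, Matrix.one_fin_two]

theorem lowU_inv (s : F) : (lowU s)⁻¹ = lowU (-s) := by
  apply inv_eq_of_mul_eq_one_right
  apply sl_ext
  rw [Matrix.SpecialLinearGroup.coe_mul, Matrix.SpecialLinearGroup.coe_one]
  simp [lowU, Matrix.one_fin_two]

theorem weylW_inv : (weylW : Matrix.SpecialLinearGroup (Fin 2) F)⁻¹ = weylW' := by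
  apply inv_eq_of_mul_eq_one_right
  apply sl_ext
  rw [Matrix.SpecialLinearGroup.coe_mul, Matrix.SpecialLinearGroup.coe_one]
  simp [weylW, weylW', Matrix.one_fin_two]

theorem sq_zero_of_trace {M : Matrix (Fin 2) (Fin 2) F} (hdet : M.det = 1)
    (htr : M 0 0 + M 1 1 = 2) : (M - 1) * (M - 1) = 0 := by
  rw [Matrix.det_fin_two] at hdet
  ext i j
  fin_cases i <;> fin_cases j
  · simp [Matrix.mul_apply, Fin.sum_univ_two]
    linear_combination (M 0 0) * htr - hdet
  · simp [Matrix.mul_apply, Fin.sum_univ_two]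
    linear_combination (M 0 1) * htr
  · simp [Matrix.mul_apply, Fin.sum_univ_two]
    linear_combination (M 1 0) * htr
  · simp [Matrix.mul_apply, Fin.sum_univ_two]
    linear_combination (M 1 1) * htr - hdet

theorem pow_char_eq_one_of_trace {p : ℕ} [Fact p.Prime] [CharP F p]
    (M : Matrix.SpecialLinearGroup (Fin 2) F) (htr : M.1 0 0 + M.1 1 1 = 2) : M ^ p = 1 := by
  apply sl_ext
  rw [Matrix.SpecialLinearGroup.coe_pow, Matrix.SpecialLinearGroup.coe_one]
  have h0 := sq_zero_of_trace M.2 htr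
  have h1 : M.1 = 1 + (M.1 - 1) := by abel
  rw [h1, add_pow_char_of_commute p (Commute.one_left _), one_pow]
  have h2 : (M.1 - 1) ^ p = 0 :=
    pow_eq_zero_of_le (Fact.out : p.Prime).two_le (by rw [pow_two]; exact h0)
  rw [h2, add_zero]

theorem sl2_charP [Fintype F] {p : ℕ} [Fact p.Prime] {n : ℕ} (hn : 0 < n)
    (hq : Fintype.card F = p ^ n) : CharP F p := by
  obtain ⟨p', hp'⟩ := CharP.exists F
  obtain ⟨m, hp'prime, hm⟩ := FiniteField.card F p'
  have h1 : p ∣ p' ^ (m : ℕ) := by rw [← hm, hq]; exact dvd_pow_self p hn.ne'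
  have h2 : p = p' := (Nat.prime_dvd_prime_iff_eq (Fact.out) hp'prime).mp
    ((Fact.out : p.Prime).dvd_of_dvd_pow h1)
  rw [h2]; exact hp'

/-- The `SL₂(q)` case: a `p`-subgroup `E` of order `q` is a good family. -/
theorem goodFam_SL2 [Fintype F] {p : ℕ} [Fact p.Prime]
    (E : Subgroup (Matrix.SpecialLinearGroup (Fin 2) F))
    (hE : IsPGroup p E) (hcard : Nat.card E = Fintype.card F) : GoodFam p E := by
  classical
  obtain ⟨n, hn⟩ := IsPGroup.iff_card.mp hE
  have hq : Fintype.card F = p ^ n := by rw [← hcard, hn]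
  have hn0 : 0 < n := by
    rcases Nat.eq_zero_or_pos n with h | h
    · exfalso
      rw [h, pow_zero] at hq
      have := Fintype.one_lt_card (α := F)
      omega
    · exact h
  haveI : CharP F p := sl2_charP hn0 hq
  have hX := Cfsg.Agent.Lib.helper7.card_SL2 (F := F) hq
  have hidx : ¬ p ∣ E.index := by
    have h1 := E.card_mul_index
    rw [hX, hn] at h1
    have h2 : E.index = (p ^ n) ^ 2 - 1 :=
      Nat.eq_of_mul_eq_mul_left (pow_pos (Fact.out : p.Prime).pos n) h1
    rw [h2]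
    intro hdvd
    have h3 : p ∣ (p ^ n) ^ 2 := dvd_pow (dvd_pow_self p hn0.ne') two_ne_zero
    have h4 : 1 ≤ (p ^ n) ^ 2 := Nat.one_le_pow _ _ (pow_pos (Fact.out : p.Prime).pos n)
    have h5 : p ∣ 1 := by
      have := Nat.dvd_sub h3 hdvd
      rwa [Nat.sub_sub_self h4] at this
    exact (Fact.out : p.Prime).one_lt.ne' (Nat.dvd_one.mp h5)
  have hunip : ∀ M : Matrix.SpecialLinearGroup (Fin 2) F, M.1 0 0 + M.1 1 1 = 2 →
      ∃ c, ∃ v ∈ E, M = c * v * c⁻¹ := by
    intro M hM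
    have h1 : M ^ p ^ 1 = 1 := by rw [pow_one]; exact pow_char_eq_one_of_trace M hM
    exact exists_conj_mem_of_ppow hE hidx h1
  have caseC : ∀ x : Matrix.SpecialLinearGroup (Fin 2) F, x.1 1 0 ≠ 0 → IsProd2 E x := by
    intro x hc
    obtain ⟨c₁, v, hv, e1⟩ := hunip (upU ((x.1 0 0 + x.1 1 1 - 2) / x.1 1 0)) (by
      show (1 : F) + 1 = 2
      norm_num)
    obtain ⟨c₂, v', hv', e2⟩ := hunip (upU (-((x.1 0 0 + x.1 1 1 - 2) / x.1 1 0)) * x) (by
      rw [Matrix.SpecialLinearGroup.coe_mul]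
      simp only [mul_entry]
      simp [upU]
      field_simp
      ring)
    refine ⟨c₁, c₂, v, v', hv, hv', ?_⟩
    rw [← e1, ← e2, ← mul_assoc, upU_mul_neg, one_mul]
  have caseB : ∀ x : Matrix.SpecialLinearGroup (Fin 2) F, x.1 0 1 ≠ 0 → IsProd2 E x := by
    intro x hb
    apply IsProd2.conj weylW
    apply caseC
    rw [weylW_inv, Matrix.SpecialLinearGroup.coe_mul, Matrix.SpecialLinearGroup.coe_mul]
    simp only [mul_entry]
    simp [weylW, weylW']
    exact hb
  have caseD : ∀ x : Matrix.SpecialLinearGroup (Fin 2) F,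
      x.1 0 0 + x.1 1 0 - (x.1 0 1 + x.1 1 1) ≠ 0 → IsProd2 E x := by
    intro x hd
    apply IsProd2.conj (lowU 1)
    apply caseC
    rw [lowU_inv, Matrix.SpecialLinearGroup.coe_mul, Matrix.SpecialLinearGroup.coe_mul]
    simp only [mul_entry]
    simp [lowU]
    intro h
    apply hd
    linear_combination h
  intro x hx
  by_cases hc : x.1 1 0 = 0
  swap
  · left; exact ⟨1, by rwa [pow_one], by rw [pow_one]; exact caseC x hc⟩
  by_cases hb : x.1 0 1 = 0
  swap
  · left; exact ⟨1, by rwa [pow_one], by rw [pow_one]; exact caseB x hb⟩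
  by_cases hd : x.1 0 0 = x.1 1 1
  swap
  · left
    have hd' : x.1 0 0 + x.1 1 0 - (x.1 0 1 + x.1 1 1) ≠ 0 := by
      rw [hc, hb, add_zero, zero_add]
      exact sub_ne_zero.mpr hd
    exact ⟨1, by rwa [pow_one], by rw [pow_one]; exact caseD x hd'⟩
  right
  have ha : x.1 0 0 ≠ 0 := by
    intro h0
    have hdet := x.2
    rw [Matrix.det_fin_two, hc, hb, h0] at hdet
    simp at hdet
  have hn1 : (upU (1 : F)) ^ p = 1 := pow_char_eq_one_of_trace _ (by
    show (1 : F) + 1 = 2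
    norm_num)
  have hcomm : upU (1 : F) * x = x * upU 1 := by
    apply sl_ext
    rw [Matrix.SpecialLinearGroup.coe_mul, Matrix.SpecialLinearGroup.coe_mul]
    ext i j
    fin_cases i <;> fin_cases j <;> simp only [mul_entry] <;> simp [upU, hc, hb, hd]
  refine ⟨upU 1, ⟨1, by rw [pow_one]; exact hn1⟩, hcomm, ?_, ?_⟩
  · rintro ⟨k, hk⟩
    apply hx
    have h1 : (x * upU 1) ^ p ^ (k + 1) = 1 := by
      rw [pow_succ, pow_mul, ← hk, pow_orderOf_eq_one, one_pow]
    have h2 : (x * upU 1) ^ p ^ (k + 1) = x ^ p ^ (k + 1) * (upU 1) ^ p ^ (k + 1) :=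
      Commute.mul_pow (show Commute x (upU 1) from hcomm.symm) _
    rw [h2, pow_succ' p k, pow_mul (upU 1), hn1, one_pow, mul_one, ← pow_succ'] at h1
    exact ppow_of_pow_eq_one h1
  · apply caseB
    rw [Matrix.SpecialLinearGroup.coe_mul]
    simp only [mul_entry]
    simp [upU, hb]
    exact ha

end Cfsg.Agent.Lib.helper53
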