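import Cfsg.Agent.Lib.helper53.FrakLCore
import Cfsg.Agent.Lib.helper8.SzSol4

set_option autoImplicit false

namespace Cfsg.Agent.Lib.helper53

open Cfsg.Agent.Lib.helper8

variable {F : Type*} [Field F] [Fintype F]

/-- In `Sz(q)`, every element that is not a `2`-element is inverted by an involution, hence is a
product of two elements of square `1`. -/
theorem sz_invol_decomp {m : ℕ} (hm : 1 ≤ m) (hF : Fintype.card F = 2 ^ (2 * m + 1))
    (x : ↥(Cfsg.Sz F m)) (hx : ¬ ∃ k : ℕ, orderOf x = 2 ^ k) :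
    ∃ u : ↥(Cfsg.Sz F m), u * u = 1 ∧ (u * x) * (u * x) = 1 := by
  have hx4 : x ^ 4 ≠ 1 := fun h => hx (ppow_of_pow_eq_one (p := 2) (k := 2) (by norm_num; exact h))
  have hx1 : x ≠ 1 := by rintro rfl; exact hx4 (one_pow 4)
  have hU := cent_isTorus hm hF x hx4
  have hdvd : 2 ∣ Nat.card (Subgroup.normalizer
      ((Subgroup.centralizer ({x} : Set ↥(Cfsg.Sz F m)) : Subgroup ↥(Cfsg.Sz F m)) :
        Set ↥(Cfsg.Sz F m))) := by
    by_cases hfpf : IsFpf m x.1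
    · rw [card_normalizer_fpf hm hF x hfpf]
      exact Dvd.dvd.mul_right (by norm_num : 2 ∣ 4) _
    · unfold IsFpf at hfpf
      push Not at hfpf
      obtain ⟨p, hp, hfix⟩ := hfpf
      obtain ⟨a, ha, b, hb, hab, hga, hgb⟩ := exists_two_fix_of_fix hm hF hx4 hp hfix
      rw [card_normalizer_two_fix hm hF hx1 ha hb hab hga hgb]
      exact dvd_mul_right 2 _
  obtain ⟨u', hu'⟩ := exists_prime_orderOf_dvd_card' 2 hdvd
  have hu2' : u' ^ 2 = 1 := by rw [← hu']; exact pow_orderOf_eq_one u'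
  have hu1' : u' ≠ 1 := by
    rintro rfl
    rw [orderOf_one] at hu'
    omega
  have hu2 : (u' : ↥(Cfsg.Sz F m)) * u' = 1 := by
    have := congrArg Subtype.val hu2'
    simpa [pow_two] using this
  have hu1 : (u' : ↥(Cfsg.Sz F m)) ≠ 1 := fun h => hu1' (Subtype.ext h)
  have hinv := torus_invol_inv hm hF hU u'.2 hu1 hu2 (v := x) (by
    rw [Subgroup.mem_centralizer_iff]
    intro h hh
    rw [Set.mem_singleton_iff] at hh
    rw [hh])
  refine ⟨u', hu2, ?_⟩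
  have huinv : (u' : ↥(Cfsg.Sz F m))⁻¹ = u' := inv_eq_of_mul_eq_one_left hu2
  rw [huinv] at hinv
  rw [← mul_assoc, hinv, inv_mul_cancel]

/-- In `Sz(q)`, an elementary abelian `2`-subgroup `E` of order `q` contains a conjugate of every
element of square `1`. -/
theorem sz_invol_conj {m : ℕ} (hm : 1 ≤ m) (hF : Fintype.card F = 2 ^ (2 * m + 1))
    (E : Subgroup ↥(Cfsg.Sz F m)) (hE2 : ∀ e ∈ E, e * e = 1)
    (hcard : Nat.card E = Fintype.card F)
    (t : ↥(Cfsg.Sz F m)) (ht : t * t = 1) : ∃ c, ∃ v ∈ E, t = c * v * c⁻¹ := by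
  have h := szHyp_of_card hF
  have hEp : IsPGroup 2 E := by
    rintro ⟨e, he⟩
    refine ⟨1, Subtype.ext ?_⟩
    rw [pow_one, pow_two]
    exact hE2 e he
  obtain ⟨P, hEP⟩ := hEp.exists_le_sylow
  obtain ⟨k, hk⟩ := sylow_conj hm hF P
  have form : ∀ g ∈ (P : Subgroup ↥(Cfsg.Sz F m)), g * g = 1 →
      ∃ b : F, ((k⁻¹ * g * k : ↥(Cfsg.Sz F m)) : Matrix.SpecialLinearGroup (Fin 4) F)
        = sT m 0 b := by
    intro g hg hgg
    obtain ⟨a, b, hab⟩ := (hk g).mp hg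
    have h1 : (k⁻¹ * g * k) * (k⁻¹ * g * k) = 1 := by
      have : (k⁻¹ * g * k) * (k⁻¹ * g * k) = k⁻¹ * (g * g) * k := by group
      rw [this, hgg]; group
    have h2 := congrArg Subtype.val h1
    rw [Subgroup.coe_mul, hab, sT_mul h, Subgroup.coe_one, sT_eq_one_iff h] at h2
    obtain ⟨h3, h4⟩ := h2
    have h5 : b + b = 0 := by rw [← two_mul, h.two, zero_mul]
    rw [h5, zero_add] at h4
    rcases mul_eq_zero.mp h4 with h6 | h6
    · rw [th_eq_zero.mp h6] at hab; exact ⟨b, hab⟩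
    · rw [h6] at hab; exact ⟨b, hab⟩
  have hEform : ∀ e : ↥E, ∃ b : F,
      ((k⁻¹ * (e : ↥(Cfsg.Sz F m)) * k : ↥(Cfsg.Sz F m)) : Matrix.SpecialLinearGroup (Fin 4) F)
        = sT m 0 b := fun e => form e (hEP e.2) (hE2 e e.2)
  choose φ hφ using hEform
  have hinj : Function.Injective φ := by
    intro e e' hee
    have h1 := hφ e
    rw [hee, ← hφ e'] at h1
    have h2 : k⁻¹ * (e : ↥(Cfsg.Sz F m)) * k = k⁻¹ * e' * k := Subtype.ext h1
    have h3 : (e : ↥(Cfsg.Sz F m)) = e' := by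
      have := congrArg (fun z => k * z * k⁻¹) h2
      simpa [mul_assoc] using this
    exact Subtype.ext h3
  have hbij : Function.Bijective φ :=
    hinj.bijective_of_nat_card_le (le_of_eq (by rw [hcard, Nat.card_eq_fintype_card]))
  have htp : t ^ 2 ^ 1 = 1 := by rw [pow_one, pow_two]; exact ht
  obtain ⟨g, hg⟩ := exists_le_conj_sylow (isPGroup_zpowers htp) P
  have h1 := hg (Subgroup.mem_zpowers t)
  rw [mem_conj_iff] at h1
  have h2 : (g⁻¹ * t * g) * (g⁻¹ * t * g) = 1 := by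
    have : (g⁻¹ * t * g) * (g⁻¹ * t * g) = g⁻¹ * (t * t) * g := by group
    rw [this, ht]; group
  obtain ⟨b, hb⟩ := form _ h1 h2
  obtain ⟨e, he⟩ := hbij.2 b
  have h3 := hφ e
  rw [he, ← hb] at h3
  have h4 : k⁻¹ * (e : ↥(Cfsg.Sz F m)) * k = k⁻¹ * (g⁻¹ * t * g) * k := Subtype.ext h3
  have h5 : (e : ↥(Cfsg.Sz F m)) = g⁻¹ * t * g := by
    have := congrArg (fun z => k * z * k⁻¹) h4
    simpa [mul_assoc] using this
  refine ⟨g, e, e.2, ?_⟩
  rw [h5]; group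

/-- The Suzuki case: an elementary abelian `2`-subgroup `E` of order `q` is a good family. -/
theorem goodFam_Sz {m : ℕ} (hm : 1 ≤ m) (hF : Fintype.card F = 2 ^ (2 * m + 1))
    (E : Subgroup ↥(Cfsg.Sz F m)) (hE2 : ∀ e ∈ E, e * e = 1)
    (hcard : Nat.card E = Fintype.card F) : GoodFam 2 E := by
  intro x hx
  left
  refine ⟨1, by rwa [pow_one], ?_⟩
  rw [pow_one]
  obtain ⟨u, hu, hux⟩ := sz_invol_decomp hm hF x hx
  obtain ⟨c₁, v, hv, e1⟩ := sz_invol_conj hm hF E hE2 hcard u hu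
  obtain ⟨c₂, v', hv', e2⟩ := sz_invol_conj hm hF E hE2 hcard (u * x) hux
  refine ⟨c₁, c₂, v, v', hv, hv', ?_⟩
  rw [← e1, ← e2, ← mul_assoc, hu, one_mul]

end Cfsg.Agent.Lib.helper53
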