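import Cfsg.Agent.Lib.helper53.FrakLCore
import Cfsg.Agent.Lib.helper53.FrakLSL2
import Cfsg.Agent.Lib.helper53.FrakLSz
import Cfsg.Agent.Lib.helper44.SzIso
import Cfsg.Agent.Lib.helper52.SupTools

set_option autoImplicit false

namespace Cfsg.Agent.Lib.helper53

theorem LData.not_le_pCore {Λ : Type*} [Group Λ] {p : ℕ} {Y : Subgroup Λ} (D : LData p Y) :
    ¬ Y ≤ Cfsg.pCore p Λ := by
  intro h
  haveI := pCore_normal p Λ
  have h1 : Cfsg.pCore p Λ = ⊤ := minOver_eq_top_of_normal D.hmin h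
  have h2 := D.hAN
  rw [h1] at h2
  exact D.hN (top_le_iff.mp h2)

theorem sup_conj_map {Λ X : Type*} [Group Λ] [Group X] {Y : Subgroup Λ} {g : Λ}
    (hsup : Y ⊔ Y.map (MulAut.conj g).toMonoidHom = ⊤) (ψ : Λ →* X)
    (hψs : Function.Surjective ψ) :
    Y.map ψ ⊔ (Y.map ψ).map (MulAut.conj (ψ g)).toMonoidHom = ⊤ := by
  have h1 : (Y.map (MulAut.conj g).toMonoidHom).map ψ =
      (Y.map ψ).map (MulAut.conj (ψ g)).toMonoidHom := by
    rw [Subgroup.map_map, Subgroup.map_map]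
    congr 1
    ext x
    simp
  rw [← h1, ← Subgroup.map_sup, hsup, Subgroup.map_top_of_surjective ψ hψs]

theorem card_map_eq_relIndex {G X : Type*} [Group G] [Group X] {p : ℕ} {Y L : Subgroup G}
    (hYL : Y ≤ L) (ψ : ↥L →* X) (hψk : ψ.ker = Cfsg.pCore p ↥L) :
    Nat.card ((Y.subgroupOf L).map ψ) = (Y ⊓ Cfsg.pCoreOf p L).relIndex Y := by
  have h1 : (ψ.comp (Subgroup.inclusion hYL)).range = (Y.subgroupOf L).map ψ := by
    rw [← MonoidHom.map_range, Subgroup.inclusion_range]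
  rw [← h1, ← Subgroup.index_ker, ← MonoidHom.comap_ker, hψk]
  unfold Subgroup.relIndex
  congr 1
  ext y
  rw [Subgroup.mem_comap, Subgroup.mem_subgroupOf, ← pCoreOf_subgroupOf, Subgroup.mem_subgroupOf,
    Subgroup.mem_inf]
  constructor
  · intro h; exact ⟨y.2, h⟩
  · intro h; exact h.2

theorem lData_of_frakL {G : Type*} [Group G] {p : ℕ} (Y L : Subgroup G)
    (hYE : Cfsg.IsElementaryAbelian p Y) (hYL : Y ≤ L)
    (hAcl : Cfsg.pCoreOf p L = (Subgroup.normalClosure
        (((Y ⊓ Cfsg.pCoreOf p L).subgroupOf L : Subgroup ↥L) : Set ↥L)).map L.subtype)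
    (hAN : Cfsg.pCoreOf p L ≤ Subgroup.normalizer (Y : Set G))
    (hmin : Cfsg.IsMinimalOver (Y.subgroupOf L))
    (hchar : Subgroup.centralizer (Cfsg.pCore p ↥L : Set ↥L) ≤ Cfsg.pCore p ↥L)
    (hNlt : L ⊓ Subgroup.normalizer (Y : Set G) < L)
    (hNmax : ∀ X : Subgroup G, Y ≤ X → X < L → X ≤ L ⊓ Subgroup.normalizer (Y : Set G)) :
    LData p (Y.subgroupOf L) := by
  have hnorm := Subgroup.subgroupOf_normalizer_eq hYL
  refine ⟨?_, ?_, ?_, ?_, hmin, ?_, ?_, hchar⟩
  · intro a ha b hb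
    exact Subtype.ext (Cfsg.Agent.Lib.helper52.IsElementaryAbelian.commute hYE ha hb)
  · exact (Cfsg.Agent.Lib.helper52.IsElementaryAbelian.isPGroup hYE).comap_subtype
  · have e1 : (Y ⊓ Cfsg.pCoreOf p L).subgroupOf L = Y.subgroupOf L ⊓ Cfsg.pCore p ↥L := by
      rw [← pCoreOf_subgroupOf]
      ext x
      simp [Subgroup.mem_subgroupOf]
    have e2 : (Cfsg.pCoreOf p L).subgroupOf L = ((Subgroup.normalClosure
        (((Y ⊓ Cfsg.pCoreOf p L).subgroupOf L : Subgroup ↥L) : Set ↥L)).map L.subtype).subgroupOf L :=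
      congrArg (fun H : Subgroup G => H.subgroupOf L) hAcl
    have e3 : ((Subgroup.normalClosure
        (((Y ⊓ Cfsg.pCoreOf p L).subgroupOf L : Subgroup ↥L) : Set ↥L)).map L.subtype).subgroupOf L =
        Subgroup.normalClosure (((Y ⊓ Cfsg.pCoreOf p L).subgroupOf L : Subgroup ↥L) : Set ↥L) :=
      Subgroup.comap_map_eq_self_of_injective L.subtype_injective _
    rw [pCoreOf_subgroupOf, e3, e1] at e2
    exact e2
  · intro a ha
    rw [← hnorm, Subgroup.mem_subgroupOf]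
    exact hAN (Subgroup.mem_map_of_mem L.subtype ha)
  · intro htop
    rw [← hnorm] at htop
    apply lt_irrefl L
    refine lt_of_le_of_lt ?_ hNlt
    intro x hx
    refine ⟨hx, ?_⟩
    have : (⟨x, hx⟩ : ↥L) ∈ (Subgroup.normalizer (Y : Set G)).subgroupOf L :=
      htop ▸ Subgroup.mem_top _
    exact Subgroup.mem_subgroupOf.mp this
  · intro X hYX hX
    rw [← hnorm]
    intro x hx
    rw [Subgroup.mem_subgroupOf]
    have h1 : X.map L.subtype ≤ L ⊓ Subgroup.normalizer (Y : Set G) := by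
      apply hNmax
      · intro y hy
        exact ⟨⟨y, hYL hy⟩, hYX (Subgroup.mem_subgroupOf.mpr hy), rfl⟩
      · refine lt_of_le_of_ne (Subgroup.map_subtype_le _) ?_
        intro heq
        apply hX
        rw [eq_top_iff]
        intro z _
        have hz : (z : G) ∈ X.map L.subtype := by rw [heq]; exact z.2
        obtain ⟨z', hz', hzz⟩ := hz
        have : z' = z := Subtype.ext hzz
        rwa [this] at hz'
    exact (h1 (Subgroup.mem_map_of_mem L.subtype hx)).2

theorem frakL_aux {G : Type*} [Group G] [Finite G] {p : ℕ} [Fact p.Prime] {Y L : Subgroup G}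
    (D : LData p (Y.subgroupOf L))
    {X : Type*} [Group X] (ψ : ↥L →* X) (hψs : Function.Surjective ψ)
    (hψk : ψ.ker = Cfsg.pCore p ↥L) (hG : GoodFam p ((Y.subgroupOf L).map ψ))
    (h : G) (hh : h ∈ L) (hnp : ¬ ∃ k : ℕ, orderOf h = p ^ k) :
    ∀ a ∈ Cfsg.pCoreOf p L,
      h * a * h⁻¹ * a⁻¹ ∈ Y ⊓ Subgroup.centralizer ((L : Subgroup G) : Set G) →
      a ∈ Y ⊓ Subgroup.centralizer ((L : Subgroup G) : Set G) := by
  have key := D.main ψ hψs hψk hG ⟨h, hh⟩ (by rw [Subgroup.orderOf_mk]; exact hnp)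
  rintro _ ⟨a, ha, rfl⟩ hrel
  obtain ⟨hrel1, hrel2⟩ := Subgroup.mem_inf.mp hrel
  have h1 := key a ha (by
    refine Subgroup.mem_inf.mpr ⟨?_, ?_⟩
    · rw [Subgroup.mem_subgroupOf]
      exact hrel1
    · rw [Subgroup.mem_center_iff]
      intro g
      apply Subtype.ext
      rw [Subgroup.mem_centralizer_iff] at hrel2
      exact hrel2 g g.2)
  obtain ⟨h2, h3⟩ := Subgroup.mem_inf.mp h1
  refine Subgroup.mem_inf.mpr ⟨Subgroup.mem_subgroupOf.mp h2, ?_⟩
  rw [Subgroup.mem_centralizer_iff]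
  intro l hl
  rw [Subgroup.mem_center_iff] at h3
  exact congrArg Subtype.val (h3 ⟨l, hl⟩)

/-- Elements of `L ∈ 𝔏_G(Y_M)` of order not a power of `p` act fixed-point-freely on
`O_p(L)/C_{Y_M}(L)`. -/
theorem frakL_fixed_point_free {G : Type*} [Group G] [Finite G] {p : ℕ} [Fact p.Prime]
    (M L : Subgroup G) (hL : Cfsg.IsInFrakL p M L) (h : G) (hh : h ∈ L)
    (hnp : ¬ ∃ k : ℕ, orderOf h = p ^ k) :
    ∀ a ∈ Cfsg.pCoreOf p L,
      h * a * h⁻¹ * a⁻¹ ∈
        Cfsg.largestPReducedOf p M ⊓ Subgroup.centralizer ((L : Subgroup G) : Set G) →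
      a ∈ Cfsg.largestPReducedOf p M ⊓ Subgroup.centralizer ((L : Subgroup G) : Set G) := by
  obtain ⟨hYL, hAcl, hAN, hmin, hchar, ⟨hNlt, hNmax⟩, hfam⟩ := hL
  have hYE := Cfsg.Agent.Lib.helper52.largestPReducedOf_isElementaryAbelian p M
  have D := lData_of_frakL _ L hYE hYL hAcl hAN hmin hchar hNlt hNmax
  haveI hAn := pCore_normal p ↥L
  have hπs : Function.Surjective (QuotientGroup.mk' (Cfsg.pCore p ↥L)) :=
    QuotientGroup.mk'_surjective _
  have hker : ∀ {X : Type} [Group X] (e : ↥L ⧸ Cfsg.pCore p ↥L ≃* X),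
      (e.toMonoidHom.comp (QuotientGroup.mk' (Cfsg.pCore p ↥L))).ker = Cfsg.pCore p ↥L := by
    intro X _ e
    ext x
    rw [MonoidHom.mem_ker, MonoidHom.comp_apply]
    show e (QuotientGroup.mk' _ x) = 1 ↔ _
    rw [MulEquiv.map_eq_one_iff, QuotientGroup.mk'_apply, QuotientGroup.eq_one_iff]
  rcases hfam with ⟨F, _, _, hcardF, ⟨e⟩⟩ | ⟨hp2, F, _, _, m, hF, hcardF, ⟨e⟩⟩ |
    ⟨hp2, r, hr, hr2, ⟨e⟩⟩
  · have hψk := hker e
    have hψs : Function.Surjective (e.toMonoidHom.comp (QuotientGroup.mk' (Cfsg.pCore p ↥L))) :=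
      e.surjective.comp hπs
    have hcard := card_map_eq_relIndex hYL _ hψk
    rw [← hcardF] at hcard
    exact frakL_aux D _ hψs hψk (goodFam_SL2 _ (D.pgrp.map _) hcard) h hh hnp
  · subst hp2
    by_cases hm : 1 ≤ m
    · have hψk := hker (e.trans (Cfsg.Agent.Lib.helper44.szIso hm hF).symm)
      have hψs : Function.Surjective ((e.trans
          (Cfsg.Agent.Lib.helper44.szIso hm hF).symm).toMonoidHom.comp
            (QuotientGroup.mk' (Cfsg.pCore 2 ↥L))) :=
        (e.trans (Cfsg.Agent.Lib.helper44.szIso hm hF).symm).surjective.comp hπs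
      have hcard := card_map_eq_relIndex hYL _ hψk
      rw [← hcardF] at hcard
      refine frakL_aux D _ hψs hψk (goodFam_Sz hm hF _ ?_ hcard) h hh hnp
      rintro _ ⟨y, hy, rfl⟩
      rw [← map_mul]
      have hyy : y * y = 1 := by
        apply Subtype.ext
        have := hYE.2 _ (Subgroup.mem_subgroupOf.mp hy)
        rw [pow_two] at this
        exact this
      rw [hyy, map_one]
    · have hm0 : m = 0 := by omega
      subst hm0
      have hψk := hker e
      have hψs : Function.Surjective (e.toMonoidHom.comp (QuotientGroup.mk' (Cfsg.pCore 2 ↥L))) :=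
        e.surjective.comp hπs
      have hcard := card_map_eq_relIndex hYL _ hψk
      rw [← hcardF, hF] at hcard
      obtain ⟨g, hg⟩ := D.exists_not_mem
      exact frakL_aux D _ hψs hψk (goodFam_card_two (by simpa using hcard)
        (sup_conj_map (D.sup_conj hg) _ hψs)) h hh hnp
  · subst hp2
    have hψk := hker e
    have hψs : Function.Surjective (e.toMonoidHom.comp (QuotientGroup.mk' (Cfsg.pCore 2 ↥L))) :=
      e.surjective.comp hπs
    obtain ⟨g, hg⟩ := D.exists_not_mem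
    haveI : NeZero r := ⟨hr.ne_zero⟩
    have hEp : IsPGroup 2 (((Cfsg.largestPReducedOf 2 M).subgroupOf L).map
        (e.toMonoidHom.comp (QuotientGroup.mk' (Cfsg.pCore 2 ↥L)))) := D.pgrp.map _
    obtain ⟨k, hk⟩ := IsPGroup.iff_card.mp hEp
    have hdvd := Subgroup.card_subgroup_dvd_card (((Cfsg.largestPReducedOf 2 M).subgroupOf L).map
        (e.toMonoidHom.comp (QuotientGroup.mk' (Cfsg.pCore 2 ↥L))))
    rw [DihedralGroup.nat_card, hk] at hdvd
    have hk0 : k ≠ 0 := by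
      rintro rfl
      rw [pow_zero, Subgroup.card_eq_one, Subgroup.map_eq_bot_iff, hψk] at hk
      exact D.not_le_pCore hk
    have hk2 : k < 2 := by
      by_contra hge
      push Not at hge
      have h4 : 2 ^ 2 ∣ 2 * r := (pow_dvd_pow 2 hge).trans hdvd
      have h2r : 2 ∣ r := by
        obtain ⟨c, hc⟩ := h4
        exact ⟨c, by omega⟩
      exact hr2 ((Nat.prime_dvd_prime_iff_eq Nat.prime_two hr).mp h2r).symm
    have hcard : Nat.card (((Cfsg.largestPReducedOf 2 M).subgroupOf L).map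
        (e.toMonoidHom.comp (QuotientGroup.mk' (Cfsg.pCore 2 ↥L)))) = 2 := by
      have hk1 : k = 1 := by omega
      rw [hk, hk1, pow_one]
    exact frakL_aux D _ hψs hψk (goodFam_card_two hcard
      (sup_conj_map (D.sup_conj hg) _ hψs)) h hh hnp

end Cfsg.Agent.Lib.helper53
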