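import Cfsg.Agent.Lib.helper53.FrakLMain

set_option autoImplicit false

namespace Cfsg.Agent.Lib.helper53

variable {Λ : Type*} [Group Λ]

/-- `E` is the only nontrivial elementary abelian `p`-subgroup of `N(E)` that is normal in
`N(E)`. -/
def UniqEA (p : ℕ) {X : Type*} [Group X] (E : Subgroup X) : Prop :=
  ∀ V : Subgroup X, V ≤ Subgroup.normalizer (E : Set X) →
    Subgroup.normalizer (E : Set X) ≤ Subgroup.normalizer (V : Set X) →
    (∀ v ∈ V, v ^ p = 1) → (∀ v ∈ V, ∀ w ∈ V, v * w = w * v) → V ≠ ⊥ → V = E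

theorem isPGroup_of_exp {p : ℕ} {V : Subgroup Λ} (h : ∀ v ∈ V, v ^ p = 1) : IsPGroup p V := by
  rintro ⟨v, hv⟩
  refine ⟨1, Subtype.ext ?_⟩
  rw [pow_one]
  exact h v hv

theorem le_of_le_normalizer_of_index [Finite Λ] {p : ℕ} [Fact p.Prime] {E V : Subgroup Λ}
    (hE : IsPGroup p E) (hidx : ¬ p ∣ E.index) (hV : IsPGroup p V)
    (hVN : V ≤ Subgroup.normalizer (E : Set Λ)) : V ≤ E := by
  have h1 : IsPGroup p (V ⊔ E : Subgroup Λ) := hV.to_sup_of_normal_right' hE hVN
  have h2 := (hE.toSylow hidx).is_maximal' h1 (by rw [IsPGroup.toSylow_coe]; exact le_sup_right)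
  rw [IsPGroup.toSylow_coe] at h2
  exact le_sup_left.trans h2.le

theorem pCore_eq_bot_of_surjective {p : ℕ} {X : Type*} [Group X] (ψ : Λ →* X)
    (hψs : Function.Surjective ψ) (hψk : ψ.ker = Cfsg.pCore p Λ) : Cfsg.pCore p X = ⊥ := by
  haveI := pCore_normal p X
  have h1 : IsPGroup p ((Cfsg.pCore p X).comap ψ) :=
    (pCore_isPGroup p X).comap_of_ker_isPGroup ψ (by rw [hψk]; exact pCore_isPGroup p Λ)
  have h2 : (Cfsg.pCore p X).comap ψ ≤ Cfsg.pCore p Λ :=
    le_pCore (inferInstance : ((Cfsg.pCore p X).comap ψ).Normal) h1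
  rw [eq_bot_iff]
  intro x hx
  obtain ⟨l, rfl⟩ := hψs x
  have : l ∈ ψ.ker := by rw [hψk]; exact h2 hx
  rw [Subgroup.mem_bot]
  exact this

theorem LData.map_normalizer [Finite Λ] {p : ℕ} [Fact p.Prime] {Y : Subgroup Λ} (D : LData p Y)
    {X : Type*} [Group X] (ψ : Λ →* X) (hψs : Function.Surjective ψ)
    (hψk : ψ.ker = Cfsg.pCore p Λ) :
    Subgroup.normalizer ((Y.map ψ : Subgroup X) : Set X) =
      (Subgroup.normalizer (Y : Set Λ)).map ψ := by
  apply le_antisymm _ (Subgroup.le_normalizer_map ψ)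
  have hYP : Y ≤ (Subgroup.normalizer ((Y.map ψ : Subgroup X) : Set X)).comap ψ := by
    intro y hy
    rw [Subgroup.mem_comap]
    exact Subgroup.le_normalizer (Subgroup.mem_map_of_mem ψ hy)
  have hP : (Subgroup.normalizer ((Y.map ψ : Subgroup X) : Set X)).comap ψ ≠ ⊤ := by
    intro htop
    have hN : ∀ x : X, x ∈ Subgroup.normalizer ((Y.map ψ : Subgroup X) : Set X) := by
      intro x
      obtain ⟨l, rfl⟩ := hψs x
      have : l ∈ (Subgroup.normalizer ((Y.map ψ : Subgroup X) : Set X)).comap ψ :=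
        htop ▸ Subgroup.mem_top l
      exact this
    obtain ⟨g, hg⟩ := D.exists_not_mem
    have h1 := sup_conj_map (D.sup_conj hg) ψ hψs
    rw [conj_eq_self_of_mem_normalizer (hN (ψ g)), sup_idem] at h1
    have hXp : IsPGroup p (⊤ : Subgroup X) := h1 ▸ D.pgrp.map ψ
    have hΛp : IsPGroup p ((⊤ : Subgroup X).comap ψ) :=
      hXp.comap_of_ker_isPGroup ψ (by rw [hψk]; exact pCore_isPGroup p Λ)
    rw [Subgroup.comap_top] at hΛp
    have h2 : (⊤ : Subgroup Λ) ≤ Cfsg.pCore p Λ := le_pCore inferInstance hΛp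
    exact D.not_le_pCore (le_top.trans h2)
  have hle := D.hmax _ hYP hP
  intro b hb
  obtain ⟨l, rfl⟩ := hψs b
  exact Subgroup.mem_map_of_mem ψ (hle hb)

theorem LData.uniq [Finite Λ] {p : ℕ} [Fact p.Prime] {Y : Subgroup Λ} (D : LData p Y)
    {X : Type*} [Group X] (ψ : Λ →* X) (hψs : Function.Surjective ψ)
    (hψk : ψ.ker = Cfsg.pCore p Λ) (hU : UniqEA p (Y.map ψ)) (W : Subgroup Λ)
    (hAW : Cfsg.pCore p Λ ≤ W) (hWN : W ≤ Subgroup.normalizer (Y : Set Λ))
    (hNW : Subgroup.normalizer (Y : Set Λ) ≤ Subgroup.normalizer (W : Set Λ))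
    (hexp : ∀ w ∈ W, w ^ p ∈ Cfsg.pCore p Λ)
    (hcomm : ∀ w ∈ W, ∀ w' ∈ W, w * w' * w⁻¹ * w'⁻¹ ∈ Cfsg.pCore p Λ)
    (hne : ¬ W ≤ Cfsg.pCore p Λ) : W = Y ⊔ Cfsg.pCore p Λ := by
  have hNE := D.map_normalizer ψ hψs hψk
  have hV : W.map ψ = Y.map ψ := by
    apply hU (W.map ψ)
    · rw [hNE]; exact Subgroup.map_mono hWN
    · rw [hNE]
      exact (Subgroup.map_mono hNW).trans (Subgroup.le_normalizer_map ψ)
    · rintro _ ⟨w, hw, rfl⟩
      rw [← map_pow]
      have := hexp w hw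
      rw [← hψk] at this
      exact this
    · rintro _ ⟨w, hw, rfl⟩ _ ⟨w', hw', rfl⟩
      have := hcomm w hw w' hw'
      rw [← hψk, MonoidHom.mem_ker] at this
      simp only [map_mul, map_inv] at this
      exact mul_inv_eq_iff_eq_mul.mp (mul_inv_eq_one.mp this)
    · intro hbot
      apply hne
      rw [Subgroup.map_eq_bot_iff] at hbot
      rw [← hψk]; exact hbot
  have h1 := congrArg (Subgroup.comap ψ) hV
  rw [Subgroup.comap_map_eq, Subgroup.comap_map_eq, hψk] at h1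
  rw [← h1]
  exact (sup_eq_left.mpr hAW).symm

/-- Dihedral structure of a group generated by two conjugate subgroups of order `2`. -/
theorem dihedral_struct {X : Type*} [Group X] {E : Subgroup X} (hE : Nat.card E = 2) {c : X}
    (hgen : E ⊔ E.map (MulAut.conj c).toMonoidHom = ⊤) :
    ∃ t ρ : X, t ∈ E ∧ t ≠ 1 ∧ t * t = 1 ∧ (∀ e ∈ E, e = 1 ∨ e = t) ∧
      (∀ l : ℤ, t * ρ ^ l = ρ ^ (-l) * t) ∧ ∀ x : X, ∃ k : ℤ, x = ρ ^ k ∨ x = ρ ^ k * t := by
  obtain ⟨t', ht1, htu⟩ := (Nat.card_eq_two_iff' (1 : E)).mp hE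
  have htt' : t' * t' = 1 := by
    by_contra hne
    have := htu _ hne
    exact ht1 (by simpa using this)
  obtain ⟨t, ht⟩ : ∃ t : X, t = (t' : X) := ⟨_, rfl⟩
  have htE : t ∈ E := ht ▸ t'.2
  have htt : t * t = 1 := by
    have := congrArg Subtype.val htt'
    rw [ht]
    simpa using this
  have htne : t ≠ 1 := by
    intro h
    apply ht1
    apply Subtype.ext
    rw [← ht, h]; rfl
  have hEt : ∀ e ∈ E, e = 1 ∨ e = t := by
    intro e he
    by_cases h1 : (⟨e, he⟩ : E) = 1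
    · left; exact congrArg Subtype.val h1
    · right; rw [ht]; exact congrArg Subtype.val (htu _ h1)
  have htinv : t⁻¹ = t := inv_eq_of_mul_eq_one_left htt
  obtain ⟨s, hs⟩ : ∃ s : X, s = c * t * c⁻¹ := ⟨_, rfl⟩
  have hss : s * s = 1 := by
    rw [hs]
    have : c * t * c⁻¹ * (c * t * c⁻¹) = c * (t * t) * c⁻¹ := by group
    rw [this, htt]; group
  have hsinv : s⁻¹ = s := inv_eq_of_mul_eq_one_left hss
  obtain ⟨ρ, hρ⟩ : ∃ ρ : X, ρ = t * s := ⟨_, rfl⟩
  have hconj : t * ρ * t⁻¹ = ρ⁻¹ := by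
    rw [hρ, mul_inv_rev, hsinv, htinv, ← mul_assoc, htt, one_mul]
  have hzp : ∀ l : ℤ, t * ρ ^ l = ρ ^ (-l) * t := by
    intro l
    have := conj_zpow (i := l) (a := t) (b := ρ)
    rw [hconj] at this
    rw [zpow_neg, ← inv_zpow, this, htinv, mul_assoc (t * ρ ^ l), htt, mul_one]
  let D : Subgroup X :=
    { carrier := {x | ∃ k : ℤ, x = ρ ^ k ∨ x = ρ ^ k * t}
      one_mem' := ⟨0, Or.inl (by simp)⟩
      mul_mem' := by
        rintro a b ⟨k, rfl | rfl⟩ ⟨l, rfl | rfl⟩
        · exact ⟨k + l, Or.inl (by rw [zpow_add])⟩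
        · exact ⟨k + l, Or.inr (by rw [zpow_add, mul_assoc])⟩
        · exact ⟨k - l, Or.inr (by
            rw [mul_assoc, hzp, ← mul_assoc, ← zpow_add, sub_eq_add_neg])⟩
        · exact ⟨k - l, Or.inl (by
            rw [mul_assoc, ← mul_assoc t, hzp, mul_assoc, htt, mul_one, ← zpow_add,
              sub_eq_add_neg])⟩
      inv_mem' := by
        rintro a ⟨k, rfl | rfl⟩
        · exact ⟨-k, Or.inl (by rw [zpow_neg])⟩
        · exact ⟨k, Or.inr (by rw [mul_inv_rev, htinv, ← zpow_neg, hzp, neg_neg])⟩ }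
  refine ⟨t, ρ, htE, htne, htt, hEt, hzp, ?_⟩
  have h1 : E ≤ D := fun e he => by
    rcases hEt e he with h1 | h1
    · rw [h1]; exact D.one_mem
    · rw [h1]; exact ⟨0, Or.inr (by simp)⟩
  have h2 : E.map (MulAut.conj c).toMonoidHom ≤ D := by
    rw [conj_le_iff]
    intro e he
    rcases hEt e he with h1 | h1
    · rw [h1]
      have : c * 1 * c⁻¹ = 1 := by group
      rw [this]; exact D.one_mem
    · rw [h1, ← hs]
      refine ⟨-1, Or.inr ?_⟩
      rw [← hzp 1, zpow_one, hρ, ← mul_assoc, htt, one_mul]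
  intro x
  have : x ∈ D := (sup_le h1 h2) (hgen ▸ Subgroup.mem_top x)
  exact this

/-- The case `|E| = 2`: if `X = ⟨E, E^c⟩` and `O_2(X) = 1`, then `N_X(E) = E`. -/
theorem uniqEA_card_two {X : Type*} [Group X] {E : Subgroup X} (hE : Nat.card E = 2) {c : X}
    (hgen : E ⊔ E.map (MulAut.conj c).toMonoidHom = ⊤) (hO : Cfsg.pCore 2 X = ⊥) :
    UniqEA 2 E := by
  obtain ⟨t, ρ, htE, htne, htt, hEt, hzp, hD⟩ := dihedral_struct hE hgen
  -- a power of ρ of square one is trivial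
  have hz : ∀ k : ℤ, ρ ^ k = ρ ^ (-k) → ρ ^ k = 1 := by
    intro k hk
    have hzz : ρ ^ k * ρ ^ k = 1 := by
      nth_rewrite 2 [hk]
      rw [← zpow_add, add_neg_cancel, zpow_zero]
    have hcen : ρ ^ k ∈ Subgroup.center X := by
      rw [Subgroup.mem_center_iff]
      intro x
      obtain ⟨l, rfl | rfl⟩ := hD x
      · rw [← zpow_add, ← zpow_add, add_comm]
      · rw [mul_assoc, hzp, ← hk, ← mul_assoc, ← mul_assoc, ← zpow_add, ← zpow_add, add_comm]
    have hN : (Subgroup.zpowers (ρ ^ k)).Normal := by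
      constructor
      intro n hn g
      have hn' : n ∈ Subgroup.center X := (Subgroup.zpowers_le.mpr hcen) hn
      rw [Subgroup.mem_center_iff] at hn'
      have : g * n * g⁻¹ = n := by rw [hn' g, mul_inv_cancel_right]
      rw [this]; exact hn
    have hp : IsPGroup 2 (Subgroup.zpowers (ρ ^ k)) :=
      isPGroup_zpowers (k := 1) (by rw [pow_one, pow_two]; exact hzz)
    have := le_pCore hN hp (Subgroup.mem_zpowers (ρ ^ k))
    rw [hO, Subgroup.mem_bot] at this
    exact this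
  have hcent : ∀ x : X, x * t = t * x → x = 1 ∨ x = t := by
    intro x hx
    obtain ⟨k, rfl | rfl⟩ := hD x
    · left
      apply hz
      rw [hzp] at hx
      exact mul_right_cancel hx
    · right
      have : ρ ^ k = 1 := by
        apply hz
        rw [mul_assoc, htt, mul_one, ← mul_assoc, hzp, mul_assoc, htt, mul_one] at hx
        exact hx
      rw [this, one_mul]
  have hNE : Subgroup.normalizer (E : Set X) ≤ E := by
    intro x hx
    have h1 := (Subgroup.mem_normalizer_iff.mp hx t).mp htE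
    rcases hEt _ h1 with h2 | h2
    · exfalso
      apply htne
      have : t = x⁻¹ * (x * t * x⁻¹) * x := by group
      rw [this, h2]; group
    · have h3 : x * t = t * x := by
        have := congrArg (· * x) h2
        simpa using this
      rcases hcent x h3 with h4 | h4
      · rw [h4]; exact E.one_mem
      · rw [h4]; exact htE
  intro V hVN _ _ _ hne
  apply le_antisymm (hVN.trans hNE)
  obtain ⟨⟨v, hv⟩, hv1⟩ := (Subgroup.ne_bot_iff_exists_ne_one).mp hne
  have hvt : v = t := by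
    rcases hEt v (hNE (hVN hv)) with h | h
    · exact absurd (Subtype.ext h) hv1
    · exact h
  intro e he
  rcases hEt e he with h | h
  · rw [h]; exact V.one_mem
  · rw [h, ← hvt]; exact hv

end Cfsg.Agent.Lib.helper53
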