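import Cfsg.Agent.Lib.helper53.FrakLU1

set_option autoImplicit false

namespace Cfsg.Agent.Lib.helper53

variable {F : Type*} [Field F]

theorem upU_mul (s t : F) : upU s * upU t = upU (s + t) := by
  apply sl_ext
  rw [Matrix.SpecialLinearGroup.coe_mul]
  ext i j
  fin_cases i <;> fin_cases j <;> simp only [mul_entry] <;> simp [upU, add_comm]

theorem upU_zero : upU (0 : F) = 1 := by
  apply sl_ext
  rw [Matrix.SpecialLinearGroup.coe_one]
  simp [upU, Matrix.one_fin_two]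

theorem upU_inv (s : F) : (upU s)⁻¹ = upU (-s) :=
  inv_eq_of_mul_eq_one_right (upU_mul_neg s)

theorem upU_inj {s t : F} (h : upU s = upU t) : s = t := by
  have := congrArg (fun M : Matrix.SpecialLinearGroup (Fin 2) F => M.1 0 1) h
  simpa [upU] using this

/-- Diagonal torus element of `SL₂`. -/
def diagT (t : Fˣ) : Matrix.SpecialLinearGroup (Fin 2) F :=
  ⟨!![(t : F), 0; 0, ((t⁻¹ : Fˣ) : F)], by simp [Matrix.det_fin_two]⟩

theorem diagT_conj (t : Fˣ) (s : F) :
    diagT t * upU s * (diagT t)⁻¹ = upU ((t : F) ^ 2 * s) := by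
  rw [mul_inv_eq_iff_eq_mul]
  apply sl_ext
  rw [Matrix.SpecialLinearGroup.coe_mul, Matrix.SpecialLinearGroup.coe_mul]
  ext i j
  fin_cases i <;> fin_cases j <;> simp only [mul_entry] <;> simp [upU, diagT]
  field_simp

theorem exists_sq_sub_sq [Fintype F] (y : F) : ∃ t₁ t₂ : F, y = t₁ ^ 2 - t₂ ^ 2 := by
  by_cases h2 : (2 : F) = 0
  · haveI : CharP F 2 := CharTwo.of_one_ne_zero_of_two_eq_zero one_ne_zero h2
    obtain ⟨t, ht⟩ := FiniteField.isSquare_of_char_two (ringChar.eq F 2) y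
    exact ⟨t, 0, by rw [ht]; ring⟩
  · exact ⟨(y + 1) / 2, (y - 1) / 2, by field_simp; ring⟩

/-- The standard upper unitriangular subgroup of `SL₂`. -/
def upUSubgroup (F : Type*) [Field F] : Subgroup (Matrix.SpecialLinearGroup (Fin 2) F) where
  carrier := {x | ∃ s : F, x = upU s}
  mul_mem' := by
    rintro _ _ ⟨s, rfl⟩ ⟨t, rfl⟩
    exact ⟨s + t, upU_mul s t⟩
  one_mem' := ⟨0, upU_zero.symm⟩
  inv_mem' := by
    rintro _ ⟨s, rfl⟩
    exact ⟨-s, upU_inv s⟩

theorem card_upUSubgroup [Fintype F] : Nat.card (upUSubgroup F) = Fintype.card F := by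
  rw [← Nat.card_eq_fintype_card]
  apply Nat.card_congr
  refine (Equiv.ofBijective (fun s : F => (⟨upU s, s, rfl⟩ : upUSubgroup F)) ⟨?_, ?_⟩).symm
  · intro s t h
    exact upU_inj (congrArg Subtype.val h)
  · rintro ⟨_, s, rfl⟩
    exact ⟨s, rfl⟩

/-- The `SL₂(q)` case: a `p`-subgroup `E` of order `q` is the unique nontrivial elementary abelian
normal `p`-subgroup of its normalizer. -/
theorem uniqEA_SL2 [Fintype F] {p : ℕ} [Fact p.Prime]
    (E : Subgroup (Matrix.SpecialLinearGroup (Fin 2) F))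
    (hE : IsPGroup p E) (hcard : Nat.card E = Fintype.card F) : UniqEA p E := by
  classical
  obtain ⟨n, hn⟩ := IsPGroup.iff_card.mp hE
  have hq : Fintype.card F = p ^ n := by rw [← hcard, hn]
  have hn0 : 0 < n := by
    rcases Nat.eq_zero_or_pos n with h | h
    · exfalso
      rw [h, pow_zero] at hq
      have := Fintype.one_lt_card (α := F)
      omega
    · exact h
  haveI : CharP F p := sl2_charP hn0 hq
  have hX := Cfsg.Agent.Lib.helper7.card_SL2 (F := F) hq
  have hidx : ¬ p ∣ E.index := by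
    have h1 := E.card_mul_index
    rw [hX, hn] at h1
    have h2 : E.index = (p ^ n) ^ 2 - 1 :=
      Nat.eq_of_mul_eq_mul_left (pow_pos (Fact.out : p.Prime).pos n) h1
    rw [h2]
    intro hdvd
    have h3 : p ∣ (p ^ n) ^ 2 := dvd_pow (dvd_pow_self p hn0.ne') two_ne_zero
    have h4 : 1 ≤ (p ^ n) ^ 2 := Nat.one_le_pow _ _ (pow_pos (Fact.out : p.Prime).pos n)
    have h5 : p ∣ 1 := by
      have := Nat.dvd_sub h3 hdvd
      rwa [Nat.sub_sub_self h4] at this
    exact (Fact.out : p.Prime).one_lt.ne' (Nat.dvd_one.mp h5)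
  -- E is a conjugate of the standard unipotent subgroup
  have hUp : IsPGroup p (upUSubgroup F) := by
    rintro ⟨_, s, rfl⟩
    refine ⟨1, Subtype.ext ?_⟩
    rw [pow_one]
    exact pow_char_eq_one_of_trace (upU s) (by
      show (1 : F) + 1 = 2
      norm_num)
  obtain ⟨g, hg⟩ := exists_le_conj_sylow hUp (hE.toSylow hidx)
  rw [IsPGroup.toSylow_coe] at hg
  have hUE : upUSubgroup F = E.map (MulAut.conj g).toMonoidHom := by
    apply Subgroup.eq_of_le_of_card_ge hg
    rw [Subgroup.card_map_of_injective (MulAut.conj g).injective, hcard, card_upUSubgroup]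
  have hEform : ∀ x, x ∈ E ↔ ∃ s : F, x = g⁻¹ * upU s * g := by
    intro x
    constructor
    · intro hx
      have h1 : g * x * g⁻¹ ∈ upUSubgroup F := by rw [hUE]; exact conj_mem_conj hx
      obtain ⟨s, hs⟩ := h1
      exact ⟨s, by rw [← hs]; group⟩
    · rintro ⟨s, rfl⟩
      have h1 : upU s ∈ E.map (MulAut.conj g).toMonoidHom := by rw [← hUE]; exact ⟨s, rfl⟩
      exact mem_conj_iff.mp h1
  have htorus : ∀ t : Fˣ, g⁻¹ * diagT t * g ∈ Subgroup.normalizer (E : Set _) := by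
    intro t
    apply mem_normalizer_of_conj_le
    rw [conj_le_iff]
    intro x hx
    obtain ⟨s, rfl⟩ := (hEform x).mp hx
    refine (hEform _).mpr ⟨(t : F) ^ 2 * s, ?_⟩
    rw [← diagT_conj]
    group
  intro V hVN hNV hexp hcomm hne
  have hVE : V ≤ E := le_of_le_normalizer_of_index hE hidx (isPGroup_of_exp hexp) hVN
  apply le_antisymm hVE
  obtain ⟨⟨v₀, hv₀⟩, hv1⟩ := (Subgroup.ne_bot_iff_exists_ne_one).mp hne
  obtain ⟨s₀, rfl⟩ := (hEform v₀).mp (hVE hv₀)
  have hs₀ : s₀ ≠ 0 := by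
    rintro rfl
    apply hv1
    apply Subtype.ext
    show g⁻¹ * upU 0 * g = 1
    rw [upU_zero]; group
  have key : ∀ t : F, g⁻¹ * upU (t ^ 2 * s₀) * g ∈ V := by
    intro t
    by_cases ht : t = 0
    · rw [ht]
      have : g⁻¹ * upU ((0 : F) ^ 2 * s₀) * g = 1 := by
        rw [zero_pow two_ne_zero, zero_mul, upU_zero]; group
      rw [this]; exact V.one_mem
    · have h1 := (Subgroup.mem_normalizer_iff.mp (hNV (htorus (Units.mk0 t ht)))
        (g⁻¹ * upU s₀ * g)).mp hv₀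
      have e : g⁻¹ * diagT (Units.mk0 t ht) * g * (g⁻¹ * upU s₀ * g) *
          (g⁻¹ * diagT (Units.mk0 t ht) * g)⁻¹ =
          g⁻¹ * (diagT (Units.mk0 t ht) * upU s₀ * (diagT (Units.mk0 t ht))⁻¹) * g := by group
      rw [e, diagT_conj] at h1
      exact h1
  intro x hx
  obtain ⟨s, rfl⟩ := (hEform x).mp hx
  obtain ⟨t₁, t₂, ht⟩ := exists_sq_sub_sq (s / s₀)
  have e1 : s = t₁ ^ 2 * s₀ + -(t₂ ^ 2 * s₀) := by
    field_simp at ht
    linear_combination ht
  have e2 : g⁻¹ * upU s * g = (g⁻¹ * upU (t₁ ^ 2 * s₀) * g) * (g⁻¹ * upU (t₂ ^ 2 * s₀) * g)⁻¹ := by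
    rw [e1, ← upU_mul, ← upU_inv]
    group
  rw [e2]
  exact V.mul_mem (key t₁) (V.inv_mem (key t₂))

end Cfsg.Agent.Lib.helper53
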