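import Cfsg.Agent.Lib.helper53.FrakLU1

set_option autoImplicit false

namespace Cfsg.Agent.Lib.helper53

open Cfsg.Agent.Lib.helper8

variable {F : Type*} [Field F] [Fintype F]

/-- Normal form of an elementary abelian `2`-subgroup `E` of order `q` of `Sz(q)` inside a Sylow
`2`-subgroup `P`: `E` is the set of elements of square `1` in `P`. -/
theorem sz_form {m : ℕ} (hm : 1 ≤ m) (hF : Fintype.card F = 2 ^ (2 * m + 1))
    (E : Subgroup ↥(Cfsg.Sz F m)) (hE2 : ∀ e ∈ E, e * e = 1)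
    (hcard : Nat.card E = Fintype.card F) (P : Sylow 2 ↥(Cfsg.Sz F m))
    (hEP : E ≤ (P : Subgroup ↥(Cfsg.Sz F m))) :
    ∃ k : ↥(Cfsg.Sz F m),
      (∀ g, g ∈ E ↔ ∃ b : F,
        ((k⁻¹ * g * k : ↥(Cfsg.Sz F m)) : Matrix.SpecialLinearGroup (Fin 4) F) = sT m 0 b) ∧
      (∀ g ∈ (P : Subgroup ↥(Cfsg.Sz F m)), g * g = 1 → g ∈ E) := by
  have h := szHyp_of_card hF
  obtain ⟨k, hk⟩ := sylow_conj hm hF P
  have form : ∀ g ∈ (P : Subgroup ↥(Cfsg.Sz F m)), g * g = 1 →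
      ∃ b : F, ((k⁻¹ * g * k : ↥(Cfsg.Sz F m)) : Matrix.SpecialLinearGroup (Fin 4) F)
        = sT m 0 b := by
    intro g hg hgg
    obtain ⟨a, b, hab⟩ := (hk g).mp hg
    have h1 : (k⁻¹ * g * k) * (k⁻¹ * g * k) = 1 := by
      have : (k⁻¹ * g * k) * (k⁻¹ * g * k) = k⁻¹ * (g * g) * k := by group
      rw [this, hgg]; group
    have h2 := congrArg Subtype.val h1
    rw [Subgroup.coe_mul, hab, sT_mul h, Subgroup.coe_one, sT_eq_one_iff h] at h2
    obtain ⟨h3, h4⟩ := h2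
    have h5 : b + b = 0 := by rw [← two_mul, h.two, zero_mul]
    rw [h5, zero_add] at h4
    rcases mul_eq_zero.mp h4 with h6 | h6
    · rw [th_eq_zero.mp h6] at hab; exact ⟨b, hab⟩
    · rw [h6] at hab; exact ⟨b, hab⟩
  have hEform : ∀ e : ↥E, ∃ b : F,
      ((k⁻¹ * (e : ↥(Cfsg.Sz F m)) * k : ↥(Cfsg.Sz F m)) : Matrix.SpecialLinearGroup (Fin 4) F)
        = sT m 0 b := fun e => form e (hEP e.2) (hE2 e e.2)
  choose φ hφ using hEform
  have hinj : Function.Injective φ := by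
    intro e e' hee
    have h1 := hφ e
    rw [hee, ← hφ e'] at h1
    have h2 : k⁻¹ * (e : ↥(Cfsg.Sz F m)) * k = k⁻¹ * e' * k := Subtype.ext h1
    have h3 : (e : ↥(Cfsg.Sz F m)) = e' := by
      have := congrArg (fun z => k * z * k⁻¹) h2
      simpa [mul_assoc] using this
    exact Subtype.ext h3
  have hbij : Function.Bijective φ :=
    hinj.bijective_of_nat_card_le (le_of_eq (by rw [hcard, Nat.card_eq_fintype_card]))
  have hback : ∀ g : ↥(Cfsg.Sz F m), (∃ b : F,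
      ((k⁻¹ * g * k : ↥(Cfsg.Sz F m)) : Matrix.SpecialLinearGroup (Fin 4) F) = sT m 0 b) →
      g ∈ E := by
    rintro g ⟨b, hb⟩
    obtain ⟨e, he⟩ := hbij.2 b
    have h3 := hφ e
    rw [he, ← hb] at h3
    have h4 : k⁻¹ * (e : ↥(Cfsg.Sz F m)) * k = k⁻¹ * g * k := Subtype.ext h3
    have h5 : (e : ↥(Cfsg.Sz F m)) = g := by
      have := congrArg (fun z => k * z * k⁻¹) h4
      simpa [mul_assoc] using this
    rw [← h5]; exact e.2
  refine ⟨k, fun g => ⟨fun hg => form g (hEP hg) (hE2 g hg), hback g⟩, ?_⟩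
  intro g hg hgg
  exact hback g (form g hg hgg)

/-- The map `z ↦ z^θ z²` is onto the nonzero elements. -/
theorem lam_surj {m : ℕ} (hF : Fintype.card F = 2 ^ (2 * m + 1)) (c : Fˣ) :
    ∃ z : Fˣ, th m (z : F) * (z : F) ^ 2 = c := by
  have h := szHyp_of_card hF
  have hinj : Function.Injective (powMonoidHom (2 ^ (m + 1) + 2) : Fˣ →* Fˣ) := by
    rw [injective_iff_map_eq_one]
    intro z hz
    have ht : (z : F) ^ (2 ^ (m + 1) + 2) = 1 := by
      have := congrArg Units.val hz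
      simpa using this
    have hA : (z : F) ^ 2 ^ (m + 1) * (z : F) ^ 2 = 1 := by rw [← pow_add]; exact ht
    have hfrob := h.frob (z : F)
    have hA' : (z : F) ^ 2 * ((z : F) ^ 2 ^ (m + 1)) ^ 2 = 1 := by
      have := congrArg (fun x => x ^ 2 ^ (m + 1)) hA
      simp only [mul_pow, one_pow] at this
      rw [hfrob, ← pow_mul, mul_comm 2, pow_mul] at this
      exact this
    have hB : ((z : F) ^ 2 ^ (m + 1)) ^ 2 * ((z : F) ^ 2) ^ 2 = 1 := by
      rw [← mul_pow, hA, one_pow]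
    have ht2 : (z : F) ^ 2 = 1 := by linear_combination (-((z : F) ^ 2)) * hA' + hB
    have ht1 : ((z : F) - 1) ^ 2 = 0 := by linear_combination ht2 + (1 - (z : F)) * h.two
    have : (z : F) = 1 := by
      have := pow_eq_zero_iff (two_ne_zero) |>.mp ht1
      exact sub_eq_zero.mp this
    exact Units.ext this
  obtain ⟨z, hz⟩ := (Finite.injective_iff_surjective.mp hinj) c
  refine ⟨z, ?_⟩
  have := congrArg Units.val hz
  unfold th
  rw [← pow_add]
  simpa using this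

/-- The Suzuki case: an elementary abelian `2`-subgroup `E` of order `q` of `Sz(q)` is the unique
nontrivial elementary abelian normal `2`-subgroup of its normalizer. -/
theorem uniqEA_Sz {m : ℕ} (hm : 1 ≤ m) (hF : Fintype.card F = 2 ^ (2 * m + 1))
    (E : Subgroup ↥(Cfsg.Sz F m)) (hE2 : ∀ e ∈ E, e * e = 1)
    (hcard : Nat.card E = Fintype.card F) : UniqEA 2 E := by
  have h := szHyp_of_card hF
  intro V hVN hNV hexp hcomm hne
  have hVp : IsPGroup 2 V := isPGroup_of_exp hexp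
  have hEp : IsPGroup 2 E := isPGroup_of_exp (fun e he => by rw [pow_two]; exact hE2 e he)
  have hsup : IsPGroup 2 (V ⊔ E : Subgroup ↥(Cfsg.Sz F m)) := hVp.to_sup_of_normal_right' hEp hVN
  obtain ⟨P, hP⟩ := hsup.exists_le_sylow
  obtain ⟨k, hkE, hsq⟩ := sz_form hm hF E hE2 hcard P (le_sup_right.trans hP)
  have hVE : V ≤ E := by
    intro v hv
    apply hsq v (hP (Subgroup.mem_sup_left hv))
    have := hexp v hv
    rw [pow_two] at this
    exact this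
  apply le_antisymm hVE
  have hconj : ∀ (z : Fˣ) (e : ↥(Cfsg.Sz F m)) (b : F),
      ((k⁻¹ * e * k : ↥(Cfsg.Sz F m)) : Matrix.SpecialLinearGroup (Fin 4) F) = sT m 0 b →
      ((k⁻¹ * ((k * ⟨sD m z, sD_mem h z⟩ * k⁻¹) * e * (k * ⟨sD m z, sD_mem h z⟩ * k⁻¹)⁻¹) * k :
        ↥(Cfsg.Sz F m)) : Matrix.SpecialLinearGroup (Fin 4) F) =
        sT m 0 (th m (z : F) * (z : F) ^ 2 * b) := by
    intro z e b hb
    have e1 : k⁻¹ * ((k * ⟨sD m z, sD_mem h z⟩ * k⁻¹) * e * (k * ⟨sD m z, sD_mem h z⟩ * k⁻¹)⁻¹) * k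
        = (⟨sD m z, sD_mem h z⟩ : ↥(Cfsg.Sz F m)) * (k⁻¹ * e * k) *
          (⟨sD m z, sD_mem h z⟩ : ↥(Cfsg.Sz F m))⁻¹ := by group
    rw [e1, Subgroup.coe_mul, Subgroup.coe_mul, Subgroup.coe_inv, hb]
    show sD m z * sT m 0 b * (sD m z)⁻¹ = _
    rw [sD_conj_sT h, mul_zero]
  have htorus : ∀ z : Fˣ, k * ⟨sD m z, sD_mem h z⟩ * k⁻¹ ∈
      Subgroup.normalizer (E : Set ↥(Cfsg.Sz F m)) := by
    intro z
    apply mem_normalizer_of_conj_le
    rw [conj_le_iff]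
    intro e he
    obtain ⟨b, hb⟩ := (hkE e).mp he
    exact (hkE _).mpr ⟨_, hconj z e b hb⟩
  obtain ⟨⟨v₀, hv₀⟩, hv1⟩ := (Subgroup.ne_bot_iff_exists_ne_one).mp hne
  obtain ⟨b₀, hb₀⟩ := (hkE v₀).mp (hVE hv₀)
  have hb₀0 : b₀ ≠ 0 := by
    rintro rfl
    apply hv1
    apply Subtype.ext
    have h1 : k⁻¹ * v₀ * k = 1 := by
      apply Subtype.ext
      rw [hb₀, Subgroup.coe_one]
      exact (sT_eq_one_iff h).mpr ⟨rfl, rfl⟩
    have h2 : v₀ = k * (k⁻¹ * v₀ * k) * k⁻¹ := by group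
    show v₀ = 1
    rw [h2, h1]; group
  intro e he
  obtain ⟨b, hb⟩ := (hkE e).mp he
  by_cases hb0 : b = 0
  · have h1 : k⁻¹ * e * k = 1 := by
      apply Subtype.ext
      rw [hb, hb0, Subgroup.coe_one]
      exact (sT_eq_one_iff h).mpr ⟨rfl, rfl⟩
    have h2 : e = k * (k⁻¹ * e * k) * k⁻¹ := by group
    rw [h2, h1]
    have : k * 1 * k⁻¹ = 1 := by group
    rw [this]; exact V.one_mem
  · obtain ⟨z, hz⟩ := lam_surj (m := m) hF (Units.mk0 (b / b₀) (div_ne_zero hb0 hb₀0))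
    have h1 := (Subgroup.mem_normalizer_iff.mp (hNV (htorus z)) v₀).mp hv₀
    have h2 := hconj z v₀ b₀ hb₀
    rw [hz] at h2
    have h3 : ((Units.mk0 (b / b₀) (div_ne_zero hb0 hb₀0) : Fˣ) : F) * b₀ = b := by
      rw [Units.val_mk0]
      field_simp
    rw [h3, ← hb] at h2
    have h4 : k⁻¹ * ((k * ⟨sD m z, sD_mem h z⟩ * k⁻¹) * v₀ *
        (k * ⟨sD m z, sD_mem h z⟩ * k⁻¹)⁻¹) * k = k⁻¹ * e * k := Subtype.ext h2
    have h5 : (k * ⟨sD m z, sD_mem h z⟩ * k⁻¹) * v₀ * (k * ⟨sD m z, sD_mem h z⟩ * k⁻¹)⁻¹ = e := by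
      have := congrArg (fun x => k * x * k⁻¹) h4
      simpa [mul_assoc] using this
    rw [← h5]
    exact h1

end Cfsg.Agent.Lib.helper53
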