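import Cfsg.Agent.Lib.helper53.FrakLU1
import Cfsg.Agent.Lib.helper53.FrakLU2
import Cfsg.Agent.Lib.helper53.FrakLU3

set_option autoImplicit false

namespace Cfsg.Agent.Lib.helper53

theorem frakL_uniq_aux {G : Type*} [Group G] [Finite G] {p : ℕ} [Fact p.Prime] {Y L : Subgroup G}
    (hYL : Y ≤ L) (D : LData p (Y.subgroupOf L)) {X : Type*} [Group X] (ψ : ↥L →* X)
    (hψs : Function.Surjective ψ) (hψk : ψ.ker = Cfsg.pCore p ↥L)
    (hU : UniqEA p ((Y.subgroupOf L).map ψ)) (W : Subgroup G)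
    (hAW : Cfsg.pCoreOf p L ≤ W) (hWN : W ≤ L ⊓ Subgroup.normalizer (Y : Set G))
    (hNW : L ⊓ Subgroup.normalizer (Y : Set G) ≤ Subgroup.normalizer (W : Set G))
    (hexp : ∀ w ∈ W, w ^ p ∈ Cfsg.pCoreOf p L)
    (hcomm : ∀ w ∈ W, ∀ w' ∈ W, w * w' * w⁻¹ * w'⁻¹ ∈ Cfsg.pCoreOf p L)
    (hne : ¬ W ≤ Cfsg.pCoreOf p L) : W = Y ⊔ Cfsg.pCoreOf p L := by
  have hWL : W ≤ L := hWN.trans inf_le_left
  have hnormY := Subgroup.subgroupOf_normalizer_eq hYL
  have hnormW := Subgroup.subgroupOf_normalizer_eq hWL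
  have key : W.subgroupOf L = Y.subgroupOf L ⊔ Cfsg.pCore p ↥L := by
    apply D.uniq ψ hψs hψk hU (W.subgroupOf L)
    · intro x hx
      rw [Subgroup.mem_subgroupOf]
      exact hAW (Subgroup.mem_map_of_mem L.subtype hx)
    · rw [← hnormY]
      intro x hx
      rw [Subgroup.mem_subgroupOf] at hx ⊢
      exact (hWN hx).2
    · rw [← hnormY, ← hnormW]
      intro x hx
      rw [Subgroup.mem_subgroupOf] at hx ⊢
      exact hNW ⟨x.2, hx⟩
    · intro w hw
      rw [Subgroup.mem_subgroupOf] at hw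
      have := hexp _ hw
      rw [← pCoreOf_subgroupOf, Subgroup.mem_subgroupOf]
      exact this
    · intro w hw w' hw'
      rw [Subgroup.mem_subgroupOf] at hw hw'
      have := hcomm _ hw _ hw'
      rw [← pCoreOf_subgroupOf, Subgroup.mem_subgroupOf]
      exact this
    · intro hle
      apply hne
      intro w hw
      have := hle (Subgroup.mem_subgroupOf.mpr (show ((⟨w, hWL hw⟩ : ↥L) : G) ∈ W from hw))
      rw [← pCoreOf_subgroupOf, Subgroup.mem_subgroupOf] at this
      exact this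
  have h1 := congrArg (Subgroup.map L.subtype) key
  rw [Subgroup.map_subgroupOf_eq_of_le hWL, Subgroup.map_sup,
    Subgroup.map_subgroupOf_eq_of_le hYL] at h1
  exact h1

/-- For `L ∈ 𝔏_G(Y_M)`: `Y_M ≰ O_p(L)`, and every subgroup `W` with `O_p(L) ≤ W ≤ N_L(Y_M)`,
normal in `N_L(Y_M)`, with `W/O_p(L)` elementary abelian and nontrivial, is `Y_M O_p(L)`. -/
theorem frakL_uniq {G : Type*} [Group G] [Finite G] {p : ℕ} [Fact p.Prime]
    (M L : Subgroup G) (hL : Cfsg.IsInFrakL p M L) :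
    ¬ Cfsg.largestPReducedOf p M ≤ Cfsg.pCoreOf p L ∧
    ∀ W : Subgroup G, Cfsg.pCoreOf p L ≤ W →
      W ≤ L ⊓ Subgroup.normalizer ((Cfsg.largestPReducedOf p M : Subgroup G) : Set G) →
      L ⊓ Subgroup.normalizer ((Cfsg.largestPReducedOf p M : Subgroup G) : Set G) ≤
        Subgroup.normalizer (W : Set G) →
      (∀ w ∈ W, w ^ p ∈ Cfsg.pCoreOf p L) →
      (∀ w ∈ W, ∀ w' ∈ W, w * w' * w⁻¹ * w'⁻¹ ∈ Cfsg.pCoreOf p L) →
      ¬ W ≤ Cfsg.pCoreOf p L → W = Cfsg.largestPReducedOf p M ⊔ Cfsg.pCoreOf p L := by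
  obtain ⟨hYL, hAcl, hAN, hmin, hchar, ⟨hNlt, hNmax⟩, hfam⟩ := hL
  have hYE := Cfsg.Agent.Lib.helper52.largestPReducedOf_isElementaryAbelian p M
  have D := lData_of_frakL _ L hYE hYL hAcl hAN hmin hchar hNlt hNmax
  haveI hAn := pCore_normal p ↥L
  refine ⟨?_, ?_⟩
  · intro hle
    apply D.not_le_pCore
    intro y hy
    rw [← pCoreOf_subgroupOf, Subgroup.mem_subgroupOf]
    exact hle (Subgroup.mem_subgroupOf.mp hy)
  have hπs : Function.Surjective (QuotientGroup.mk' (Cfsg.pCore p ↥L)) :=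
    QuotientGroup.mk'_surjective _
  have hker : ∀ {X : Type} [Group X] (e : ↥L ⧸ Cfsg.pCore p ↥L ≃* X),
      (e.toMonoidHom.comp (QuotientGroup.mk' (Cfsg.pCore p ↥L))).ker = Cfsg.pCore p ↥L := by
    intro X _ e
    ext x
    rw [MonoidHom.mem_ker, MonoidHom.comp_apply]
    show e (QuotientGroup.mk' _ x) = 1 ↔ _
    rw [MulEquiv.map_eq_one_iff, QuotientGroup.mk'_apply, QuotientGroup.eq_one_iff]
  rcases hfam with ⟨F, _, _, hcardF, ⟨e⟩⟩ | ⟨hp2, F, _, _, m, hF, hcardF, ⟨e⟩⟩ |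
    ⟨hp2, r, hr, hr2, ⟨e⟩⟩
  · have hψk := hker e
    have hψs : Function.Surjective (e.toMonoidHom.comp (QuotientGroup.mk' (Cfsg.pCore p ↥L))) :=
      e.surjective.comp hπs
    have hcard := card_map_eq_relIndex hYL _ hψk
    rw [← hcardF] at hcard
    exact frakL_uniq_aux hYL D _ hψs hψk (uniqEA_SL2 _ (D.pgrp.map _) hcard)
  · subst hp2
    by_cases hm : 1 ≤ m
    · have hψk := hker (e.trans (Cfsg.Agent.Lib.helper44.szIso hm hF).symm)
      have hψs : Function.Surjective ((e.trans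
          (Cfsg.Agent.Lib.helper44.szIso hm hF).symm).toMonoidHom.comp
            (QuotientGroup.mk' (Cfsg.pCore 2 ↥L))) :=
        (e.trans (Cfsg.Agent.Lib.helper44.szIso hm hF).symm).surjective.comp hπs
      have hcard := card_map_eq_relIndex hYL _ hψk
      rw [← hcardF] at hcard
      refine frakL_uniq_aux hYL D _ hψs hψk (uniqEA_Sz hm hF _ ?_ hcard)
      rintro _ ⟨y, hy, rfl⟩
      rw [← map_mul]
      have hyy : y * y = 1 := by
        apply Subtype.ext
        have := hYE.2 _ (Subgroup.mem_subgroupOf.mp hy)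
        rw [pow_two] at this
        exact this
      rw [hyy, map_one]
    · have hm0 : m = 0 := by omega
      subst hm0
      have hψk := hker e
      have hψs : Function.Surjective (e.toMonoidHom.comp (QuotientGroup.mk' (Cfsg.pCore 2 ↥L))) :=
        e.surjective.comp hπs
      have hcard := card_map_eq_relIndex hYL _ hψk
      rw [← hcardF, hF] at hcard
      obtain ⟨g, hg⟩ := D.exists_not_mem
      exact frakL_uniq_aux hYL D _ hψs hψk (uniqEA_card_two (by simpa using hcard)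
        (sup_conj_map (D.sup_conj hg) _ hψs) (pCore_eq_bot_of_surjective _ hψs hψk))
  · subst hp2
    have hψk := hker e
    have hψs : Function.Surjective (e.toMonoidHom.comp (QuotientGroup.mk' (Cfsg.pCore 2 ↥L))) :=
      e.surjective.comp hπs
    obtain ⟨g, hg⟩ := D.exists_not_mem
    haveI : NeZero r := ⟨hr.ne_zero⟩
    have hEp : IsPGroup 2 (((Cfsg.largestPReducedOf 2 M).subgroupOf L).map
        (e.toMonoidHom.comp (QuotientGroup.mk' (Cfsg.pCore 2 ↥L)))) := D.pgrp.map _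
    obtain ⟨k, hk⟩ := IsPGroup.iff_card.mp hEp
    have hdvd := Subgroup.card_subgroup_dvd_card (((Cfsg.largestPReducedOf 2 M).subgroupOf L).map
        (e.toMonoidHom.comp (QuotientGroup.mk' (Cfsg.pCore 2 ↥L))))
    rw [DihedralGroup.nat_card, hk] at hdvd
    have hk0 : k ≠ 0 := by
      rintro rfl
      rw [pow_zero, Subgroup.card_eq_one, Subgroup.map_eq_bot_iff, hψk] at hk
      exact D.not_le_pCore hk
    have hk2 : k < 2 := by
      by_contra hge
      push Not at hge
      have h4 : 2 ^ 2 ∣ 2 * r := (pow_dvd_pow 2 hge).trans hdvd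
      have h2r : 2 ∣ r := by
        obtain ⟨c, hc⟩ := h4
        exact ⟨c, by omega⟩
      exact hr2 ((Nat.prime_dvd_prime_iff_eq Nat.prime_two hr).mp h2r).symm
    have hcard : Nat.card (((Cfsg.largestPReducedOf 2 M).subgroupOf L).map
        (e.toMonoidHom.comp (QuotientGroup.mk' (Cfsg.pCore 2 ↥L)))) = 2 := by
      have hk1 : k = 1 := by omega
      rw [hk, hk1, pow_one]
    exact frakL_uniq_aux hYL D _ hψs hψk (uniqEA_card_two hcard
      (sup_conj_map (D.sup_conj hg) _ hψs) (pCore_eq_bot_of_surjective _ hψs hψk))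

/-- For `L ∈ 𝔏_G(Y_M)`, `Y_M O_p(L)/O_p(L)` is the unique nontrivial elementary abelian normal
`p`-subgroup of `N_L(Y_M)/O_p(L)`. -/
theorem frakL_normalizer_quotient {G : Type*} [Group G] [Finite G] {p : ℕ} [Fact p.Prime]
    (M L : Subgroup G) (hL : Cfsg.IsInFrakL p M L) (NL : Subgroup G)
    (hNL : NL = L ⊓ Subgroup.normalizer (((Cfsg.largestPReducedOf p M) : Subgroup G) : Set G))
    [hn : (((Cfsg.pCoreOf p L)).subgroupOf NL).Normal] :
    (((Cfsg.largestPReducedOf p M)).subgroupOf NL).map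
        (QuotientGroup.mk' (((Cfsg.pCoreOf p L)).subgroupOf NL)) ≠ ⊥ ∧
    ((((Cfsg.largestPReducedOf p M)).subgroupOf NL).map
        (QuotientGroup.mk' (((Cfsg.pCoreOf p L)).subgroupOf NL))).Normal ∧
    Cfsg.IsElementaryAbelian p ((((Cfsg.largestPReducedOf p M)).subgroupOf NL).map
        (QuotientGroup.mk' (((Cfsg.pCoreOf p L)).subgroupOf NL))) ∧
    ∀ (V : Subgroup (↥NL ⧸ ((Cfsg.pCoreOf p L)).subgroupOf NL)), V.Normal →
      Cfsg.IsElementaryAbelian p V → V ≠ ⊥ →
      V = (((Cfsg.largestPReducedOf p M)).subgroupOf NL).map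
        (QuotientGroup.mk' (((Cfsg.pCoreOf p L)).subgroupOf NL)) := by
  obtain ⟨hnle, huniq⟩ := frakL_uniq M L hL
  have hYL : Cfsg.largestPReducedOf p M ≤ L := hL.1
  have hAN : Cfsg.pCoreOf p L ≤
      Subgroup.normalizer ((Cfsg.largestPReducedOf p M : Subgroup G) : Set G) := hL.2.2.1
  have hANL : Cfsg.pCoreOf p L ≤ NL := by rw [hNL]; exact le_inf (pCoreOf_le p L) hAN
  have hYNL : Cfsg.largestPReducedOf p M ≤ NL := by
    rw [hNL]; exact le_inf hYL Subgroup.le_normalizer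
  have hNLN : NL ≤ Subgroup.normalizer ((Cfsg.largestPReducedOf p M : Subgroup G) : Set G) := by
    rw [hNL]; exact inf_le_right
  have hYE := Cfsg.Agent.Lib.helper52.largestPReducedOf_isElementaryAbelian p M
  have hπs := QuotientGroup.mk'_surjective ((Cfsg.pCoreOf p L).subgroupOf NL)
  have hYn : ((Cfsg.largestPReducedOf p M).subgroupOf NL).Normal :=
    (Subgroup.normal_subgroupOf_iff_le_normalizer hYNL).mpr hNLN
  refine ⟨?_, Subgroup.Normal.map hYn _ hπs, ?_, ?_⟩
  · intro hbot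
    apply hnle
    rw [Subgroup.map_eq_bot_iff, QuotientGroup.ker_mk'] at hbot
    intro y hy
    have := hbot (show (⟨y, hYNL hy⟩ : ↥NL) ∈ (Cfsg.largestPReducedOf p M).subgroupOf NL from
      Subgroup.mem_subgroupOf.mpr hy)
    exact Subgroup.mem_subgroupOf.mp this
  · refine ⟨isMulCommutative_iff.mpr ?_, ?_⟩
    · rintro ⟨_, a, ha, rfl⟩ ⟨_, b, hb, rfl⟩
      apply Subtype.ext
      show QuotientGroup.mk' _ a * QuotientGroup.mk' _ b =
        QuotientGroup.mk' _ b * QuotientGroup.mk' _ a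
      rw [← map_mul, ← map_mul]
      congr 1
      exact Subtype.ext (Cfsg.Agent.Lib.helper52.IsElementaryAbelian.commute hYE
        (Subgroup.mem_subgroupOf.mp ha) (Subgroup.mem_subgroupOf.mp hb))
    · rintro _ ⟨a, ha, rfl⟩
      rw [← map_pow]
      have : a ^ p = 1 := Subtype.ext (by
        rw [Subgroup.coe_pow]
        exact hYE.2 _ (Subgroup.mem_subgroupOf.mp ha))
      rw [this, map_one]
  · intro V hVn hVE hVne
    have hW : (V.comap (QuotientGroup.mk' ((Cfsg.pCoreOf p L).subgroupOf NL))).map NL.subtype =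
        Cfsg.largestPReducedOf p M ⊔ Cfsg.pCoreOf p L := by
      apply huniq
      · intro a ha
        refine ⟨⟨a, hANL ha⟩, ?_, rfl⟩
        have h1 : QuotientGroup.mk' ((Cfsg.pCoreOf p L).subgroupOf NL) ⟨a, hANL ha⟩ = 1 :=
          (QuotientGroup.eq_one_iff _).mpr (Subgroup.mem_subgroupOf.mpr ha)
        show QuotientGroup.mk' ((Cfsg.pCoreOf p L).subgroupOf NL) ⟨a, hANL ha⟩ ∈ V
        rw [h1]; exact V.one_mem
      · rw [← hNL]; exact Subgroup.map_subtype_le _
      · rw [← hNL]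
        intro n hn'
        apply mem_normalizer_of_conj_le
        rw [conj_le_iff]
        rintro _ ⟨w, hw, rfl⟩
        refine ⟨⟨n, hn'⟩ * w * ⟨n, hn'⟩⁻¹, ?_, rfl⟩
        rw [SetLike.mem_coe, Subgroup.mem_comap] at hw ⊢
        rw [map_mul, map_mul, map_inv]
        exact hVn.conj_mem _ hw _
      · rintro _ ⟨w, hw, rfl⟩
        rw [SetLike.mem_coe, Subgroup.mem_comap] at hw
        have h1 := hVE.2 _ hw
        rw [← map_pow] at h1
        have h2 := (QuotientGroup.eq_one_iff _).mp h1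
        exact Subgroup.mem_subgroupOf.mp h2
      · rintro _ ⟨w, hw, rfl⟩ _ ⟨w', hw', rfl⟩
        rw [SetLike.mem_coe, Subgroup.mem_comap] at hw hw'
        have h1 := Cfsg.Agent.Lib.helper52.IsElementaryAbelian.commute hVE hw hw'
        have h2 : QuotientGroup.mk' ((Cfsg.pCoreOf p L).subgroupOf NL) (w * w' * w⁻¹ * w'⁻¹)
            = 1 := by
          simp only [map_mul, map_inv]
          rw [h1]; group
        exact Subgroup.mem_subgroupOf.mp ((QuotientGroup.eq_one_iff _).mp h2)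
      · intro hle
        apply hVne
        rw [eq_bot_iff]
        intro v hv
        obtain ⟨n, rfl⟩ := hπs v
        have h1 : (n : G) ∈ Cfsg.pCoreOf p L := hle ⟨n, hv, rfl⟩
        rw [Subgroup.mem_bot]
        exact (QuotientGroup.eq_one_iff _).mpr (Subgroup.mem_subgroupOf.mpr h1)
    have h1 : V.comap (QuotientGroup.mk' ((Cfsg.pCoreOf p L).subgroupOf NL)) =
        (Cfsg.largestPReducedOf p M ⊔ Cfsg.pCoreOf p L).subgroupOf NL := by
      rw [← hW]
      exact (Subgroup.comap_map_eq_self_of_injective NL.subtype_injective _).symm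
    have h2 := Subgroup.map_comap_eq_self_of_surjective hπs V
    rw [← h2, h1, Subgroup.subgroupOf_sup hYNL hANL, Subgroup.map_sup,
      QuotientGroup.map_mk'_self, sup_bot_eq]

end Cfsg.Agent.Lib.helper53
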