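import Cfsg.Prelude.Def_LocalStructure
import Cfsg.Agent.Lib.helper53.PCore
import Cfsg.Agent.Lib.helper53.Conj
import Cfsg.Agent.Lib.helper53.WC2
import Cfsg.Agent.Lib.helper52.PReduced
import Cfsg.Agent.Lib.helper52.SupTools
import Cfsg.Agent.Lib.helper52.RelPRed

set_option autoImplicit false

namespace Cfsg.Agent.Lib.helper53

open scoped commutatorElement Pointwise

variable {G : Type*} [Group G]

/-- `O_p(M)` centralizes `Y_M`. -/
theorem pCoreOf_le_centralizer_largestPReducedOf (p : ℕ) (M : Subgroup G) :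
    Cfsg.pCoreOf p M ≤ Subgroup.centralizer (Cfsg.largestPReducedOf p M : Set G) := by
  have h1 := Cfsg.Agent.Lib.helper52.pCore_le_centralizer_of_isPReducedNormal
    (Cfsg.Agent.Lib.helper52.largestPReduced_isPReducedNormal p ↥M)
  rintro _ ⟨x, hx, rfl⟩
  rw [Subgroup.mem_centralizer_iff]
  rintro _ ⟨y, hy, rfl⟩
  have h2 := Subgroup.mem_centralizer_iff.mp (h1 hx) y hy
  exact congrArg Subtype.val h2

/-- `Y_M ≤ O_p(M)`. -/
theorem largestPReducedOf_le_pCoreOf (p : ℕ) (M : Subgroup G) :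
    Cfsg.largestPReducedOf p M ≤ Cfsg.pCoreOf p M :=
  Subgroup.map_mono (Cfsg.Agent.Lib.helper52.le_pCore_of_isPReducedNormal
    (Cfsg.Agent.Lib.helper52.largestPReduced_isPReducedNormal p ↥M))

/-- `M` normalizes `C_G(Y_M)`. -/
theorem le_normalizer_centralizer_largestPReducedOf (p : ℕ) (M : Subgroup G) :
    M ≤ Subgroup.normalizer
      ((Subgroup.centralizer (Cfsg.largestPReducedOf p M : Set G) : Subgroup G) : Set G) :=
  (Cfsg.Agent.Lib.helper52.le_normalizer_largestPReducedOf p M).trans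
    (Cfsg.Agent.Lib.helper52.normalizer_le_normalizer_centralizer _)

/-- `M† = M C_G(Y_M)` normalizes `Y_M`. -/
theorem dagger_le_normalizer (p : ℕ) (M : Subgroup G) :
    M ⊔ Subgroup.centralizer (Cfsg.largestPReducedOf p M : Set G) ≤
      Subgroup.normalizer ((Cfsg.largestPReducedOf p M : Subgroup G) : Set G) :=
  sup_le (Cfsg.Agent.Lib.helper52.le_normalizer_largestPReducedOf p M)
    (Subgroup.centralizer_le_normalizer _)

/-- `M† = M C_G(Y_M)` normalizes `C_G(Y_M)`. -/
theorem dagger_le_normalizer_centralizer (p : ℕ) (M : Subgroup G) :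
    M ⊔ Subgroup.centralizer (Cfsg.largestPReducedOf p M : Set G) ≤
      Subgroup.normalizer
        ((Subgroup.centralizer (Cfsg.largestPReducedOf p M : Set G) : Subgroup G) : Set G) :=
  sup_le (le_normalizer_centralizer_largestPReducedOf p M) Subgroup.le_normalizer

/-- A `p`-subgroup of a `p`-closed subgroup `N ≤ M` normalized by `M` lies in `O_p(M)`. -/
theorem le_pCoreOf_of_isPClosed [Finite G] {p : ℕ} [Fact p.Prime] {N M X : Subgroup G}
    (hNM : N ≤ M) (hMN : M ≤ Subgroup.normalizer (N : Set G)) (hcl : Cfsg.IsPClosed p ↥N)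
    (hXN : X ≤ N) (hX : IsPGroup p X) : X ≤ Cfsg.pCoreOf p M := by
  obtain ⟨P, hP⟩ := (hX.comap_subtype (K := N)).exists_le_sylow
  haveI hPn : (P : Subgroup N).Normal := hcl P
  have hDN : (P : Subgroup N).map N.subtype ≤ N := Subgroup.map_subtype_le _
  have hDp : IsPGroup p ((P : Subgroup N).map N.subtype) := P.2.map _
  have hXD : X ≤ (P : Subgroup N).map N.subtype := by
    intro x hx
    exact ⟨⟨x, hXN hx⟩, hP (Subgroup.mem_subgroupOf.mpr hx), rfl⟩
  have hMD : M ≤ Subgroup.normalizer (((P : Subgroup N).map N.subtype : Subgroup G) : Set G) := by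
    intro m hm
    apply mem_normalizer_of_conj_le
    have h1 : ((P : Subgroup N).map N.subtype).map (MulAut.conj m).toMonoidHom ≤ N := by
      rw [conj_le_iff]
      intro x hx
      exact (Subgroup.mem_normalizer_iff.mp (hMN hm) x).mp (hDN hx)
    have h2 : IsPGroup p (((P : Subgroup N).map N.subtype).map (MulAut.conj m).toMonoidHom) :=
      isPGroup_conj hDp m
    obtain ⟨P', hP'⟩ := (h2.comap_subtype (K := N)).exists_le_sylow
    have h3 : P' = P := by
      obtain ⟨g, hg⟩ := MulAction.exists_smul_eq N P P'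
      rw [← hg]
      exact Sylow.smul_eq_of_normal
    intro x hx
    have h4 := hP' (Subgroup.mem_subgroupOf.mpr (show ((⟨x, h1 hx⟩ : N) : G) ∈ _ from hx))
    rw [h3] at h4
    exact ⟨⟨x, h1 hx⟩, h4, rfl⟩
  exact hXD.trans (le_pCoreOf (hDN.trans hNM) hMD hDp)

/-- If `S ≤ M` is a Sylow `p`-subgroup and `C_M(Y_M)` is `p`-closed, then `O_p(M) = S ∩ C_G(Y_M)`. -/
theorem pCoreOf_eq_sylow_inf_centralizer [Finite G] {p : ℕ} [Fact p.Prime] (S : Sylow p G)
    {M : Subgroup G} (hSM : (S : Subgroup G) ≤ M)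
    (hcl : Cfsg.IsPClosed p ↥(M ⊓ Subgroup.centralizer (Cfsg.largestPReducedOf p M : Set G))) :
    Cfsg.pCoreOf p M =
      (S : Subgroup G) ⊓ Subgroup.centralizer (Cfsg.largestPReducedOf p M : Set G) := by
  apply le_antisymm
  · refine le_inf ?_ (pCoreOf_le_centralizer_largestPReducedOf p M)
    have h1 : Cfsg.pCore p ↥M ≤ (S.subtype hSM : Subgroup ↥M) := pCore_le_sylow _
    rintro _ ⟨x, hx, rfl⟩
    have h2 := h1 hx
    rw [Sylow.coe_subtype, Subgroup.mem_subgroupOf] at h2
    exact h2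
  · exact le_pCoreOf_of_isPClosed
      (N := M ⊓ Subgroup.centralizer (Cfsg.largestPReducedOf p M : Set G)) inf_le_left
      (Cfsg.Agent.Lib.helper52.le_normalizer_inf Subgroup.le_normalizer
        (le_normalizer_centralizer_largestPReducedOf p M))
      hcl (inf_le_inf_right _ hSM) (S.2.to_le inf_le_left)

/-- `P = S ∩ C` is weakly closed in any `K ≥ S` normalizing `C`. -/
theorem wc_subgroupOf_of_eq_sylow_inf [Finite G] {p : ℕ} [Fact p.Prime] (S : Sylow p G)
    {P C K : Subgroup G} (hP : P = (S : Subgroup G) ⊓ C) (hSK : (S : Subgroup G) ≤ K)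
    (hKC : K ≤ Subgroup.normalizer (C : Set G)) :
    Cfsg.IsWeaklyClosedSubgroup p (P.subgroupOf K) := by
  have hPS : P ≤ S := hP ▸ inf_le_left
  have hPK : P ≤ K := hPS.trans hSK
  have e0 : (P.subgroupOf K).map K.subtype = P := Subgroup.map_subgroupOf_eq_of_le hPK
  refine ⟨S.subtype hSK, ?_, ?_⟩
  · rw [Sylow.coe_subtype]
    intro x hx
    rw [Subgroup.mem_subgroupOf] at hx ⊢
    exact hPS hx
  · intro k hk
    apply Subgroup.map_injective K.subtype_injective
    rw [map_conj_hom, e0]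
    have h1 := Subgroup.map_mono (f := K.subtype) hk
    rw [map_conj_hom, e0, Sylow.coe_subtype, Subgroup.map_subgroupOf_eq_of_le hSK] at h1
    apply conj_eq_self_of_mem_normalizer
    apply mem_normalizer_of_conj_le
    have h2 : P.map (MulAut.conj (K.subtype k)).toMonoidHom ≤ C := by
      rw [conj_le_iff]
      intro x hx
      have hxC : x ∈ C := by rw [hP] at hx; exact hx.2
      exact (Subgroup.mem_normalizer_iff.mp (hKC k.2) x).mp hxC
    calc P.map (MulAut.conj (K.subtype k)).toMonoidHom ≤ (S : Subgroup G) ⊓ C := le_inf h1 h2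
      _ = P := hP.symm

/-- If `A` is asymmetric and `A ≤ R ≤ N(A)`, then `A` commutes with its `N(R)`-conjugates. -/
theorem asym_le_centralizer_conj {A R : Subgroup G} (hasym : ¬ Cfsg.IsSymmetricIn A) (hAR : A ≤ R)
    (hRA : R ≤ Subgroup.normalizer (A : Set G)) {g : G}
    (hg : g ∈ Subgroup.normalizer (R : Set G)) :
    A ≤ Subgroup.centralizer ((A.map (MulAut.conj g).toMonoidHom : Subgroup G) : Set G) := by
  have hR : R.map (MulAut.conj g).toMonoidHom = R := conj_eq_self_of_mem_normalizer hg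
  have h1 : A.map (MulAut.conj g).toMonoidHom ≤ R := by
    rw [← hR]; exact conj_mono hAR g
  have h2 : A.map (MulAut.conj g).toMonoidHom ≤ Subgroup.normalizer (A : Set G) := h1.trans hRA
  have h3 : A ≤ Subgroup.normalizer ((A.map (MulAut.conj g).toMonoidHom : Subgroup G) : Set G) := by
    rw [normalizer_conj]
    refine hAR.trans ?_
    rw [← hR]
    exact conj_mono hRA g
  have h4 : ⁅A, A.map (MulAut.conj g).toMonoidHom⁆ ≤ A ⊓ A.map (MulAut.conj g).toMonoidHom :=
    commutator_le_inf_of_le_normalizer h2 h3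
  have h5 : ⁅A, A.map (MulAut.conj g).toMonoidHom⁆ = ⊥ := by
    by_contra hne
    exact hasym ⟨g, hne, h4⟩
  exact Subgroup.commutator_eq_bot_iff_le_centralizer.mp h5

/-- Pairwise commuting elements of order dividing `p` generate an elementary abelian subgroup. -/
theorem isElementaryAbelian_closure53 (p : ℕ) (S : Set G)
    (hS : ∀ s ∈ S, ∀ t ∈ S, s * t = t * s) (hSp : ∀ s ∈ S, s ^ p = 1) :
    Cfsg.IsElementaryAbelian p (Subgroup.closure S) := by
  have h1 : ∀ s ∈ S, Subgroup.closure S ≤ Subgroup.centralizer {s} := by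
    intro s hs
    rw [Subgroup.closure_le]
    intro t ht
    exact Subgroup.mem_centralizer_singleton_iff.mpr (hS t ht s hs)
  have h2 : ∀ a ∈ Subgroup.closure S, ∀ b ∈ Subgroup.closure S, a * b = b * a := by
    intro a ha b hb
    have h3 : Subgroup.closure S ≤ Subgroup.centralizer {a} := by
      rw [Subgroup.closure_le]
      intro t ht
      exact Subgroup.mem_centralizer_singleton_iff.mpr
        (Subgroup.mem_centralizer_singleton_iff.mp (h1 t ht ha)).symm
    exact (Subgroup.mem_centralizer_singleton_iff.mp (h3 hb)).symm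
  refine ⟨⟨⟨fun a b => Subtype.ext (h2 a.1 a.2 b.1 b.2)⟩⟩, ?_⟩
  intro a ha
  induction ha using Subgroup.closure_induction with
  | mem x hx => exact hSp x hx
  | one => exact one_pow p
  | mul x y hx hy hxp hyp =>
    have h' : Commute x y := h2 x hx y hy
    rw [h'.mul_pow, hxp, hyp, one_mul]
  | inv x _ hxp => rw [inv_pow, hxp, inv_one]

/-- If `A` is elementary abelian and commutes with all its `N`-conjugates, then the normal closure
of `A` in `N` is elementary abelian. -/
theorem isElementaryAbelian_normalClosure_of_commute {p : ℕ} {A N : Subgroup G}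
    (hA : Cfsg.IsElementaryAbelian p A)
    (hc : ∀ g ∈ N, A ≤ Subgroup.centralizer
      ((A.map (MulAut.conj g).toMonoidHom : Subgroup G) : Set G)) :
    Cfsg.IsElementaryAbelian p
      ((Subgroup.normalClosure ((A.subgroupOf N : Subgroup ↥N) : Set ↥N)).map N.subtype) := by
  apply Cfsg.Agent.Lib.helper52.isElementaryAbelian_map_subtype
  unfold Subgroup.normalClosure
  apply isElementaryAbelian_closure53
  · intro s hs t ht
    rw [Group.mem_conjugatesOfSet_iff] at hs ht
    obtain ⟨a, ha, hsa⟩ := hs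
    obtain ⟨b, hb, htb⟩ := ht
    rw [isConj_iff] at hsa htb
    obtain ⟨c, rfl⟩ := hsa
    obtain ⟨d, rfl⟩ := htb
    have ha' : (a : G) ∈ A := Subgroup.mem_subgroupOf.mp ha
    have hb' : (b : G) ∈ A := Subgroup.mem_subgroupOf.mp hb
    have h1 := hc ((c⁻¹ * d : N) : G) (c⁻¹ * d).2 ha'
    have h2 := Subgroup.mem_centralizer_iff.mp h1 _ (conj_mem_conj hb')
    apply Subtype.ext
    simp only [Subgroup.coe_mul, Subgroup.coe_inv] at h2 ⊢
    have e1 : (c : G) * a * (c : G)⁻¹ * ((d : G) * b * (d : G)⁻¹) =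
        (c : G) * ((a : G) * ((c : G)⁻¹ * d * b * ((c : G)⁻¹ * d)⁻¹)) * (c : G)⁻¹ := by group
    have e2 : (d : G) * b * (d : G)⁻¹ * ((c : G) * a * (c : G)⁻¹) =
        (c : G) * (((c : G)⁻¹ * d * b * ((c : G)⁻¹ * d)⁻¹) * (a : G)) * (c : G)⁻¹ := by group
    rw [e1, e2, h2]
  · intro s hs
    rw [Group.mem_conjugatesOfSet_iff] at hs
    obtain ⟨a, ha, hsa⟩ := hs
    rw [isConj_iff] at hsa
    obtain ⟨c, rfl⟩ := hsa
    have ha' : (a : G) ∈ A := Subgroup.mem_subgroupOf.mp ha
    have h1 : a ^ p = 1 := Subtype.ext (by simpa using hA.2 _ ha')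
    rw [conj_pow, h1, mul_one, mul_inv_cancel]

end Cfsg.Agent.Lib.helper53
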