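import Cfsg.Agent.Lib.helper53.FrakM
import Cfsg.Agent.Lib.helper53.LH
import Cfsg.Agent.Lib.helper53.AsymAmalgam

set_option autoImplicit false

namespace Cfsg.Agent.Lib.helper53

open scoped commutatorElement Pointwise

variable {G : Type*} [Group G]

/-- `N_G(O_p(M)) ≤ M†` for `M ∈ 𝔐_G`. -/
theorem frakM_normalizer_pCoreOf_le [Finite G] {p : ℕ} {M : Subgroup G}
    (hM : Cfsg.IsInFrakM p M) :
    Subgroup.normalizer (Cfsg.pCoreOf p M : Set G) ≤
      M ⊔ Subgroup.centralizer (Cfsg.largestPReducedOf p M : Set G) := by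
  obtain ⟨hne, hC⟩ := mem_charPSubgroups_iff.mp hM.1
  have hP : Cfsg.pCoreOf p M ≤ Cfsg.pCoreOf p (Subgroup.normalizer (Cfsg.pCoreOf p M : Set G)) :=
    le_pCoreOf Subgroup.le_normalizer le_rfl (pCoreOf_isPGroup p M)
  have hN : Subgroup.normalizer (Cfsg.pCoreOf p M : Set G) ∈ Cfsg.charPSubgroups p G := by
    rw [mem_charPSubgroups_iff]
    refine ⟨fun h => hne (le_bot_iff.mp (h ▸ hP)), ?_⟩
    exact (Subgroup.centralizer_le hP).trans (hC.trans hP)
  obtain ⟨X, hX, hNX⟩ := exists_maxCharP_ge hN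
  have := hM.2.2.1 X hX ((le_normalizer_pCoreOf p M).trans hNX)
  rw [← this]; exact hNX

/-- `N_G(M†) ≤ N_G(Y_M)` for `M ∈ 𝔐_G`. -/
theorem frakM_normalizer_dagger_le {p : ℕ} {M : Subgroup G} (hM : Cfsg.IsInFrakM p M) :
    Subgroup.normalizer
        ((M ⊔ Subgroup.centralizer (Cfsg.largestPReducedOf p M : Set G) : Subgroup G) : Set G) ≤
      Subgroup.normalizer ((Cfsg.largestPReducedOf p M : Subgroup G) : Set G) := by
  have h1 := Cfsg.Agent.Lib.helper52.normalizer_le_normalizer_largestPReducedOf p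
    (M ⊔ Subgroup.centralizer (Cfsg.largestPReducedOf p M : Set G))
  rw [← hM.2.2.2.1] at h1
  exact h1

/-- The amalgam step: if `O_p(M) ≤ M^g` and `O_p(M)^g ≤ M` for `M ∈ 𝔐_G` containing a Sylow
`p`-subgroup, with `Y_M` asymmetric and a large `p`-subgroup present, then `g` normalizes `M†`. -/
theorem frakM_amalgam [Finite G] {p : ℕ} [Fact p.Prime] (S : Sylow p G) {Q : Subgroup G}
    (hQp : IsPGroup p Q) (hQ : Cfsg.IsLarge Q) {M : Subgroup G} (hSM : (S : Subgroup G) ≤ M)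
    (hM : Cfsg.IsInFrakM p M) (hasym : ¬ Cfsg.IsSymmetricIn (Cfsg.largestPReducedOf p M)) {g : G}
    (h1 : Cfsg.pCoreOf p M ≤ M.map (MulAut.conj g).toMonoidHom)
    (h2 : (Cfsg.pCoreOf p M).map (MulAut.conj g).toMonoidHom ≤ M) :
    g ∈ Subgroup.normalizer
      ((M ⊔ Subgroup.centralizer (Cfsg.largestPReducedOf p M : Set G) : Subgroup G) : Set G) := by
  by_cases hY0 : Cfsg.largestPReducedOf p M = ⊥
  · have e : M ⊔ Subgroup.centralizer (Cfsg.largestPReducedOf p M : Set G) = ⊤ := by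
      rw [hY0]
      have : Subgroup.centralizer ((⊥ : Subgroup G) : Set G) = ⊤ := by
        rw [eq_top_iff]
        intro x _
        rw [Subgroup.mem_centralizer_iff]
        intro y hy
        have hy1 : y = 1 := Subgroup.mem_bot.mp hy
        rw [hy1, one_mul, mul_one]
      rw [this, sup_top_eq]
    rw [e, Subgroup.normalizer_eq_top]
    exact Subgroup.mem_top g
  have hYp : IsPGroup p (Cfsg.largestPReducedOf p M) :=
    (pCoreOf_isPGroup p M).to_le (largestPReducedOf_le_pCoreOf p M)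
  have hcl := hM.2.2.2.2.1
  have hclM : ∀ B : Subgroup G, IsPGroup p B → B ≤ M →
      B ≤ Subgroup.centralizer (Cfsg.largestPReducedOf p M : Set G) → B ≤ Cfsg.pCoreOf p M := by
    intro B hB hBM hBC
    exact le_pCoreOf_of_isPClosed
      (N := M ⊓ Subgroup.centralizer (Cfsg.largestPReducedOf p M : Set G)) inf_le_left
      (Cfsg.Agent.Lib.helper52.le_normalizer_inf Subgroup.le_normalizer
        (le_normalizer_centralizer_largestPReducedOf p M))
      hcl (le_inf hBM hBC) hB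
  -- the two conjugates
  let a : Bool → G := fun b => cond b g 1
  have hamal : ∀ w ∈ ⨆ k : Bool, M.map (MulAut.conj (a k)).toMonoidHom, ∀ i j : Bool,
      ((Cfsg.largestPReducedOf p M).map (MulAut.conj (a i)).toMonoidHom).map
        (MulAut.conj w).toMonoidHom ≤ (Cfsg.pCoreOf p M).map (MulAut.conj (a j)).toMonoidHom := by
    intro w hw i j
    refine asym_amalgam hasym hYp (fun k => M.map (MulAut.conj (a k)).toMonoidHom)
      (fun k => (Cfsg.largestPReducedOf p M).map (MulAut.conj (a k)).toMonoidHom)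
      (fun k => (Cfsg.pCoreOf p M).map (MulAut.conj (a k)).toMonoidHom)
      (fun k => ⟨a k, rfl⟩) (fun k => conj_mono (largestPReducedOf_le_pCoreOf p M) _) ?_ ?_ ?_ ?_
      hw i j
    · intro k
      rw [normalizer_conj]
      exact conj_mono (Cfsg.Agent.Lib.helper52.le_normalizer_largestPReducedOf p M) _
    · intro k
      rw [normalizer_conj]
      exact conj_mono (le_normalizer_pCoreOf p M) _
    · intro i j
      cases i <;> cases j
      · exact conj_mono (pCoreOf_le p M) _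
      · show (Cfsg.pCoreOf p M).map (MulAut.conj (1 : G)).toMonoidHom ≤
          M.map (MulAut.conj g).toMonoidHom
        rw [conj_one]; exact h1
      · show (Cfsg.pCoreOf p M).map (MulAut.conj g).toMonoidHom ≤
          M.map (MulAut.conj (1 : G)).toMonoidHom
        rw [conj_one]; exact h2
      · exact conj_mono (pCoreOf_le p M) _
    · intro k B hB hBM hBC
      rw [centralizer_conj] at hBC
      rw [le_conj_iff] at hBM hBC ⊢
      exact hclM _ (isPGroup_conj hB _) hBM hBC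
  have hMX : M ≤ ⨆ k : Bool, M.map (MulAut.conj (a k)).toMonoidHom := by
    have h : M.map (MulAut.conj (a false)).toMonoidHom ≤
        ⨆ k : Bool, M.map (MulAut.conj (a k)).toMonoidHom :=
      le_iSup (fun k : Bool => M.map (MulAut.conj (a k)).toMonoidHom) false
    have e : M.map (MulAut.conj (a false)).toMonoidHom = M := conj_one M
    rwa [e] at h
  have hMgX : M.map (MulAut.conj g).toMonoidHom ≤
      ⨆ k : Bool, M.map (MulAut.conj (a k)).toMonoidHom :=
    le_iSup (fun k : Bool => M.map (MulAut.conj (a k)).toMonoidHom) true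
  -- the normal `p`-subgroup
  set X : Subgroup G := ⨆ k : Bool, M.map (MulAut.conj (a k)).toMonoidHom with hXdef
  set V : Subgroup G := ⨆ w : X, (Cfsg.largestPReducedOf p M).map
    (MulAut.conj (w : G)).toMonoidHom with hVdef
  have hVP : V ≤ Cfsg.pCoreOf p M := by
    apply iSup_le
    intro w
    have h := hamal (w : G) w.2 false false
    have e1 : (Cfsg.largestPReducedOf p M).map (MulAut.conj (a false)).toMonoidHom =
        Cfsg.largestPReducedOf p M := conj_one _
    have e2 : (Cfsg.pCoreOf p M).map (MulAut.conj (a false)).toMonoidHom =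
        Cfsg.pCoreOf p M := conj_one _
    rw [e1, e2] at h
    exact h
  have hYV : Cfsg.largestPReducedOf p M ≤ V := by
    have h : (Cfsg.largestPReducedOf p M).map (MulAut.conj (((1 : X) : G))).toMonoidHom ≤ V :=
      le_iSup (fun w : X => (Cfsg.largestPReducedOf p M).map
        (MulAut.conj (w : G)).toMonoidHom) 1
    have e : (Cfsg.largestPReducedOf p M).map (MulAut.conj (((1 : X) : G))).toMonoidHom =
        Cfsg.largestPReducedOf p M := by
      rw [Subgroup.coe_one]; exact conj_one _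
    rwa [e] at h
  have hXV : X ≤ Subgroup.normalizer (V : Set G) := by
    intro x hx
    apply mem_normalizer_of_conj_le
    rw [hVdef, Subgroup.map_iSup]
    apply iSup_le
    intro w
    rw [conj_conj]
    exact le_iSup (fun w : X => (Cfsg.largestPReducedOf p M).map
      (MulAut.conj (w : G)).toMonoidHom) ⟨x * w, X.mul_mem hx w.2⟩
  have hVp : IsPGroup p V := (pCoreOf_isPGroup p M).to_le hVP
  have hVne : V ≠ ⊥ := fun h => hY0 (le_bot_iff.mp (h ▸ hYV))
  have hpar : Cfsg.IsParabolic p (Subgroup.normalizer (V : Set G)) :=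
    ⟨S, (hSM.trans hMX).trans hXV⟩
  have hR := large_mem_charPSubgroups hQp hQ hpar (pCoreOf_normalizer_ne_bot hVp hVne)
  obtain ⟨X', hX', hRX'⟩ := exists_maxCharP_ge hR
  have e1 := hM.2.2.1 X' hX' ((hMX.trans hXV).trans hRX')
  have hMg : M.map (MulAut.conj g).toMonoidHom ≤
      M ⊔ Subgroup.centralizer (Cfsg.largestPReducedOf p M : Set G) := by
    rw [← e1]; exact (hMgX.trans hXV).trans hRX'
  have h3 : M ≤ (M ⊔ Subgroup.centralizer (Cfsg.largestPReducedOf p M : Set G)).map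
      (MulAut.conj g⁻¹).toMonoidHom := by
    rw [le_conj_iff, inv_inv]; exact hMg
  have e2 := hM.2.2.1 _ (maxCharPSubgroups_conj hM.2.1 g⁻¹) h3
  have h4 := mem_normalizer_of_conj_eq_self e2
  have h5 := Subgroup.inv_mem _ h4
  rwa [inv_inv] at h5

/-- For `M ∈ 𝔐_G` containing the Sylow `p`-subgroup `S`, with `Y_M` asymmetric and a large
`p`-subgroup present: if `L` is a `p`-subgroup with `O_p(M) ≤ L ≤ N(O_p(M))`, then `N(L)`
normalizes `Y_M` and `O_p(M)`. -/
theorem frakM_normalizer_le_aux [Finite G] {p : ℕ} [Fact p.Prime] (S : Sylow p G) {Q : Subgroup G}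
    (hQp : IsPGroup p Q) (hQ : Cfsg.IsLarge Q) {M : Subgroup G} (hSM : (S : Subgroup G) ≤ M)
    (hM : Cfsg.IsInFrakM p M) (hasym : ¬ Cfsg.IsSymmetricIn (Cfsg.largestPReducedOf p M))
    {L : Subgroup G} (hLp : IsPGroup p L) (hPL : Cfsg.pCoreOf p M ≤ L)
    (hLN : L ≤ Subgroup.normalizer (Cfsg.pCoreOf p M : Set G)) {h : G}
    (hh : h ∈ Subgroup.normalizer (L : Set G)) :
    h ∈ Subgroup.normalizer ((Cfsg.largestPReducedOf p M : Subgroup G) : Set G) ∧
      h ∈ Subgroup.normalizer (Cfsg.pCoreOf p M : Set G) := by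
  have hcl := hM.2.2.2.2.1
  have hPeq := pCoreOf_eq_sylow_inf_centralizer S hSM hcl
  have hPC : Cfsg.pCoreOf p M ≤ Subgroup.centralizer (Cfsg.largestPReducedOf p M : Set G) :=
    pCoreOf_le_centralizer_largestPReducedOf p M
  have hMC := le_normalizer_centralizer_largestPReducedOf p M
  have hDC := dagger_le_normalizer_centralizer p M
  have hLD : L ≤ M ⊔ Subgroup.centralizer (Cfsg.largestPReducedOf p M : Set G) :=
    hLN.trans (frakM_normalizer_pCoreOf_le hM)
  have hSD : (S : Subgroup G) ≤ M ⊔ Subgroup.centralizer (Cfsg.largestPReducedOf p M : Set G) :=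
    hSM.trans le_sup_left
  obtain ⟨k, hkD, T, hTp, -, hST, hLT⟩ := exists_mem_pgroup_conj S.2 hLp hSD hLD
  have hTS : T = S := S.3 hTp hST
  rw [hTS, conj_le_iff] at hLT
  obtain ⟨m, hm, c, hc, rfl⟩ := Cfsg.Agent.Lib.helper52.exists_mul_of_mem_sup hMC hkD
  have hmP : m ∈ Subgroup.normalizer (Cfsg.pCoreOf p M : Set G) := le_normalizer_pCoreOf p M hm
  have hcN : c ∈ Subgroup.normalizer
      ((Subgroup.centralizer (Cfsg.largestPReducedOf p M : Set G) : Subgroup G) : Set G) :=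
    Subgroup.le_normalizer hc
  -- `c` conjugates `L ∩ C` into `P`
  have hLC : ∀ y ∈ L, y ∈ Subgroup.centralizer (Cfsg.largestPReducedOf p M : Set G) →
      c * y * c⁻¹ ∈ Cfsg.pCoreOf p M := by
    intro y hyL hyC
    have h1 : (m * c) * y * (m * c)⁻¹ ∈ (S : Subgroup G) ⊓
        Subgroup.centralizer (Cfsg.largestPReducedOf p M : Set G) :=
      ⟨hLT y hyL, (Subgroup.mem_normalizer_iff.mp (hDC hkD) y).mp hyC⟩
    rw [← hPeq] at h1
    have h2 := (Subgroup.mem_normalizer_iff.mp (Subgroup.inv_mem _ hmP) _).mp h1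
    have e : m⁻¹ * ((m * c) * y * (m * c)⁻¹) * m⁻¹⁻¹ = c * y * c⁻¹ := by group
    rwa [e] at h2
  have hcP : c ∈ Subgroup.normalizer (Cfsg.pCoreOf p M : Set G) := by
    apply mem_normalizer_of_conj_le
    rw [conj_le_iff]
    intro y hy
    exact hLC y (hPL hy) (hPC hy)
  have hLM : ∀ y ∈ L, c * y * c⁻¹ ∈ M := by
    intro y hyL
    have h1 : (m * c) * y * (m * c)⁻¹ ∈ M := hSM (hLT y hyL)
    have h2 := M.mul_mem (M.mul_mem (M.inv_mem hm) h1) hm
    have e : m⁻¹ * ((m * c) * y * (m * c)⁻¹) * m = c * y * c⁻¹ := by group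
    rwa [e] at h2
  have hcinvP : ∀ y ∈ Cfsg.pCoreOf p M, c⁻¹ * y * c ∈ Cfsg.pCoreOf p M := by
    intro y hy
    have := (Subgroup.mem_normalizer_iff.mp (Subgroup.inv_mem _ hcP) y).mp hy
    rwa [inv_inv] at this
  -- the amalgam step for `g = c h c⁻¹`
  have hg : c * h * c⁻¹ ∈ Subgroup.normalizer
      ((M ⊔ Subgroup.centralizer (Cfsg.largestPReducedOf p M : Set G) : Subgroup G) : Set G) := by
    apply frakM_amalgam S hQp hQ hSM hM hasym
    · intro y hy
      rw [mem_conj_iff]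
      have h1 : h⁻¹ * (c⁻¹ * y * c) * h⁻¹⁻¹ ∈ L :=
        (Subgroup.mem_normalizer_iff.mp (Subgroup.inv_mem _ hh) _).mp (hPL (hcinvP y hy))
      have h2 := hLM _ h1
      have e : c * (h⁻¹ * (c⁻¹ * y * c) * h⁻¹⁻¹) * c⁻¹ = (c * h * c⁻¹)⁻¹ * y * (c * h * c⁻¹) := by
        group
      rwa [e] at h2
    · rw [conj_le_iff]
      intro y hy
      have h1 : h * (c⁻¹ * y * c) * h⁻¹ ∈ L :=
        (Subgroup.mem_normalizer_iff.mp hh _).mp (hPL (hcinvP y hy))
      have h2 := hLM _ h1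
      have e : c * (h * (c⁻¹ * y * c) * h⁻¹) * c⁻¹ = (c * h * c⁻¹) * y * (c * h * c⁻¹)⁻¹ := by
        group
      rwa [e] at h2
  have hgY := frakM_normalizer_dagger_le hM hg
  have hcY : c ∈ Subgroup.normalizer ((Cfsg.largestPReducedOf p M : Subgroup G) : Set G) :=
    Subgroup.centralizer_le_normalizer _ hc
  have hhY : h ∈ Subgroup.normalizer ((Cfsg.largestPReducedOf p M : Subgroup G) : Set G) := by
    have := Subgroup.mul_mem _ (Subgroup.mul_mem _ (Subgroup.inv_mem _ hcY) hgY) hcY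
    have e : c⁻¹ * (c * h * c⁻¹) * c = h := by group
    rwa [e] at this
  refine ⟨hhY, ?_⟩
  apply mem_normalizer_of_conj_le
  rw [conj_le_iff]
  intro y hy
  have h1 : h * y * h⁻¹ ∈ L := (Subgroup.mem_normalizer_iff.mp hh y).mp (hPL hy)
  have h2 : h * y * h⁻¹ ∈ Subgroup.centralizer (Cfsg.largestPReducedOf p M : Set G) :=
    (Subgroup.mem_normalizer_iff.mp
      (Cfsg.Agent.Lib.helper52.normalizer_le_normalizer_centralizer _ hhY) y).mp (hPC hy)
  have h3 := hLC _ h1 h2
  have h4 := hcinvP _ h3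
  have e : c⁻¹ * (c * (h * y * h⁻¹) * c⁻¹) * c = h * y * h⁻¹ := by group
  rwa [e] at h4

/-- For `M ∈ 𝔐_G` containing the Sylow `p`-subgroup `S`, with `Y_M` asymmetric and a large
`p`-subgroup present: every `p`-subgroup `L ≥ O_p(M)` normalizes `O_p(M)`, and `N(L)` normalizes
`Y_M` and `O_p(M)`. -/
theorem frakM_normalizer_le [Finite G] {p : ℕ} [Fact p.Prime] (S : Sylow p G) {Q : Subgroup G}
    (hQp : IsPGroup p Q) (hQ : Cfsg.IsLarge Q) {M : Subgroup G} (hSM : (S : Subgroup G) ≤ M)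
    (hM : Cfsg.IsInFrakM p M) (hasym : ¬ Cfsg.IsSymmetricIn (Cfsg.largestPReducedOf p M))
    {L : Subgroup G} (hLp : IsPGroup p L) (hPL : Cfsg.pCoreOf p M ≤ L) :
    L ≤ Subgroup.normalizer (Cfsg.pCoreOf p M : Set G) ∧
      Subgroup.normalizer (L : Set G) ≤
        Subgroup.normalizer ((Cfsg.largestPReducedOf p M : Subgroup G) : Set G) ⊓
          Subgroup.normalizer (Cfsg.pCoreOf p M : Set G) := by
  have hLN : L ≤ Subgroup.normalizer (Cfsg.pCoreOf p M : Set G) := by
    by_contra hcon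
    have hlt : L ⊓ Subgroup.normalizer (Cfsg.pCoreOf p M : Set G) < L := by
      refine lt_of_le_of_ne inf_le_left ?_
      intro h
      exact hcon (h ▸ inf_le_right)
    obtain ⟨y, hyL, hyn, hyN⟩ := exists_mem_normalizer_not_mem hLp hlt
    have := (frakM_normalizer_le_aux S hQp hQ hSM hM hasym (hLp.to_le inf_le_left)
      (le_inf hPL Subgroup.le_normalizer) inf_le_right hyN).2
    exact hyn ⟨hyL, this⟩
  refine ⟨hLN, ?_⟩
  intro h hh
  exact frakM_normalizer_le_aux S hQp hQ hSM hM hasym hLp hPL hLN hh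

/-- `O_p(M)` is a weakly closed subgroup of `G`. -/
theorem frakM_pCoreOf_wc [Finite G] {p : ℕ} [Fact p.Prime] (S : Sylow p G) {Q : Subgroup G}
    (hQp : IsPGroup p Q) (hQ : Cfsg.IsLarge Q) {M : Subgroup G} (hSM : (S : Subgroup G) ≤ M)
    (hM : Cfsg.IsInFrakM p M) (hasym : ¬ Cfsg.IsSymmetricIn (Cfsg.largestPReducedOf p M)) :
    Cfsg.IsWeaklyClosedSubgroup p (Cfsg.pCoreOf p M) :=
  wc_of_normalizer_le (pCoreOf_isPGroup p M) (fun _ hR hPR =>
    ((frakM_normalizer_le S hQp hQ hSM hM hasym hR hPR).2).trans inf_le_right)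

/-- Every subgroup `L ≥ O_p(M)` has a Sylow `p`-subgroup containing `O_p(M)` and contained in
`N(O_p(M)) ≤ M†`. -/
theorem frakM_exists_sylow_le [Finite G] {p : ℕ} [Fact p.Prime] (S : Sylow p G) {Q : Subgroup G}
    (hQp : IsPGroup p Q) (hQ : Cfsg.IsLarge Q) {M : Subgroup G} (hSM : (S : Subgroup G) ≤ M)
    (hM : Cfsg.IsInFrakM p M) (hasym : ¬ Cfsg.IsSymmetricIn (Cfsg.largestPReducedOf p M))
    {L : Subgroup G} (hPL : Cfsg.pCoreOf p M ≤ L) :
    ∃ T : Sylow p ↥L, Cfsg.pCoreOf p M ≤ (T : Subgroup ↥L).map L.subtype ∧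
      (T : Subgroup ↥L).map L.subtype ≤ Subgroup.normalizer (Cfsg.pCoreOf p M : Set G) ∧
      (T : Subgroup ↥L).map L.subtype ≤
        M ⊔ Subgroup.centralizer (Cfsg.largestPReducedOf p M : Set G) := by
  obtain ⟨T, hT⟩ := ((pCoreOf_isPGroup p M).comap_subtype (K := L)).exists_le_sylow
  have h1 : Cfsg.pCoreOf p M ≤ (T : Subgroup ↥L).map L.subtype := by
    intro y hy
    exact ⟨⟨y, hPL hy⟩, hT (Subgroup.mem_subgroupOf.mpr hy), rfl⟩
  have h2 := (frakM_normalizer_le S hQp hQ hSM hM hasym (T.2.map L.subtype) h1).1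
  exact ⟨T, h1, h2, h2.trans (frakM_normalizer_pCoreOf_le hM)⟩

/-- `M` controls fusion in `Y_M`. -/
theorem frakM_fusion [Finite G] {p : ℕ} [Fact p.Prime] (S : Sylow p G) {Q : Subgroup G}
    (hQp : IsPGroup p Q) (hQ : Cfsg.IsLarge Q) {M : Subgroup G} (hSM : (S : Subgroup G) ≤ M)
    (hM : Cfsg.IsInFrakM p M) (hasym : ¬ Cfsg.IsSymmetricIn (Cfsg.largestPReducedOf p M))
    {x g : G} (hx : x ∈ Cfsg.largestPReducedOf p M)
    (hgx : g * x * g⁻¹ ∈ Cfsg.largestPReducedOf p M) : ∃ m ∈ M, m * x * m⁻¹ = g * x * g⁻¹ := by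
  have hPC : Cfsg.pCoreOf p M ≤ Subgroup.centralizer (Cfsg.largestPReducedOf p M : Set G) :=
    pCoreOf_le_centralizer_largestPReducedOf p M
  have hwc := frakM_pCoreOf_wc S hQp hQ hSM hM hasym
  have h1 : Cfsg.pCoreOf p M ≤ Subgroup.centralizer ({g * x * g⁻¹} : Set G) := by
    intro y hy
    rw [Subgroup.mem_centralizer_iff]
    intro z hz
    rw [Set.mem_singleton_iff] at hz
    rw [hz]
    exact Subgroup.mem_centralizer_iff.mp (hPC hy) _ hgx
  have h2 : (Cfsg.pCoreOf p M).map (MulAut.conj g).toMonoidHom ≤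
      Subgroup.centralizer ({g * x * g⁻¹} : Set G) := by
    rw [conj_le_iff]
    intro y hy
    rw [Subgroup.mem_centralizer_iff]
    intro z hz
    rw [Set.mem_singleton_iff] at hz
    rw [hz]
    have h3 : x * y = y * x := Subgroup.mem_centralizer_iff.mp (hPC hy) _ hx
    calc g * x * g⁻¹ * (g * y * g⁻¹) = g * (x * y) * g⁻¹ := by group
      _ = g * (y * x) * g⁻¹ := by rw [h3]
      _ = g * y * g⁻¹ * (g * x * g⁻¹) := by group
  obtain ⟨k, hk, hkeq⟩ := wc_conj_in (pCoreOf_isPGroup p M) hwc h1 h2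
  have h3 : k⁻¹ * g ∈ Subgroup.normalizer (Cfsg.pCoreOf p M : Set G) := by
    apply mem_normalizer_of_conj_eq_self
    rw [← conj_conj, hkeq, conj_conj, inv_mul_cancel, conj_one]
  have h4 := frakM_normalizer_pCoreOf_le hM h3
  obtain ⟨m, hm, c, hc, e⟩ := Cfsg.Agent.Lib.helper52.exists_mul_of_mem_sup
    (le_normalizer_centralizer_largestPReducedOf p M) h4
  refine ⟨m, hm, ?_⟩
  have hcx : x * c = c * x := Subgroup.mem_centralizer_iff.mp hc x hx
  have hkx : g * x * g⁻¹ * k = k * (g * x * g⁻¹) :=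
    Subgroup.mem_centralizer_iff.mp hk _ (Set.mem_singleton _)
  have e1 : m = k⁻¹ * g * c⁻¹ := by rw [e]; group
  calc m * x * m⁻¹ = k⁻¹ * (g * (c⁻¹ * x * c) * g⁻¹) * k := by rw [e1]; group
    _ = k⁻¹ * (g * x * g⁻¹) * k := by
      have : c⁻¹ * x * c = x := by rw [mul_assoc, hcx]; group
      rw [this]
    _ = g * x * g⁻¹ := by rw [mul_assoc, hkx]; group

end Cfsg.Agent.Lib.helper53
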