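import Cfsg.Agent.Lib.helper53.FrakH3
import Cfsg.Agent.Lib.helper1.Coprime
import Cfsg.Agent.Lib.helper73.Frattini

set_option autoImplicit false

namespace Cfsg.Agent.Lib.helper53

open scoped commutatorElement Pointwise

variable {G : Type*} [Group G]

/-- Burnside: a `p'`-element normalizing the `p`-group `B` and acting trivially on `B / B'`
centralizes `B`. -/
theorem mem_centralizer_of_coprime_of_mem_stabMod [Finite G] {p : ℕ} [Fact p.Prime]
    {B : Subgroup G} (hB : IsPGroup p B) {x : G} (hx : x ∈ stabMod B ⁅B, B⁆)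
    (hcop : (orderOf x).Coprime p) : x ∈ Subgroup.centralizer (B : Set G) := by
  have hZs : Subgroup.zpowers x ≤ stabMod B ⁅B, B⁆ := by
    rw [Subgroup.zpowers_le]; exact hx
  have hZB : Subgroup.zpowers x ≤ Subgroup.normalizer (B : Set G) := fun z hz => (hZs hz).1
  have hcomm : ⁅B, Subgroup.zpowers x⁆ ≤ ⁅B, B⁆ := by
    rw [Subgroup.commutator_le]
    intro b hb z hz
    exact (hZs hz).2.2 b hb
  obtain ⟨n, hn⟩ := IsPGroup.iff_card.mp hB
  have hcard : (Nat.card (Subgroup.zpowers x)).Coprime (Nat.card B) := by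
    rw [Nat.card_zpowers, hn]
    exact Nat.Coprime.pow_right n hcop
  have hsolv : Group.IsSolvable ↥(Subgroup.zpowers x) ∨ Group.IsSolvable ↥B := by
    left
    infer_instance
  have e := Cfsg.Agent.Lib.helper1.commutator_sup_fixed (Subgroup.zpowers x) B hZB hcard hsolv
  have h1 : B ≤ ⁅B, B⁆ ⊔ (B ⊓ Subgroup.centralizer ((Subgroup.zpowers x : Subgroup G) : Set G)) :=
    e.ge.trans (sup_le_sup_right hcomm _)
  have hBB : ⁅B, B⁆ ≤ B := commutator_le_right_of_le_normalizer Subgroup.le_normalizer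
  have hnorm : B ⊓ Subgroup.centralizer ((Subgroup.zpowers x : Subgroup G) : Set G) ≤
      Subgroup.normalizer ((⁅B, B⁆ : Subgroup G) : Set G) :=
    inf_le_left.trans (fun t ht =>
      mem_normalizer_commutator (Subgroup.le_normalizer ht) (Subgroup.le_normalizer ht))
  have h2 : (B ⊓ Subgroup.centralizer ((Subgroup.zpowers x : Subgroup G) : Set G)).subgroupOf B ⊔
      frattini ↥B = ⊤ := by
    rw [eq_top_iff]
    intro b _
    obtain ⟨c, hc, d, hd, hcd⟩ := (mem_sup_of_le_normalizer hnorm).mp (h1 b.2)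
    have hcB : c ∈ B := hBB hc
    have hc' : (⟨c, hcB⟩ : ↥B) ∈ frattini ↥B := by
      have h3 : (⁅B, B⁆ : Subgroup G) = (commutator ↥B).map B.subtype := by
        rw [commutator_def, Subgroup.map_commutator, ← MonoidHom.range_eq_map,
          Subgroup.range_subtype]
      rw [h3] at hc
      obtain ⟨c', hc', hcc⟩ := hc
      have h4 : commutator ↥B ≤ frattini ↥B := by
        rw [commutator_def, Subgroup.commutator_le]
        intro g₁ _ g₂ _
        rw [commutatorElement_def]
        exact Cfsg.Agent.Lib.helper73.commutator_mem_frattini hn g₁ g₂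
      have h5 : c' = ⟨c, hcB⟩ := Subtype.ext hcc
      rw [← h5]
      exact h4 hc'
    have hb : b = ⟨c, hcB⟩ * ⟨d, hd.1⟩ := Subtype.ext hcd.symm
    rw [hb]
    have h6 : (⟨c, hcB⟩ : ↥B) * ⟨d, hd.1⟩ = ⟨d, hd.1⟩ * ((⟨d, hd.1⟩ : ↥B)⁻¹ * ⟨c, hcB⟩ * ⟨d, hd.1⟩) := by
      group
    rw [h6]
    refine Subgroup.mul_mem_sup (Subgroup.mem_subgroupOf.mpr hd) ?_
    have hn' : (frattini ↥B).Normal := inferInstance
    have := hn'.conj_mem _ hc' (⟨d, hd.1⟩ : ↥B)⁻¹
    rwa [inv_inv] at this
  have h7 := frattini_nongenerating h2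
  rw [Subgroup.mem_centralizer_iff]
  intro b hb
  have h8 : (⟨b, hb⟩ : ↥B) ∈
      (B ⊓ Subgroup.centralizer ((Subgroup.zpowers x : Subgroup G) : Set G)).subgroupOf B := by
    rw [h7]; exact Subgroup.mem_top _
  have h9 := (Subgroup.mem_inf.mp (Subgroup.mem_subgroupOf.mp h8)).2
  rw [Subgroup.mem_centralizer_iff] at h9
  exact (h9 x (Subgroup.mem_zpowers x)).symm

/-- `N_G(I) ≤ M†` for a nontrivial `p`-subgroup `I` normalized by `M ∈ 𝔐_G(S)`. -/
theorem frakM_normalizer_pgroup_le_dagger [Finite G] {p : ℕ} [Fact p.Prime] (S : Sylow p G)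
    {Q : Subgroup G} (hQp : IsPGroup p Q) (hQ : Cfsg.IsLarge Q) {M : Subgroup G}
    (hSM : (S : Subgroup G) ≤ M) (hM : Cfsg.IsInFrakM p M) {I : Subgroup G} (hI1 : I ≠ ⊥)
    (hIp : IsPGroup p I) (hMI : M ≤ Subgroup.normalizer (I : Set G)) :
    Subgroup.normalizer (I : Set G) ≤
      M ⊔ Subgroup.centralizer (Cfsg.largestPReducedOf p M : Set G) := by
  have hpar : Cfsg.IsParabolic p (Subgroup.normalizer (I : Set G)) := ⟨S, hSM.trans hMI⟩
  have hR := large_mem_charPSubgroups hQp hQ hpar (pCoreOf_normalizer_ne_bot hIp hI1)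
  obtain ⟨X', hX', hRX'⟩ := exists_maxCharP_ge hR
  have e1 := hM.2.2.1 X' hX' (hMI.trans hRX')
  rw [← e1]; exact hRX'

/-- The commutator criterion: if `I ≠ 1` is a normal `p`-subgroup of `M ∈ 𝔐_G(S)`, `Y ≤ O_p(M†)`,
`Y ≤ L`, `A` a `p`-subgroup normalized by `L` with `I ≤ A` and `[Y, A] ≤ [I, A]`, then
`Y ≤ O_p(L)`. -/
theorem frakM_le_pCoreOf_of_commutator_le [Finite G] {p : ℕ} [Fact p.Prime] (S : Sylow p G)
    {Q : Subgroup G} (hQp : IsPGroup p Q) (hQ : Cfsg.IsLarge Q) {M : Subgroup G}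
    (hSM : (S : Subgroup G) ≤ M) (hM : Cfsg.IsInFrakM p M) {I : Subgroup G} (hI1 : I ≠ ⊥)
    (hIp : IsPGroup p I) (hMI : M ≤ Subgroup.normalizer (I : Set G)) {Y : Subgroup G}
    (hY : Y ≤ Cfsg.pCoreOf p (M ⊔ Subgroup.centralizer (Cfsg.largestPReducedOf p M : Set G)))
    {L : Subgroup G} (hYL : Y ≤ L) {A : Subgroup G} (hAp : IsPGroup p A)
    (hLA : L ≤ Subgroup.normalizer (A : Set G)) (hIA : I ≤ A) (hc : ⁅Y, A⁆ ≤ ⁅I, A⁆) :
    Y ≤ Cfsg.pCoreOf p L := by
  have hNI := frakM_normalizer_pgroup_le_dagger S hQp hQ hSM hM hI1 hIp hMI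
  have hYp : IsPGroup p Y := (pCoreOf_isPGroup p _).to_le hY
  have hNA : Subgroup.normalizer (A : Set G) ≤
      Subgroup.normalizer ((⁅A, A⁆ : Subgroup G) : Set G) :=
    fun t ht => mem_normalizer_commutator ht ht
  -- `W = ⟨Y^L⟩` acts trivially on `A / A'`
  have hYs : Y ≤ stabMod A ⁅A, A⁆ := by
    intro y hy
    refine ⟨hLA (hYL hy), hNA (hLA (hYL hy)), ?_⟩
    intro u hu
    have h1 : ⁅y, u⁆ ∈ ⁅A, A⁆ :=
      (Subgroup.commutator_mono hIA le_rfl) (hc (Subgroup.commutator_mem_commutator hy hu))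
    have h2 : ⁅u, y⁆ = ⁅y, u⁆⁻¹ := (commutatorElement_inv y u).symm
    rw [h2]
    exact Subgroup.inv_mem _ h1
  have hLs : L ≤ Subgroup.normalizer ((stabMod A ⁅A, A⁆ : Subgroup G) : Set G) := by
    intro l hl
    apply mem_normalizer_of_conj_le
    rw [conj_le_iff]
    intro g hg
    exact conj_mem_stabMod hg (hLA hl) (hNA (hLA hl))
  have hWs : conjClosure Y L ≤ stabMod A ⁅A, A⁆ := conjClosure_le hYs hLs
  have hYW : Y ≤ conjClosure Y L := le_conjClosure Y L
  have hWL : conjClosure Y L ≤ L := conjClosure_le hYL Subgroup.le_normalizer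
  have hLW : L ≤ Subgroup.normalizer ((conjClosure Y L : Subgroup G) : Set G) :=
    le_normalizer_conjClosure Y L
  -- `E = O^p(W)` centralizes `A`
  have hEC : (Cfsg.pResidual p ↥(conjClosure Y L)).map (conjClosure Y L).subtype ≤
      Subgroup.centralizer (A : Set G) := by
    rw [Cfsg.Agent.Lib.helper52.map_pResidual_subtype, Subgroup.closure_le]
    rintro g ⟨hgW, hgc⟩
    exact mem_centralizer_of_coprime_of_mem_stabMod hAp (hWs hgW) hgc
  have hEM : (Cfsg.pResidual p ↥(conjClosure Y L)).map (conjClosure Y L).subtype ≤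
      M ⊔ Subgroup.centralizer (Cfsg.largestPReducedOf p M : Set G) :=
    hEC.trans ((Subgroup.centralizer_le hIA).trans
      ((Subgroup.centralizer_le_normalizer _).trans hNI))
  have hEW : (Cfsg.pResidual p ↥(conjClosure Y L)).map (conjClosure Y L).subtype ≤
      conjClosure Y L := Cfsg.Agent.Lib.helper52.map_pResidual_subtype_le p _
  have hWE := le_normalizer_map_pResidual p (conjClosure Y L)
  have hLE := hLW.trans (normalizer_le_normalizer_map_pResidual p (conjClosure Y L))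
  -- `[W, E] ≤ O_p(E) ≤ O_p(W)`
  have hYE : ⁅Y, (Cfsg.pResidual p ↥(conjClosure Y L)).map (conjClosure Y L).subtype⁆ ≤
      Cfsg.pCoreOf p ((Cfsg.pResidual p ↥(conjClosure Y L)).map (conjClosure Y L).subtype) := by
    refine le_trans (le_inf ?_ ?_) (pCoreOf_inf_le hEM)
    · exact (Subgroup.commutator_mono hY le_rfl).trans
        (commutator_le_left_of_le_normalizer (hEM.trans (le_normalizer_pCoreOf p _)))
    · exact commutator_le_right_of_le_normalizer (hYW.trans hWE)
  have hWE' : ⁅conjClosure Y L,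
      (Cfsg.pResidual p ↥(conjClosure Y L)).map (conjClosure Y L).subtype⁆ ≤
      Cfsg.pCoreOf p (conjClosure Y L) := by
    refine le_trans ?_ (pCoreOf_le_of_normal hEW hWE)
    unfold conjClosure
    apply iSup_commutator_le
    · intro l
      exact (conj_le_conjClosure Y l.2).trans
        (hWE.trans (normalizer_le_normalizer_pCoreOf p _))
    · intro l
      have h1 := Subgroup.map_mono (f := (MulAut.conj (l : G)).toMonoidHom) hYE
      rw [Subgroup.map_commutator, conj_eq_self_of_mem_normalizer (hLE l.2), ← pCoreOf_conj,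
        conj_eq_self_of_mem_normalizer (hLE l.2)] at h1
      exact h1
  -- a Sylow `p`-subgroup of `W` is normal
  obtain ⟨T⟩ : Nonempty (Sylow p ↥(conjClosure Y L)) := inferInstance
  have hsup := map_pResidual_sup_sylow (conjClosure Y L) T
  have hTW : (T : Subgroup ↥(conjClosure Y L)).map (conjClosure Y L).subtype ≤ conjClosure Y L := by
    rintro _ ⟨t, -, rfl⟩
    exact t.2
  have hOT : Cfsg.pCoreOf p (conjClosure Y L) ≤
      (T : Subgroup ↥(conjClosure Y L)).map (conjClosure Y L).subtype :=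
    Subgroup.map_mono (pCore_le_sylow T)
  have hET : (Cfsg.pResidual p ↥(conjClosure Y L)).map (conjClosure Y L).subtype ≤
      Subgroup.normalizer
        (((T : Subgroup ↥(conjClosure Y L)).map (conjClosure Y L).subtype : Subgroup G) : Set G) := by
    intro e he
    apply mem_normalizer_of_conj_le
    rw [conj_le_iff]
    intro t ht
    have h1 : ⁅t, e⁆ ∈ Cfsg.pCoreOf p (conjClosure Y L) :=
      hWE' (Subgroup.commutator_mem_commutator (hTW ht) he)
    have h2 : e * t * e⁻¹ = ⁅t, e⁆⁻¹ * t := by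
      rw [commutatorElement_def]; group
    rw [h2]
    exact Subgroup.mul_mem _ (Subgroup.inv_mem _ (hOT h1)) ht
  have hWT : conjClosure Y L ≤ Subgroup.normalizer
      (((T : Subgroup ↥(conjClosure Y L)).map (conjClosure Y L).subtype : Subgroup G) : Set G) :=
    hsup.ge.trans (sup_le hET Subgroup.le_normalizer)
  have hTn : (T : Subgroup ↥(conjClosure Y L)).Normal := by
    have h1 := (Subgroup.normal_subgroupOf_iff_le_normalizer hTW).mpr hWT
    have h2 : ((T : Subgroup ↥(conjClosure Y L)).map (conjClosure Y L).subtype).subgroupOf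
        (conjClosure Y L) = (T : Subgroup ↥(conjClosure Y L)) :=
      Subgroup.comap_map_eq_self_of_injective (conjClosure Y L).subtype_injective _
    rwa [h2] at h1
  have hcl : Cfsg.IsPClosed p ↥(conjClosure Y L) := isPClosed_of_normal_sylow T hTn
  have hWp : conjClosure Y L ≤ Cfsg.pCoreOf p (conjClosure Y L) := by
    apply iSup_le
    intro l
    exact isPClosed_le_pCoreOf hcl (conj_le_conjClosure Y l.2) (isPGroup_conj hYp _)
  exact hYW.trans (le_pCoreOf hWL hLW ((pCoreOf_isPGroup p _).to_le hWp))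

end Cfsg.Agent.Lib.helper53
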