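import Mathlib.GroupTheory.Frattini
import Mathlib.GroupTheory.Abelianization.Defs
import Mathlib.GroupTheory.Sylow

set_option autoImplicit false

namespace Cfsg.Agent.Lib.helper53

open scoped commutatorElement

variable {G : Type*} [Group G]

/-- A subgroup containing the commutator subgroup is normal. -/
theorem normal_of_commutator_le {W : Subgroup G} (h : commutator G ≤ W) : W.Normal := by
  constructor
  intro n hn g
  have h1 : ⁅g, n⁆ ∈ commutator G := by
    rw [commutator_def]
    exact Subgroup.commutator_mem_commutator (Subgroup.mem_top g) (Subgroup.mem_top n)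
  have e : g * n * g⁻¹ = ⁅g, n⁆ * n := by rw [commutatorElement_def]; group
  rw [e]
  exact W.mul_mem (h h1) hn

/-- If `G/N` is abelian of exponent `p`, then `Φ(G) ≤ N`. -/
theorem frattini_le_of_exponent_quotient [Finite G] {p : ℕ} [Fact p.Prime] (N : Subgroup G)
    (hc : commutator G ≤ N) (hp : ∀ a : G, a ^ p ∈ N) : frattini G ≤ N := by
  have hpp : p.Prime := Fact.out
  intro x hx
  by_contra hxN
  obtain ⟨W, hNW, hW⟩ := Finite.exists_le_maximal
    (p := fun W : Subgroup G => N ≤ W ∧ x ∉ W) ⟨le_rfl, hxN⟩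
  have hWn : W.Normal := normal_of_commutator_le (hc.trans hW.prop.1)
  have hall : ∀ v : G, v ∈ W ⊔ Subgroup.zpowers x := by
    intro v
    by_cases hv : v ∈ W
    · exact Subgroup.mem_sup_left hv
    · have h1 : x ∈ Subgroup.zpowers v ⊔ W := by
        by_contra hnot
        have h2 := hW.le_of_ge (y := Subgroup.zpowers v ⊔ W)
          ⟨hW.prop.1.trans le_sup_right, hnot⟩ le_sup_right
        exact hv (h2 (Subgroup.mem_sup_left (Subgroup.mem_zpowers v)))
      rw [Subgroup.mem_sup_of_normal_right] at h1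
      obtain ⟨z, hz, w, hw, hzw⟩ := h1
      obtain ⟨k, rfl⟩ := Subgroup.mem_zpowers_iff.mp hz
      have hzW : v ^ k ∉ W := by
        intro h
        exact hW.prop.2 (hzw ▸ W.mul_mem h hw)
      have hndvd : ¬ (p : ℤ) ∣ k := by
        rintro ⟨m, rfl⟩
        apply hzW
        rw [zpow_mul, zpow_natCast]
        exact hW.prop.1 (Subgroup.zpow_mem _ (hp v) m)
      have hcop : Int.gcd k p = 1 := by
        have h3 : Nat.Coprime p k.natAbs := by
          rw [Nat.Prime.coprime_iff_not_dvd hpp]
          intro h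
          exact hndvd (Int.natCast_dvd.mpr h)
        rw [Int.gcd, Int.natAbs_natCast]
        exact h3.symm
      have hbez := Int.gcd_eq_gcd_ab k p
      rw [hcop] at hbez
      have hv2 : v = (v ^ k) ^ (Int.gcdA k p) * (v ^ p) ^ (Int.gcdB k p) := by
        rw [← zpow_mul, ← zpow_natCast v p, ← zpow_mul, ← zpow_add, ← hbez]
        simp
      rw [hv2]
      have hvk : v ^ k ∈ W ⊔ Subgroup.zpowers x := by
        have e : v ^ k = x * w⁻¹ := by rw [← hzw]; group
        rw [e]
        exact Subgroup.mul_mem _ (Subgroup.mem_sup_right (Subgroup.mem_zpowers x))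
          (Subgroup.mem_sup_left (W.inv_mem hw))
      exact Subgroup.mul_mem _ (Subgroup.zpow_mem _ hvk _)
        (Subgroup.mem_sup_left (Subgroup.zpow_mem _ (hW.prop.1 (hp v)) _))
  have hco : IsCoatom W := by
    refine ⟨fun h => hW.prop.2 (h ▸ Subgroup.mem_top x), ?_⟩
    intro W' hlt
    have hxW' : x ∈ W' := by
      by_contra hnot
      exact (not_le_of_gt hlt) (hW.le_of_ge ⟨hW.prop.1.trans hlt.le, hnot⟩ hlt.le)
    rw [eq_top_iff]
    intro v _
    have h4 : W ⊔ Subgroup.zpowers x ≤ W' :=
      sup_le hlt.le ((Subgroup.zpowers_le).mpr hxW')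
    exact h4 (hall v)
  exact hW.prop.2 (frattini_le_coatom hco hx)

end Cfsg.Agent.Lib.helper53
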