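import Mathlib

set_option autoImplicit false

namespace Cfsg.Agent.Lib.helper3.Gf

universe u

/-- XF3 : norm one (`q ∣ p ^ b + 1`). -/
theorem exb_norm (p q : ℕ) [Fact p.Prime] [Fact q.Prime] (hpq : p ≠ q) (b : ℕ)
    (hord : orderOf (p : ZMod q) = 2 * b) {L : Type u} [CommRing L] (lam : L) (hlam : lam ^ q = 1) :
    lam * lam ^ (p ^ b) = 1 := by
  have hp0 : (p : ZMod q) ≠ 0 := by
    intro h0
    rw [ZMod.natCast_eq_zero_iff] at h0
    exact hpq ((Nat.prime_dvd_prime_iff_eq (Fact.out : q.Prime) (Fact.out : p.Prime)).1 h0).symm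
  have hpos : 0 < orderOf (p : ZMod q) := by
    have h1 : (p : ZMod q) ^ (q - 1) = 1 := ZMod.pow_card_sub_one_eq_one hp0
    exact Nat.pos_of_dvd_of_pos (orderOf_dvd_of_pow_eq_one h1)
      (Nat.sub_pos_of_lt (Fact.out : q.Prime).one_lt)
  have hb : 0 < b := by omega
  have hsq : ((p : ZMod q) ^ b) ^ 2 = 1 := by
    rw [← pow_mul, mul_comm, ← hord]
    exact pow_orderOf_eq_one _
  have hne : (p : ZMod q) ^ b ≠ 1 := by
    intro h1
    have h2 := orderOf_dvd_of_pow_eq_one h1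
    rw [hord] at h2
    have h3 := Nat.le_of_dvd hb h2
    omega
  have hneg : (p : ZMod q) ^ b = -1 := by
    have h4 : ((p : ZMod q) ^ b - 1) * ((p : ZMod q) ^ b + 1) = 0 := by
      have : ((p : ZMod q) ^ b - 1) * ((p : ZMod q) ^ b + 1) = ((p : ZMod q) ^ b) ^ 2 - 1 := by ring
      rw [this, hsq, sub_self]
    rcases mul_eq_zero.1 h4 with h | h
    · exact absurd (sub_eq_zero.1 h) hne
    · exact eq_neg_of_add_eq_zero_left h
  have hdvd : q ∣ p ^ b + 1 := by
    rw [← ZMod.natCast_eq_zero_iff]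
    push_cast
    rw [hneg]
    ring
  obtain ⟨k, hk⟩ := hdvd
  calc lam * lam ^ (p ^ b) = lam ^ (p ^ b + 1) := by rw [pow_succ']
    _ = (lam ^ q) ^ k := by rw [hk, pow_mul]
    _ = 1 := by rw [hlam, one_pow]

end Cfsg.Agent.Lib.helper3.Gf
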