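import Mathlib

set_option autoImplicit false

namespace Cfsg.Agent.Lib.helper53.Hup

theorem exists_fixed_of_frobenius {q : ℕ} [Fact q.Prime] {V : Type*} [AddCommGroup V]
    [Module (ZMod q) V] [Finite V]
    {G : Type*} [Group G] [Finite G] (ρ : G →* (V ≃ₗ[ZMod q] V)) [Nontrivial V]
    (B : Subgroup G) (x : G) (ℓ : ℕ) (hℓ : ℓ.Prime) (hx : x ^ ℓ = 1)
    (hxB : ∀ b ∈ B, x * b * x⁻¹ ∈ B)
    (hfix : ∀ b ∈ B, x * b = b * x → b = 1)
    (hq : ¬ q ∣ Nat.card B)
    (hV : ∀ v : V, (∀ b ∈ B, ρ b v = v) → v = 0) :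
    ∃ v : V, v ≠ 0 ∧ ρ x v = v := by
  classical
  by_cases hx1 : x = 1
  · obtain ⟨v, hv⟩ := exists_ne (0 : V)
    exact ⟨v, hv, by rw [hx1, map_one]; rfl⟩
  by_contra hcon
  push Not at hcon
  have hmul : ∀ (g h : G) (v : V), ρ (g * h) v = ρ g (ρ h v) := by
    intro g h v; rw [map_mul]; rfl
  have hord : orderOf x = ℓ := by
    have := orderOf_dvd_of_pow_eq_one hx
    rcases (Nat.dvd_prime hℓ).mp this with h | h
    · exact absurd (orderOf_eq_one_iff.mp h) hx1
    · exact h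
  haveI : Fintype B := Fintype.ofFinite B
  -- the trace-like sum over powers of x vanishes
  have hT : ∀ v : V, ∑ i ∈ Finset.range ℓ, ρ (x ^ i) v = 0 := by
    intro v
    by_contra hne
    apply hcon _ hne
    rw [map_sum]
    have h1 : ∀ i ∈ Finset.range ℓ, ρ x (ρ (x ^ i) v) = ρ (x ^ (i + 1)) v := by
      intro i _
      rw [pow_succ', hmul]
    rw [Finset.sum_congr rfl h1]
    have h2 := Finset.sum_range_succ (fun i => ρ (x ^ i) v) ℓ
    have h3 := Finset.sum_range_succ' (fun i => ρ (x ^ i) v) ℓ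
    rw [h3] at h2
    simp only [hx, pow_zero] at h2
    exact add_right_cancel h2
  -- the sum over B vanishes
  have hS : ∀ v : V, ∑ b : B, ρ (b : G) v = 0 := by
    intro v
    apply hV
    intro c hc
    rw [map_sum]
    have : ∀ b : B, ρ c (ρ (b : G) v) = ρ (((⟨c, hc⟩ : B) * b : B) : G) v := by
      intro b; rw [Subgroup.coe_mul, hmul]
    rw [Finset.sum_congr rfl (fun b _ => this b)]
    exact Fintype.sum_equiv (Equiv.mulLeft (⟨c, hc⟩ : B)) _ _ (fun b => rfl)
  -- powers of x normalize B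
  have hnorm : ∀ n : ℕ, ∀ b ∈ B, x ^ n * b * (x ^ n)⁻¹ ∈ B := by
    intro n
    induction n with
    | zero => intro b hb; simpa using hb
    | succ n ih =>
      intro b hb
      have := hxB _ (ih b hb)
      have e : x * (x ^ n * b * (x ^ n)⁻¹) * x⁻¹ = x ^ (n + 1) * b * (x ^ (n + 1))⁻¹ := by
        rw [pow_succ']; group
      rw [e] at this; exact this
  -- commuting with a nontrivial power of x forces commuting with x
  have hcomm : ∀ i : ℕ, 1 ≤ i → i < ℓ → ∀ c ∈ B, x ^ i * c = c * x ^ i → c = 1 := by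
    intro i hi1 hil c hc hcc
    apply hfix c hc
    have hcop : Nat.Coprime i ℓ := by
      rw [Nat.coprime_comm]
      exact (Nat.Prime.coprime_iff_not_dvd hℓ).mpr (Nat.not_dvd_of_pos_of_lt hi1 hil)
    obtain ⟨j, hj⟩ : ∃ j : ℕ, (x ^ i) ^ j = x :=
      exists_pow_eq_self_of_coprime (by rw [hord]; exact hcop)
    have h2 : Commute (x ^ i) c := hcc
    have h3 : Commute ((x ^ i) ^ j) c := h2.pow_left j
    rw [hj] at h3
    exact h3
  -- reindexing the sum over B
  have hre : ∀ i : ℕ, 1 ≤ i → i < ℓ → ∀ v : V,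
      ∑ b : B, ρ ((b : G) * x ^ i) v = ∑ c : B, ρ ((c : G)⁻¹ * x ^ i * c) v := by
    intro i hi1 hil v
    let φ : B → B := fun c =>
      ⟨(c : G)⁻¹ * (x ^ i * c * (x ^ i)⁻¹), B.mul_mem (B.inv_mem c.2) (hnorm i c c.2)⟩
    have hinj : Function.Injective φ := by
      intro c c' h
      have h' : (c : G)⁻¹ * (x ^ i * c * (x ^ i)⁻¹) = (c' : G)⁻¹ * (x ^ i * c' * (x ^ i)⁻¹) :=
        congrArg Subtype.val h
      have h2 : (c : G)⁻¹ * x ^ i * c = (c' : G)⁻¹ * x ^ i * c' := by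
        have := congrArg (fun t => t * x ^ i) h'
        simpa [mul_assoc] using this
      have h1 : x ^ i * ((c' : G) * (c : G)⁻¹) = ((c' : G) * (c : G)⁻¹) * x ^ i := by
        calc x ^ i * ((c' : G) * (c : G)⁻¹)
            = (c' : G) * ((c' : G)⁻¹ * x ^ i * c') * (c : G)⁻¹ := by group
          _ = (c' : G) * ((c : G)⁻¹ * x ^ i * c) * (c : G)⁻¹ := by rw [h2]
          _ = ((c' : G) * (c : G)⁻¹) * x ^ i := by group
      have h3 := hcomm i hi1 hil _ (B.mul_mem c'.2 (B.inv_mem c.2)) h1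
      apply Subtype.ext
      have : (c' : G) = c := by
        have := congrArg (fun t => t * (c : G)) h3
        simpa using this
      exact this.symm
    have hbij : Function.Bijective φ := Finite.injective_iff_bijective.mp hinj
    calc ∑ b : B, ρ ((b : G) * x ^ i) v
        = ∑ c : B, ρ ((φ c : G) * x ^ i) v :=
          (Function.Bijective.sum_comp hbij (fun b : B => ρ ((b : G) * x ^ i) v)).symm
      _ = ∑ c : B, ρ ((c : G)⁻¹ * x ^ i * c) v := by
          apply Finset.sum_congr rfl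
          intro c _
          have : ((φ c : B) : G) * x ^ i = (c : G)⁻¹ * x ^ i * c := by
            show (c : G)⁻¹ * (x ^ i * c * (x ^ i)⁻¹) * x ^ i = _
            group
          rw [this]
  obtain ⟨v, hv⟩ := exists_ne (0 : V)
  have hℓpos : 0 < ℓ := hℓ.pos
  have hmain : (Fintype.card B) • v = 0 := by
    have h0 : ∑ i ∈ Finset.range ℓ, ∑ b : B, ρ ((b : G) * x ^ i) v = 0 := by
      apply Finset.sum_eq_zero
      intro i _
      have : ∀ b : B, ρ ((b : G) * x ^ i) v = ρ (b : G) (ρ (x ^ i) v) := fun b => hmul _ _ _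
      rw [Finset.sum_congr rfl (fun b _ => this b)]
      exact hS _
    rw [Finset.range_eq_Ico, Finset.sum_eq_sum_Ico_succ_bot hℓpos] at h0
    simp only [pow_zero, mul_one] at h0
    rw [hS v, zero_add] at h0
    have h1 : ∑ i ∈ Finset.Ico (0 + 1) ℓ, ∑ b : B, ρ ((b : G) * x ^ i) v
        = ∑ c : B, ∑ i ∈ Finset.Ico (0 + 1) ℓ, ρ ((c : G)⁻¹) (ρ (x ^ i) (ρ (c : G) v)) := by
      have e : ∀ i ∈ Finset.Ico (0 + 1) ℓ, ∑ b : B, ρ ((b : G) * x ^ i) v
          = ∑ c : B, ρ ((c : G)⁻¹) (ρ (x ^ i) (ρ (c : G) v)) := by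
        intro i hi
        rw [Finset.mem_Ico] at hi
        rw [hre i hi.1 hi.2 v]
        apply Finset.sum_congr rfl
        intro c _
        rw [hmul, hmul]
      rw [Finset.sum_congr rfl e, Finset.sum_comm]
    have h2 : ∀ c : B,
        ∑ i ∈ Finset.Ico (0 + 1) ℓ, ρ ((c : G)⁻¹) (ρ (x ^ i) (ρ (c : G) v)) = -v := by
      intro c
      rw [← map_sum]
      have h3 := hT (ρ (c : G) v)
      rw [Finset.range_eq_Ico, Finset.sum_eq_sum_Ico_succ_bot hℓpos] at h3
      simp only [pow_zero, map_one] at h3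
      have h4 : ∑ i ∈ Finset.Ico (0 + 1) ℓ, ρ (x ^ i) (ρ (c : G) v) = - ρ (c : G) v := by
        rw [eq_neg_iff_add_eq_zero, add_comm]; exact h3
      rw [h4, map_neg, ← hmul, inv_mul_cancel, map_one]; rfl
    rw [h1, Finset.sum_congr rfl (fun c _ => h2 c)] at h0
    rw [Finset.sum_const, Finset.card_univ, smul_neg, neg_eq_zero] at h0
    exact h0
  apply hq
  rw [Nat.card_eq_fintype_card]
  rw [← Nat.cast_smul_eq_nsmul (ZMod q)] at hmain
  rcases smul_eq_zero.mp hmain with h | h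
  · exact (ZMod.natCast_eq_zero_iff _ _).mp h
  · exact absurd h hv

end Cfsg.Agent.Lib.helper53.Hup
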