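import Mathlib
import Cfsg.Agent.Lib.helper62.ElemAbGL

set_option autoImplicit false

namespace Cfsg.Agent.Lib.helper53.Hup

theorem index_dvd_card_GL {G : Type*} [Group G] [Finite G] (r k : ℕ) [Fact r.Prime]
    (M N : Subgroup G) (hMn : M.Normal) (hNn : N.Normal) (hMN : M ≤ N)
    (hcomm : ∀ g ∈ N, ∀ h ∈ N, g * h * g⁻¹ * h⁻¹ ∈ M)
    (hexp : ∀ g ∈ N, g ^ r ∈ M)
    (hcard : Nat.card N = Nat.card M * r ^ k)
    (hinner : ∀ g : G, (∀ h ∈ N, g * h * g⁻¹ * h⁻¹ ∈ M) → g ∈ N) :
    N.index ∣ Nat.card (GL (Fin k) (ZMod r)) := by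
  classical
  haveI := hMn
  haveI := hNn
  set π : G →* G ⧸ M := QuotientGroup.mk' M with hπ
  have hπs : Function.Surjective π := QuotientGroup.mk'_surjective M
  set A : Subgroup (G ⧸ M) := N.map π with hA
  haveI hAn : A.Normal := Subgroup.Normal.map hNn π hπs
  have hAcomm : ∀ x ∈ A, ∀ y ∈ A, x * y = y * x := by
    rintro _ ⟨g, hg, rfl⟩ _ ⟨h, hh, rfl⟩
    have h1 := hcomm g hg h hh
    have h2 : π (g * h * g⁻¹ * h⁻¹) = 1 := by
      rw [hπ, QuotientGroup.mk'_apply, QuotientGroup.eq_one_iff]; exact h1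
    rw [map_mul, map_mul, map_mul, map_inv, map_inv] at h2
    have h3 : π g * π h = π h * π g := by
      have := congrArg (fun t => t * π h * π g) h2
      simpa [mul_assoc] using this
    exact h3
  haveI hAc : IsMulCommutative A :=
    ⟨⟨fun x y => Subtype.ext (hAcomm x x.2 y y.2)⟩⟩
  have hAexp : ∀ x ∈ A, x ^ r = 1 := by
    rintro _ ⟨g, hg, rfl⟩
    rw [← map_pow, hπ, QuotientGroup.mk'_apply, QuotientGroup.eq_one_iff]
    exact hexp g hg
  have hAcard : Nat.card A = r ^ k := by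
    have hker : π.ker = M := QuotientGroup.ker_mk' M
    have h1 : Nat.card A = M.relIndex N := by
      have h2 := Subgroup.relIndex_map_map π (⊥ : Subgroup G) N
      rw [Subgroup.map_bot, Subgroup.relIndex_bot_left, hker, bot_sup_eq,
        sup_of_le_left hMN] at h2
      exact h2
    have h3 := Subgroup.relIndex_mul_relIndex (⊥ : Subgroup G) M N bot_le hMN
    rw [Subgroup.relIndex_bot_left, Subgroup.relIndex_bot_left, hcard] at h3
    have hM0 : 0 < Nat.card M := Nat.card_pos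
    rw [h1]
    exact Nat.eq_of_mul_eq_mul_left hM0 h3
  obtain ⟨φ, hφ⟩ := Cfsg.Agent.Lib.helper62.exists_hom_GL_ker_centralizer A r k hAexp hAcard
  have hker : (φ.comp π).ker = N := by
    ext g
    rw [MonoidHom.mem_ker, MonoidHom.comp_apply, ← MonoidHom.mem_ker, hφ,
      Subgroup.mem_centralizer_iff]
    constructor
    · intro hg
      apply hinner
      intro h hh
      have h1 := hg (π h) ⟨h, hh, rfl⟩
      rw [← QuotientGroup.eq_one_iff, ← QuotientGroup.mk'_apply, ← hπ]
      rw [map_mul, map_mul, map_mul, map_inv, map_inv, ← h1]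
      group
    · intro hg
      rintro _ ⟨h, hh, rfl⟩
      exact hAcomm _ ⟨h, hh, rfl⟩ _ ⟨g, hg, rfl⟩
  have h1 : N.index = Nat.card (φ.comp π).range := by
    rw [← hker]; exact Subgroup.index_ker _
  rw [h1]
  exact Subgroup.card_subgroup_dvd_card _

end Cfsg.Agent.Lib.helper53.Hup
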