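import Mathlib

set_option autoImplicit false

namespace Cfsg.Agent.Lib.helper53.Ito

open Finset

/-- PIECE INT (a rational matrix of finite order has integer trace). -/
theorem ito_trace_int {n : Type*} [Fintype n] [DecidableEq n] (M : Matrix n n ℚ) (k : ℕ)
    (hk : 0 < k) (hM : M ^ k = 1) : ∃ z : ℤ, M.trace = (z : ℚ) := by
  rcases isEmpty_or_nonempty n with hn | hn
  · exact ⟨0, by simp [Matrix.trace]⟩
  let f : ℚ →+* ℂ := algebraMap ℚ ℂ
  let M' : Matrix n n ℂ := f.mapMatrix M
  have hM' : M' ^ k = 1 := by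
    show f.mapMatrix M ^ k = 1
    rw [← map_pow, hM, map_one]
  have htr : M'.trace = f M.trace := by
    show (f.mapMatrix M).trace = f M.trace
    simp [Matrix.trace, map_sum]
  have hint : IsIntegral ℤ M'.trace := by
    rw [Matrix.trace_eq_sum_roots_charpoly M']
    apply IsIntegral.multiset_sum
    intro μ hμ
    have hroot : M'.charpoly.IsRoot μ :=
      (Polynomial.mem_roots (Matrix.charpoly_monic M').ne_zero).mp hμ
    have hspec : μ ∈ spectrum ℂ M' := Matrix.mem_spectrum_of_isRoot_charpoly hroot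
    have h1 : μ ^ k ∈ spectrum ℂ (M' ^ k) := spectrum.pow_mem_pow M' k hspec
    rw [hM', spectrum.one_eq] at h1
    have h2 : μ ^ k = 1 := h1
    apply IsIntegral.of_pow hk
    rw [h2]
    exact isIntegral_one
  rw [htr] at hint
  have hint' : IsIntegral ℤ M.trace :=
    (isIntegral_algebraMap_iff (algebraMap ℚ ℂ).injective).mp hint
  obtain ⟨z, hz⟩ := IsIntegrallyClosed.isIntegral_iff.mp hint'
  exact ⟨z, by rw [← hz]; simp⟩

end Cfsg.Agent.Lib.helper53.Ito
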