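import Mathlib

set_option autoImplicit false

namespace Cfsg.Agent.Lib.helper53.Ito

open Finset

section action
variable {α : Type*} [Fintype α] [DecidableEq α] {G : Type*} [Group G] [Fintype G] [MulAction G α]

/-- PIECE K (`Y g < Y 1` for `g ≠ 1`). -/
theorem ito_Y_lt [FaithfulSMul G α] (E : α → α → ℚ)
    (hsym : ∀ a b, E a b = E b a)
    (hinv : ∀ (g : G) (a b : α), E (g • a) (g • b) = E a b)
    (hidem : ∀ a b, ∑ c, E a c * E c b = E a b)
    (hdiag : ∀ a b, E a b = E a a → a = b) (g : G) (hg : g ≠ 1) :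
    ∑ a, E a (g • a) < ∑ a, E a a := by
  have key : ∀ b, ∑ a, (E a (g • b) - E a b) ^ 2 = 2 * E b b - 2 * E b (g • b) := by
    intro b
    have e1 : ∑ a, E a (g • b) * E a (g • b) = E b b := by
      rw [← hinv g b b, ← hidem (g • b) (g • b)]
      exact Finset.sum_congr rfl fun a _ => by rw [hsym a (g • b)]
    have e2 : ∑ a, E a b * E a b = E b b := by
      rw [← hidem b b]
      exact Finset.sum_congr rfl fun a _ => by rw [hsym a b]
    have e3 : ∑ a, E a (g • b) * E a b = E b (g • b) := by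
      rw [hsym b (g • b), ← hidem (g • b) b]
      exact Finset.sum_congr rfl fun a _ => by rw [hsym a (g • b)]
    calc ∑ a, (E a (g • b) - E a b) ^ 2
        = ∑ a, (E a (g • b) * E a (g • b) - 2 * (E a (g • b) * E a b) + E a b * E a b) :=
          Finset.sum_congr rfl fun a _ => by ring
      _ = ∑ a, E a (g • b) * E a (g • b) - 2 * ∑ a, E a (g • b) * E a b
            + ∑ a, E a b * E a b := by
          rw [Finset.sum_add_distrib, Finset.sum_sub_distrib, Finset.mul_sum]
      _ = 2 * E b b - 2 * E b (g • b) := by rw [e1, e2, e3]; ring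
  have tot : ∑ b, ∑ a, (E a (g • b) - E a b) ^ 2
      = 2 * ∑ b, E b b - 2 * ∑ b, E b (g • b) := by
    rw [Finset.sum_congr rfl (fun b _ => key b), Finset.sum_sub_distrib, Finset.mul_sum,
      Finset.mul_sum]
  by_contra hcon
  push Not at hcon
  have hnn : ∀ b ∈ (Finset.univ : Finset α), 0 ≤ ∑ a, (E a (g • b) - E a b) ^ 2 :=
    fun b _ => Finset.sum_nonneg fun a _ => sq_nonneg _
  have hz : ∑ b, ∑ a, (E a (g • b) - E a b) ^ 2 = 0 := by
    apply le_antisymm
    · rw [tot]; linarith
    · exact Finset.sum_nonneg hnn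
  have hz' := (Finset.sum_eq_zero_iff_of_nonneg hnn).mp hz
  apply hg
  apply FaithfulSMul.eq_of_smul_eq_smul (α := α)
  intro b
  rw [one_smul]
  have hb := hz' b (Finset.mem_univ b)
  have hb' := (Finset.sum_eq_zero_iff_of_nonneg (fun a _ => sq_nonneg _)).mp hb b
    (Finset.mem_univ b)
  have hb'' : E b (g • b) = E b b := by
    have h0 := pow_eq_zero_iff (two_ne_zero) |>.mp hb'
    linarith
  exact (hdiag b (g • b) hb'').symm

end action

end Cfsg.Agent.Lib.helper53.Ito
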