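import Mathlib

set_option autoImplicit false

namespace Cfsg.Agent.Lib.helper53.Ito

open Finset

/-- PIECE PO (the counting argument). -/
theorem ito_poly {G : Type*} [Group G] [Fintype G] (p : ℕ) (hp : 2 ≤ p) (Y : G → ℤ)
    (h1 : Y 1 = (p : ℤ) - 1) (hlt : ∀ g : G, g ≠ 1 → Y g < (p : ℤ) - 1)
    (hs1 : ∑ g, Y g = 0) (hs2 : ∑ g, Y g ^ 2 = (Fintype.card G : ℤ))
    (hs3 : (Fintype.card G : ℤ) ≤ ∑ g, Y g ^ 3)
    (S : Finset G) (h1S : (1 : G) ∉ S) (hS : ∀ g ∈ S, Y g = -1)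
    (hcard : S.card * (2 * p) = (p - 1) * Fintype.card G) :
    Fintype.card G = p * (p - 1) * (p - 2) := by
  classical
  obtain ⟨k, rfl⟩ : ∃ k, p = k + 2 := ⟨p - 2, by omega⟩
  have e1 : k + 2 - 1 = k + 1 := by omega
  have e2 : k + 2 - 2 = k := by omega
  rw [e1] at hcard
  rw [e1, e2]
  have hcard' : (S.card : ℤ) * (2 * ((k : ℤ) + 2)) = ((k : ℤ) + 1) * (Fintype.card G : ℤ) := by
    exact_mod_cast hcard
  push_cast at h1 hlt
  set n : ℤ := (Fintype.card G : ℤ) with hn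
  set P : ℤ := (k : ℤ) + 2 with hP
  let f : ℤ → ℤ := fun y => y * (y - 1) * (P - 1 - y)
  have hle : ∀ g : G, Y g ≤ P - 1 := by
    intro g
    by_cases hg : g = 1
    · rw [hg, h1]
    · exact (hlt g hg).le
  have hcons : ∀ y : ℤ, 0 ≤ y * (y - 1) := by
    intro y
    rcases le_or_gt y 0 with h | h
    · exact mul_nonneg_of_nonpos_of_nonpos h (by linarith)
    · exact mul_nonneg h.le (by linarith)
  have hf_nonneg : ∀ g : G, 0 ≤ f (Y g) := fun g =>
    mul_nonneg (hcons (Y g)) (by linarith [hle g])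
  have hsum_f : ∑ g, f (Y g) = -(∑ g, Y g ^ 3) + P * (∑ g, Y g ^ 2) - (P - 1) * (∑ g, Y g) := by
    rw [Finset.mul_sum, Finset.mul_sum, ← Finset.sum_neg_distrib, ← Finset.sum_add_distrib,
      ← Finset.sum_sub_distrib]
    refine Finset.sum_congr rfl (fun g _ => ?_)
    simp only [f]
    ring
  have hsumS : ∑ g ∈ S, f (Y g) = (S.card : ℤ) * (2 * P) := by
    rw [Finset.sum_congr rfl (fun g hg => show f (Y g) = 2 * P by
      simp only [f]; rw [hS g hg]; ring), Finset.sum_const, nsmul_eq_mul]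
  have hsplit : ∑ g ∈ S, f (Y g) + ∑ g ∈ Sᶜ, f (Y g) = ∑ g, f (Y g) :=
    Finset.sum_add_sum_compl S _
  have hcompl_nonneg : ∀ g ∈ Sᶜ, 0 ≤ f (Y g) := fun g _ => hf_nonneg g
  have hcompl : ∑ g ∈ Sᶜ, f (Y g) = 0 := by
    apply le_antisymm
    · have h5 : ∑ g, f (Y g) ≤ (P - 1) * n := by
        rw [hsum_f, hs1, hs2]
        nlinarith
      have h6 : (S.card : ℤ) * (2 * P) = (P - 1) * n := by
        rw [hcard', hP]; ring
      linarith
    · exact Finset.sum_nonneg hcompl_nonneg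
  have hzero := (Finset.sum_eq_zero_iff_of_nonneg hcompl_nonneg).mp hcompl
  -- second count
  have hd0 : ∀ g ∈ Sᶜ, g ≠ 1 → Y g ^ 2 - Y g = 0 := by
    intro g hg hg1
    have h7 : Y g * (Y g - 1) * (P - 1 - Y g) = 0 := hzero g hg
    have h8 : P - 1 - Y g ≠ 0 := by
      have := hlt g hg1
      intro h9
      linarith
    have h9 : Y g * (Y g - 1) = 0 := by
      rcases mul_eq_zero.mp h7 with h | h
      · exact h
      · exact absurd h h8
    linear_combination h9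
  have h1mem : (1 : G) ∈ Sᶜ := Finset.mem_compl.mpr h1S
  have hsumc : ∑ g ∈ Sᶜ, (Y g ^ 2 - Y g) = (P - 1) * (P - 2) := by
    rw [Finset.sum_eq_single_of_mem (1 : G) h1mem hd0, h1]
    rw [hP]; ring
  have hsumS2 : ∑ g ∈ S, (Y g ^ 2 - Y g) = 2 * (S.card : ℤ) := by
    rw [Finset.sum_congr rfl (fun g hg => show Y g ^ 2 - Y g = 2 by rw [hS g hg]; norm_num),
      Finset.sum_const, nsmul_eq_mul, mul_comm]
  have htot : ∑ g, (Y g ^ 2 - Y g) = n := by
    rw [Finset.sum_sub_distrib, hs1, hs2, sub_zero]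
  have hsplit2 : ∑ g ∈ S, (Y g ^ 2 - Y g) + ∑ g ∈ Sᶜ, (Y g ^ 2 - Y g) = ∑ g, (Y g ^ 2 - Y g) :=
    Finset.sum_add_sum_compl S _
  have hnn : n = 2 * (S.card : ℤ) + (P - 1) * (P - 2) := by
    rw [← htot, ← hsplit2, hsumS2, hsumc]
  have hfin : n = P * (P - 1) * (P - 2) := by
    have h6 : (S.card : ℤ) * (2 * P) = (P - 1) * n := by
      rw [hcard', hP]; ring
    linear_combination P * hnn + h6
  have hgoal : ((Fintype.card G : ℕ) : ℤ) = (((k + 2) * (k + 1) * k : ℕ) : ℤ) := by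
    push_cast
    rw [← hn, hfin, hP]
    ring
  exact_mod_cast hgoal

end Cfsg.Agent.Lib.helper53.Ito
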