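import Cfsg.Agent.Lib.helper53.MinOver
import Cfsg.Agent.Lib.helper53.SylowExtra

set_option autoImplicit false

namespace Cfsg.Agent.Lib.helper53

variable {H : Type*} [Group H]

local notation:max "cj[" g "] " Q:max => Subgroup.map (MulEquiv.toMonoidHom (MulAut.conj g)) Q

theorem conj_le_conj_iff {A B : Subgroup H} (h : H) : cj[h] A ≤ cj[h] B ↔ A ≤ B :=
  Subgroup.map_le_map_iff_of_injective (MulAut.conj h).injective

theorem conj_eq_self_of_normal {N : Subgroup H} (hN : N.Normal) (g : H) : cj[g] N = N :=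
  conj_eq_self_of_mem_normalizer
    (by rw [Subgroup.normalizer_eq_top_iff.mpr hN]; exact Subgroup.mem_top g)

theorem conj_eq_self_of_mem {N : Subgroup H} {g : H} (hg : g ∈ N) : cj[g] N = N :=
  conj_eq_self_of_mem_normalizer (Subgroup.le_normalizer hg)

/-- `(L, g)` is an "L-pair" for `A` relative to `M`: `L` contains `A·O_p(H)`, `A` fixes the point
`gMg⁻¹`, `L` moves it, and `A` fixes no other point of its `L`-orbit. -/
def LPair (p : ℕ) (M A L : Subgroup H) (g : H) : Prop :=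
  A ⊔ Cfsg.pCore p H ≤ L ∧ A ≤ cj[g] M ∧ ¬ L ≤ cj[g] M ∧
    ∀ y ∈ L, A ≤ cj[y * g] M → y ∈ cj[g] M

/-- L-pairs are conjugation invariant. -/
theorem LPair.conj_of {p : ℕ} {M A L : Subgroup H} {g h : H}
    (hp : LPair p M (cj[h] A) L g) : LPair p M A (cj[h⁻¹] L) (h⁻¹ * g) := by
  obtain ⟨h1, h2, h3, h4⟩ := hp
  have hQ : ∀ k : H, cj[k] (Cfsg.pCore p H) = Cfsg.pCore p H :=
    fun k => conj_eq_self_of_normal (pCore_normal p H) k
  refine ⟨?_, ?_, ?_, ?_⟩
  · rw [le_conj_iff, inv_inv, Subgroup.map_sup, hQ]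
    exact h1
  · rw [← conj_conj, le_conj_iff, inv_inv]; exact h2
  · intro hle
    apply h3
    rw [← conj_conj] at hle
    exact (conj_le_conj_iff h⁻¹).mp hle
  · intro y hy hA
    rw [mem_conj_iff, inv_inv] at hy
    have h5 : h * y * h⁻¹ ∈ cj[g] M := by
      apply h4 _ hy
      have h6 := conj_mono hA h
      rw [conj_conj] at h6
      have e : h * (y * (h⁻¹ * g)) = h * y * h⁻¹ * g := by group
      rwa [e] at h6
    rw [mem_conj_iff] at h5 ⊢
    have e : (h⁻¹ * g)⁻¹ * y * (h⁻¹ * g) = g⁻¹ * (h * y * h⁻¹) * g := by group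
    rw [e]; exact h5

section minimal

variable [Finite H] {p : ℕ} [Fact p.Prime] {M P L : Subgroup H} {g : H}

/-- The group of an L-pair is not a `p`-group. -/
theorem LPair.not_isPGroup (hP : LPair p M P L g) : ¬ IsPGroup p L := by
  intro hL
  obtain ⟨h1, h2, h3, h4⟩ := hP
  have hlt : L ⊓ cj[g] M < L :=
    lt_of_le_of_ne inf_le_left (fun h => h3 (inf_eq_left.mp h))
  obtain ⟨y, hyL, hy1, hy2⟩ := exists_mem_normalizer_not_mem hL hlt
  have hPL : P ≤ L ⊓ cj[g] M := le_inf (le_sup_left.trans h1) h2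
  have h5 : P ≤ cj[y * g] M := by
    rw [← conj_conj]
    calc P ≤ L ⊓ cj[g] M := hPL
      _ = cj[y] (L ⊓ cj[g] M) := (conj_eq_self_of_mem_normalizer hy2).symm
      _ ≤ cj[y] (cj[g] M) := conj_mono inf_le_right y
  exact hy1 (Subgroup.mem_inf.mpr ⟨hyL, h4 y hyL h5⟩)

omit [Finite H] [Fact (Nat.Prime p)] in
/-- In a minimal L-pair, every proper subgroup containing `P·O_p(H)` fixes the point. -/
theorem LPair.le_of_lt (hP : LPair p M P L g)
    (hmin : ∀ (L' : Subgroup H) (g' : H), LPair p M P L' g' → ¬ L' < L)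
    {X : Subgroup H} (hX : P ⊔ Cfsg.pCore p H ≤ X) (hXL : X < L) : X ≤ cj[g] M := by
  by_contra hne
  exact hmin X g ⟨hX, hP.2.1, hne, fun y hy => hP.2.2.2 y (hXL.le hy)⟩ hXL

omit [Finite H] in
theorem pCore_le_pCoreOf {p : ℕ} {L : Subgroup H} (h : Cfsg.pCore p H ≤ L) :
    Cfsg.pCore p H ≤ Cfsg.pCoreOf p L := by
  haveI := pCore_normal p H
  apply le_pCoreOf h _ (pCore_isPGroup p H)
  rw [Subgroup.normalizer_eq_top_iff.mpr (pCore_normal p H)]
  exact le_top

/-- In a minimal L-pair, `O_p(L)` fixes the point. -/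
theorem LPair.pCoreOf_le_conj (hPp : IsPGroup p P) (hP : LPair p M P L g)
    (hmin : ∀ (L' : Subgroup H) (g' : H), LPair p M P L' g' → ¬ L' < L) :
    Cfsg.pCoreOf p L ≤ cj[g] M := by
  have hPL : P ≤ L := le_sup_left.trans hP.1
  have hQL : Cfsg.pCore p H ≤ L := le_sup_right.trans hP.1
  have hXp : IsPGroup p (P ⊔ Cfsg.pCoreOf p L : Subgroup H) :=
    hPp.to_sup_of_normal_right' (pCoreOf_isPGroup p L) (hPL.trans (le_normalizer_pCoreOf p L))
  have hXL : P ⊔ Cfsg.pCoreOf p L ≤ L := sup_le hPL (pCoreOf_le p L)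
  rcases hXL.lt_or_eq with hlt | heq
  · exact le_sup_right.trans
      (hP.le_of_lt hmin (sup_le le_sup_left ((pCore_le_pCoreOf hQL).trans le_sup_right)) hlt)
  · exfalso
    rw [heq] at hXp
    exact hP.not_isPGroup hXp

omit [Finite H] [Fact (Nat.Prime p)] in
/-- In a minimal L-pair, proper subgroups of `L` (as a group) containing `P·O_p(H)` lie in the
point stabilizer. -/
theorem LPair.le_subgroupOf (hP : LPair p M P L g)
    (hmin : ∀ (L' : Subgroup H) (g' : H), LPair p M P L' g' → ¬ L' < L)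
    {X : Subgroup L} (hX : (P ⊔ Cfsg.pCore p H).subgroupOf L ≤ X) (hXt : X ≠ ⊤) :
    X ≤ (L ⊓ cj[g] M).subgroupOf L := by
  have h1 : P ⊔ Cfsg.pCore p H ≤ X.map L.subtype := by
    have := Subgroup.map_mono (f := L.subtype) hX
    rwa [Subgroup.map_subgroupOf_eq_of_le hP.1] at this
  have h2 : X.map L.subtype < L := by
    refine lt_of_le_of_ne (Subgroup.map_subtype_le X) (fun h => hXt ?_)
    rw [eq_top_iff]
    intro x _
    have hx : (x : H) ∈ X.map L.subtype := by rw [h]; exact x.2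
    obtain ⟨x', hx', hxx⟩ := hx
    have : x' = x := Subtype.ext hxx
    rwa [this] at hx'
  have h3 := hP.le_of_lt hmin h1 h2
  intro x hx
  rw [Subgroup.mem_subgroupOf]
  exact Subgroup.mem_inf.mpr ⟨x.2, h3 ⟨x, hx, rfl⟩⟩

/-- In a minimal L-pair, `L` is minimal over a Sylow `p`-subgroup containing `P`, with the point
stabilizer as its maximal subgroup. -/
theorem LPair.minimalOver (hPp : IsPGroup p P) (hP : LPair p M P L g)
    (hmin : ∀ (L' : Subgroup H) (g' : H), LPair p M P L' g' → ¬ L' < L) :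
    ∃ S : Sylow p L, P.subgroupOf L ≤ S ∧ Cfsg.IsMinimalOver (S : Subgroup L) ∧
      IsCoatom ((L ⊓ cj[g] M).subgroupOf L) ∧
      (S : Subgroup L) ≤ (L ⊓ cj[g] M).subgroupOf L := by
  have hPL : P ≤ L := le_sup_left.trans hP.1
  have hQL : Cfsg.pCore p H ≤ L := le_sup_right.trans hP.1
  haveI := pCore_normal p H
  have hPQp : IsPGroup p (P ⊔ Cfsg.pCore p H : Subgroup H) :=
    hPp.to_sup_of_normal_right (pCore_isPGroup p H)
  obtain ⟨S, hS'⟩ := (hPQp.comap_subtype (K := L)).exists_le_sylow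
  have hS : (P ⊔ Cfsg.pCore p H).subgroupOf L ≤ S := hS'
  have hPS : P.subgroupOf L ≤ S := fun x hx => hS (by
    rw [Subgroup.mem_subgroupOf] at hx ⊢
    exact (le_sup_left : P ≤ P ⊔ Cfsg.pCore p H) hx)
  have hSt : (S : Subgroup L) ≠ ⊤ := by
    intro h
    apply hP.not_isPGroup
    have h1 : IsPGroup p (⊤ : Subgroup L) := h ▸ S.2
    exact h1.of_equiv Subgroup.topEquiv
  have hSM : (S : Subgroup L) ≤ (L ⊓ cj[g] M).subgroupOf L := hP.le_subgroupOf hmin hS hSt
  have hMt : (L ⊓ cj[g] M).subgroupOf L ≠ ⊤ := by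
    intro h
    rw [Subgroup.subgroupOf_eq_top] at h
    exact hP.2.2.1 (h.trans inf_le_right)
  have hco : IsCoatom ((L ⊓ cj[g] M).subgroupOf L) := by
    refine ⟨hMt, fun X hX => ?_⟩
    by_contra hXt
    exact (not_le_of_gt hX) (hP.le_subgroupOf hmin (hS.trans (hSM.trans hX.le)) hXt)
  refine ⟨S, hPS, ⟨?_, (L ⊓ cj[g] M).subgroupOf L, ⟨hco, hSM⟩, ?_⟩, hco, hSM⟩
  · -- normal closure
    by_contra hne
    have hN : Subgroup.normalClosure ((S : Subgroup L) : Set L) ≤ (L ⊓ cj[g] M).subgroupOf L :=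
      hP.le_subgroupOf hmin (hS.trans Subgroup.le_normalClosure) hne
    -- pick y ∈ L outside the stabilizer
    obtain ⟨y, hyL, hyM⟩ := SetLike.not_le_iff_exists.mp hP.2.2.1
    apply hyM
    apply hP.2.2.2 y hyL
    intro a ha
    rw [mem_conj_iff]
    have h1 : (⟨a, hPL ha⟩ : L) ∈ Subgroup.normalClosure ((S : Subgroup L) : Set L) :=
      Subgroup.le_normalClosure (hPS (by rw [Subgroup.mem_subgroupOf]; exact ha))
    have h2 : (⟨y, hyL⟩ : L)⁻¹ * ⟨a, hPL ha⟩ * (⟨y, hyL⟩ : L)⁻¹⁻¹ ∈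
        Subgroup.normalClosure ((S : Subgroup L) : Set L) :=
      Subgroup.normalClosure_normal.conj_mem _ h1 _
    have h3 := hN h2
    rw [Subgroup.mem_subgroupOf] at h3
    have h4 : y⁻¹ * a * y ∈ cj[g] M := by
      have := (Subgroup.mem_inf.mp h3).2
      simpa using this
    rw [mem_conj_iff] at h4
    have e : (y * g)⁻¹ * a * (y * g) = g⁻¹ * (y⁻¹ * a * y) * g := by group
    rw [e]; exact h4
  · rintro K ⟨hK, hSK⟩
    have hKt : K ≠ ⊤ := hK.1
    have hKM := hP.le_subgroupOf hmin (hS.trans hSK) hKt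
    rcases hKM.lt_or_eq with hlt | heq
    · exact absurd (hK.2 _ hlt) hMt
    · exact heq

end minimal

section transport

variable {p : ℕ} {M L : Subgroup H} {g : H}

theorem subgroupOf_le_conj_iff {B : Subgroup H} (hBL : B ≤ L) (k : L) :
    B.subgroupOf L ≤ cj[k] ((L ⊓ cj[g] M).subgroupOf L) ↔ B ≤ cj[(k : H) * g] M := by
  constructor
  · intro h b hb
    have h1 := h (show (⟨b, hBL hb⟩ : L) ∈ B.subgroupOf L from by
      rw [Subgroup.mem_subgroupOf]; exact hb)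
    rw [mem_conj_iff, Subgroup.mem_subgroupOf] at h1
    have h2 : (k : H)⁻¹ * b * k ∈ cj[g] M := by
      have := (Subgroup.mem_inf.mp h1).2
      simpa using this
    rw [mem_conj_iff] at h2 ⊢
    have e : ((k : H) * g)⁻¹ * b * ((k : H) * g) = g⁻¹ * ((k : H)⁻¹ * b * k) * g := by group
    rw [e]; exact h2
  · intro h b hb
    rw [Subgroup.mem_subgroupOf] at hb
    rw [mem_conj_iff, Subgroup.mem_subgroupOf]
    have h1 := h hb
    rw [mem_conj_iff] at h1
    refine Subgroup.mem_inf.mpr ⟨(k⁻¹ * b * k).2, ?_⟩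
    rw [mem_conj_iff]
    have e : g⁻¹ * ((k⁻¹ * b * k : L) : H) * g = ((k : H) * g)⁻¹ * b * ((k : H) * g) := by
      simp only [Subgroup.coe_mul, Subgroup.coe_inv]; group
    rw [e]; exact h1

theorem mem_conj_subgroupOf_iff (k y : L) :
    y ∈ cj[k] ((L ⊓ cj[g] M).subgroupOf L) ↔ (y : H) ∈ cj[(k : H) * g] M := by
  rw [mem_conj_iff, Subgroup.mem_subgroupOf, mem_conj_iff]
  constructor
  · intro h
    have h2 := (Subgroup.mem_inf.mp h).2
    rw [mem_conj_iff] at h2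
    have e : ((k : H) * g)⁻¹ * y * ((k : H) * g) = g⁻¹ * ((k⁻¹ * y * k : L) : H) * g := by
      simp only [Subgroup.coe_mul, Subgroup.coe_inv]; group
    rw [e]; exact h2
  · intro h
    refine Subgroup.mem_inf.mpr ⟨(k⁻¹ * y * k).2, ?_⟩
    rw [mem_conj_iff]
    have e : g⁻¹ * ((k⁻¹ * y * k : L) : H) * g = ((k : H) * g)⁻¹ * y * ((k : H) * g) := by
      simp only [Subgroup.coe_mul, Subgroup.coe_inv]; group
    rw [e]; exact h

/-- An L-pair inside the subgroup `L` (relative to its point stabilizer) is an L-pair in `H`. -/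
theorem LPair.of_subgroup {A : Subgroup H} (hQL : Cfsg.pCore p H ≤ L) (hAL : A ≤ L)
    {L' : Subgroup L} {l : L}
    (h : LPair p ((L ⊓ cj[g] M).subgroupOf L) (A.subgroupOf L) L' l) :
    LPair p M A (L'.map L.subtype) ((l : H) * g) := by
  obtain ⟨h1, h2, h3, h4⟩ := h
  refine ⟨?_, ?_, ?_, ?_⟩
  · apply sup_le
    · have := Subgroup.map_mono (f := L.subtype) (le_sup_left.trans h1)
      rwa [Subgroup.map_subgroupOf_eq_of_le hAL] at this
    · exact (pCore_le_pCoreOf hQL).trans (Subgroup.map_mono (le_sup_right.trans h1))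
  · exact (subgroupOf_le_conj_iff hAL l).mp h2
  · intro hle
    apply h3
    have h5 := (subgroupOf_le_conj_iff (g := g) (M := M) (Subgroup.map_subtype_le L') l).mpr hle
    have e : (L'.map L.subtype).subgroupOf L = L' :=
      Subgroup.comap_map_eq_self_of_injective L.subtype_injective _
    rwa [e] at h5
  · rintro _ ⟨y, hy, rfl⟩ hA
    have h5 : A.subgroupOf L ≤ cj[y * l] ((L ⊓ cj[g] M).subgroupOf L) := by
      rw [subgroupOf_le_conj_iff hAL]
      have e : ((y * l : L) : H) * g = L.subtype y * ((l : H) * g) := by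
        simp [mul_assoc]
      rw [e]; exact hA
    exact (mem_conj_subgroupOf_iff l y).mp (h4 y hy h5)

end transport

/-- The L-Lemma follows from the existence of an L-pair. -/
theorem lLemma_of_lpair [Finite H] {p : ℕ} [Fact p.Prime] {M A : Subgroup H} (hAp : IsPGroup p A)
    (h : ∃ L g, LPair p M A L g) :
    ∃ L : Subgroup H, A ⊔ Cfsg.pCore p H ≤ L ∧ ∃ L₀ : Subgroup H,
      A ⊔ (Cfsg.pCoreOf p L) ≤ L₀ ∧ L₀ < L ∧
      (∀ X : Subgroup H, A ⊔ (Cfsg.pCoreOf p L) ≤ X → X < L → X ≤ L₀) ∧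
      (∃ g : H, L₀ = L ⊓ ((M : Subgroup H).map (MulAut.conj (g : H)).toMonoidHom)) ∧
      ∀ x ∈ L, x ∉ L₀ →
        (A ⊔ ((A : Subgroup H).map (MulAut.conj (x : H)).toMonoidHom)) ⊔ (Cfsg.pCoreOf p L) = L := by
  obtain ⟨L, ⟨g₀, hg₀⟩, hmin'⟩ := WellFounded.has_min (wellFounded_lt (α := Subgroup H))
    {L | ∃ g, LPair p M A L g} (by obtain ⟨L, g, h⟩ := h; exact ⟨L, g, h⟩)
  have hmin : ∀ (L' : Subgroup H) (g' : H), LPair p M A L' g' → ¬ L' < L :=
    fun L' g' h' => hmin' L' ⟨g', h'⟩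
  have hAL : A ≤ L := le_sup_left.trans hg₀.1
  have hQL : Cfsg.pCore p H ≤ L := le_sup_right.trans hg₀.1
  have hOL : Cfsg.pCoreOf p L ≤ cj[g₀] M := hg₀.pCoreOf_le_conj hAp hmin
  refine ⟨L, hg₀.1, L ⊓ cj[g₀] M, ?_, ?_, ?_, ⟨g₀, rfl⟩, ?_⟩
  · exact sup_le (le_inf hAL hg₀.2.1) (le_inf (pCoreOf_le p L) hOL)
  · exact lt_of_le_of_ne inf_le_left (fun h => hg₀.2.2.1 (inf_eq_left.mp h))
  · intro X hX hXL
    exact le_inf hXL.le (hg₀.le_of_lt hmin (sup_le (le_sup_left.trans hX)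
      ((pCore_le_pCoreOf hQL).trans (le_sup_right.trans hX))) hXL)
  · intro x hxL hx0
    by_contra hne
    have hxA : cj[x] A ≤ L := by
      rw [conj_le_iff]
      intro a ha
      exact L.mul_mem (L.mul_mem hxL (hAL ha)) (L.inv_mem hxL)
    have hle : (A ⊔ cj[x] A) ⊔ Cfsg.pCoreOf p L ≤ L := sup_le (sup_le hAL hxA) (pCoreOf_le p L)
    have hlt := lt_of_le_of_ne hle hne
    have h1 := hg₀.le_of_lt hmin (sup_le (le_sup_left.trans le_sup_left)
      ((pCore_le_pCoreOf hQL).trans le_sup_right)) hlt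
    have h2 : cj[x] A ≤ cj[g₀] M := (le_sup_right.trans le_sup_left).trans h1
    have h3 : A ≤ cj[x⁻¹ * g₀] M := by
      rw [← conj_conj, le_conj_iff, inv_inv]; exact h2
    have h4 := hg₀.2.2.2 x⁻¹ (L.inv_mem hxL) h3
    exact hx0 (Subgroup.mem_inf.mpr ⟨hxL, by simpa using (cj[g₀] M).inv_mem h4⟩)

end Cfsg.Agent.Lib.helper53
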