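import Cfsg.Agent.Lib.helper53.LLemma1

set_option autoImplicit false

namespace Cfsg.Agent.Lib.helper53

local notation:max "cj[" g "] " Q:max => Subgroup.map (MulEquiv.toMonoidHom (MulAut.conj g)) Q

section fixedGroup

variable {H : Type*} [Group H] {p : ℕ} {T : Sylow p H} {M : Subgroup H}

theorem isCoatom_conj (hM : IsCoatom M) (g : H) : IsCoatom (cj[g] M) :=
  (OrderIso.isCoatom_iff ((MulAut.conj g).mapSubgroup) M).mpr hM

/-- A conjugate of `T` lies in exactly one conjugate of `M`. -/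
theorem conjT_fix_unique (hmin : Cfsg.IsMinimalOver (T : Subgroup H)) (hM : IsCoatom M)
    (hTM : (T : Subgroup H) ≤ M) {h g : H} (hle : cj[h] (T : Subgroup H) ≤ cj[g] M) :
    cj[g] M = cj[h] M := by
  have h1 : (T : Subgroup H) ≤ cj[h⁻¹ * g] M := by
    rw [← conj_conj, le_conj_iff, inv_inv]; exact hle
  have h2 : cj[h⁻¹ * g] M = M := minOver_coatom_unique hmin hM hTM (isCoatom_conj hM _) h1
  calc cj[g] M = cj[h * (h⁻¹ * g)] M := by rw [mul_inv_cancel_left]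
    _ = cj[h] (cj[h⁻¹ * g] M) := (conj_conj _ _ _).symm
    _ = cj[h] M := by rw [h2]

variable [Finite H]

/-- A proper subgroup containing a conjugate of `T` lies in the corresponding conjugate of `M`. -/
theorem conjT_le_of_ne_top (hmin : Cfsg.IsMinimalOver (T : Subgroup H)) (hM : IsCoatom M)
    (hTM : (T : Subgroup H) ≤ M) {h : H} {X : Subgroup H} (hX : cj[h] (T : Subgroup H) ≤ X)
    (hXt : X ≠ ⊤) : X ≤ cj[h] M := by
  have h1 : (T : Subgroup H) ≤ cj[h⁻¹] X := by rw [le_conj_iff, inv_inv]; exact hX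
  have h2 : cj[h⁻¹] X ≠ ⊤ := by
    intro e
    apply hXt
    rw [eq_top_iff] at e ⊢
    intro x _
    have h3 := e (Subgroup.mem_top (h⁻¹ * x * h))
    rw [mem_conj_iff] at h3
    have e2 : h⁻¹⁻¹ * (h⁻¹ * x * h) * h⁻¹ = x := by group
    rwa [e2] at h3
  have h3 := minOver_le_of_ne_top hmin hM hTM h1 h2
  rw [le_conj_iff]; exact h3

variable [Fact p.Prime]

/-- A `p`-subgroup of a conjugate of `M` lies in a conjugate of `T` inside it. -/
theorem exists_conjT_of_le_conj {A : Subgroup H} (hAp : IsPGroup p A)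
    (hTM : (T : Subgroup H) ≤ M) {g : H} (hA : A ≤ cj[g] M) :
    ∃ h : H, A ≤ cj[h] (T : Subgroup H) ∧ cj[h] M = cj[g] M := by
  have hP₀ : ((g • T : Sylow p H) : Subgroup H) = cj[g] (T : Subgroup H) := by
    rw [Sylow.coe_subgroup_smul]; rfl
  have hP₀K : ((g • T : Sylow p H) : Subgroup H) ≤ cj[g] M := by
    rw [hP₀]; exact conj_mono hTM g
  obtain ⟨k, hk⟩ := exists_le_conj_sylow (hAp.comap_subtype (K := cj[g] M))
    ((g • T : Sylow p H).subtype hP₀K)
  refine ⟨(k : H) * g, ?_, ?_⟩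
  · intro a ha
    have h1 := hk (show (⟨a, hA ha⟩ : (cj[g] M : Subgroup H)) ∈ A.subgroupOf (cj[g] M) from by
      rw [Subgroup.mem_subgroupOf]; exact ha)
    rw [mem_conj_iff, Sylow.coe_subtype, Subgroup.mem_subgroupOf, hP₀, mem_conj_iff] at h1
    rw [mem_conj_iff]
    have e : ((k : H) * g)⁻¹ * a * ((k : H) * g) =
        g⁻¹ * ((k⁻¹ * (⟨a, hA ha⟩ : (cj[g] M : Subgroup H)) * k :
          (cj[g] M : Subgroup H)) : H) * g := by
      simp only [Subgroup.coe_mul, Subgroup.coe_inv]; group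
    rw [e]; exact h1
  · rw [← conj_conj]
    exact conj_eq_self_of_mem k.2

/-- Step 2: two counterexamples generating a `p`-group generate a subgroup lying in a unique
maximal subgroup of `H`. -/
theorem lpair_step2
    (hIH : ∀ (L : Subgroup H), L ≠ ⊤ → ∀ (S : Sylow p L), Cfsg.IsMinimalOver (S : Subgroup L) →
      ∀ (M' : Subgroup L), IsCoatom M' → (S : Subgroup L) ≤ M' → ∀ B : Subgroup L, IsPGroup p B →
      ¬ B ≤ Cfsg.pCore p L → ∃ (L' : Subgroup L) (l : L), LPair p M' B L' l)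
    {A A' : Subgroup H}
    (hA : ¬ ∃ L g, LPair p M A L g) (hA' : ¬ ∃ L g, LPair p M A' L g)
    (hPp : IsPGroup p (A ⊔ A' : Subgroup H))
    (hP : ∃ L g, LPair p M (A ⊔ A') L g) :
    ∃ g : H, A ⊔ A' ≤ cj[g] M ∧
      (∀ X : Subgroup H, (A ⊔ A') ⊔ Cfsg.pCore p H ≤ X → X ≠ ⊤ → X ≤ cj[g] M) ∧
      (∀ y : H, A ⊔ A' ≤ cj[y * g] M → y ∈ cj[g] M) := by
  obtain ⟨L, ⟨g, hg⟩, hmin'⟩ := WellFounded.has_min (wellFounded_lt (α := Subgroup H))
    {L | ∃ g, LPair p M (A ⊔ A') L g} (by obtain ⟨L, g, h⟩ := hP; exact ⟨L, g, h⟩)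
  have hmin : ∀ (L' : Subgroup H) (g' : H), LPair p M (A ⊔ A') L' g' → ¬ L' < L :=
    fun L' g' h' => hmin' L' ⟨g', h'⟩
  by_cases hLt : L = ⊤
  · refine ⟨g, hg.2.1, ?_, fun y => hg.2.2.2 y (by rw [hLt]; exact Subgroup.mem_top y)⟩
    intro X hX hXt
    exact hg.le_of_lt hmin hX (by rw [hLt]; exact lt_top_iff_ne_top.mpr hXt)
  · exfalso
    have hQL : Cfsg.pCore p H ≤ L := le_sup_right.trans hg.1
    have hPL : A ⊔ A' ≤ L := le_sup_left.trans hg.1
    obtain ⟨S, hPS, hSmin, hco, hSM⟩ := hg.minimalOver hPp hmin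
    have key : ∀ B : Subgroup H, B ≤ A ⊔ A' → (¬ ∃ L g, LPair p M B L g) →
        B ≤ Cfsg.pCoreOf p L := by
      intro B hB hBc
      by_contra hne
      have hBL : B ≤ L := hB.trans hPL
      have hBp : IsPGroup p (B.subgroupOf L) := (hPp.to_le hB).comap_subtype
      have h1 : ¬ B.subgroupOf L ≤ Cfsg.pCore p L := by
        intro hle
        apply hne
        have h2 := Subgroup.map_mono (f := L.subtype) hle
        rwa [Subgroup.map_subgroupOf_eq_of_le hBL] at h2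
      obtain ⟨L', l, hl⟩ := hIH L hLt S hSmin _ hco hSM (B.subgroupOf L) hBp h1
      exact hBc ⟨_, _, hl.of_subgroup hQL hBL⟩
    have hPO : A ⊔ A' ≤ Cfsg.pCoreOf p L := sup_le (key A le_sup_left hA) (key A' le_sup_right hA')
    have hOM : Cfsg.pCoreOf p L ≤ cj[g] M := hg.pCoreOf_le_conj hPp hmin
    apply hg.2.2.1
    intro y hy
    apply hg.2.2.2 y hy
    calc A ⊔ A' ≤ Cfsg.pCoreOf p L := hPO
      _ = cj[y] (Cfsg.pCoreOf p L) :=
        (conj_eq_self_of_mem_normalizer (le_normalizer_pCoreOf p L hy)).symm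
      _ ≤ cj[y] (cj[g] M) := conj_mono hOM y
      _ = cj[y * g] M := conj_conj _ _ _

/-- Step 3: if a maximal counterexample `A` is not normal in a conjugate `T₁` of `T` containing
it, then some `p`-subgroup `P ≥ A` normalizing `A` lies in a unique maximal subgroup. -/
theorem lpair_stepG (hmin : Cfsg.IsMinimalOver (T : Subgroup H)) (hM : IsCoatom M)
    (hTM : (T : Subgroup H) ≤ M)
    (hIH : ∀ (L : Subgroup H), L ≠ ⊤ → ∀ (S : Sylow p L), Cfsg.IsMinimalOver (S : Subgroup L) →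
      ∀ (M' : Subgroup L), IsCoatom M' → (S : Subgroup L) ≤ M' → ∀ B : Subgroup L, IsPGroup p B →
      ¬ B ≤ Cfsg.pCore p L → ∃ (L' : Subgroup L) (l : L), LPair p M' B L' l)
    {A : Subgroup H} (hA : ¬ ∃ L g, LPair p M A L g)
    (hmax : ∀ P : Subgroup H, IsPGroup p P → A < P → ∃ L g, LPair p M P L g)
    {h : H} (hAT : A ≤ cj[h] (T : Subgroup H))
    (hn : ¬ cj[h] (T : Subgroup H) ≤ Subgroup.normalizer (A : Set H)) :
    ∃ P : Subgroup H, A ≤ P ∧ P ≤ Subgroup.normalizer (A : Set H) ∧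
      (∀ X : Subgroup H, P ⊔ Cfsg.pCore p H ≤ X → X ≠ ⊤ → X ≤ cj[h] M) ∧
      (∀ g' : H, P ≤ cj[g'] M → cj[g'] M = cj[h] M) := by
  have hT₁p : IsPGroup p (cj[h] (T : Subgroup H) : Subgroup H) := isPGroup_conj T.2 h
  have hlt : cj[h] (T : Subgroup H) ⊓ Subgroup.normalizer (A : Set H) < cj[h] (T : Subgroup H) :=
    lt_of_le_of_ne inf_le_left (fun e => hn (inf_eq_left.mp e))
  obtain ⟨x, hxT, hx1, hx2⟩ := exists_mem_normalizer_not_mem hT₁p hlt
  have hxN : x ∉ Subgroup.normalizer (A : Set H) :=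
    fun hx => hx1 (Subgroup.mem_inf.mpr ⟨hxT, hx⟩)
  have hAN : A ≤ cj[h] (T : Subgroup H) ⊓ Subgroup.normalizer (A : Set H) :=
    le_inf hAT Subgroup.le_normalizer
  have hcj : cj[x] (cj[h] (T : Subgroup H) ⊓ Subgroup.normalizer (A : Set H)) =
      cj[h] (T : Subgroup H) ⊓ Subgroup.normalizer (A : Set H) :=
    conj_eq_self_of_mem_normalizer hx2
  have hA'N : cj[x] A ≤ cj[h] (T : Subgroup H) ⊓ Subgroup.normalizer (A : Set H) := by
    rw [← hcj]; exact conj_mono hAN x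
  have hA'A : ¬ cj[x] A ≤ A := fun hle => hxN (mem_normalizer_of_conj_le hle)
  have hA' : ¬ ∃ L g, LPair p M (cj[x] A) L g := by
    rintro ⟨L, g, hL⟩
    exact hA ⟨_, _, hL.conj_of⟩
  have hPT : A ⊔ cj[x] A ≤ cj[h] (T : Subgroup H) := sup_le hAT (hA'N.trans inf_le_left)
  have hPp : IsPGroup p (A ⊔ cj[x] A : Subgroup H) := hT₁p.to_le hPT
  have hAP : A < A ⊔ cj[x] A :=
    lt_of_le_of_ne le_sup_left (fun e => hA'A (le_sup_right.trans e.ge))
  obtain ⟨gP, h1, h2, h3⟩ := lpair_step2 hIH hA hA' hPp (hmax _ hPp hAP)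
  have hQT : Cfsg.pCore p H ≤ cj[h] (T : Subgroup H) := by
    have h4 := conj_mono (pCore_le_sylow T) h
    rwa [conj_eq_self_of_normal (pCore_normal p H)] at h4
  have hT₁t : cj[h] (T : Subgroup H) ≠ ⊤ := by
    intro e
    have h4 : cj[h] (T : Subgroup H) ≤ cj[h] M := conj_mono hTM h
    rw [e] at h4
    exact (isCoatom_conj hM h).1 (top_le_iff.mp h4)
  have hT₁g : cj[h] (T : Subgroup H) ≤ cj[gP] M := h2 _ (sup_le hPT hQT) hT₁t
  have hgP : cj[gP] M = cj[h] M := conjT_fix_unique hmin hM hTM hT₁g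
  refine ⟨A ⊔ cj[x] A, le_sup_left, sup_le Subgroup.le_normalizer (hA'N.trans inf_le_right),
    ?_, ?_⟩
  · intro X hX hXt; rw [← hgP]; exact h2 X hX hXt
  · intro g' hg'
    have h4 := h3 (g' * gP⁻¹) (by rwa [inv_mul_cancel_right])
    calc cj[g'] M = cj[(g' * gP⁻¹) * gP] M := by rw [inv_mul_cancel_right]
      _ = cj[g' * gP⁻¹] (cj[gP] M) := (conj_conj _ _ _).symm
      _ = cj[gP] M := conj_eq_self_of_mem h4
      _ = cj[h] M := hgP

/-- Step 4: a maximal counterexample `A` is normal in one of any two conjugates of `T`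
containing it and fixing different points. -/
theorem lpair_step4 (hmin : Cfsg.IsMinimalOver (T : Subgroup H)) (hM : IsCoatom M)
    (hTM : (T : Subgroup H) ≤ M)
    (hIH : ∀ (L : Subgroup H), L ≠ ⊤ → ∀ (S : Sylow p L), Cfsg.IsMinimalOver (S : Subgroup L) →
      ∀ (M' : Subgroup L), IsCoatom M' → (S : Subgroup L) ≤ M' → ∀ B : Subgroup L, IsPGroup p B →
      ¬ B ≤ Cfsg.pCore p L → ∃ (L' : Subgroup L) (l : L), LPair p M' B L' l)
    {A : Subgroup H} (hAp : IsPGroup p A) (hAQ : ¬ A ≤ Cfsg.pCore p H)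
    (hA : ¬ ∃ L g, LPair p M A L g)
    (hmax : ∀ P : Subgroup H, IsPGroup p P → A < P → ∃ L g, LPair p M P L g)
    {h₁ h₂ : H} (hA1 : A ≤ cj[h₁] (T : Subgroup H)) (hA2 : A ≤ cj[h₂] (T : Subgroup H))
    (hne : cj[h₁] M ≠ cj[h₂] M) :
    cj[h₁] (T : Subgroup H) ≤ Subgroup.normalizer (A : Set H) ∨
      cj[h₂] (T : Subgroup H) ≤ Subgroup.normalizer (A : Set H) := by
  by_contra hcon
  rw [not_or] at hcon
  obtain ⟨P₁, hAP₁, hP₁N, hP₁X, hP₁u⟩ := lpair_stepG hmin hM hTM hIH hA hmax hA1 hcon.1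
  obtain ⟨P₂, hAP₂, hP₂N, hP₂X, hP₂u⟩ := lpair_stepG hmin hM hTM hIH hA hmax hA2 hcon.2
  haveI := pCore_normal p H
  have hNle : Subgroup.normalizer (A : Set H) ≤
      Subgroup.normalizer ((A ⊔ Cfsg.pCore p H : Subgroup H) : Set H) := by
    intro x hx
    apply mem_normalizer_of_conj_eq_self
    rw [Subgroup.map_sup, conj_eq_self_of_mem_normalizer hx,
      conj_eq_self_of_normal (pCore_normal p H)]
  have hQN : Cfsg.pCore p H ≤ Subgroup.normalizer ((A ⊔ Cfsg.pCore p H : Subgroup H) : Set H) :=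
    le_sup_right.trans Subgroup.le_normalizer
  by_cases ht : Subgroup.normalizer ((A ⊔ Cfsg.pCore p H : Subgroup H) : Set H) = ⊤
  · apply hAQ
    have hn : (A ⊔ Cfsg.pCore p H).Normal := Subgroup.normalizer_eq_top_iff.mp ht
    exact le_sup_left.trans (le_pCore hn (hAp.to_sup_of_normal_right (pCore_isPGroup p H)))
  · have h1 := hP₁X _ (sup_le (hP₁N.trans hNle) hQN) ht
    have h2 := hP₂u h₁ ((hP₂N.trans hNle).trans h1)
    exact hne h2

/-- Step 5: a maximal counterexample cannot be normal in a conjugate of `T` while fixing a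
second point. -/
theorem lpair_step5 (hmin : Cfsg.IsMinimalOver (T : Subgroup H)) (hM : IsCoatom M)
    (hTM : (T : Subgroup H) ≤ M)
    (hIH : ∀ (L : Subgroup H), L ≠ ⊤ → ∀ (S : Sylow p L), Cfsg.IsMinimalOver (S : Subgroup L) →
      ∀ (M' : Subgroup L), IsCoatom M' → (S : Subgroup L) ≤ M' → ∀ B : Subgroup L, IsPGroup p B →
      ¬ B ≤ Cfsg.pCore p L → ∃ (L' : Subgroup L) (l : L), LPair p M' B L' l)
    {A : Subgroup H} (hAp : IsPGroup p A) (hAQ : ¬ A ≤ Cfsg.pCore p H)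
    (hA : ¬ ∃ L g, LPair p M A L g)
    (hmax : ∀ P : Subgroup H, IsPGroup p P → A < P → ∃ L g, LPair p M P L g)
    {h₁ h₂ : H} (hN1 : cj[h₁] (T : Subgroup H) ≤ Subgroup.normalizer (A : Set H))
    (hA2 : A ≤ cj[h₂] (T : Subgroup H)) (hne : cj[h₁] M ≠ cj[h₂] M) : False := by
  have hNt : Subgroup.normalizer (A : Set H) ≠ ⊤ :=
    fun e => hAQ (le_pCore (Subgroup.normalizer_eq_top_iff.mp e) hAp)
  have hNM : Subgroup.normalizer (A : Set H) ≤ cj[h₁] M :=
    conjT_le_of_ne_top hmin hM hTM hN1 hNt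
  have hnle : ¬ cj[h₁] (T : Subgroup H) ≤ cj[h₂] M :=
    fun hle => hne (conjT_fix_unique hmin hM hTM hle).symm
  obtain ⟨t, htT, htM⟩ := SetLike.not_le_iff_exists.mp hnle
  have htN : t ∈ Subgroup.normalizer (A : Set H) := hN1 htT
  have hA3 : A ≤ cj[t * h₂] (T : Subgroup H) := by
    rw [← conj_conj]
    calc A = cj[t] A := (conj_eq_self_of_mem_normalizer htN).symm
      _ ≤ cj[t] (cj[h₂] (T : Subgroup H)) := conj_mono hA2 t
  have hne23 : cj[h₂] M ≠ cj[t * h₂] M := by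
    intro e
    rw [← conj_conj] at e
    have h1 : t ∈ Subgroup.normalizer ((cj[h₂] M : Subgroup H) : Set H) :=
      mem_normalizer_of_conj_eq_self e.symm
    rw [normalizer_conj, minOver_normalizer_coatom hmin hM hTM] at h1
    exact htM h1
  rcases lpair_step4 hmin hM hTM hIH hAp hAQ hA hmax hA2 hA3 hne23 with h | h
  · exact hne (conjT_fix_unique hmin hM hTM (h.trans hNM))
  · have e1 : cj[h₁] M = cj[t * h₂] M := conjT_fix_unique hmin hM hTM (h.trans hNM)
    have htM1 : t ∈ cj[h₁] M := hNM htN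
    have e2 : cj[t] (cj[h₁] M) = cj[h₁] M := conj_eq_self_of_mem htM1
    rw [← conj_conj] at e1
    have e3 : cj[t] (cj[h₁] M) = cj[t] (cj[h₂] M) := e2.trans e1
    exact hne (Subgroup.map_injective (MulAut.conj t).injective e3)

end fixedGroup

universe u

/-- Existence of L-pairs, by induction on the order of the group. -/
theorem exists_lpair_aux : ∀ (n : ℕ) (H : Type u) [Group H] [Finite H], Nat.card H = n →
    ∀ (p : ℕ) [Fact p.Prime] (T : Sylow p H), Cfsg.IsMinimalOver (T : Subgroup H) →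
    ∀ (M : Subgroup H), IsCoatom M → (T : Subgroup H) ≤ M →
    ∀ (A : Subgroup H), IsPGroup p A → ¬ A ≤ Cfsg.pCore p H → ∃ L g, LPair p M A L g := by
  intro n
  induction n using Nat.strong_induction_on with
  | _ n ih =>
  intro H _ _ hn p _ T hmin M hM hTM
  have hIH : ∀ (L : Subgroup H), L ≠ ⊤ → ∀ (S : Sylow p L), Cfsg.IsMinimalOver (S : Subgroup L) →
      ∀ (M' : Subgroup L), IsCoatom M' → (S : Subgroup L) ≤ M' → ∀ B : Subgroup L, IsPGroup p B →
      ¬ B ≤ Cfsg.pCore p L → ∃ (L' : Subgroup L) (l : L), LPair p M' B L' l := by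
    intro L hL S hS M' hM' hSM' B hB hBQ
    have hlt : Nat.card L < n := by
      rw [← hn]
      exact lt_of_le_of_ne (Subgroup.card_le_card_group L)
        (fun h => hL (Subgroup.eq_top_of_card_eq L h))
    exact ih (Nat.card L) hlt L rfl p S hS M' hM' hSM' B hB hBQ
  intro A₀ hA₀p hA₀Q
  by_contra hA₀
  obtain ⟨A, ⟨hAp, hAQ, hA⟩, hAmax'⟩ := WellFounded.has_min (wellFounded_gt (α := Subgroup H))
    {A | IsPGroup p A ∧ ¬ A ≤ Cfsg.pCore p H ∧ ¬ ∃ L g, LPair p M A L g} ⟨A₀, hA₀p, hA₀Q, hA₀⟩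
  have hmax : ∀ P : Subgroup H, IsPGroup p P → A < P → ∃ L g, LPair p M P L g := by
    intro P hPp hAP
    by_contra hP
    exact hAmax' P ⟨hPp, fun hle => hAQ (hAP.le.trans hle), hP⟩ hAP
  obtain ⟨k, hk⟩ := exists_le_conj_sylow hAp T
  have hA1 : A ≤ cj[k] M := hk.trans (conj_mono hTM k)
  have h2 : ∃ g₂ : H, A ≤ cj[g₂] M ∧ cj[g₂] M ≠ cj[k] M := by
    by_contra hno'
    have hno : ∀ g₂ : H, A ≤ cj[g₂] M → cj[g₂] M = cj[k] M :=
      fun g₂ h => by_contra (fun hne => hno' ⟨g₂, h, hne⟩)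
    apply hA
    refine ⟨⊤, k, le_top, hA1, ?_, ?_⟩
    · intro hle; exact (isCoatom_conj hM k).1 (top_le_iff.mp hle)
    · intro y _ hy
      have e := hno (y * k) hy
      rw [← conj_conj] at e
      have h1 : y ∈ Subgroup.normalizer ((cj[k] M : Subgroup H) : Set H) :=
        mem_normalizer_of_conj_eq_self e
      rw [normalizer_conj, minOver_normalizer_coatom hmin hM hTM] at h1
      exact h1
  obtain ⟨g₂, hA2, hne⟩ := h2
  obtain ⟨h₂, hAh₂, hMh₂⟩ := exists_conjT_of_le_conj hAp hTM hA2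
  have hne' : cj[k] M ≠ cj[h₂] M := by rw [hMh₂]; exact hne.symm
  rcases lpair_step4 hmin hM hTM hIH hAp hAQ hA hmax hk hAh₂ hne' with h | h
  · exact lpair_step5 hmin hM hTM hIH hAp hAQ hA hmax h hAh₂ hne'
  · exact lpair_step5 hmin hM hTM hIH hAp hAQ hA hmax h hk hne'.symm

end Cfsg.Agent.Lib.helper53
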