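import Mathlib
import Cfsg.Agent.Lib.helper44.LODefs

set_option autoImplicit false

namespace Cfsg.Agent.Lib.helper44.LO

/-- `p ∤ q ^ d - 1` when `p ∣ q`, `q ≥ 1`, `d ≥ 1`. -/
theorem helper53_lo_ndvd {p q : ℕ} (hp : p.Prime) (hpq : p ∣ q) (hq : 1 ≤ q) (d : ℕ) (hd : 1 ≤ d) :
    ¬ p ∣ q ^ d - 1 := by
  intro h
  have h1 : p ∣ q ^ d := dvd_pow hpq (by omega)
  have h2 : 1 ≤ q ^ d := Nat.one_le_pow _ _ hq
  have h3 : p ∣ q ^ d - (q ^ d - 1) := Nat.dvd_sub h1 h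
  have h4 : q ^ d - (q ^ d - 1) = 1 := by omega
  rw [h4] at h3
  exact hp.one_lt.ne' (Nat.dvd_one.mp h3)

/-- `q ^ d - 1 < q ^ d`. -/
theorem helper53_lo_lt {q : ℕ} (hq : 1 ≤ q) (d : ℕ) : q ^ d - 1 < q ^ d :=
  Nat.sub_lt (Nat.one_le_pow _ _ hq) one_pos

/-- G2 core: the order formula `q^6 (q^2 - 1)(q^6 - 1)` with `q = p^f` is `LOGood`, given the ARITH
statement `lo_good` as a hypothesis. -/
theorem helper53_lo_g2_core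
    (hG : ∀ {p : ℕ} (_ : p.Prime) (f : ℕ) (_ : 1 ≤ f) (c n N M e : ℕ)
      (_ : c * n = (p ^ f) ^ N * M) (_ : ¬ p ∣ c) (_ : ¬ p ∣ M) (_ : M < c * (p ^ f) ^ e)
      (_ : e ≤ 2 * N) (_ : 3 * e ≤ 5 * N), LOGood p n)
    {p : ℕ} (hp : p.Prime) (f : ℕ) (hf : 1 ≤ f) (n : ℕ)
    (hn : n = (p ^ f) ^ 6 * ((p ^ f) ^ 2 - 1) * ((p ^ f) ^ 6 - 1)) : LOGood p n := by
  have hpq : p ∣ p ^ f := dvd_pow_self p (by omega)
  have hq : 1 ≤ p ^ f := Nat.one_le_pow _ _ hp.pos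
  refine hG hp f hf 1 n 6 (((p ^ f) ^ 2 - 1) * ((p ^ f) ^ 6 - 1)) 8 ?_ ?_ ?_ ?_ (by norm_num)
    (by norm_num)
  · rw [hn]; ring
  · exact hp.one_lt.ne' ∘ Nat.dvd_one.mp
  · intro h
    rcases (Nat.Prime.dvd_mul hp).mp h with h | h
    · exact helper53_lo_ndvd hp hpq hq 2 (by norm_num) h
    · exact helper53_lo_ndvd hp hpq hq 6 (by norm_num) h
  · have h1 := helper53_lo_lt hq 2
    have h2 := helper53_lo_lt hq 6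
    calc ((p ^ f) ^ 2 - 1) * ((p ^ f) ^ 6 - 1) < (p ^ f) ^ 2 * (p ^ f) ^ 6 :=
          Nat.mul_lt_mul'' h1 h2
      _ = 1 * (p ^ f) ^ 8 := by ring

end Cfsg.Agent.Lib.helper44.LO
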