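import Cfsg.Prelude.Def_LocalStructure
import Cfsg.Agent.Lib.helper53.Large2

set_option autoImplicit false

namespace Cfsg.Agent.Lib.helper53

open scoped commutatorElement Pointwise

variable {H : Type*} [Group H]

/-- If the large `p`-subgroup `Q` normalizes the nontrivial `p`-subgroup `Y`, then `C(Y)`
normalizes `Q`. -/
theorem large_centralizer_le_normalizer [Finite H] {p : ℕ} [Fact p.Prime] {Q : Subgroup H}
    (hQp : IsPGroup p Q) (hL : Cfsg.IsLarge Q) {Y : Subgroup H} (hYp : IsPGroup p Y)
    (hY1 : Y ≠ ⊥) (hQY : Q ≤ Subgroup.normalizer (Y : Set H)) :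
    Subgroup.centralizer (Y : Set H) ≤ Subgroup.normalizer (Q : Set H) := by
  have h1 := inf_centralizer_ne_bot_of_le_normalizer hQp hYp hQY hY1
  have h2 := hL.2 _ inf_le_right h1
  have h3 : Subgroup.centralizer (Y : Set H) ≤
      Subgroup.centralizer ((Y ⊓ Subgroup.centralizer (Q : Set H) : Subgroup H) : Set H) :=
    Subgroup.centralizer_le inf_le_left
  exact (h3.trans (Subgroup.centralizer_le_normalizer _)).trans h2

theorem weakClosure_le (Q L : Subgroup H) : Cfsg.weakClosure Q L ≤ L := by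
  unfold Cfsg.weakClosure
  apply iSup_le
  rintro ⟨g, hg⟩
  exact hg

theorem conj_le_weakClosure {Q L : Subgroup H} {g : H}
    (hg : Q.map (MulAut.conj g).toMonoidHom ≤ L) :
    Q.map (MulAut.conj g).toMonoidHom ≤ Cfsg.weakClosure Q L :=
  le_iSup (fun g : {g : H // Q.map (MulAut.conj g).toMonoidHom ≤ L} =>
    Q.map (MulAut.conj (g : H)).toMonoidHom) ⟨g, hg⟩

theorem le_weakClosure {Q L : Subgroup H} (hQL : Q ≤ L) : Q ≤ Cfsg.weakClosure Q L := by
  have h1 : Q.map (MulAut.conj (1 : H)).toMonoidHom ≤ L := by rw [conj_one]; exact hQL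
  have h2 := conj_le_weakClosure h1
  rwa [conj_one] at h2

/-- S2843: weak closure of a large subgroup in `L` and in `L C_H(Y)`. -/
theorem large_weakClosure_centralizer [Finite H] {p : ℕ} [Fact p.Prime] {Q : Subgroup H}
    (hQp : IsPGroup p Q) (hQ1 : Q ≠ ⊥) (hL : Cfsg.IsLarge Q) {L : Subgroup H} (hQL : Q ≤ L)
    {Y : Subgroup H} (hYp : IsPGroup p Y) (hY1 : Y ≠ ⊥)
    (hLY : L ≤ Subgroup.normalizer (Y : Set H)) :
    Cfsg.weakClosure Q L = Cfsg.weakClosure Q (L ⊔ Subgroup.centralizer (Y : Set H)) ∧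
    ⁅Cfsg.weakClosure Q L, Subgroup.centralizer (Y : Set H)⁆ ≤
      Cfsg.pCoreOf p (Cfsg.weakClosure Q L) ∧
    Subgroup.centralizer (Y : Set H) ≤
      Subgroup.normalizer ((Cfsg.weakClosure Q L : Subgroup H) : Set H) := by
  have hwc := large_wc hQp hQ1 hL
  have hLC : L ≤ Subgroup.normalizer ((Subgroup.centralizer (Y : Set H) : Subgroup H) : Set H) :=
    hLY.trans (normalizer_le_normalizer_centralizer53 Y)
  have hC : ∀ g : H, Q.map (MulAut.conj g).toMonoidHom ≤ L →
      Subgroup.centralizer (Y : Set H) ≤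
        Subgroup.normalizer ((Q.map (MulAut.conj g).toMonoidHom : Subgroup H) : Set H) :=
    fun g hg => large_centralizer_le_normalizer (isPGroup_conj hQp g) (large_conj hL g) hYp hY1
      (hg.trans hLY)
  have hCQ : Subgroup.centralizer (Y : Set H) ≤ Subgroup.normalizer (Q : Set H) :=
    large_centralizer_le_normalizer hQp hL hYp hY1 (hQL.trans hLY)
  have h3 : Subgroup.centralizer (Y : Set H) ≤
      Subgroup.normalizer ((Cfsg.weakClosure Q L : Subgroup H) : Set H) := by
    intro c hc
    apply mem_normalizer_of_conj_eq_self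
    unfold Cfsg.weakClosure
    rw [Subgroup.map_iSup]
    congr 1
    funext g
    exact conj_eq_self_of_mem_normalizer (hC g.1 g.2 hc)
  refine ⟨?_, ?_, h3⟩
  · apply le_antisymm
    · apply iSup_le
      rintro ⟨g, hg⟩
      exact conj_le_weakClosure (hg.trans le_sup_left)
    · apply iSup_le
      rintro ⟨g, hg⟩
      obtain ⟨k, hk, e⟩ := wc_conj_in hQp hwc (hQL.trans le_sup_left) hg
      rw [sup_comm, mem_sup_of_le_normalizer' hLC] at hk
      obtain ⟨l, hl, c, hc, rfl⟩ := hk
      change Q.map (MulAut.conj g).toMonoidHom ≤ _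
      rw [e, ← conj_conj, conj_eq_self_of_mem_normalizer (hCQ hc)]
      apply conj_le_weakClosure
      rw [conj_le_iff]
      intro x hx
      exact L.mul_mem (L.mul_mem hl (hQL hx)) (L.inv_mem hl)
  · have hLcL := weakClosure_le Q L
    have hLcX : Cfsg.weakClosure Q L ≤ Subgroup.normalizer
        ((Subgroup.centralizer (Y : Set H) ⊓ Cfsg.weakClosure Q L : Subgroup H) : Set H) :=
      (le_inf (hLcL.trans hLC) Subgroup.le_normalizer).trans (normalizer_inf_le53 _ _)
    have hXle : Cfsg.pCoreOf p (Subgroup.centralizer (Y : Set H) ⊓ Cfsg.weakClosure Q L) ≤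
        Cfsg.pCoreOf p (Cfsg.weakClosure Q L) := by
      apply le_pCoreOf ((pCoreOf_le p _).trans inf_le_right) _ (pCoreOf_isPGroup p _)
      exact hLcX.trans (normalizer_le_normalizer_pCoreOf p _)
    refine le_trans ?_ hXle
    unfold Cfsg.weakClosure
    apply iSup_commutator_le
    · rintro ⟨g, hg⟩
      exact ((conj_le_weakClosure hg).trans hLcX).trans (normalizer_le_normalizer_pCoreOf p _)
    · rintro ⟨g, hg⟩
      have h5 : ⁅Q.map (MulAut.conj g).toMonoidHom, Subgroup.centralizer (Y : Set H)⁆ ≤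
          Q.map (MulAut.conj g).toMonoidHom ⊓ Subgroup.centralizer (Y : Set H) :=
        commutator_le_inf_of_le_normalizer (hC g hg) (hg.trans hLC)
      refine h5.trans ?_
      apply le_pCoreOf
      · exact le_inf inf_le_right (inf_le_left.trans (conj_le_weakClosure hg))
      · refine le_trans ?_ (normalizer_inf_le53 _ _)
        exact le_inf (inf_le_left.trans (hC g hg)) (inf_le_left.trans Subgroup.le_normalizer)
      · exact (isPGroup_conj hQp g).to_le inf_le_left

end Cfsg.Agent.Lib.helper53
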