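import Cfsg.Prelude.Def_LocalStructure
import Cfsg.Prelude.Def_CaseTheorems
import Cfsg.Agent.Lib.helper53.Large3
import Cfsg.Agent.Lib.helper53.FrakH3
import Cfsg.Agent.Lib.helper53.CharP
import Cfsg.Agent.Lib.helper53.Quot
import Cfsg.Agent.Lib.helper52.QSResidual
import Cfsg.Agent.Lib.helper52.SubnPRed
import Cfsg.Agent.Lib.helper40.Comp

set_option autoImplicit false

namespace Cfsg.Agent.Lib.helper53

open Cfsg

/-! ### A quasisimple normal subgroup of `p`-power index in a group with trivial `p`-core -/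

section AbstractQS

variable {X : Type*} [Group X]

theorem eq_bot_of_le_centralizer_of_pCore_eq_bot [Finite X] {p : ℕ} [Fact p.Prime]
    (hO : pCore p X = ⊥) {K : Subgroup X} [hKn : K.Normal] (hres : pResidual p X ≤ K)
    {Y : Subgroup X} (hY : IsPGroup p Y) (hYc : Y ≤ Subgroup.centralizer (K : Set X)) :
    Y = ⊥ := by
  obtain ⟨S, hYS⟩ := hY.exists_le_sylow
  have hKS : K ⊔ (S : Subgroup X) = ⊤ := by
    rw [eq_top_iff, ← pResidual_sup_sylow S]
    exact sup_le_sup_right hres _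
  have hKnorm : (S : Subgroup X) ≤ Subgroup.normalizer (K : Set X) := by
    rw [Subgroup.normalizer_eq_top_iff.mpr hKn]; exact le_top
  have hN : Subgroup.normalClosure (Y : Set X) ≤ (S : Subgroup X) := by
    rw [Subgroup.normalClosure, Subgroup.closure_le]
    intro a ha
    rw [Group.mem_conjugatesOfSet_iff] at ha
    obtain ⟨b, hb, hba⟩ := ha
    rw [isConj_iff] at hba
    obtain ⟨c, rfl⟩ := hba
    have hc : c ∈ K ⊔ (S : Subgroup X) := hKS ▸ Subgroup.mem_top c
    rw [mem_sup_of_le_normalizer' hKnorm] at hc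
    obtain ⟨s, hs, k, hk, rfl⟩ := hc
    have hkb : k * b = b * k := (Subgroup.mem_centralizer_iff.mp (hYc hb)) k hk
    have h1 : s * k * b * (s * k)⁻¹ = s * b * s⁻¹ := by
      have : s * k * b * (s * k)⁻¹ = s * (k * b) * k⁻¹ * s⁻¹ := by group
      rw [this, hkb]; group
    rw [SetLike.mem_coe, h1]
    exact (S : Subgroup X).mul_mem ((S : Subgroup X).mul_mem hs (hYS hb))
      ((S : Subgroup X).inv_mem hs)
  have hNp : IsPGroup p (Subgroup.normalClosure (Y : Set X)) := S.isPGroup'.to_le hN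
  have hNbot : Subgroup.normalClosure (Y : Set X) ≤ pCore p X :=
    le_pCore Subgroup.normalClosure_normal hNp
  rw [hO] at hNbot
  exact le_bot_iff.mp (Subgroup.le_normalClosure.trans hNbot)

theorem commutator_eq_of_isQuasisimple_of_pCore_eq_bot [Finite X] {p : ℕ} [Fact p.Prime]
    (hO : pCore p X = ⊥) {K : Subgroup X} [hKn : K.Normal] (hK : IsQuasisimple ↥K)
    (hres : pResidual p X ≤ K) {Y : Subgroup X} (hY : IsPGroup p Y) (hY1 : Y ≠ ⊥) :
    ⁅K, Y⁆ = K := by
  have hperf : ⁅K, K⁆ = K := Subgroup.isPerfect_iff.mp hK.1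
  have hNK : ⁅K, Y⁆ ≤ K := Subgroup.commutator_le_left K Y
  rcases helper52.le_or_le_centralizer_of_isQuasisimple hK hNK
    (le_normalizer_commutator_left K Y) with h | h
  · exact le_antisymm hNK h
  · exfalso
    have hYc : Y ≤ Subgroup.centralizer (K : Set X) :=
      helper52.le_centralizer_of_commutator_le_centralizer hperf
        (by rwa [Subgroup.commutator_comm])
    exact hY1 (eq_bot_of_le_centralizer_of_pCore_eq_bot hO hres hY hYc)

/-- In a finite group generated by its `p'`-elements every `p`-subgroup lies in the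
commutator subgroup. -/
theorem isPGroup_le_commutator_of_pResidual_eq_top [Finite X] {p : ℕ} [hp : Fact p.Prime]
    (hres : pResidual p X = ⊤) {P : Subgroup X} (hP : IsPGroup p P) : P ≤ commutator X := by
  obtain ⟨k, m, hm, hcard⟩ := Nat.exists_eq_pow_mul_and_not_dvd
    (Nat.card_pos (α := Abelianization X)).ne' p hp.out.ne_one
  have hcop : Nat.Coprime m p := (Nat.Prime.coprime_iff_not_dvd hp.out).mpr hm |>.symm
  have aux : ∀ (y : Abelianization X) (a b : ℕ), Nat.Coprime a b → y ^ a = 1 → y ^ b = 1 →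
      y = 1 := by
    intro y a b hab ha hb
    have d1 := orderOf_dvd_of_pow_eq_one ha
    have d2 := orderOf_dvd_of_pow_eq_one hb
    have d3 := Nat.dvd_gcd d1 d2
    rw [Nat.Coprime] at hab
    rw [hab, Nat.dvd_one] at d3
    exact orderOf_eq_one_iff.mp d3
  have key : ∀ x : X, (Abelianization.of x) ^ m = 1 := by
    have h1 : pResidual p X ≤ ((powMonoidHom m).comp (Abelianization.of (G := X))).ker := by
      unfold pResidual
      rw [Subgroup.closure_le]
      intro g hg
      rw [SetLike.mem_coe, MonoidHom.mem_ker]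
      show (Abelianization.of g) ^ m = 1
      have h2 : ((Abelianization.of g) ^ m) ^ (p ^ k) = 1 := by
        rw [← pow_mul, mul_comm, ← hcard]; exact pow_card_eq_one'
      have h3 : ((Abelianization.of g) ^ m) ^ (orderOf g) = 1 := by
        rw [← pow_mul, mul_comm, pow_mul, ← map_pow, pow_orderOf_eq_one, map_one, one_pow]
      exact aux _ _ _ (Nat.Coprime.pow_right k hg) h3 h2
    intro x
    have h4 := h1 (hres ▸ Subgroup.mem_top x)
    exact h4
  intro x hx
  obtain ⟨j, hj⟩ := hP ⟨x, hx⟩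
  have hxj : x ^ (p ^ j) = 1 := by simpa using congrArg Subtype.val hj
  have h5 : (Abelianization.of x) ^ (p ^ j) = 1 := by rw [← map_pow, hxj, map_one]
  have h7 : Abelianization.of x = 1 := aux _ _ _ (Nat.Coprime.pow_right j hcop) (key x) h5
  rw [← Abelianization.ker_of]
  exact MonoidHom.mem_ker.mpr h7

end AbstractQS

/-! ### Images in `E / C_E` -/

section Bar

variable {G : Type*} [Group G]

/-- The image in `E / (C ∩ E)` of a subgroup of `G`. -/
def barSub53 (E C : Subgroup G) [(C.subgroupOf E).Normal] (A : Subgroup G) :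
    Subgroup (↥E ⧸ C.subgroupOf E) :=
  (A.subgroupOf E).map (QuotientGroup.mk' (C.subgroupOf E))

theorem subgroupOf_le_subgroupOf_iff53 {A D E : Subgroup G} (hA : A ≤ E) :
    A.subgroupOf E ≤ D.subgroupOf E ↔ A ≤ D := by
  constructor
  · intro h a ha
    have h1 : (⟨a, hA ha⟩ : ↥E) ∈ D.subgroupOf E := h (Subgroup.mem_subgroupOf.mpr ha)
    exact Subgroup.mem_subgroupOf.mp h1
  · intro h x hx
    exact Subgroup.mem_subgroupOf.mpr (h (Subgroup.mem_subgroupOf.mp hx))

theorem le_normalizer_sup53 {K A B : Subgroup G} (hA : K ≤ Subgroup.normalizer (A : Set G))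
    (hB : K ≤ Subgroup.normalizer (B : Set G)) :
    K ≤ Subgroup.normalizer ((A ⊔ B : Subgroup G) : Set G) := by
  intro k hk
  apply mem_normalizer_of_conj_eq_self
  rw [Subgroup.map_sup, conj_eq_self_of_mem_normalizer (hA hk),
    conj_eq_self_of_mem_normalizer (hB hk)]

variable {E C : Subgroup G} [hn : (C.subgroupOf E).Normal]

theorem le_normalizer_inf_of_normal_subgroupOf :
    E ≤ Subgroup.normalizer ((E ⊓ C : Subgroup G) : Set G) := by
  have h1 : ((E ⊓ C).subgroupOf E).Normal := by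
    rw [Subgroup.inf_subgroupOf_left]; exact hn
  exact (Subgroup.normal_subgroupOf_iff_le_normalizer inf_le_left).mp h1

theorem barSub53_le_iff {A B : Subgroup G} (hA : A ≤ E) (hB : B ≤ E) :
    barSub53 E C A ≤ barSub53 E C B ↔ A ≤ B ⊔ (E ⊓ C) := by
  unfold barSub53
  rw [Subgroup.map_le_iff_le_comap, comap_map_mk']
  have h1 : B.subgroupOf E ⊔ C.subgroupOf E = (B ⊔ (E ⊓ C)).subgroupOf E := by
    rw [Subgroup.subgroupOf_sup hB inf_le_left, Subgroup.inf_subgroupOf_left]
  rw [h1]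
  exact subgroupOf_le_subgroupOf_iff53 hA

theorem barSub53_commutator {A B : Subgroup G} (hA : A ≤ E) (hB : B ≤ E) :
    barSub53 E C ⁅A, B⁆ = ⁅barSub53 E C A, barSub53 E C B⁆ := by
  unfold barSub53
  rw [← Subgroup.map_commutator]
  congr 1
  have h1 : ⁅A, B⁆ = (⁅A.subgroupOf E, B.subgroupOf E⁆).map E.subtype := by
    rw [Subgroup.map_commutator, Subgroup.map_subgroupOf_eq_of_le hA,
      Subgroup.map_subgroupOf_eq_of_le hB]
  rw [h1]
  exact Subgroup.comap_map_eq_self_of_injective E.subtype_injective _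

theorem barSub53_eq_bot_iff {A : Subgroup G} (hA : A ≤ E) :
    barSub53 E C A = ⊥ ↔ A ≤ C := by
  unfold barSub53
  rw [Subgroup.map_eq_bot_iff, QuotientGroup.ker_mk']
  exact subgroupOf_le_subgroupOf_iff53 hA

theorem isPGroup_barSub53 {p : ℕ} {A : Subgroup G} (hA : IsPGroup p A) :
    IsPGroup p (barSub53 E C A) := by
  unfold barSub53
  exact (hA.comap_subtype (K := E)).map _

theorem normal_barSub53 {A : Subgroup G} (hA : A ≤ E)
    (hEA : E ≤ Subgroup.normalizer (A : Set G)) : (barSub53 E C A).Normal := by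
  have h1 : (A.subgroupOf E).Normal := (Subgroup.normal_subgroupOf_iff_le_normalizer hA).mpr hEA
  exact Subgroup.Normal.map h1 _ (QuotientGroup.mk'_surjective _)

theorem barSub53_map_pResidual (p : ℕ) (E C : Subgroup G) [(C.subgroupOf E).Normal] :
    barSub53 E C ((pResidual p ↥E).map E.subtype) =
      ((pResidual p ↥E) ⊔ C.subgroupOf E).map (QuotientGroup.mk' (C.subgroupOf E)) := by
  unfold barSub53
  have h1 : ((pResidual p ↥E).map E.subtype).subgroupOf E = pResidual p ↥E :=
    Subgroup.comap_map_eq_self_of_injective E.subtype_injective _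
  have h2 : (C.subgroupOf E).map (QuotientGroup.mk' (C.subgroupOf E)) = ⊥ := by
    rw [Subgroup.map_eq_bot_iff, QuotientGroup.ker_mk']
  rw [h1, Subgroup.map_sup, h2, sup_bot_eq]

theorem le_centralizer_of_pCore_quotient_eq_bot {p : ℕ}
    (hred : pCore p (↥E ⧸ C.subgroupOf E) = ⊥) {N : Subgroup G} (hNE : N ≤ E)
    (hN : IsPGroup p N) (hEN : E ≤ Subgroup.normalizer (N : Set G)) : N ≤ C := by
  rw [← barSub53_eq_bot_iff (C := C) hNE]
  have h1 := le_pCore (normal_barSub53 (C := C) hNE hEN) (isPGroup_barSub53 (C := C) hN)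
  rw [hred] at h1
  exact le_bot_iff.mp h1

theorem pResidual_le_barSub53 [Finite G] {p : ℕ} [Fact p.Prime] :
    pResidual p (↥E ⧸ C.subgroupOf E) ≤ barSub53 E C ((pResidual p ↥E).map E.subtype) := by
  haveI : (barSub53 E C ((pResidual p ↥E).map E.subtype)).Normal :=
    normal_barSub53 (Subgroup.map_subtype_le _) (le_normalizer_map_pResidual p E)
  obtain ⟨P⟩ : Nonempty (Sylow p ↥E) := inferInstance
  apply pResidual_le_of_sup_eq_top
    (T := (P : Subgroup ↥E).map (QuotientGroup.mk' (C.subgroupOf E))) (P.isPGroup'.map _)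
  have h1 : ((pResidual p ↥E).map E.subtype).subgroupOf E = pResidual p ↥E :=
    Subgroup.comap_map_eq_self_of_injective E.subtype_injective _
  unfold barSub53
  rw [h1, ← Subgroup.map_sup, pResidual_sup_sylow P]
  exact Subgroup.map_top_of_surjective _ (QuotientGroup.mk'_surjective _)

theorem le_commutator_sup_of_barSub53_eq [Finite G] {p : ℕ} [Fact p.Prime]
    (hred : pCore p (↥E ⧸ C.subgroupOf E) = ⊥)
    (hqs : IsQuasisimple ↥(barSub53 E C ((pResidual p ↥E).map E.subtype)))
    {A : Subgroup G} (hAE : A ≤ E)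
    (hA : barSub53 E C A = barSub53 E C ((pResidual p ↥E).map E.subtype))
    {Y : Subgroup G} (hYE : Y ≤ E) (hY : IsPGroup p Y) (hYC : ¬ Y ≤ C) :
    A ≤ ⁅A, Y⁆ ⊔ (E ⊓ C) := by
  haveI : (barSub53 E C ((pResidual p ↥E).map E.subtype)).Normal :=
    normal_barSub53 (Subgroup.map_subtype_le _) (le_normalizer_map_pResidual p E)
  have h1 := commutator_eq_of_isQuasisimple_of_pCore_eq_bot hred hqs pResidual_le_barSub53
    (isPGroup_barSub53 (E := E) (C := C) hY) (mt (barSub53_eq_bot_iff hYE).mp hYC)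
  rw [← hA, ← barSub53_commutator hAE hYE] at h1
  have hcE : ⁅A, Y⁆ ≤ E :=
    (Subgroup.commutator_mono hAE hYE).trans (commutator_le_left_of_le_normalizer Subgroup.le_normalizer)
  exact (barSub53_le_iff hAE hcE).mp h1.ge

theorem le_commutator_self_sup_of_barSub53_eq {p : ℕ}
    (hqs : IsQuasisimple ↥(barSub53 E C ((pResidual p ↥E).map E.subtype)))
    {A : Subgroup G} (hAE : A ≤ E)
    (hA : barSub53 E C A = barSub53 E C ((pResidual p ↥E).map E.subtype)) :
    A ≤ ⁅A, A⁆ ⊔ (E ⊓ C) := by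
  have hperf := Subgroup.isPerfect_iff.mp hqs.1
  rw [← hA, ← barSub53_commutator hAE hAE] at hperf
  have hcE : ⁅A, A⁆ ≤ E :=
    (Subgroup.commutator_mono hAE hAE).trans (commutator_le_left_of_le_normalizer Subgroup.le_normalizer)
  exact (barSub53_le_iff hAE hcE).mp hperf.ge

theorem isQuasisimple_quotient_of_barSub53_eq {p : ℕ}
    (hqs : IsQuasisimple ↥(barSub53 E C ((pResidual p ↥E).map E.subtype)))
    {A : Subgroup G} (hAE : A ≤ E)
    (hA : barSub53 E C A = barSub53 E C ((pResidual p ↥E).map E.subtype))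
    [hnA : (C.subgroupOf A).Normal] : IsQuasisimple (↥A ⧸ C.subgroupOf A) := by
  let φ : ↥A →* (↥E ⧸ C.subgroupOf E) :=
    (QuotientGroup.mk' (C.subgroupOf E)).comp (Subgroup.inclusion hAE)
  have hker : C.subgroupOf A = φ.ker := by
    ext a
    rw [MonoidHom.mem_ker]
    show (a : G) ∈ C ↔ (QuotientGroup.mk' (C.subgroupOf E)) (Subgroup.inclusion hAE a) = 1
    rw [QuotientGroup.mk'_apply, QuotientGroup.eq_one_iff]
    rfl
  have hrange : φ.range = barSub53 E C A := by
    ext y
    constructor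
    · rintro ⟨a, rfl⟩
      exact ⟨Subgroup.inclusion hAE a, Subgroup.mem_subgroupOf.mpr a.2, rfl⟩
    · rintro ⟨e, he, rfl⟩
      exact ⟨⟨(e : G), Subgroup.mem_subgroupOf.mp he⟩, rfl⟩
  let e₁ : ↥A ⧸ C.subgroupOf A ≃* ↥A ⧸ φ.ker := QuotientGroup.quotientMulEquivOfEq hker
  let e₂ : ↥A ⧸ φ.ker ≃* ↥φ.range := QuotientGroup.quotientKerEquivRange φ
  let e₃ : ↥φ.range ≃* ↥(barSub53 E C ((pResidual p ↥E).map E.subtype)) :=
    MulEquiv.subgroupCongr (hrange.trans hA)
  exact helper40.isQuasisimple_of_mulEquiv ((e₁.trans e₂).trans e₃).symm hqs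

end Bar

/-! ### The weak closure argument -/

section Core

variable {G : Type*} [Group G]

theorem weakClosure_le_of_forall {Q L M : Subgroup G}
    (h : ∀ g : G, Q.map (MulAut.conj g).toMonoidHom ≤ L → Q.map (MulAut.conj g).toMonoidHom ≤ M) :
    weakClosure Q L ≤ M := by
  unfold weakClosure
  exact iSup_le (fun g => h g.1 g.2)

theorem le_normalizer_weakClosure [Finite G] (Q E : Subgroup G) :
    E ≤ Subgroup.normalizer (weakClosure Q E : Set G) := by
  intro e he
  apply mem_normalizer_of_conj_le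
  rw [Subgroup.map_le_iff_le_comap]
  apply weakClosure_le_of_forall
  intro g hg
  rw [← Subgroup.map_le_iff_le_comap, conj_conj]
  apply conj_le_weakClosure
  rw [← conj_conj, conj_le_iff]
  intro x hx
  exact E.mul_mem (E.mul_mem he (hg hx)) (E.inv_mem he)

/-- Dedekind's modular law in the form used below. -/
theorem le_sup_inf_of_le_sup {A N D : Subgroup G} (hNA : N ≤ A) (h : A ≤ N ⊔ D)
    (hnorm : N ≤ Subgroup.normalizer (D : Set G)) : A ≤ N ⊔ (A ⊓ D) := by
  intro x hx
  have hx' := h hx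
  rw [sup_comm, mem_sup_of_le_normalizer hnorm] at hx'
  obtain ⟨d, hd, n, hn', rfl⟩ := hx'
  have hdA : d ∈ A := by
    have h1 : d = d * n * n⁻¹ := by group
    rw [h1]
    exact A.mul_mem hx (A.inv_mem (hNA hn'))
  exact Subgroup.mul_mem _ (Subgroup.mem_sup_right ⟨hdA, hd⟩) (Subgroup.mem_sup_left hn')

/-- A normal subgroup of `H` containing a Sylow `p`-subgroup of `H` contains every
`p`-subgroup of `H`. -/
theorem le_of_sylow_le_of_le_normalizer [Finite G] {p : ℕ} [Fact p.Prime] {H M Y : Subgroup G}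
    (P : Sylow p ↥H) (hHM : H ≤ Subgroup.normalizer (M : Set G))
    (hPM : (P : Subgroup ↥H).map H.subtype ≤ M) (hYH : Y ≤ H) (hY : IsPGroup p Y) : Y ≤ M := by
  have hY' : IsPGroup p (Y.subgroupOf H) := hY.comap_subtype (K := H)
  obtain ⟨g, hg⟩ := exists_le_conj_sylow hY' P
  intro y hy
  have h1 : (⟨y, hYH hy⟩ : ↥H) ∈ (P : Subgroup ↥H).map (MulAut.conj g).toMonoidHom :=
    hg (Subgroup.mem_subgroupOf.mpr hy)
  rw [mem_conj_iff] at h1
  have h2 : ((g⁻¹ * ⟨y, hYH hy⟩ * g : ↥H) : G) ∈ M := hPM (Subgroup.mem_map_of_mem H.subtype h1)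
  have h3 := (Subgroup.mem_normalizer_iff.mp (hHM g.2) _).mp h2
  have h4 : (g : G) * ((g⁻¹ * ⟨y, hYH hy⟩ * g : ↥H) : G) * (g : G)⁻¹ = y := by
    simp [mul_assoc]
  rwa [h4] at h3

theorem isPGroup_le_commutator_of_map_pResidual_eq [Finite G] {p : ℕ} [Fact p.Prime]
    {A P : Subgroup G} (hidem : (pResidual p ↥A).map A.subtype = A) (hPA : P ≤ A)
    (hP : IsPGroup p P) : P ≤ ⁅A, A⁆ := by
  have htop : pResidual p ↥A = ⊤ := by
    apply Subgroup.map_injective A.subtype_injective
    rw [hidem, ← MonoidHom.range_eq_map, Subgroup.range_subtype]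
  have h1 : P.subgroupOf A ≤ commutator ↥A :=
    isPGroup_le_commutator_of_pResidual_eq_top htop (hP.comap_subtype (K := A))
  have h2 : (commutator ↥A).map A.subtype = ⁅A, A⁆ := by
    rw [commutator_def, Subgroup.map_commutator, ← MonoidHom.range_eq_map, Subgroup.range_subtype]
  rw [← h2, ← Subgroup.map_subgroupOf_eq_of_le hPA]
  exact Subgroup.map_mono h1

/-- The core of the argument: `Q` a `p`-subgroup of `E`, `C` a subgroup with `C ∩ E` normal in
`E` normalizing every conjugate of `Q` in `E`, `Q ≰ C`, `O_p(E/C_E) = 1` and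
`O^p(E)C_E/C_E` quasisimple. -/
theorem weakClosure_quasisimple_core [Finite G] {p : ℕ} [Fact p.Prime] (Q E C Er : Subgroup G)
    (hEr : Er = (pResidual p ↥(weakClosure Q E)).map (weakClosure Q E).subtype)
    (hQp : IsPGroup p Q) (hQE : Q ≤ E) [hn : (C.subgroupOf E).Normal]
    (hCQ : ∀ g : G, Q.map (MulAut.conj g).toMonoidHom ≤ E →
      E ⊓ C ≤ Subgroup.normalizer ((Q.map (MulAut.conj g).toMonoidHom : Subgroup G) : Set G))
    (hQC : ¬ Q ≤ C)
    (hred : pCore p (↥E ⧸ C.subgroupOf E) = ⊥)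
    (hqs : IsQuasisimple ↥(((pResidual p ↥E) ⊔ C.subgroupOf E).map
      (QuotientGroup.mk' (C.subgroupOf E))))
    [hn2 : (C.subgroupOf Er).Normal] :
    (pResidual p ↥E).map E.subtype ⊔ (E ⊓ C) = Er ⊔ (E ⊓ C) ∧ ⁅Er, Er⁆ = Er ∧
      (pResidual p ↥Er).map Er.subtype = Er ∧ IsQuasisimple (↥Er ⧸ C.subgroupOf Er) ∧
      IsQuasisimple (↥Er ⧸ pCore p ↥Er) ∧
      ∀ Y : Subgroup G, Y ≤ E → IsPGroup p Y → ¬ Y ≤ C → ⁅Er, Y⁆ = Er := by
  -- basic facts
  have hWE : weakClosure Q E ≤ E := weakClosure_le Q E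
  have hEW : E ≤ Subgroup.normalizer (weakClosure Q E : Set G) := le_normalizer_weakClosure Q E
  have hECE : E ≤ Subgroup.normalizer ((E ⊓ C : Subgroup G) : Set G) :=
    le_normalizer_inf_of_normal_subgroupOf
  have hKE : (pResidual p ↥E).map E.subtype ≤ E := Subgroup.map_subtype_le _
  have hKidem := helper52.map_pResidual_map_pResidual p E
  have hErW : Er ≤ weakClosure Q E := by rw [hEr]; exact Subgroup.map_subtype_le _
  have hErE : Er ≤ E := hErW.trans hWE
  have hEEr : E ≤ Subgroup.normalizer (Er : Set G) := by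
    rw [hEr]; exact hEW.trans (normalizer_le_normalizer_map_pResidual p _)
  have hidem : (pResidual p ↥Er).map Er.subtype = Er := by
    subst hEr; exact helper52.map_pResidual_map_pResidual p _
  have hWsup : ∀ P : Sylow p ↥(weakClosure Q E),
      Er ⊔ (P : Subgroup ↥(weakClosure Q E)).map (weakClosure Q E).subtype = weakClosure Q E := by
    intro P; rw [hEr]; exact map_pResidual_sup_sylow _ P
  have hErK : Er ≤ (pResidual p ↥E).map E.subtype := by
    rw [hEr]; exact map_pResidual_mono hWE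
  -- R = O_p(C_E)
  have hRp : IsPGroup p (pCoreOf p (E ⊓ C)) := pCoreOf_isPGroup p _
  have hER : E ≤ Subgroup.normalizer (pCoreOf p (E ⊓ C) : Set G) :=
    hECE.trans (normalizer_le_normalizer_pCoreOf p _)
  have hWCR : ⁅weakClosure Q E, E ⊓ C⁆ ≤ pCoreOf p (E ⊓ C) := by
    unfold weakClosure
    apply iSup_commutator_le
    · rintro ⟨g, hg⟩; exact hg.trans hER
    · rintro ⟨g, hg⟩
      have h1 : ⁅Q.map (MulAut.conj g).toMonoidHom, E ⊓ C⁆ ≤
          Q.map (MulAut.conj g).toMonoidHom ⊓ (E ⊓ C) :=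
        commutator_le_inf_of_le_normalizer (hCQ g hg) (hg.trans hECE)
      exact le_pCoreOf (h1.trans inf_le_right) (le_normalizer_commutator_right _ _)
        ((isPGroup_conj hQp g).to_le (h1.trans inf_le_left))
  have hqs' : IsQuasisimple ↥(barSub53 E C ((pResidual p ↥E).map E.subtype)) := by
    rw [barSub53_map_pResidual]; exact hqs
  -- (i)
  have hKW : (pResidual p ↥E).map E.subtype ≤ weakClosure Q E ⊔ (E ⊓ C) := by
    have h1 := le_commutator_sup_of_barSub53_eq hred hqs' hKE rfl hQE hQp hQC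
    refine h1.trans (sup_le_sup_right ?_ _)
    exact (Subgroup.commutator_mono hKE (le_weakClosure hQE)).trans
      (commutator_le_right_of_le_normalizer hEW)
  have hi1 : (pResidual p ↥E).map E.subtype ≤ Er ⊔ (E ⊓ C) := by
    obtain ⟨P⟩ : Nonempty (Sylow p ↥(weakClosure Q E)) := inferInstance
    have hM : (Er ⊔ (E ⊓ C)) ⊔ (P : Subgroup ↥(weakClosure Q E)).map (weakClosure Q E).subtype =
        weakClosure Q E ⊔ (E ⊓ C) := by
      rw [sup_right_comm, hWsup P]
    have hME : weakClosure Q E ⊔ (E ⊓ C) ≤ E := sup_le hWE inf_le_left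
    have h2 := map_pResidual_le_of_sup_eq (p := p) (sup_le_sup_right hErW _)
      (hME.trans (le_normalizer_sup53 hEEr hECE)) (P.isPGroup'.map _)
      ((Subgroup.map_subtype_le _).trans le_sup_left) hM
    calc (pResidual p ↥E).map E.subtype
        = (pResidual p ↥((pResidual p ↥E).map E.subtype)).map
            ((pResidual p ↥E).map E.subtype).subtype := hKidem.symm
      _ ≤ (pResidual p ↥(weakClosure Q E ⊔ (E ⊓ C))).map
            (weakClosure Q E ⊔ (E ⊓ C)).subtype := map_pResidual_mono hKW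
      _ ≤ Er ⊔ (E ⊓ C) := h2
  have hi : (pResidual p ↥E).map E.subtype ⊔ (E ⊓ C) = Er ⊔ (E ⊓ C) :=
    le_antisymm (sup_le hi1 le_sup_right) (sup_le_sup_right hErK _)
  have hbar : barSub53 E C Er = barSub53 E C ((pResidual p ↥E).map E.subtype) :=
    le_antisymm ((barSub53_le_iff hErE hKE).mpr (hErK.trans le_sup_left))
      ((barSub53_le_iff hKE hErE).mpr hi1)
  -- R ∩ Er
  have hR0p : IsPGroup p ((pCoreOf p (E ⊓ C) ⊓ Er : Subgroup G)) := hRp.to_le inf_le_left
  have hR0n : Er ≤ Subgroup.normalizer ((pCoreOf p (E ⊓ C) ⊓ Er : Subgroup G) : Set G) :=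
    (le_inf (hErE.trans hER) Subgroup.le_normalizer).trans (normalizer_inf_le53 _ _)
  have hcomm : ⁅Er ⊓ C, weakClosure Q E⁆ ≤ pCoreOf p (E ⊓ C) ⊓ Er := by
    apply le_inf
    · rw [Subgroup.commutator_comm]
      exact (Subgroup.commutator_mono le_rfl (inf_le_inf_right C hErE)).trans hWCR
    · exact (Subgroup.commutator_mono inf_le_left le_rfl).trans
        (commutator_le_left_of_le_normalizer (hWE.trans hEEr))
  have hcomm' : ⁅Er, Er ⊓ C⁆ ≤ pCoreOf p (E ⊓ C) ⊓ Er := by
    rw [Subgroup.commutator_comm]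
    exact (Subgroup.commutator_mono le_rfl hErW).trans hcomm
  have hR0N : pCoreOf p (E ⊓ C) ⊓ Er ≤ ⁅Er, Er⁆ :=
    isPGroup_le_commutator_of_map_pResidual_eq hidem inf_le_right hR0p
  have hDle : ⁅Er, Er⁆ ≤ Er := commutator_le_left_of_le_normalizer Subgroup.le_normalizer
  -- (ii)
  have hperfE : Er ≤ ⁅Er, Er⁆ ⊔ (E ⊓ C) := le_commutator_self_sup_of_barSub53_eq hqs' hErE hbar
  have hmod : Er ≤ ⁅Er, Er⁆ ⊔ (Er ⊓ C) :=
    (le_sup_inf_of_le_sup hDle hperfE ((hDle.trans hErE).trans hECE)).trans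
      (sup_le_sup_left (inf_le_inf_left Er inf_le_right) _)
  have hNn : weakClosure Q E ≤ Subgroup.normalizer ((⁅Er, Er⁆ : Subgroup G) : Set G) :=
    fun w hw => mem_normalizer_commutator (hEEr (hWE hw)) (hEEr (hWE hw))
  have hErWc : ⁅Er, weakClosure Q E⁆ ≤ ⁅Er, Er⁆ := by
    refine (Subgroup.commutator_mono hmod le_rfl).trans ?_
    rw [Subgroup.commutator_comm]
    refine commutator_sup_le (hDle.trans hErW) (commutator_le_right_of_le_normalizer hNn) ?_
    rw [Subgroup.commutator_comm]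
    exact hcomm.trans hR0N
  have hii : ⁅Er, Er⁆ = Er := by
    apply le_antisymm hDle
    obtain ⟨P⟩ : Nonempty (Sylow p ↥(weakClosure Q E)) := inferInstance
    have hP'W : (P : Subgroup ↥(weakClosure Q E)).map (weakClosure Q E).subtype ≤ weakClosure Q E :=
      Subgroup.map_subtype_le _
    have hP'p : IsPGroup p ((P : Subgroup ↥(weakClosure Q E)).map (weakClosure Q E).subtype) :=
      P.isPGroup'.map _
    have hWM : weakClosure Q E ≤ Subgroup.normalizer
        ((⁅Er, Er⁆ ⊔ (P : Subgroup ↥(weakClosure Q E)).map (weakClosure Q E).subtype : Subgroup G) :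
          Set G) := by
      refine (hWsup P).ge.trans (sup_le ?_ ?_)
      · apply le_normalizer_of_commutator_le
        rw [Subgroup.commutator_comm]
        refine (commutator_sup_le hDle (commutator_le_right_of_le_normalizer
          (hErW.trans hNn)) ?_).trans le_sup_left
        exact (Subgroup.commutator_mono le_rfl hP'W).trans hErWc
      · exact le_normalizer_sup53 (hP'W.trans hNn) Subgroup.le_normalizer
    have hWleM : weakClosure Q E ≤
        ⁅Er, Er⁆ ⊔ (P : Subgroup ↥(weakClosure Q E)).map (weakClosure Q E).subtype := by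
      apply weakClosure_le_of_forall
      intro g hg
      exact le_of_sylow_le_of_le_normalizer P hWM le_sup_right (conj_le_weakClosure hg)
        (isPGroup_conj hQp g)
    have hMW : ⁅Er, Er⁆ ⊔ (P : Subgroup ↥(weakClosure Q E)).map (weakClosure Q E).subtype =
        weakClosure Q E := le_antisymm (sup_le (hDle.trans hErW) hP'W) hWleM
    have h5 := map_pResidual_le_of_sup_eq (p := p) (hDle.trans hErW) hNn hP'p hP'W hMW
    rw [← hEr] at h5
    exact h5
  -- (iv)
  have hiv : IsQuasisimple (↥Er ⧸ C.subgroupOf Er) :=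
    isQuasisimple_quotient_of_barSub53_eq hqs' hErE hbar
  -- (v)
  have hv : IsQuasisimple (↥Er ⧸ pCore p ↥Er) := by
    have hOC : pCore p ↥Er ≤ C.subgroupOf Er := by
      have h1 : pCoreOf p Er ≤ C :=
        le_centralizer_of_pCore_quotient_eq_bot hred ((pCoreOf_le p Er).trans hErE)
          (pCoreOf_isPGroup p Er) (hEEr.trans (normalizer_le_normalizer_pCoreOf p Er))
      intro x hx
      exact Subgroup.mem_subgroupOf.mpr (h1 (Subgroup.mem_map_of_mem Er.subtype hx))
    haveI := pCore_normal p ↥Er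
    haveI : Group.IsPerfect ↥Er := Subgroup.isPerfect_iff.mpr hii
    have hR0O : pCoreOf p (E ⊓ C) ⊓ Er ≤ pCoreOf p Er := le_pCoreOf inf_le_right hR0n hR0p
    have hle : pCore p ↥Er ≤ (C.subgroupOf Er).comap (MonoidHom.id ↥Er) := by
      rw [Subgroup.comap_id]; exact hOC
    apply helper40.isQuasisimple_of_surjective_of_ker_le_center
      (QuotientGroup.map (pCore p ↥Er) (C.subgroupOf Er) (MonoidHom.id ↥Er) hle)
    · exact QuotientGroup.map_surjective_of_surjective (pCore p ↥Er) (C.subgroupOf Er)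
        (MonoidHom.id ↥Er)
        (fun y => by
          obtain ⟨x, rfl⟩ := QuotientGroup.mk_surjective y
          exact ⟨x, rfl⟩) hle
    · rw [QuotientGroup.ker_map, Subgroup.comap_id]
      rintro _ ⟨c, hc, rfl⟩
      rw [Subgroup.mem_center_iff]
      intro y
      obtain ⟨x, rfl⟩ := QuotientGroup.mk'_surjective _ y
      rw [← map_mul, ← map_mul]
      apply QuotientGroup.eq.mpr
      rw [← pCoreOf_subgroupOf, Subgroup.mem_subgroupOf]
      apply hR0O
      apply hcomm
      have hc1 : (c : G)⁻¹ ∈ Er ⊓ C :=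
        Subgroup.inv_mem _ (Subgroup.mem_inf.mpr ⟨c.2, Subgroup.mem_subgroupOf.mp hc⟩)
      have hx1 : (x : G)⁻¹ ∈ weakClosure Q E := Subgroup.inv_mem _ (hErW x.2)
      have h3 : (((x * c)⁻¹ * (c * x) : ↥Er) : G) =
          (c : G)⁻¹ * (x : G)⁻¹ * ((c : G)⁻¹)⁻¹ * ((x : G)⁻¹)⁻¹ := by
        simp [mul_assoc]
      rw [h3]
      exact Subgroup.commutator_mem_commutator hc1 hx1
    · infer_instance
    · exact hiv
  -- (vi)
  refine ⟨hi, hii, hidem, hiv, hv, ?_⟩
  intro Y hYE hYp hYC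
  have hNle : ⁅Er, Y⁆ ≤ Er := commutator_le_left_of_le_normalizer (hYE.trans hEEr)
  apply le_antisymm hNle
  have h1 : Er ≤ ⁅Er, Y⁆ ⊔ (E ⊓ C) :=
    le_commutator_sup_of_barSub53_eq hred hqs' hErE hbar hYE hYp hYC
  have hErN : Er ≤ Subgroup.normalizer ((⁅Er, Y⁆ : Subgroup G) : Set G) :=
    le_normalizer_commutator_left Er Y
  have h2 : Er ≤ ⁅Er, Y⁆ ⊔ (Er ⊓ C) :=
    (le_sup_inf_of_le_sup hNle h1 ((hNle.trans hErE).trans hECE)).trans
      (sup_le_sup_left (inf_le_inf_left Er inf_le_right) _)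
  have h3 : Er ≤ ⁅Er, Y⁆ ⊔ (pCoreOf p (E ⊓ C) ⊓ Er) := by
    calc Er = ⁅Er, Er⁆ := hii.symm
      _ ≤ ⁅Er, ⁅Er, Y⁆ ⊔ (Er ⊓ C)⁆ := Subgroup.commutator_mono le_rfl h2
      _ ≤ ⁅Er, Y⁆ ⊔ (pCoreOf p (E ⊓ C) ⊓ Er) :=
          commutator_sup_le (sup_le hNle inf_le_right)
            ((commutator_le_right_of_le_normalizer hErN).trans le_sup_left)
            (hcomm'.trans le_sup_right)
  have h4 := map_pResidual_le_of_sup_eq (p := p) hNle hErN hR0p inf_le_right
    (le_antisymm (sup_le hNle inf_le_right) h3)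
  rw [hidem] at h4
  exact h4

end Core

end Cfsg.Agent.Lib.helper53
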