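import Mathlib

set_option autoImplicit false

namespace Cfsg.Agent.Lib.helper53

universe u

/-- **C1** (S4245 split). `p = 2`, `B ≠ 1`: a non-identity element of `B` has a conjugacy class
of `2`-power size. -/
theorem mi_case_two {G : Type u} [Group G] [Finite G] (A : Subgroup G) (B : Subgroup A) [B.Normal]
    (hB : IsCyclic B) (s r : ℕ) (hA : A.index = 2 ^ s) (hr : Nat.card (A ⧸ B) = 2 ^ r)
    (hne : B ≠ ⊥) :
    ∃ x : G, x ≠ 1 ∧ ∃ k : ℕ, (Subgroup.centralizer ({x} : Set G)).index = 2 ^ k := by
  obtain ⟨b, hb⟩ := (Subgroup.ne_bot_iff_exists_ne_one).mp hne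
  refine ⟨((b : A) : G), ?_, ?_⟩
  · intro h
    apply hb
    apply Subtype.ext
    apply Subtype.ext
    simpa using h
  · have hcomm : ∀ u v : B, u * v = v * u := by
      intro u v
      letI := IsCyclic.commGroup (α := B)
      exact mul_comm u v
    have hD : B.map A.subtype ≤ Subgroup.centralizer ({((b : A) : G)} : Set G) := by
      rintro _ ⟨a, ha, rfl⟩
      rw [Subgroup.mem_centralizer_iff]
      intro h hh
      rw [Set.mem_singleton_iff] at hh
      rw [hh]
      have h1 := hcomm b ⟨a, ha⟩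
      have h2 := congrArg (fun u : B => ((u : A) : G)) h1
      simpa using h2
    have hBi : B.index = 2 ^ r := by rw [Subgroup.index_eq_card, hr]
    have hdvd := Subgroup.index_dvd_of_le hD
    rw [Subgroup.index_map_subtype, hA, hBi, ← pow_add] at hdvd
    obtain ⟨k, -, hk⟩ := (Nat.dvd_prime_pow Nat.prime_two).mp hdvd
    exact ⟨k, hk⟩

end Cfsg.Agent.Lib.helper53
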