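import Mathlib

set_option autoImplicit false

namespace Cfsg.Agent.Lib.helper53

universe u

/-- **C5** (S4245 split). `p = 2`, `B = 1`: `G` is a `2`-group. -/
theorem mi_case_two_bot {G : Type u} [Group G] [Finite G] (A : Subgroup G) (B : Subgroup A)
    [B.Normal] (s r : ℕ) (hA : A.index = 2 ^ s) (hr : Nat.card (A ⧸ B) = 2 ^ r) (hB : B = ⊥) :
    ∃ n : ℕ, Nat.card G = 2 ^ n := by
  have h1 : Nat.card A = 2 ^ r := by
    rw [← hr, ← Subgroup.index_eq_card, hB, Subgroup.index_bot]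
  refine ⟨r + s, ?_⟩
  rw [← Subgroup.card_mul_index A, h1, hA, pow_add]

end Cfsg.Agent.Lib.helper53
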