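import Mathlib
import Cfsg.Prelude.Def_RootSubgroups
import Cfsg.Agent.Lib.helper85.McLDefs

/-!
# S5075 (McLaughlin), piece LIFT, second half (helper53)

Transvection calculus for `tsysOf K`, and: if `K = ⟨C⟩` (`C` a set of transvections) is faithful
on `[V, K]`, has the lifting property and `[V, K] ∩ C_V(K) = 0`, then `V = [V, K] + C_V(K)`.
-/

set_option autoImplicit false

open Cfsg.Agent.Lib.helper85.McL

namespace Cfsg.Agent.Lib.helper53.McL

universe u

variable {p : ℕ} [Fact p.Prime] {V : Type u} [AddCommGroup V] [Module (ZMod p) V]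

theorem h53_mem_tsys {K : Subgroup (V ≃ₗ[ZMod p] V)} {c : V} {φ : Module.Dual (ZMod p) V} :
    (c, φ) ∈ tsysOf K ↔ c ≠ 0 ∧ φ ≠ 0 ∧ φ c = 0 ∧ ∃ t ∈ K, ∀ x, t x = x + φ x • c := Iff.rfl

/-- product of two maps of transvection shape. -/
theorem h53_tv_mul {t t' : V ≃ₗ[ZMod p] V} {c c' : V} {φ φ' : Module.Dual (ZMod p) V}
    (ht : ∀ x, t x = x + φ x • c) (ht' : ∀ x, t' x = x + φ' x • c') (x : V) :
    (t * t') x = x + φ' x • c' + φ x • c + (φ' x * φ c') • c := by
  rw [LinearEquiv.mul_apply, ht' x, ht]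
  simp only [map_add, map_smul, smul_eq_mul, add_smul]
  abel

/-- powers of a transvection. -/
theorem h53_tv_pow {t : V ≃ₗ[ZMod p] V} {c : V} {φ : Module.Dual (ZMod p) V}
    (hc : φ c = 0) (ht : ∀ x, t x = x + φ x • c) (n : ℕ) (x : V) :
    (t ^ n) x = x + ((n : ZMod p) * φ x) • c := by
  induction n generalizing x with
  | zero => simp
  | succ n ih =>
    rw [pow_succ, LinearEquiv.mul_apply, ih, ht x]
    simp only [map_add, map_smul, smul_eq_mul, hc, mul_zero, add_zero, Nat.cast_succ, add_mul,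
      one_mul, add_smul]
    abel

theorem h53_smul_right {K : Subgroup (V ≃ₗ[ZMod p] V)} {c : V} {φ : Module.Dual (ZMod p) V}
    (h : (c, φ) ∈ tsysOf K) {a : ZMod p} (ha : a ≠ 0) : (c, a • φ) ∈ tsysOf K := by
  obtain ⟨hc, hφ, hφc, t, ht, htx⟩ := h53_mem_tsys.mp h
  refine h53_mem_tsys.mpr ⟨hc, smul_ne_zero ha hφ, ?_, t ^ a.val, K.pow_mem ht _, ?_⟩
  · rw [LinearMap.smul_apply, hφc, smul_zero]
  · intro x
    rw [h53_tv_pow hφc htx, ZMod.natCast_zmod_val, LinearMap.smul_apply, smul_eq_mul]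

theorem h53_smul_left {K : Subgroup (V ≃ₗ[ZMod p] V)} {c : V} {φ : Module.Dual (ZMod p) V}
    (h : (c, φ) ∈ tsysOf K) {a : ZMod p} (ha : a ≠ 0) : (a • c, φ) ∈ tsysOf K := by
  obtain ⟨hc, hφ, hφc, t, ht, htx⟩ := h53_mem_tsys.mp h
  refine h53_mem_tsys.mpr ⟨smul_ne_zero ha hc, hφ, ?_, t ^ a.val, K.pow_mem ht _, ?_⟩
  · rw [map_smul, hφc, smul_zero]
  · intro x
    rw [h53_tv_pow hφc htx, ZMod.natCast_zmod_val, smul_smul, mul_comm]

theorem h53_add_right {K : Subgroup (V ≃ₗ[ZMod p] V)} {c : V} {φ φ' : Module.Dual (ZMod p) V}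
    (h : (c, φ) ∈ tsysOf K) (h' : (c, φ') ∈ tsysOf K) (hs : φ + φ' ≠ 0) :
    (c, φ + φ') ∈ tsysOf K := by
  obtain ⟨hc, hφ, hφc, t, ht, htx⟩ := h53_mem_tsys.mp h
  obtain ⟨-, hφ', hφc', t', ht', htx'⟩ := h53_mem_tsys.mp h'
  refine h53_mem_tsys.mpr ⟨hc, hs, ?_, t * t', K.mul_mem ht ht', ?_⟩
  · rw [LinearMap.add_apply, hφc, hφc', add_zero]
  · intro x
    rw [h53_tv_mul htx htx' x, hφc, mul_zero, zero_smul, add_zero, LinearMap.add_apply, add_smul]
    abel

theorem h53_exists_ne {φ : Module.Dual (ZMod p) V} (hφ : φ ≠ 0) : ∃ v, φ v ≠ 0 := by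
  by_contra h
  push Not at h
  exact hφ (LinearMap.ext (fun v => by simpa using h v))

theorem h53_centre_mem {K : Subgroup (V ≃ₗ[ZMod p] V)} {c : V} {φ : Module.Dual (ZMod p) V}
    (h : (c, φ) ∈ tsysOf K) : c ∈ commSub K := by
  obtain ⟨hc, hφ, hφc, t, ht, htx⟩ := h53_mem_tsys.mp h
  obtain ⟨v, hv⟩ := h53_exists_ne hφ
  have h1 : φ v • c ∈ commSub K := by
    apply Submodule.subset_span
    exact ⟨t, ht, v, by rw [htx v]; abel⟩
  have h2 := (commSub K).smul_mem (φ v)⁻¹ h1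
  rwa [smul_smul, inv_mul_cancel₀ hv, one_smul] at h2

theorem h53_axis_fix {K : Subgroup (V ≃ₗ[ZMod p] V)} {c : V} {φ : Module.Dual (ZMod p) V}
    (h : (c, φ) ∈ tsysOf K) {u : V} (hu : u ∈ fixSub K) : φ u = 0 := by
  obtain ⟨hc, hφ, hφc, t, ht, htx⟩ := h53_mem_tsys.mp h
  have h1 := mem_fixSub.mp hu t ht
  rw [htx u] at h1
  have h2 : φ u • c = 0 := add_left_cancel (a := u) (by rw [h1, add_zero])
  rcases smul_eq_zero.mp h2 with h3 | h3
  · exact h3
  · exact absurd h3 hc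

theorem h53_one_absurd {c : V} {φ : Module.Dual (ZMod p) V} (hc : c ≠ 0) (hφ : φ ≠ 0)
    (h : ∀ x, (1 : V ≃ₗ[ZMod p] V) x = x + φ x • c) : False := by
  obtain ⟨v, hv⟩ := h53_exists_ne hφ
  have h1 : v = v + φ v • c := h v
  have h2 : φ v • c = 0 := add_left_cancel (a := v) (by rw [← h1, add_zero])
  rcases smul_eq_zero.mp h2 with h3 | h3
  · exact hv h3
  · exact hc h3

theorem h53_centre_not_rad {K : Subgroup (V ≃ₗ[ZMod p] V)} (hf : Faithful K) {c : V}
    {φ : Module.Dual (ZMod p) V} (h : (c, φ) ∈ tsysOf K) : c ∉ radSub K := by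
  obtain ⟨hc, hφ, hφc, t, ht, htx⟩ := h53_mem_tsys.mp h
  intro hcr
  have h1 : t = 1 := hf t ht (fun w _ => by
    rw [htx w, add_sub_cancel_left]
    exact (radSub K).smul_mem _ hcr)
  exact h53_one_absurd hc hφ (fun x => by rw [← h1]; exact htx x)

theorem h53_axis_ne {K : Subgroup (V ≃ₗ[ZMod p] V)} (hf : Faithful K) {c : V}
    {φ : Module.Dual (ZMod p) V} (h : (c, φ) ∈ tsysOf K) : ∃ u ∈ commSub K, φ u ≠ 0 := by
  obtain ⟨hc, hφ, hφc, t, ht, htx⟩ := h53_mem_tsys.mp h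
  by_contra hcon
  push Not at hcon
  have h1 : t = 1 := hf t ht (fun w hw => by
    rw [htx w, add_sub_cancel_left, hcon w hw, zero_smul]
    exact (radSub K).zero_mem)
  exact h53_one_absurd hc hφ (fun x => by rw [← h1]; exact htx x)

/-- two elements of `K` that agree on `[V, K]` modulo `W0` are equal. -/
theorem h53_faithful_eq {K : Subgroup (V ≃ₗ[ZMod p] V)} (hf : Faithful K)
    {t t' : V ≃ₗ[ZMod p] V} (ht : t ∈ K) (ht' : t' ∈ K)
    (h : ∀ w ∈ commSub K, t w - t' w ∈ radSub K) : t = t' := by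
  have hk : t'⁻¹ * t = 1 := by
    apply hf _ (K.mul_mem (K.inv_mem ht') ht)
    intro w hw
    have hu := h w hw
    have hfix : t'⁻¹ (t w - t' w) = t w - t' w :=
      mem_fixSub.mp (Submodule.mem_inf.mp hu).2 t'⁻¹ (K.inv_mem ht')
    have h1 : t'⁻¹ (t' w) = w := by
      rw [← LinearEquiv.mul_apply, inv_mul_cancel]; rfl
    have h2 : (t'⁻¹ * t) w - w = t w - t' w := by
      rw [LinearEquiv.mul_apply]
      have h3 : t'⁻¹ (t w) = t'⁻¹ (t w - t' w) + t'⁻¹ (t' w) := by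
        rw [← map_add, sub_add_cancel]
      rw [h3, hfix, h1]; abel
    rw [h2]; exact hu
  have h3 : t' * (t'⁻¹ * t) = t := mul_inv_cancel_left t' t
  rw [hk, mul_one] at h3
  exact h3.symm

/-- with `W0 = 0`, lifts have exactly the prescribed centre. -/
theorem h53_lift_exact {K : Subgroup (V ≃ₗ[ZMod p] V)} (hl : HasLift K)
    (h0 : commSub K ⊓ fixSub K = ⊥) {w : V} (hw : w ∈ commSub K) (hw0 : w ≠ 0)
    (ξ : Module.Dual (ZMod p) V) (hξ : ξ w = 0) (hne : ∃ u ∈ commSub K, ξ u ≠ 0) :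
    ∃ φ, (w, φ) ∈ tsysOf K ∧ ∀ u ∈ commSub K, φ u = ξ u := by
  have hrad : radSub K = ⊥ := h0
  obtain ⟨c, φ, t, htK, htx, hcw, hφ⟩ := hl.2 w hw (by rw [hrad]; simpa using hw0) ξ hξ
    (by intro u hu; rw [hrad] at hu; rw [(Submodule.mem_bot _).mp hu, map_zero]) hne
  rw [hrad, Submodule.mem_bot, sub_eq_zero] at hcw
  subst hcw
  refine ⟨φ, h53_mem_tsys.mpr ⟨hw0, ?_, ?_, t, htK, htx⟩, hφ⟩
  · obtain ⟨u, hu, hu'⟩ := hne
    intro h
    apply hu'
    rw [← hφ u hu, h]; rfl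
  · rw [hφ c hw]; exact hξ

/-- same centre, same restriction to `[V, K]`: same axis functional. -/
theorem h53_uniq {K : Subgroup (V ≃ₗ[ZMod p] V)} (hf : Faithful K) {c : V}
    {φ φ' : Module.Dual (ZMod p) V} (h : (c, φ) ∈ tsysOf K) (h' : (c, φ') ∈ tsysOf K)
    (hW : ∀ u ∈ commSub K, φ u = φ' u) : φ = φ' := by
  obtain ⟨hc, hφ, hφc, t, ht, htx⟩ := h53_mem_tsys.mp h
  obtain ⟨-, hφ', hφc', t', ht', htx'⟩ := h53_mem_tsys.mp h'
  have heq : t = t' := h53_faithful_eq hf ht ht' (fun w hw => by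
    rw [htx w, htx' w, hW w hw, sub_self]
    exact (radSub K).zero_mem)
  apply LinearMap.ext
  intro x
  have h1 : t x = t' x := by rw [heq]
  rw [htx x, htx' x] at h1
  have h2 : (φ x - φ' x) • c = 0 := by
    rw [sub_smul, add_left_cancel h1, sub_self]
  rcases smul_eq_zero.mp h2 with h3 | h3
  · exact sub_eq_zero.mp h3
  · exact absurd h3 hc

/-- (ℓ): the same restriction to `[V, K]`: same axis functional. -/
theorem h53_ell {K : Subgroup (V ≃ₗ[ZMod p] V)} (hf : Faithful K) (hl : HasLift K)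
    (h0 : commSub K ⊓ fixSub K = ⊥) {c c' : V} {φ φ' : Module.Dual (ZMod p) V}
    (h : (c, φ) ∈ tsysOf K) (h' : (c', φ') ∈ tsysOf K)
    (hW : ∀ u ∈ commSub K, φ u = φ' u) : φ = φ' := by
  obtain ⟨hc, hφ, hφc, t, ht, htx⟩ := h53_mem_tsys.mp h
  obtain ⟨hc', hφ', hφc', t', ht', htx'⟩ := h53_mem_tsys.mp h'
  have hcW := h53_centre_mem h
  have hcW' := h53_centre_mem h'
  have hφc'0 : φ c' = 0 := by rw [hW c' hcW']; exact hφc'
  have hφ'c0 : φ' c = 0 := by rw [← hW c hcW]; exact hφc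
  by_cases hdep : ∃ a : ZMod p, c' = a • c
  · obtain ⟨a, rfl⟩ := hdep
    have ha : a ≠ 0 := by
      rintro rfl
      exact hc' (zero_smul _ _)
    have h1 : (c, a • φ) ∈ tsysOf K := h53_smul_right h ha
    have h2 : (c, a • φ') ∈ tsysOf K := by
      refine h53_mem_tsys.mpr ⟨hc, smul_ne_zero ha hφ', ?_, t', ht', ?_⟩
      · rw [LinearMap.smul_apply, hφ'c0, smul_zero]
      · intro x
        rw [htx' x, LinearMap.smul_apply, smul_eq_mul, mul_comm, mul_smul]
    have h3 := h53_uniq hf h1 h2 (fun u hu => by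
      rw [LinearMap.smul_apply, LinearMap.smul_apply, hW u hu])
    exact smul_right_injective _ ha h3
  · have hsum : c + c' ≠ 0 := by
      intro hs
      apply hdep
      refine ⟨-1, ?_⟩
      rw [neg_one_smul]
      exact (neg_eq_of_add_eq_zero_right hs).symm
    have hsumW : c + c' ∈ commSub K := (commSub K).add_mem hcW hcW'
    obtain ⟨φ₃, h3, hφ₃⟩ := h53_lift_exact hl h0 hsumW hsum φ
      (by rw [map_add, hφc, hφc'0, add_zero]) (h53_axis_ne hf h)
    obtain ⟨-, -, -, t₃, ht₃, htx₃⟩ := h53_mem_tsys.mp h3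
    have heq : t * t' = t₃ := h53_faithful_eq hf (K.mul_mem ht ht') ht₃ (fun w hw => by
      rw [h53_tv_mul htx htx' w, htx₃ w, hφ₃ w hw, hφc'0, mul_zero, zero_smul, ← hW w hw,
        smul_add]
      have h9 : w + φ w • c' + φ w • c + 0 - (w + (φ w • c + φ w • c')) = 0 := by abel
      rw [h9]
      exact (radSub K).zero_mem)
    apply LinearMap.ext
    intro x
    have h4 : (t * t') x = t₃ x := by rw [heq]
    rw [h53_tv_mul htx htx' x, htx₃ x, hφc'0, mul_zero, zero_smul, add_zero, smul_add] at h4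
    have h5 : (φ' x - φ₃ x) • c' = (φ₃ x - φ x) • c := by
      have h8 : φ' x • c' + φ x • c = φ₃ x • c + φ₃ x • c' := by
        rw [add_assoc] at h4
        exact add_left_cancel h4
      rw [sub_smul, sub_smul]
      exact sub_eq_sub_iff_add_eq_add.mpr h8
    by_cases h6 : φ' x - φ₃ x = 0
    · rw [h6, zero_smul] at h5
      rcases smul_eq_zero.mp h5.symm with h7 | h7
      · rw [sub_eq_zero] at h6 h7
        rw [← h7, h6]
      · exact absurd h7 hc
    · exfalso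
      apply hdep
      refine ⟨(φ' x - φ₃ x)⁻¹ * (φ₃ x - φ x), ?_⟩
      rw [mul_smul, ← h5, smul_smul, inv_mul_cancel₀ h6, one_smul]

/-- (M): every nonzero vector of `[V, K]` in the kernel of an axis functional is a centre for
it. -/
theorem h53_move {K : Subgroup (V ≃ₗ[ZMod p] V)} (hf : Faithful K) (hl : HasLift K)
    (h0 : commSub K ⊓ fixSub K = ⊥) {c : V} {φ : Module.Dual (ZMod p) V}
    (h : (c, φ) ∈ tsysOf K) {w : V} (hw : w ∈ commSub K) (hw0 : w ≠ 0) (hφw : φ w = 0) :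
    (w, φ) ∈ tsysOf K := by
  obtain ⟨φ₁, h1, hφ₁⟩ := h53_lift_exact hl h0 hw hw0 φ hφw (h53_axis_ne hf h)
  have h2 : φ = φ₁ := h53_ell hf hl h0 h h1 (fun u hu => (hφ₁ u hu).symm)
  rw [h2]; exact h1

theorem h53_exists_common [Finite V] {K : Subgroup (V ≃ₗ[ZMod p] V)} (hl : HasLift K)
    (φ φ' : Module.Dual (ZMod p) V) : ∃ w ∈ commSub K, w ≠ 0 ∧ φ w = 0 ∧ φ' w = 0 := by
  have h3 : 3 ≤ Module.finrank (ZMod p) ↥(commSub K) := le_trans (Nat.le_add_left _ _) hl.1
  let g : ↥(commSub K) →ₗ[ZMod p] (ZMod p × ZMod p) := (φ.prod φ').comp (commSub K).subtype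
  have hrn := LinearMap.finrank_range_add_finrank_ker g
  have hr : Module.finrank (ZMod p) ↥(LinearMap.range g) ≤ 2 := by
    have h5 := Submodule.finrank_le (LinearMap.range g)
    rw [Module.finrank_prod, Module.finrank_self] at h5
    exact h5
  have hk : 0 < Module.finrank (ZMod p) ↥(LinearMap.ker g) := by omega
  obtain ⟨⟨w, hwk⟩, hw0⟩ := Module.finrank_pos_iff_exists_ne_zero.mp hk
  have hg : g w = 0 := hwk
  refine ⟨w.1, w.2, ?_, ?_, ?_⟩
  · intro h
    apply hw0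
    apply Subtype.ext
    apply Subtype.ext
    exact h
  · have h6 := congrArg Prod.fst hg
    simpa [g] using h6
  · have h6 := congrArg Prod.snd hg
    simpa [g] using h6

/-- the axis functionals, together with `0`, form a subspace of the dual. -/
def h53_axes [Finite V] (K : Subgroup (V ≃ₗ[ZMod p] V)) (hf : Faithful K) (hl : HasLift K)
    (h0 : commSub K ⊓ fixSub K = ⊥) : Submodule (ZMod p) (Module.Dual (ZMod p) V) where
  carrier := {φ | φ = 0 ∨ ∃ c, (c, φ) ∈ tsysOf K}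
  zero_mem' := Or.inl rfl
  add_mem' := by
    rintro φ φ' (rfl | ⟨c, h⟩) (rfl | ⟨c', h'⟩)
    · left; simp
    · right; exact ⟨c', by simpa using h'⟩
    · right; exact ⟨c, by simpa using h⟩
    · by_cases hs : φ + φ' = 0
      · exact Or.inl hs
      · right
        obtain ⟨w, hw, hw0, hφw, hφ'w⟩ := h53_exists_common hl φ φ'
        exact ⟨w, h53_add_right (h53_move hf hl h0 h hw hw0 hφw)
          (h53_move hf hl h0 h' hw hw0 hφ'w) hs⟩
  smul_mem' := by
    rintro a φ (rfl | ⟨c, h⟩)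
    · left; simp
    · by_cases ha : a = 0
      · left; rw [ha, zero_smul]
      · right; exact ⟨c, h53_smul_right h ha⟩

theorem h53_fix_of_axes {C : Set (V ≃ₗ[ZMod p] V)} (hCtv : ∀ t ∈ C, IsTv t) {v : V}
    (hv : ∀ c φ, (c, φ) ∈ tsysOf (Subgroup.closure C) → φ v = 0) :
    v ∈ fixSub (Subgroup.closure C) := by
  rw [mem_fixSub]
  intro k hk
  induction hk using Subgroup.closure_induction with
  | mem t ht =>
    obtain ⟨c, φ, hc, hφ, hφc, htx⟩ := hCtv t ht
    rw [htx v, hv c φ (h53_mem_tsys.mpr ⟨hc, hφ, hφc, t, Subgroup.subset_closure ht, htx⟩),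
      zero_smul, add_zero]
  | one => rfl
  | mul a b _ _ ha hb => rw [LinearEquiv.mul_apply, hb, ha]
  | inv a _ ha =>
    have h1 : a⁻¹ (a v) = v := by
      rw [← LinearEquiv.mul_apply, inv_mul_cancel]; rfl
    rw [ha] at h1
    exact h1

/-- PIECE LIFT, second half: `V = [V, K] + C_V(K)` once `[V, K] ∩ C_V(K) = 0`. -/
theorem lift_sup_of_inf [Finite V] (C : Set (V ≃ₗ[ZMod p] V)) (hCtv : ∀ t ∈ C, IsTv t)
    (hf : Faithful (Subgroup.closure C)) (hl : HasLift (Subgroup.closure C))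
    (h0 : commSub (Subgroup.closure C) ⊓ fixSub (Subgroup.closure C) = ⊥) :
    commSub (Subgroup.closure C) ⊔ fixSub (Subgroup.closure C) = ⊤ := by
  have hco : (h53_axes (Subgroup.closure C) hf hl h0).dualCoannihilator ≤
      fixSub (Subgroup.closure C) := by
    intro v hv
    rw [Submodule.mem_dualCoannihilator] at hv
    exact h53_fix_of_axes hCtv (fun c φ h => hv φ (Or.inr ⟨c, h⟩))
  let r : ↥(h53_axes (Subgroup.closure C) hf hl h0) →ₗ[ZMod p]
      Module.Dual (ZMod p) ↥(commSub (Subgroup.closure C)) :=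
    ((commSub (Subgroup.closure C)).subtype.dualMap).comp
      (h53_axes (Subgroup.closure C) hf hl h0).subtype
  have hinj : Function.Injective r := by
    rw [injective_iff_map_eq_zero]
    rintro ⟨ψ, hψ⟩ hr
    rcases hψ with rfl | ⟨c, hc⟩
    · rfl
    · exfalso
      obtain ⟨u, hu, hu'⟩ := h53_axis_ne hf hc
      apply hu'
      exact LinearMap.congr_fun hr ⟨u, hu⟩
  have hA : Module.finrank (ZMod p) ↥(h53_axes (Subgroup.closure C) hf hl h0) ≤
      Module.finrank (ZMod p) ↥(commSub (Subgroup.closure C)) := by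
    have h5 := LinearMap.finrank_le_finrank_of_injective hinj
    rwa [Subspace.dual_finrank_eq] at h5
  have h1 := Subspace.finrank_add_finrank_dualCoannihilator_eq
    (h53_axes (Subgroup.closure C) hf hl h0)
  have h2 := Submodule.finrank_mono hco
  have h3 := Submodule.finrank_sup_add_finrank_inf_eq (commSub (Subgroup.closure C))
    (fixSub (Subgroup.closure C))
  rw [h0, finrank_bot, add_zero] at h3
  apply Submodule.eq_top_of_finrank_eq
  have h4 := Submodule.finrank_le (commSub (Subgroup.closure C) ⊔ fixSub (Subgroup.closure C))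
  omega

end Cfsg.Agent.Lib.helper53.McL
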