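import Mathlib
import Cfsg.Prelude.Def_RootSubgroups
import Cfsg.Agent.Lib.helper85.McLDefs
import Cfsg.Agent.Lib.helper53.McLLIFT2

/-!
# S5075 (McLaughlin), piece LIFT (helper53)

First half: `[V, K] ∩ C_V(K) = 0` when `K = ⟨C⟩` is faithful on `[V, K] / W0` and has the lifting
property; then `split_of_lift` with the second half `lift_sup_of_inf` of `McLLIFT2`.
-/

set_option autoImplicit false

open Cfsg.Agent.Lib.helper85.McL

namespace Cfsg.Agent.Lib.helper53.McL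

universe u

variable {p : ℕ} [Fact p.Prime] {V : Type u} [AddCommGroup V] [Module (ZMod p) V]

/-- centres congruent modulo `W0` whose axis functionals agree on `[V, K]` are equal. -/
theorem h53_uniq_centre {K : Subgroup (V ≃ₗ[ZMod p] V)} (hf : Faithful K) {c c' : V}
    {φ φ' : Module.Dual (ZMod p) V} (h : (c, φ) ∈ tsysOf K) (h' : (c', φ') ∈ tsysOf K)
    (hcc : c - c' ∈ radSub K) (hW : ∀ u ∈ commSub K, φ u = φ' u) : c = c' := by
  obtain ⟨hc, hφ, hφc, t, ht, htx⟩ := h53_mem_tsys.mp h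
  obtain ⟨hc', hφ', hφc', t', ht', htx'⟩ := h53_mem_tsys.mp h'
  have heq : t = t' := h53_faithful_eq hf ht ht' (fun w hw => by
    rw [htx w, htx' w, ← hW w hw]
    have h9 : w + φ w • c - (w + φ w • c') = φ w • (c - c') := by rw [smul_sub]; abel
    rw [h9]
    exact (radSub K).smul_mem _ hcc)
  obtain ⟨u, hu, hu'⟩ := h53_axis_ne hf h
  have h1 : t u = t' u := by rw [heq]
  rw [htx u, htx' u, ← hW u hu] at h1
  have h2 : φ u • c = φ u • c' := add_left_cancel h1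
  exact smul_right_injective V hu' h2

theorem h53_prop_aux {W : Submodule (ZMod p) V} {φ₁ φ₂ : Module.Dual (ZMod p) V} {e u : V}
    (hstar : ∀ x ∈ W, φ₂ x • e = φ₁ x • u) (hx : ∃ x ∈ W, φ₁ x ≠ 0)
    (hA : ¬ ∃ a : ZMod p, ∀ w ∈ W, φ₂ w = a * φ₁ w) : e = 0 ∧ u = 0 := by
  obtain ⟨x₀, hx₀, hx₀'⟩ := hx
  have hu : u = ((φ₁ x₀)⁻¹ * φ₂ x₀) • e := by
    rw [mul_smul, hstar x₀ hx₀, smul_smul, inv_mul_cancel₀ hx₀', one_smul]
  by_cases he : e = 0
  · refine ⟨he, ?_⟩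
    rw [hu, he, smul_zero]
  · exfalso
    apply hA
    refine ⟨(φ₁ x₀)⁻¹ * φ₂ x₀, fun x hx => ?_⟩
    have h7 := hstar x hx
    rw [hu, smul_smul] at h7
    have h8 : (φ₂ x - φ₁ x * ((φ₁ x₀)⁻¹ * φ₂ x₀)) • e = 0 := by
      rw [sub_smul, h7, sub_self]
    rcases smul_eq_zero.mp h8 with h9 | h9
    · rw [sub_eq_zero] at h9
      rw [h9, mul_comm]
    · exact absurd h9 he

/-- (σ): centres congruent modulo `W0` are equal. -/
theorem h53_sigma {K : Subgroup (V ≃ₗ[ZMod p] V)} (hf : Faithful K) (hl : HasLift K)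
    {c₁ c₂ : V} {φ₁ φ₂ : Module.Dual (ZMod p) V} (h1 : (c₁, φ₁) ∈ tsysOf K)
    (h2 : (c₂, φ₂) ∈ tsysOf K) (hcc : c₁ - c₂ ∈ radSub K) : c₁ = c₂ := by
  obtain ⟨hc₁, hφ₁, hφc₁, t₁, ht₁, htx₁⟩ := h53_mem_tsys.mp h1
  obtain ⟨hc₂, hφ₂, hφc₂, t₂, ht₂, htx₂⟩ := h53_mem_tsys.mp h2
  have hfix : c₁ - c₂ ∈ fixSub K := (Submodule.mem_inf.mp hcc).2
  by_cases hA : ∃ a : ZMod p, ∀ w ∈ commSub K, φ₂ w = a * φ₁ w
  · obtain ⟨a, ha⟩ := hA
    have ha0 : a ≠ 0 := by
      rintro rfl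
      obtain ⟨u, hu, hu'⟩ := h53_axis_ne hf h2
      exact hu' (by rw [ha u hu, zero_mul])
    exact h53_uniq_centre hf (h53_smul_right h1 ha0) h2 hcc (fun u hu => by
      rw [LinearMap.smul_apply, smul_eq_mul, ha u hu])
  · have hφ₂c₁ : φ₂ c₁ = 0 := by
      have h9 : c₁ = c₂ + (c₁ - c₂) := by abel
      rw [h9, map_add, hφc₂, h53_axis_fix h2 hfix, add_zero]
    have hφ₁c₂ : φ₁ c₂ = 0 := by
      have h9 : c₂ = c₁ - (c₁ - c₂) := by abel
      rw [h9, map_sub, hφc₁, h53_axis_fix h1 hfix, sub_zero]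
    have hne : ∃ u ∈ commSub K, (φ₁ + φ₂) u ≠ 0 := by
      by_contra hcon
      push Not at hcon
      apply hA
      refine ⟨-1, fun w hw => ?_⟩
      have h9 := hcon w hw
      rw [LinearMap.add_apply] at h9
      rw [neg_one_mul]
      exact eq_neg_of_add_eq_zero_right h9
    obtain ⟨c₃, φ₃, t₃, ht₃, htx₃, hc₃, hφ₃⟩ := hl.2 c₁ (h53_centre_mem h1)
      (h53_centre_not_rad hf h1) (φ₁ + φ₂)
      (by rw [LinearMap.add_apply, hφc₁, hφ₂c₁, add_zero])
      (fun u hu => by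
        have hu' : u ∈ fixSub K := (Submodule.mem_inf.mp hu).2
        rw [LinearMap.add_apply, h53_axis_fix h1 hu', h53_axis_fix h2 hu', add_zero]) hne
    have heq : t₁ * t₂ = t₃ := h53_faithful_eq hf (K.mul_mem ht₁ ht₂) ht₃ (fun w hw => by
      rw [h53_tv_mul htx₁ htx₂ w, htx₃ w, hφ₃ w hw, hφ₁c₂, mul_zero, zero_smul,
        LinearMap.add_apply]
      have h9 : w + φ₂ w • c₂ + φ₁ w • c₁ + 0 - (w + (φ₁ w + φ₂ w) • c₃) =
          φ₂ w • (-(c₁ - c₂) - (c₃ - c₁)) + φ₁ w • (-(c₃ - c₁)) := by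
        simp only [smul_sub, smul_neg, add_smul]; abel
      rw [h9]
      exact (radSub K).add_mem
        ((radSub K).smul_mem _ ((radSub K).sub_mem ((radSub K).neg_mem hcc) hc₃))
        ((radSub K).smul_mem _ ((radSub K).neg_mem hc₃)))
    have hstar : ∀ x ∈ commSub K, φ₂ x • ((c₂ - c₁) - (c₃ - c₁)) = φ₁ x • (c₃ - c₁) := by
      intro x hx
      have h4 : (t₁ * t₂) x = t₃ x := by rw [heq]
      rw [h53_tv_mul htx₁ htx₂ x, htx₃ x, hφ₃ x hx, hφ₁c₂, mul_zero, zero_smul, add_zero,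
        LinearMap.add_apply, add_assoc] at h4
      have h5 : φ₂ x • c₂ + φ₁ x • c₁ = (φ₁ x + φ₂ x) • c₃ := add_left_cancel h4
      have h6 : φ₂ x • ((c₂ - c₁) - (c₃ - c₁)) - φ₁ x • (c₃ - c₁) =
          φ₂ x • c₂ + φ₁ x • c₁ - (φ₁ x + φ₂ x) • c₃ := by
        simp only [smul_sub, add_smul]; abel
      rw [h5, sub_self] at h6
      exact sub_eq_zero.mp h6
    obtain ⟨he, hu⟩ := h53_prop_aux hstar (h53_axis_ne hf h1) hA
    rw [hu, sub_zero] at he
    exact (sub_eq_zero.mp he).symm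

/-- lifting, as a member of `tsysOf K`. -/
theorem h53_lift_mem {K : Subgroup (V ≃ₗ[ZMod p] V)} (hl : HasLift K) {w : V}
    (hw : w ∈ commSub K) (hw0 : w ∉ radSub K) (ξ : Module.Dual (ZMod p) V) (hξ : ξ w = 0)
    (hξ0 : ∀ u ∈ radSub K, ξ u = 0) (hne : ∃ u ∈ commSub K, ξ u ≠ 0) :
    ∃ c φ, (c, φ) ∈ tsysOf K ∧ c - w ∈ radSub K ∧ ∀ u ∈ commSub K, φ u = ξ u := by
  obtain ⟨c, φ, t, htK, htx, hcw, hφ⟩ := hl.2 w hw hw0 ξ hξ hξ0 hne
  have hcW : c ∈ commSub K := by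
    have h9 : c = (c - w) + w := by abel
    rw [h9]
    exact (commSub K).add_mem (Submodule.mem_inf.mp hcw).1 hw
  refine ⟨c, φ, h53_mem_tsys.mpr ⟨?_, ?_, ?_, t, htK, htx⟩, hcw, hφ⟩
  · intro hc0
    apply hw0
    have h9 : w = -(c - w) := by rw [hc0]; abel
    rw [h9]
    exact (radSub K).neg_mem hcw
  · obtain ⟨u, hu, hu'⟩ := hne
    intro h
    apply hu'
    rw [← hφ u hu, h]; rfl
  · rw [hφ c hcW]
    have h9 : c = (c - w) + w := by abel
    rw [h9, map_add, hξ0 _ hcw, hξ, add_zero]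

/-- lifting at a centre keeps the centre. -/
theorem h53_lift_centre {K : Subgroup (V ≃ₗ[ZMod p] V)} (hf : Faithful K) (hl : HasLift K)
    {c : V} {φ₀ : Module.Dual (ZMod p) V} (h : (c, φ₀) ∈ tsysOf K)
    (ξ : Module.Dual (ZMod p) V) (hξ : ξ c = 0) (hξ0 : ∀ u ∈ radSub K, ξ u = 0)
    (hne : ∃ u ∈ commSub K, ξ u ≠ 0) :
    ∃ φ, (c, φ) ∈ tsysOf K ∧ ∀ u ∈ commSub K, φ u = ξ u := by
  obtain ⟨c₁, φ₁, h1, hc₁, hφ₁⟩ := h53_lift_mem hl (h53_centre_mem h)
    (h53_centre_not_rad hf h) ξ hξ hξ0 hne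
  have h2 : c₁ = c := h53_sigma hf hl h1 h hc₁
  subst h2
  exact ⟨φ₁, h1, hφ₁⟩

/-- the sum of two centres is a centre (or zero). -/
theorem h53_add_centre [Finite V] {K : Subgroup (V ≃ₗ[ZMod p] V)} (hf : Faithful K)
    (hl : HasLift K) {c c' : V} {φ φ' : Module.Dual (ZMod p) V} (h : (c, φ) ∈ tsysOf K)
    (h' : (c', φ') ∈ tsysOf K) (hs : c + c' ≠ 0) : ∃ ψ, (c + c', ψ) ∈ tsysOf K := by
  classical
  by_cases hdep : ∃ a : ZMod p, c' - a • c ∈ radSub K
  · obtain ⟨a, ha⟩ := hdep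
    have ha0 : a ≠ 0 := by
      rintro rfl
      rw [zero_smul, sub_zero] at ha
      exact h53_centre_not_rad hf h' ha
    have h1 : c' = a • c := h53_sigma hf hl h' (h53_smul_left h ha0) ha
    have h2 : c + c' = (1 + a) • c := by rw [h1, add_smul, one_smul]
    have h3 : 1 + a ≠ 0 := by
      intro h4
      apply hs
      rw [h2, h4, zero_smul]
    exact ⟨φ, by rw [h2]; exact h53_smul_left h h3⟩
  · push Not at hdep
    have hcW := h53_centre_mem h
    have hcW' := h53_centre_mem h'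
    obtain ⟨w₀, hw₀, ξ, hξw₀, hξU⟩ : ∃ w₀ ∈ commSub K, ∃ ξ : Module.Dual (ZMod p) V,
        ξ w₀ ≠ 0 ∧ ∀ u ∈ radSub K ⊔ Submodule.span (ZMod p) (({c, c'} : Finset V) : Set V),
          ξ u = 0 := by
      have hlt : Module.finrank (ZMod p)
          ↥(radSub K ⊔ Submodule.span (ZMod p) (({c, c'} : Finset V) : Set V)) <
          Module.finrank (ZMod p) ↥(commSub K) := by
        have h1 := Submodule.finrank_add_le_finrank_add_finrank (radSub K)
          (Submodule.span (ZMod p) (({c, c'} : Finset V) : Set V))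
        have h2 : Module.finrank (ZMod p)
            ↥(Submodule.span (ZMod p) (({c, c'} : Finset V) : Set V)) ≤ 2 :=
          le_trans (finrank_span_finset_le_card (R := ZMod p) ({c, c'} : Finset V))
            Finset.card_le_two
        have h3 := hl.1
        omega
      have hex : ∃ w₀ ∈ commSub K,
          w₀ ∉ radSub K ⊔ Submodule.span (ZMod p) (({c, c'} : Finset V) : Set V) := by
        by_contra hcon
        push Not at hcon
        have h4 := Submodule.finrank_mono (show commSub K ≤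
          radSub K ⊔ Submodule.span (ZMod p) (({c, c'} : Finset V) : Set V) from hcon)
        omega
      obtain ⟨w₀, hw₀, hw₀'⟩ := hex
      obtain ⟨ξ, hξ1, hξ2⟩ := Submodule.exists_dual_map_eq_bot_of_notMem hw₀' inferInstance
      refine ⟨w₀, hw₀, ξ, hξ1, fun u hu => ?_⟩
      have h5 : ξ u ∈ Submodule.map ξ
          (radSub K ⊔ Submodule.span (ZMod p) (({c, c'} : Finset V) : Set V)) :=
        Submodule.mem_map_of_mem hu
      rw [hξ2] at h5
      exact (Submodule.mem_bot _).mp h5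
    have hξc : ξ c = 0 := hξU c (Submodule.mem_sup_right (Submodule.subset_span (by simp)))
    have hξc' : ξ c' = 0 := hξU c' (Submodule.mem_sup_right (Submodule.subset_span (by simp)))
    have hξ0 : ∀ u ∈ radSub K, ξ u = 0 := fun u hu => hξU u (Submodule.mem_sup_left hu)
    have hne : ∃ u ∈ commSub K, ξ u ≠ 0 := ⟨w₀, hw₀, hξw₀⟩
    obtain ⟨φ₁, h1, hφ₁⟩ := h53_lift_centre hf hl h ξ hξc hξ0 hne
    obtain ⟨φ₂, h2, hφ₂⟩ := h53_lift_centre hf hl h' ξ hξc' hξ0 hne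
    have hsW : c + c' ∈ commSub K := (commSub K).add_mem hcW hcW'
    have hs0 : c + c' ∉ radSub K := by
      intro hmem
      apply hdep (-1)
      rw [neg_one_smul, sub_neg_eq_add, add_comm]
      exact hmem
    obtain ⟨c₃, φ₃, h3, hc₃, hφ₃⟩ := h53_lift_mem hl hsW hs0 ξ
      (by rw [map_add, hξc, hξc', add_zero]) hξ0 hne
    obtain ⟨-, -, -, t₁, ht₁, htx₁⟩ := h53_mem_tsys.mp h1
    obtain ⟨-, -, -, t₂, ht₂, htx₂⟩ := h53_mem_tsys.mp h2
    obtain ⟨-, -, -, t₃, ht₃, htx₃⟩ := h53_mem_tsys.mp h3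
    have hφ₁c' : φ₁ c' = 0 := by rw [hφ₁ c' hcW']; exact hξc'
    have heq : t₁ * t₂ = t₃ := h53_faithful_eq hf (K.mul_mem ht₁ ht₂) ht₃ (fun w hw => by
      rw [h53_tv_mul htx₁ htx₂ w, htx₃ w, hφ₁c', mul_zero, zero_smul, hφ₁ w hw, hφ₂ w hw,
        hφ₃ w hw]
      have h9 : w + ξ w • c' + ξ w • c + 0 - (w + ξ w • c₃) = ξ w • (-(c₃ - (c + c'))) := by
        simp only [smul_sub, smul_neg, smul_add]; abel
      rw [h9]
      exact (radSub K).smul_mem _ ((radSub K).neg_mem hc₃))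
    have h4 : (t₁ * t₂) w₀ = t₃ w₀ := by rw [heq]
    rw [h53_tv_mul htx₁ htx₂ w₀, htx₃ w₀, hφ₁c', mul_zero, zero_smul, add_zero, hφ₁ w₀ hw₀,
      hφ₂ w₀ hw₀, hφ₃ w₀ hw₀, add_assoc] at h4
    have h5 : ξ w₀ • c' + ξ w₀ • c = ξ w₀ • c₃ := add_left_cancel h4
    have h6 : c₃ = c + c' := by
      rw [← smul_add] at h5
      have h7 := smul_right_injective V hξw₀ h5
      rw [← h7, add_comm]
    rw [h6] at h3
    exact ⟨φ₃, h3⟩

/-- the centres, together with `0`, form a subspace. -/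
def h53_centres [Finite V] (K : Subgroup (V ≃ₗ[ZMod p] V)) (hf : Faithful K) (hl : HasLift K) :
    Submodule (ZMod p) V where
  carrier := {w | w = 0 ∨ ∃ φ, (w, φ) ∈ tsysOf K}
  zero_mem' := Or.inl rfl
  add_mem' := by
    rintro c c' (rfl | ⟨φ, h⟩) (rfl | ⟨φ', h'⟩)
    · left; simp
    · right; exact ⟨φ', by simpa using h'⟩
    · right; exact ⟨φ, by simpa using h⟩
    · by_cases hs : c + c' = 0
      · exact Or.inl hs
      · exact Or.inr (h53_add_centre hf hl h h' hs)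
  smul_mem' := by
    rintro a c (rfl | ⟨φ, h⟩)
    · left; simp
    · by_cases ha : a = 0
      · left; rw [ha, zero_smul]
      · right; exact ⟨φ, h53_smul_left h ha⟩

theorem h53_comm_le_centres [Finite V] {C : Set (V ≃ₗ[ZMod p] V)} (hCtv : ∀ t ∈ C, IsTv t)
    (hf : Faithful (Subgroup.closure C)) (hl : HasLift (Subgroup.closure C)) :
    commSub (Subgroup.closure C) ≤ h53_centres (Subgroup.closure C) hf hl := by
  have key : ∀ k ∈ Subgroup.closure C, ∀ v : V,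
      k v - v ∈ h53_centres (Subgroup.closure C) hf hl := by
    intro k hk
    induction hk using Subgroup.closure_induction with
    | mem t ht =>
      intro v
      obtain ⟨c, φ, hc, hφ, hφc, htx⟩ := hCtv t ht
      rw [htx v, add_sub_cancel_left]
      exact Submodule.smul_mem _ _
        (Or.inr ⟨φ, h53_mem_tsys.mpr ⟨hc, hφ, hφc, t, Subgroup.subset_closure ht, htx⟩⟩)
    | one =>
      intro v
      rw [show (1 : V ≃ₗ[ZMod p] V) v - v = 0 from sub_self v]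
      exact Submodule.zero_mem _
    | mul a b _ _ ha hb =>
      intro v
      have h9 : (a * b) v - v = (a (b v) - b v) + (b v - v) := by
        rw [LinearEquiv.mul_apply]; abel
      rw [h9]
      exact Submodule.add_mem _ (ha (b v)) (hb v)
    | inv a _ ha =>
      intro v
      have h1 : a (a⁻¹ v) = v := by
        rw [← LinearEquiv.mul_apply, mul_inv_cancel]; rfl
      have h9 : a⁻¹ v - v = -(a (a⁻¹ v) - a⁻¹ v) := by rw [h1]; abel
      rw [h9]
      exact Submodule.neg_mem _ (ha (a⁻¹ v))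
  apply Submodule.span_le.mpr
  rintro w ⟨k, hk, v, rfl⟩
  exact key k hk v

/-- PIECE LIFT, first half: `[V, K] ∩ C_V(K) = 0`. -/
theorem lift_inf [Finite V] (C : Set (V ≃ₗ[ZMod p] V)) (hCtv : ∀ t ∈ C, IsTv t)
    (hf : Faithful (Subgroup.closure C)) (hl : HasLift (Subgroup.closure C)) :
    commSub (Subgroup.closure C) ⊓ fixSub (Subgroup.closure C) = ⊥ := by
  rw [eq_bot_iff]
  intro u hu
  rw [Submodule.mem_bot]
  by_contra hu0
  have hS := h53_comm_le_centres hCtv hf hl (Submodule.mem_inf.mp hu).1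
  rcases hS with h | ⟨φ, h⟩
  · exact hu0 h
  · exact h53_centre_not_rad hf h hu

/-- PIECE LIFT. -/
theorem split_of_lift [Finite V] (C : Set (V ≃ₗ[ZMod p] V)) (hCtv : ∀ t ∈ C, IsTv t)
    (hf : Faithful (Subgroup.closure C)) (hl : HasLift (Subgroup.closure C)) :
    commSub (Subgroup.closure C) ⊓ fixSub (Subgroup.closure C) = ⊥ ∧
    commSub (Subgroup.closure C) ⊔ fixSub (Subgroup.closure C) = ⊤ :=
  ⟨lift_inf C hCtv hf hl, lift_sup_of_inf C hCtv hf hl (lift_inf C hCtv hf hl)⟩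

end Cfsg.Agent.Lib.helper53.McL
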