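import Cfsg.Prelude.Def_LocalStructure
import Cfsg.Agent.Lib.helper53.MinOver
import Cfsg.Agent.Lib.helper53.Large2
import Cfsg.Agent.Lib.helper53.FrattiniEA
import Cfsg.Agent.Lib.helper73.Frattini

set_option autoImplicit false

namespace Cfsg.Agent.Lib.helper53

open scoped commutatorElement Pointwise

variable {L : Type*} [Group L]

/-- `[A ⊔ B, C] ≤ N` if `[A, C], [B, C] ≤ N` and `A`, `B` normalize `N`. -/
theorem sup_commutator_le {A B C N : Subgroup L}
    (hA : A ≤ Subgroup.normalizer (N : Set L)) (hB : B ≤ Subgroup.normalizer (N : Set L))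
    (h1 : ⁅A, C⁆ ≤ N) (h2 : ⁅B, C⁆ ≤ N) : ⁅A ⊔ B, C⁆ ≤ N := by
  rw [sup_eq_iSup]
  apply iSup_commutator_le
  · intro b; cases b
    · exact hB
    · exact hA
  · intro b; cases b
    · exact h2
    · exact h1

/-- S2837: structure of the normal closure of `O_p(L) ∩ Y` in a `Y`-minimal group of
characteristic `p`. -/
theorem minOver_charP_structure [Finite L] {p : ℕ} [Fact p.Prime]
    (hchar : Subgroup.centralizer (Cfsg.pCore p L : Set L) ≤ Cfsg.pCore p L)
    (L₀ : Subgroup L) (hL₀ : IsCoatom L₀) (Y : Subgroup L) (hYL₀ : Y ≤ L₀)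
    (hYel : Cfsg.IsElementaryAbelian p Y) (hmin : Cfsg.IsMinimalOver Y)
    (hOY : Cfsg.pCore p L ≤ Subgroup.normalizer (Y : Set L)) (A : Subgroup L)
    (hA : A = Subgroup.normalClosure (((Cfsg.pCore p L ⊓ Y : Subgroup L)) : Set L))
    (g : L) (hg : g ∉ L₀) :
    (frattini ↥A).map A.subtype = ⁅A, A⁆ ∧ ⁅A, A⁆ = ⁅A ⊓ Y, A⁆ ∧
    ⁅A ⊓ Y, A⁆ = ⁅A ⊓ Y, A ⊓ Y.map (MulAut.conj g).toMonoidHom⁆ ∧
    ⁅A ⊓ Y, A⁆ ≤ Y ⊓ Subgroup.center L ∧
    Y ⊓ Y.map (MulAut.conj g).toMonoidHom = Y ⊓ Subgroup.center L ∧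
    (A ⊓ Y) ⊓ (A ⊓ Y.map (MulAut.conj g).toMonoidHom) = Y ⊓ Subgroup.center L ∧
    A ⊓ Subgroup.center L = Y ⊓ Subgroup.center L := by
  have hPn : (Cfsg.pCore p L).Normal := pCore_normal p L
  have hPp : IsPGroup p (Cfsg.pCore p L) := pCore_isPGroup p L
  have hYc : ∀ a ∈ Y, ∀ b ∈ Y, a * b = b * a := by
    intro a ha b hb
    have h := hYel.1.is_comm.comm (⟨a, ha⟩ : Y) ⟨b, hb⟩
    exact congrArg Subtype.val h
  have hYgc : ∀ a ∈ Y.map (MulAut.conj g).toMonoidHom,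
      ∀ b ∈ Y.map (MulAut.conj g).toMonoidHom, a * b = b * a := by
    rintro _ ⟨a, ha, rfl⟩ _ ⟨b, hb, rfl⟩
    rw [← map_mul, ← map_mul, hYc a ha b hb]
  have htop := minOver_sup_conj_eq_top hmin hL₀ hYL₀ hg
  have hinf := minOver_inf_conj hmin hL₀ hYL₀ hYc hg
  have hAP : A ≤ Cfsg.pCore p L := by
    rw [hA]; exact Subgroup.normalClosure_le_normal (SetLike.coe_subset_coe.mpr inf_le_left)
  have hAn : A.Normal := by rw [hA]; exact Subgroup.normalClosure_normal
  have hZ₀A : Cfsg.pCore p L ⊓ Y ≤ A := by rw [hA]; exact Subgroup.le_normalClosure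
  have hZ₁A : Cfsg.pCore p L ⊓ Y.map (MulAut.conj g).toMonoidHom ≤ A := by
    intro x hx
    obtain ⟨hxP, hxY⟩ := Subgroup.mem_inf.mp hx
    have h1 : g⁻¹ * x * g ∈ Cfsg.pCore p L ⊓ Y := by
      refine Subgroup.mem_inf.mpr ⟨?_, mem_conj_iff.mp hxY⟩
      have := hPn.conj_mem x hxP g⁻¹
      simpa using this
    have h2 := hAn.conj_mem _ (hZ₀A h1) g
    have e : g * (g⁻¹ * x * g) * g⁻¹ = x := by group
    rwa [e] at h2
  have hAY : A ⊓ Y = Cfsg.pCore p L ⊓ Y :=
    le_antisymm (inf_le_inf_right Y hAP) (le_inf hZ₀A inf_le_right)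
  have hAYg : A ⊓ Y.map (MulAut.conj g).toMonoidHom =
      Cfsg.pCore p L ⊓ Y.map (MulAut.conj g).toMonoidHom :=
    le_antisymm (inf_le_inf_right _ hAP) (le_inf hZ₁A inf_le_right)
  have hPN : ∀ x : L, x ∈ Subgroup.normalizer (Cfsg.pCore p L : Set L) := by
    intro x; rw [Subgroup.normalizer_eq_top]; exact Subgroup.mem_top x
  have hPYg : Cfsg.pCore p L ≤
      Subgroup.normalizer ((Y.map (MulAut.conj g).toMonoidHom : Subgroup L) : Set L) := by
    have := conj_mono hOY g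
    rwa [← normalizer_conj, conj_eq_self_of_mem_normalizer (hPN g)] at this
  have hP_Z₀ : Cfsg.pCore p L ≤
      Subgroup.normalizer ((Cfsg.pCore p L ⊓ Y : Subgroup L) : Set L) :=
    (le_inf (fun x _ => hPN x) hOY).trans (normalizer_inf_le53 _ _)
  have hP_Z₁ : Cfsg.pCore p L ≤ Subgroup.normalizer
      ((Cfsg.pCore p L ⊓ Y.map (MulAut.conj g).toMonoidHom : Subgroup L) : Set L) :=
    (le_inf (fun x _ => hPN x) hPYg).trans (normalizer_inf_le53 _ _)
  have hY_Z₀ : Y ≤ Subgroup.normalizer ((Cfsg.pCore p L ⊓ Y : Subgroup L) : Set L) :=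
    (le_inf (fun x _ => hPN x) Subgroup.le_normalizer).trans (normalizer_inf_le53 _ _)
  have hYg_Z₁ : Y.map (MulAut.conj g).toMonoidHom ≤ Subgroup.normalizer
      ((Cfsg.pCore p L ⊓ Y.map (MulAut.conj g).toMonoidHom : Subgroup L) : Set L) :=
    (le_inf (fun x _ => hPN x) Subgroup.le_normalizer).trans (normalizer_inf_le53 _ _)
  -- a general step: if `y ∈ Y'`, `z ∈ P ≤ N(Y')` then `y z y⁻¹ ∈ (P ⊓ Y') ⊔ stuff`
  have key : ∀ (Y' : Subgroup L), Cfsg.pCore p L ≤ Subgroup.normalizer (Y' : Set L) →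
      ∀ y ∈ Y', ∀ z ∈ Cfsg.pCore p L, y * z * y⁻¹ * z⁻¹ ∈ Cfsg.pCore p L ⊓ Y' := by
    intro Y' hY' y hy z hz
    refine Subgroup.mem_inf.mpr ⟨?_, ?_⟩
    · exact Subgroup.mul_mem _ (hPn.conj_mem z hz y) (Subgroup.inv_mem _ hz)
    · have h1 : z * y⁻¹ * z⁻¹ ∈ Y' :=
        (Subgroup.mem_normalizer_iff.mp (hY' hz) y⁻¹).mp (Y'.inv_mem hy)
      have e : y * z * y⁻¹ * z⁻¹ = y * (z * y⁻¹ * z⁻¹) := by group
      rw [e]
      exact Y'.mul_mem hy h1
  have hYD : Y ≤ Subgroup.normalizer (((Cfsg.pCore p L ⊓ Y) ⊔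
      (Cfsg.pCore p L ⊓ Y.map (MulAut.conj g).toMonoidHom) : Subgroup L) : Set L) := by
    intro y hy
    apply mem_normalizer_of_conj_le
    rw [Subgroup.map_sup]
    apply sup_le
    · rw [conj_eq_self_of_mem_normalizer (hY_Z₀ hy)]; exact le_sup_left
    · rw [conj_le_iff]
      intro z hz
      have h1 := key Y hOY y hy z (Subgroup.mem_inf.mp hz).1
      have e : y * z * y⁻¹ = (y * z * y⁻¹ * z⁻¹) * z := by group
      rw [e]
      exact Subgroup.mul_mem _ (Subgroup.mem_sup_left h1) (Subgroup.mem_sup_right hz)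
  have hYgD : Y.map (MulAut.conj g).toMonoidHom ≤ Subgroup.normalizer (((Cfsg.pCore p L ⊓ Y) ⊔
      (Cfsg.pCore p L ⊓ Y.map (MulAut.conj g).toMonoidHom) : Subgroup L) : Set L) := by
    intro y hy
    apply mem_normalizer_of_conj_le
    rw [Subgroup.map_sup]
    apply sup_le
    · rw [conj_le_iff]
      intro z hz
      have h1 := key _ hPYg y hy z (Subgroup.mem_inf.mp hz).1
      have e : y * z * y⁻¹ = (y * z * y⁻¹ * z⁻¹) * z := by group
      rw [e]
      exact Subgroup.mul_mem _ (Subgroup.mem_sup_right h1) (Subgroup.mem_sup_left hz)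
    · rw [conj_eq_self_of_mem_normalizer (hYg_Z₁ hy)]; exact le_sup_right
  have hDn : ((Cfsg.pCore p L ⊓ Y) ⊔
      (Cfsg.pCore p L ⊓ Y.map (MulAut.conj g).toMonoidHom) : Subgroup L).Normal := by
    rw [← Subgroup.normalizer_eq_top_iff, eq_top_iff, ← htop]
    exact sup_le hYD hYgD
  have hAD : A = (Cfsg.pCore p L ⊓ Y) ⊔
      (Cfsg.pCore p L ⊓ Y.map (MulAut.conj g).toMonoidHom) := by
    apply le_antisymm
    · rw [hA]; exact Subgroup.normalClosure_le_normal (SetLike.coe_subset_coe.mpr le_sup_left)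
    · exact sup_le hZ₀A hZ₁A
  -- commutators
  have hZ₀ab : ⁅Cfsg.pCore p L ⊓ Y, Cfsg.pCore p L ⊓ Y⁆ = ⊥ := by
    rw [Subgroup.commutator_eq_bot_iff_le_centralizer]
    intro a ha
    rw [Subgroup.mem_centralizer_iff]
    intro h hh
    exact hYc h (Subgroup.mem_inf.mp hh).2 a (Subgroup.mem_inf.mp ha).2
  have hZ₁ab : ⁅Cfsg.pCore p L ⊓ Y.map (MulAut.conj g).toMonoidHom,
      Cfsg.pCore p L ⊓ Y.map (MulAut.conj g).toMonoidHom⁆ = ⊥ := by
    rw [Subgroup.commutator_eq_bot_iff_le_centralizer]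
    intro a ha
    rw [Subgroup.mem_centralizer_iff]
    intro h hh
    exact hYgc h (Subgroup.mem_inf.mp hh).2 a (Subgroup.mem_inf.mp ha).2
  have hZ₀W := le_normalizer_commutator_left (Cfsg.pCore p L ⊓ Y)
    (Cfsg.pCore p L ⊓ Y.map (MulAut.conj g).toMonoidHom)
  have hZ₁W := le_normalizer_commutator_right (Cfsg.pCore p L ⊓ Y)
    (Cfsg.pCore p L ⊓ Y.map (MulAut.conj g).toMonoidHom)
  have h1 : ⁅(Cfsg.pCore p L ⊓ Y) ⊔ (Cfsg.pCore p L ⊓ Y.map (MulAut.conj g).toMonoidHom),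
      Cfsg.pCore p L ⊓ Y⁆ ≤
      ⁅Cfsg.pCore p L ⊓ Y, Cfsg.pCore p L ⊓ Y.map (MulAut.conj g).toMonoidHom⁆ := by
    apply sup_commutator_le hZ₀W hZ₁W
    · rw [hZ₀ab]; exact bot_le
    · rw [Subgroup.commutator_comm]
  have h2 : ⁅(Cfsg.pCore p L ⊓ Y) ⊔ (Cfsg.pCore p L ⊓ Y.map (MulAut.conj g).toMonoidHom),
      Cfsg.pCore p L ⊓ Y.map (MulAut.conj g).toMonoidHom⁆ ≤
      ⁅Cfsg.pCore p L ⊓ Y, Cfsg.pCore p L ⊓ Y.map (MulAut.conj g).toMonoidHom⁆ := by
    apply sup_commutator_le hZ₀W hZ₁W le_rfl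
    rw [hZ₁ab]; exact bot_le
  have h3 : ⁅(Cfsg.pCore p L ⊓ Y) ⊔ (Cfsg.pCore p L ⊓ Y.map (MulAut.conj g).toMonoidHom),
      (Cfsg.pCore p L ⊓ Y) ⊔ (Cfsg.pCore p L ⊓ Y.map (MulAut.conj g).toMonoidHom)⁆ ≤
      ⁅Cfsg.pCore p L ⊓ Y, Cfsg.pCore p L ⊓ Y.map (MulAut.conj g).toMonoidHom⁆ := by
    apply sup_commutator_le hZ₀W hZ₁W
    · rw [Subgroup.commutator_comm]; exact h1
    · rw [Subgroup.commutator_comm]; exact h2
  have hc2 : ⁅A, A⁆ = ⁅A ⊓ Y, A⁆ := by
    rw [hAY]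
    apply le_antisymm
    · rw [hAD]
      exact h3.trans (Subgroup.commutator_mono le_rfl le_sup_right)
    · exact Subgroup.commutator_mono (hZ₀A) le_rfl
  have hc3 : ⁅A ⊓ Y, A⁆ = ⁅A ⊓ Y, A ⊓ Y.map (MulAut.conj g).toMonoidHom⁆ := by
    rw [hAY, hAYg]
    apply le_antisymm
    · rw [hAD, Subgroup.commutator_comm]; exact h1
    · exact Subgroup.commutator_mono le_rfl hZ₁A
  have hc4 : ⁅A ⊓ Y, A⁆ ≤ Y ⊓ Subgroup.center L := by
    rw [hc3, hAY, hAYg, ← hinf]
    refine (commutator_le_inf_of_le_normalizer (inf_le_left.trans hP_Z₀)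
      (inf_le_left.trans hP_Z₁)).trans ?_
    exact inf_le_inf inf_le_right inf_le_right
  have hcenP : Subgroup.center L ≤ Cfsg.pCore p L :=
    (Subgroup.center_le_centralizer _).trans hchar
  have hcen : Y ⊓ Subgroup.center L ≤ (Cfsg.pCore p L ⊓ Y) ⊓
      (Cfsg.pCore p L ⊓ Y.map (MulAut.conj g).toMonoidHom) := by
    refine le_inf (le_inf (inf_le_right.trans hcenP) inf_le_left)
      (le_inf (inf_le_right.trans hcenP) ?_)
    rw [← hinf]; exact inf_le_right
  have hc6 : (A ⊓ Y) ⊓ (A ⊓ Y.map (MulAut.conj g).toMonoidHom) = Y ⊓ Subgroup.center L := by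
    rw [hAY, hAYg]
    apply le_antisymm
    · rw [← hinf]; exact inf_le_inf inf_le_right inf_le_right
    · exact hcen
  have hc7 : A ⊓ Subgroup.center L = Y ⊓ Subgroup.center L := by
    apply le_antisymm
    · intro z hz
      obtain ⟨hzA, hzc⟩ := Subgroup.mem_inf.mp hz
      rw [hAD, mem_sup_of_le_normalizer (inf_le_left.trans hP_Z₀)] at hzA
      obtain ⟨u, hu, v, hv, rfl⟩ := hzA
      have huY := (Subgroup.mem_inf.mp hu).2
      have hvYg := (Subgroup.mem_inf.mp hv).2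
      have hvc : v ∈ Subgroup.center L := by
        have h5 : Y ⊔ Y.map (MulAut.conj g).toMonoidHom ≤ Subgroup.centralizer ({v} : Set L) := by
          apply sup_le
          · intro y hy
            rw [Subgroup.mem_centralizer_iff]
            intro h hh
            rw [Set.mem_singleton_iff] at hh
            rw [hh]
            have e1 : v = u⁻¹ * (u * v) := by group
            have hz' := Subgroup.mem_center_iff.mp hzc y
            have hu' := hYc u⁻¹ (Y.inv_mem huY) y hy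
            calc v * y = u⁻¹ * ((u * v) * y) := by group
              _ = u⁻¹ * (y * (u * v)) := by rw [hz']
              _ = (u⁻¹ * y) * (u * v) := by group
              _ = (y * u⁻¹) * (u * v) := by rw [hu']
              _ = y * v := by group
          · intro y hy
            rw [Subgroup.mem_centralizer_iff]
            intro h hh
            rw [Set.mem_singleton_iff] at hh
            rw [hh]
            exact hYgc v hvYg y hy
        rw [htop] at h5
        rw [Subgroup.mem_center_iff]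
        intro x
        have := Subgroup.mem_centralizer_iff.mp (h5 (Subgroup.mem_top x)) v rfl
        exact this.symm
      have hvY : v ∈ Y := by
        have h6 := mem_conj_iff.mp hvYg
        have h7 : g⁻¹ * v * g = v := by
          have := Subgroup.mem_center_iff.mp hvc g
          calc g⁻¹ * v * g = g⁻¹ * (v * g) := by group
            _ = g⁻¹ * (g * v) := by rw [this]
            _ = v := by group
        rwa [h7] at h6
      exact Subgroup.mem_inf.mpr ⟨Y.mul_mem huY hvY, hzc⟩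
    · exact le_inf (hcen.trans (inf_le_left.trans hZ₀A)) inf_le_right
  refine ⟨?_, hc2, hc3, hc4, hinf, hc6, hc7⟩
  -- Frattini subgroup
  have hAp : IsPGroup p A := hPp.to_le hAP
  obtain ⟨n, hn⟩ := IsPGroup.iff_card.mp hAp
  have hpow : ∀ a : ↥A, a ^ p ∈ commutator ↥A := by
    intro a
    have ha := hAD.le a.2
    rw [mem_sup_of_le_normalizer (inf_le_left.trans hP_Z₀)] at ha
    obtain ⟨u, hu, v, hv, huv⟩ := ha
    have hup : u ^ p = 1 := hYel.2 u (Subgroup.mem_inf.mp hu).2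
    have hvp : v ^ p = 1 := by
      obtain ⟨y, hy, rfl⟩ := (Subgroup.mem_inf.mp hv).2
      rw [← map_pow, hYel.2 y hy, map_one]
    have e : a = (⟨u, hZ₀A hu⟩ : ↥A) * ⟨v, hZ₁A hv⟩ := Subtype.ext huv.symm
    rw [← Abelianization.ker_of, MonoidHom.mem_ker, e, map_pow, map_mul, mul_pow, ← map_pow,
      ← map_pow]
    have e1 : (⟨u, hZ₀A hu⟩ : ↥A) ^ p = 1 := Subtype.ext (by simpa using hup)
    have e2 : (⟨v, hZ₁A hv⟩ : ↥A) ^ p = 1 := Subtype.ext (by simpa using hvp)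
    rw [e1, e2, map_one, mul_one]
  have hfr : frattini ↥A = commutator ↥A := by
    apply le_antisymm
    · exact frattini_le_of_exponent_quotient (commutator ↥A) le_rfl hpow
    · rw [commutator_def, Subgroup.commutator_le]
      intro x _ y _
      have := Cfsg.Agent.Lib.helper73.commutator_mem_frattini hn x y
      rwa [← commutatorElement_def] at this
  rw [hfr, commutator_def, Subgroup.map_commutator, ← MonoidHom.range_eq_map,
    Subgroup.range_subtype]

end Cfsg.Agent.Lib.helper53
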