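import Cfsg.Prelude.Def_LocalStructure
import Cfsg.Agent.Lib.helper53.PIrr

set_option autoImplicit false

namespace Cfsg.Agent.Lib.helper53

open scoped commutatorElement Pointwise

variable {L : Type*} [Group L]

/-- In a `p`-irreducible group, a normal subgroup not containing `O^p` is `p`-closed. -/
theorem pirr_isPClosed_of_not_le {p : ℕ} (hL : Cfsg.IsPIrreducible p L) (C : Subgroup L)
    [hC : C.Normal] (hnc : ¬ Cfsg.pResidual p L ≤ C) : Cfsg.IsPClosed p ↥C := by
  by_contra h
  exact hnc (hL.2 C hC h)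

/-- In a `p`-irreducible group, `p`-subgroups of a normal subgroup `C` not containing `O^p` lie
in `O_p`. -/
theorem pirr_inf_le_pCore {p : ℕ} [Fact p.Prime] [Finite L] (hL : Cfsg.IsPIrreducible p L)
    (C : Subgroup L) [hC : C.Normal] (hnc : ¬ Cfsg.pResidual p L ≤ C) {T : Subgroup L}
    (hT : IsPGroup p T) : T ⊓ C ≤ Cfsg.pCore p L :=
  IsPClosed.le_pCore_of_normal (pirr_isPClosed_of_not_le hL C hnc) inf_le_right
    (hT.to_le inf_le_left)

/-- In a `p`-irreducible group, if the normal subgroup `C` contains `O_p` but not `O^p`, then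
`O_p(L/C) = 1`. -/
theorem pirr_pCore_quotient_eq_bot {p : ℕ} [Fact p.Prime] [Finite L]
    (hL : Cfsg.IsPIrreducible p L) (C : Subgroup L) [hC : C.Normal]
    (hnc : ¬ Cfsg.pResidual p L ≤ C) (hle : Cfsg.pCore p L ≤ C) :
    Cfsg.pCore p (L ⧸ C) = ⊥ := by
  have hRn : ((Cfsg.pCore p (L ⧸ C)).comap (QuotientGroup.mk' C)).Normal :=
    Subgroup.Normal.comap (pCore_normal p _) _
  have hCR : C ≤ (Cfsg.pCore p (L ⧸ C)).comap (QuotientGroup.mk' C) := le_comap_mk' C _
  -- R is p-closed
  have hRc : Cfsg.IsPClosed p ↥((Cfsg.pCore p (L ⧸ C)).comap (QuotientGroup.mk' C)) := by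
    by_contra h
    have h1 := hL.2 _ hRn h
    apply hnc
    apply pResidual_le_of_isPGroup_quotient
    intro x
    obtain ⟨g, rfl⟩ := QuotientGroup.mk_surjective x
    have hpn := pResidual_normal p L
    obtain ⟨k, hk⟩ := isPGroup_quotient_pResidual p L (QuotientGroup.mk g)
    rw [← QuotientGroup.mk_pow, QuotientGroup.eq_one_iff] at hk
    have h2 := h1 hk
    rw [Subgroup.mem_comap] at h2
    obtain ⟨j, hj⟩ := pCore_isPGroup p (L ⧸ C) ⟨_, h2⟩
    refine ⟨k + j, ?_⟩
    have := congrArg Subtype.val hj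
    simp only [Subgroup.coe_pow, Subgroup.coe_one] at this
    rw [pow_add, pow_mul]
    exact this
  -- R ≤ C
  have hRC : (Cfsg.pCore p (L ⧸ C)).comap (QuotientGroup.mk' C) ≤ C := by
    obtain ⟨S⟩ : Nonempty (Sylow p ↥((Cfsg.pCore p (L ⧸ C)).comap (QuotientGroup.mk' C))) :=
      inferInstance
    have h1 := pResidual_sup_sylow S
    have h2 : (S : Subgroup ↥((Cfsg.pCore p (L ⧸ C)).comap (QuotientGroup.mk' C))) ≤
        C.subgroupOf _ := by
      have h3 : (S : Subgroup ↥((Cfsg.pCore p (L ⧸ C)).comap (QuotientGroup.mk' C))).map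
          (Subgroup.subtype _) ≤ Cfsg.pCore p L :=
        @IsPClosed.le_pCore_of_normal _ _ _ _ _ _ hRn hRc _ (Subgroup.map_subtype_le _) (S.2.map _)
      intro x hx
      exact Subgroup.mem_subgroupOf.mpr (hle (h3 ⟨x, hx, rfl⟩))
    have h4 : Cfsg.pResidual p ↥((Cfsg.pCore p (L ⧸ C)).comap (QuotientGroup.mk' C)) ≤
        C.subgroupOf _ := by
      unfold Cfsg.pResidual
      rw [Subgroup.closure_le]
      intro r hr
      have hr' : (orderOf r).Coprime p := hr
      rw [SetLike.mem_coe, Subgroup.mem_subgroupOf]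
      have h5 : QuotientGroup.mk' C (r : L) ∈ Cfsg.pCore p (L ⧸ C) := r.2
      obtain ⟨j, hj⟩ := pCore_isPGroup p (L ⧸ C) ⟨_, h5⟩
      have h6 : (QuotientGroup.mk' C (r : L)) ^ p ^ j = 1 := by
        have := congrArg Subtype.val hj
        simpa using this
      have h7 : orderOf (QuotientGroup.mk' C (r : L)) ∣ p ^ j := orderOf_dvd_of_pow_eq_one h6
      have h8 : orderOf (QuotientGroup.mk' C (r : L)) ∣ orderOf r := by
        have e : orderOf (r : L) = orderOf r := Subgroup.orderOf_coe r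
        rw [← e]
        exact orderOf_map_dvd _ _
      have h9 : orderOf (QuotientGroup.mk' C (r : L)) = 1 :=
        Nat.eq_one_of_dvd_coprimes (Nat.Coprime.pow_right j hr') h8 h7
      rw [orderOf_eq_one_iff] at h9
      exact (QuotientGroup.eq_one_iff _).mp h9
    have h10 : (⊤ : Subgroup _) ≤ C.subgroupOf _ := h1 ▸ sup_le h4 h2
    exact Subgroup.subgroupOf_eq_top.mp (top_le_iff.mp h10)
  rw [← map_comap_mk' C (Cfsg.pCore p (L ⧸ C)), Subgroup.map_eq_bot_iff, QuotientGroup.ker_mk']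
  exact hRC

end Cfsg.Agent.Lib.helper53
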