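import Cfsg.Agent.Lib.helper53.WC5
import Cfsg.Agent.Lib.helper12.SylowNormal
import Cfsg.Agent.Lib.helper1.Coprime

set_option autoImplicit false

namespace Cfsg.Agent.Lib.helper53

open scoped commutatorElement Pointwise

variable {H : Type*} [Group H]

/-- `T ∩ L` is a Sylow `p`-subgroup of a subnormal subgroup `L`. -/
theorem exists_sylow_map_eq_inf_of_isSubnormal [Finite H] {p : ℕ} [Fact p.Prime] (T : Sylow p H)
    {L : Subgroup H} (hL : L.IsSubnormal) :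
    ∃ Q : Sylow p ↥L, (Q : Subgroup ↥L).map L.subtype = (T : Subgroup H) ⊓ L := by
  obtain ⟨Q, hQ⟩ := Cfsg.Agent.Lib.helper12.exists_sylow_eq_subgroupOf_of_isSubnormal T L hL
  exact ⟨Q, by rw [hQ, Subgroup.subgroupOf_map_subtype]⟩

/-- `T ∩ L` is a maximal `p`-subgroup of a subnormal subgroup `L`. -/
theorem eq_sylow_inf_of_isSubnormal53 [Finite H] {p : ℕ} [Fact p.Prime] (T : Sylow p H)
    {L : Subgroup H} (hL : L.IsSubnormal) {S : Subgroup H} (hS : IsPGroup p S) (hSL : S ≤ L)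
    (hTS : (T : Subgroup H) ⊓ L ≤ S) : S = (T : Subgroup H) ⊓ L := by
  obtain ⟨Q, hQ⟩ := exists_sylow_map_eq_inf_of_isSubnormal T hL
  have h1 : (Q : Subgroup ↥L) ≤ S.subgroupOf L := by
    intro x hx
    rw [Subgroup.mem_subgroupOf]
    apply hTS
    rw [← hQ]
    exact ⟨x, hx, rfl⟩
  have h2 : S.subgroupOf L = Q := Q.3 hS.comap_subtype h1
  rw [← hQ, ← h2, Subgroup.map_subgroupOf_eq_of_le hSL]

/-- A `p`-subgroup of a subnormal subgroup `L` is `L`-conjugate into `T ∩ L`. -/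
theorem exists_conj_le_sylow_inf_of_isSubnormal [Finite H] {p : ℕ} [Fact p.Prime] (T : Sylow p H)
    {L : Subgroup H} (hL : L.IsSubnormal) {B : Subgroup H} (hB : IsPGroup p B) (hBL : B ≤ L) :
    ∃ k ∈ L, B.map (MulAut.conj k).toMonoidHom ≤ (T : Subgroup H) ⊓ L := by
  obtain ⟨k, hk, S, hS, hSL, hAS, hBS⟩ :=
    exists_mem_pgroup_conj (T.2.to_le inf_le_left) hB (inf_le_right : (T : Subgroup H) ⊓ L ≤ L) hBL
  have e := eq_sylow_inf_of_isSubnormal53 T hL hS hSL hAS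
  exact ⟨k, hk, e ▸ hBS⟩

/-- If `E O_p(H)` is subnormal, then `T` contains a Sylow `p`-subgroup of `E`. -/
theorem exists_sylow_le_of_sup_pCore_isSubnormal [Finite H] {p : ℕ} [Fact p.Prime] (T : Sylow p H)
    {E : Subgroup H} (hE : (E ⊔ Cfsg.pCore p H).IsSubnormal) :
    ∃ TE : Sylow p ↥E, (TE : Subgroup ↥E).map E.subtype ≤ T := by
  have hOT : Cfsg.pCore p H ≤ T := pCore_le_sylow T
  have hp0 : IsPGroup p (((T : Subgroup H) ⊓ E).subgroupOf E) :=
    (T.2.to_le inf_le_left).comap_subtype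
  obtain ⟨TE, hTE⟩ := hp0.exists_le_sylow
  refine ⟨TE, ?_⟩
  have hBE : (TE : Subgroup ↥E).map E.subtype ≤ E := Subgroup.map_subtype_le _
  have hBp : IsPGroup p ((TE : Subgroup ↥E).map E.subtype) := TE.2.map _
  have hTB : (T : Subgroup H) ⊓ E ≤ (TE : Subgroup ↥E).map E.subtype := by
    intro x hx
    exact ⟨⟨x, hx.2⟩, hTE (Subgroup.mem_subgroupOf.mpr hx), rfl⟩
  obtain ⟨k, hk, hkB⟩ := exists_conj_le_sylow_inf_of_isSubnormal T hE hBp (hBE.trans le_sup_left)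
  haveI := pCore_normal p H
  have hEn : E ≤ Subgroup.normalizer ((Cfsg.pCore p H : Subgroup H) : Set H) := by
    rw [Subgroup.normalizer_eq_top]; exact le_top
  rw [sup_comm] at hk
  obtain ⟨o, ho, e, he, rfl⟩ := (mem_sup_of_le_normalizer hEn).mp hk
  have h1 : ((TE : Subgroup ↥E).map E.subtype).map (MulAut.conj e).toMonoidHom ≤
      (T : Subgroup H) ⊓ E := by
    rw [conj_le_iff]
    intro b hb
    refine Subgroup.mem_inf.mpr ⟨?_, E.mul_mem (E.mul_mem he (hBE hb)) (E.inv_mem he)⟩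
    have h2 : (o * e) * b * (o * e)⁻¹ ∈ (T : Subgroup H) :=
      (hkB (conj_mem_conj hb)).1
    have h3 : e * b * e⁻¹ = o⁻¹ * ((o * e) * b * (o * e)⁻¹) * o := by group
    rw [h3]
    exact Subgroup.mul_mem _ (Subgroup.mul_mem _ (Subgroup.inv_mem _ (hOT ho)) h2) (hOT ho)
  have h4 := mem_normalizer_of_conj_le (h1.trans hTB)
  rw [conj_eq_self_of_mem_normalizer h4] at h1
  exact h1.trans inf_le_left

/-- A conjugation-invariant family of subgroups generates a normal subgroup. -/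
theorem sSup_normal_of_conj_mem {𝒦 : Set (Subgroup H)}
    (hinv : ∀ h : H, ∀ E ∈ 𝒦, E.map (MulAut.conj h).toMonoidHom ∈ 𝒦) : (sSup 𝒦).Normal := by
  constructor
  intro n hn g
  have h1 : (sSup 𝒦).map (MulAut.conj g).toMonoidHom ≤ sSup 𝒦 := by
    rw [(Subgroup.gc_map_comap _).l_sSup]
    exact iSup₂_le fun E hE => le_sSup (hinv g E hE)
  exact h1 (conj_mem_conj hn)

/-- The standing hypotheses on the family `𝒦`: invariant and transitive under conjugation,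
`O^p(H) ≤ ⟨𝒦⟩`, and `E O_p(H)` normal in `⟨𝒦⟩ O_p(H)` for `E ∈ 𝒦`. -/
structure KFam (p : ℕ) (𝒦 : Set (Subgroup H)) : Prop where
  inv : ∀ h : H, ∀ E ∈ 𝒦, E.map (MulAut.conj h).toMonoidHom ∈ 𝒦
  tr : ∀ E ∈ 𝒦, ∀ K ∈ 𝒦, ∃ h : H, K = E.map (MulAut.conj h).toMonoidHom
  res : Cfsg.pResidual p H ≤ sSup 𝒦
  norm : ∀ E ∈ 𝒦, sSup 𝒦 ⊔ Cfsg.pCore p H ≤
    Subgroup.normalizer ((E ⊔ Cfsg.pCore p H : Subgroup H) : Set H)

namespace KFam

variable {p : ℕ} {𝒦 : Set (Subgroup H)}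

theorem rh_normal (hK : KFam p 𝒦) : (sSup 𝒦 ⊔ Cfsg.pCore p H).Normal := by
  haveI := sSup_normal_of_conj_mem hK.inv
  haveI := pCore_normal p H
  infer_instance

theorem le_rh (_ : KFam p 𝒦) {E : Subgroup H} (hE : E ∈ 𝒦) :
    E ⊔ Cfsg.pCore p H ≤ sSup 𝒦 ⊔ Cfsg.pCore p H :=
  sup_le_sup_right (le_sSup hE) _

theorem rh_sup_sylow [Finite H] [Fact p.Prime] (hK : KFam p 𝒦) (T : Sylow p H) :
    (sSup 𝒦 ⊔ Cfsg.pCore p H) ⊔ (T : Subgroup H) = ⊤ := by
  rw [eq_top_iff, ← pResidual_sup_sylow T]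
  exact sup_le_sup_right (hK.res.trans le_sup_left) _

theorem isSubnormal (hK : KFam p 𝒦) {E : Subgroup H} (hE : E ∈ 𝒦) :
    (E ⊔ Cfsg.pCore p H).IsSubnormal := by
  haveI := hK.rh_normal
  refine Subgroup.IsSubnormal.step _ _ (hK.le_rh hE) (Subgroup.Normal.isSubnormal inferInstance) ?_
  exact (Subgroup.normal_subgroupOf_iff_le_normalizer (hK.le_rh hE)).mpr (hK.norm E hE)

/-- `T` is transitive on the subgroups `E O_p(H)`, `E ∈ 𝒦`. -/
theorem exists_conj [Finite H] [Fact p.Prime] (hK : KFam p 𝒦) (T : Sylow p H) {E E' : Subgroup H}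
    (hE : E ∈ 𝒦) (hE' : E' ∈ 𝒦) :
    ∃ t ∈ (T : Subgroup H), E' ⊔ Cfsg.pCore p H =
      (E ⊔ Cfsg.pCore p H).map (MulAut.conj t).toMonoidHom := by
  obtain ⟨h, rfl⟩ := hK.tr E hE E' hE'
  haveI := hK.rh_normal
  haveI := pCore_normal p H
  have hTn : (T : Subgroup H) ≤ Subgroup.normalizer
      ((sSup 𝒦 ⊔ Cfsg.pCore p H : Subgroup H) : Set H) := by
    rw [Subgroup.normalizer_eq_top]; exact le_top
  have hh : h ∈ (sSup 𝒦 ⊔ Cfsg.pCore p H) ⊔ (T : Subgroup H) := by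
    rw [hK.rh_sup_sylow T]; exact Subgroup.mem_top h
  obtain ⟨t, ht, r, hr, rfl⟩ := (mem_sup_of_le_normalizer' hTn).mp hh
  refine ⟨t, ht, ?_⟩
  have hO : ∀ g : H, (Cfsg.pCore p H).map (MulAut.conj g).toMonoidHom = Cfsg.pCore p H := by
    intro g
    apply conj_eq_self_of_mem_normalizer
    rw [Subgroup.normalizer_eq_top]; exact Subgroup.mem_top g
  have h1 : (E ⊔ Cfsg.pCore p H).map (MulAut.conj r).toMonoidHom = E ⊔ Cfsg.pCore p H :=
    conj_eq_self_of_mem_normalizer (hK.norm E hE hr)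
  have h2 : (E ⊔ Cfsg.pCore p H).map (MulAut.conj (t * r)).toMonoidHom =
      (E ⊔ Cfsg.pCore p H).map (MulAut.conj t).toMonoidHom := by
    rw [← conj_conj, h1]
  have h3 : ∀ g : H, (E ⊔ Cfsg.pCore p H).map (MulAut.conj g).toMonoidHom =
      E.map (MulAut.conj g).toMonoidHom ⊔ Cfsg.pCore p H := by
    intro g
    rw [Subgroup.map_sup, hO g]
  rw [← h3 (t * r), h2]

end KFam

end Cfsg.Agent.Lib.helper53
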