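import Cfsg.Agent.Lib.helper53.PMinK1

set_option autoImplicit false

namespace Cfsg.Agent.Lib.helper53

open scoped commutatorElement Pointwise

variable {H : Type*} [Group H]

theorem conj_lt {A B : Subgroup H} (h : A < B) (g : H) :
    A.map (MulAut.conj g).toMonoidHom < B.map (MulAut.conj g).toMonoidHom :=
  lt_of_le_of_ne (conj_mono h.le g)
    (fun e => h.ne (Subgroup.map_injective (MulAut.conj g).injective e))

/-- The join of the proper subgroups of `L` containing `A`. -/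
def maxProper (A L : Subgroup H) : Subgroup H := sSup {Y | A ≤ Y ∧ Y < L}

theorem le_maxProper {A L Y : Subgroup H} (h1 : A ≤ Y) (h2 : Y < L) : Y ≤ maxProper A L :=
  le_sSup ⟨h1, h2⟩

theorem maxProper_conj_le (A L : Subgroup H) (g : H) :
    (maxProper A L).map (MulAut.conj g).toMonoidHom ≤
      maxProper (A.map (MulAut.conj g).toMonoidHom) (L.map (MulAut.conj g).toMonoidHom) := by
  unfold maxProper
  rw [(Subgroup.gc_map_comap _).l_sSup]
  refine iSup₂_le ?_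
  rintro Y ⟨hY1, hY2⟩
  exact le_sSup ⟨conj_mono hY1 g, conj_lt hY2 g⟩

theorem maxProper_conj (A L : Subgroup H) (g : H) :
    (maxProper A L).map (MulAut.conj g).toMonoidHom =
      maxProper (A.map (MulAut.conj g).toMonoidHom) (L.map (MulAut.conj g).toMonoidHom) := by
  apply le_antisymm (maxProper_conj_le A L g)
  rw [le_conj_iff]
  have h := maxProper_conj_le (A.map (MulAut.conj g).toMonoidHom)
    (L.map (MulAut.conj g).toMonoidHom) g⁻¹
  rwa [conj_conj, conj_conj, inv_mul_cancel, conj_one, conj_one] at h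

/-- Conjugating by an element of `T`. -/
theorem maxProper_conj_of_mem {T : Subgroup H} {t : H} (ht : t ∈ T) (L : Subgroup H) :
    (maxProper (T ⊓ L) L).map (MulAut.conj t).toMonoidHom =
      maxProper (T ⊓ L.map (MulAut.conj t).toMonoidHom) (L.map (MulAut.conj t).toMonoidHom) := by
  rw [maxProper_conj, Subgroup.map_inf _ _ _ (MulAut.conj t).injective,
    conj_eq_self_of_mem_normalizer (Subgroup.le_normalizer ht)]

namespace KFam

variable {p : ℕ} {𝒦 : Set (Subgroup H)}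

theorem pCoreOf_sup_eq [Finite H] (hK : KFam p 𝒦) {E : Subgroup H} (hE : E ∈ 𝒦) :
    Cfsg.pCoreOf p (E ⊔ Cfsg.pCore p H) = Cfsg.pCore p H := by
  haveI := pCore_normal p H
  haveI := hK.rh_normal
  apply le_antisymm
  · have h1 : Cfsg.pCoreOf p (E ⊔ Cfsg.pCore p H) ≤ Cfsg.pCoreOf p (sSup 𝒦 ⊔ Cfsg.pCore p H) :=
      pCoreOf_le_of_normal (hK.le_rh hE) (hK.norm E hE)
    have h2 : (Cfsg.pCoreOf p (sSup 𝒦 ⊔ Cfsg.pCore p H)).Normal := by
      have h3 := normalizer_le_normalizer_pCoreOf p (sSup 𝒦 ⊔ Cfsg.pCore p H)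
      rw [Subgroup.normalizer_eq_top] at h3
      exact Subgroup.normalizer_eq_top_iff.mp (top_le_iff.mp h3)
    exact h1.trans (le_pCore h2 (pCoreOf_isPGroup p _))
  · refine le_pCoreOf le_sup_right ?_ (pCore_isPGroup p H)
    rw [Subgroup.normalizer_eq_top]; exact le_top

theorem pCoreOf_le_pCore [Finite H] (hK : KFam p 𝒦) {E : Subgroup H} (hE : E ∈ 𝒦) :
    Cfsg.pCoreOf p E ≤ Cfsg.pCore p H := by
  haveI := pCore_normal p H
  have hn : ∀ X : Subgroup H, X ≤ Subgroup.normalizer ((Cfsg.pCore p H : Subgroup H) : Set H) := by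
    intro X
    rw [Subgroup.normalizer_eq_top]; exact le_top
  have h1 : Cfsg.pCoreOf p E ⊔ Cfsg.pCore p H ≤ Cfsg.pCoreOf p (E ⊔ Cfsg.pCore p H) := by
    refine le_pCoreOf (sup_le_sup_right (pCoreOf_le p E) _) (sup_le ?_ ?_) ?_
    · exact Cfsg.Agent.Lib.helper52.le_normalizer_sup (le_normalizer_pCoreOf p E) (hn E)
    · exact le_sup_right.trans Subgroup.le_normalizer
    · exact (pCoreOf_isPGroup p E).to_sup_of_normal_right (pCore_isPGroup p H)
  rw [hK.pCoreOf_sup_eq hE] at h1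
  exact le_sup_left.trans h1

/-- A subgroup containing `T` and one `E O_p(H)` is everything. -/
theorem eq_top_of_le [Finite H] [Fact p.Prime] (hK : KFam p 𝒦) (T : Sylow p H) {E : Subgroup H}
    (hE : E ∈ 𝒦) {X : Subgroup H} (hTX : (T : Subgroup H) ≤ X)
    (hEX : E ⊔ Cfsg.pCore p H ≤ X) : X = ⊤ := by
  rw [eq_top_iff, ← hK.rh_sup_sylow T]
  refine sup_le (sup_le (sSup_le ?_) ((pCore_le_sylow T).trans hTX)) hTX
  intro E' hE'
  obtain ⟨t, ht, e⟩ := hK.exists_conj T hE hE'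
  have h1 := conj_mono hEX t
  rw [← e, conj_eq_self_of_mem_normalizer (Subgroup.le_normalizer (hTX ht))] at h1
  exact le_sup_left.trans h1

end KFam

/-- Transfer of `p`-minimality from `E ∈ 𝒦` to `E O_p(H)`, relative to the Sylow subgroup `T`. -/
theorem pmin_family_aux [Finite H] {p : ℕ} [Fact p.Prime] {𝒦 : Set (Subgroup H)}
    (hK : KFam p 𝒦) (T : Sylow p H) {E : Subgroup H} (hE : E ∈ 𝒦)
    (hmin : ∀ TE : Sylow p ↥E, Cfsg.IsMinimalOver (TE : Subgroup ↥E)) :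
    (∃ M' : Subgroup H, M' < E ⊔ Cfsg.pCore p H ∧ ∀ Y : Subgroup H,
        (T : Subgroup H) ⊓ (E ⊔ Cfsg.pCore p H) ≤ Y → Y < E ⊔ Cfsg.pCore p H → Y ≤ M') ∧
      (∀ Y : Subgroup H, (T : Subgroup H) ⊓ (E ⊔ Cfsg.pCore p H) ≤ Y →
        E ≤ Subgroup.normalizer (Y : Set H) → E ⊔ Cfsg.pCore p H ≤ Y) ∧
      (T : Subgroup H) ⊓ (E ⊔ Cfsg.pCore p H) < E ⊔ Cfsg.pCore p H := by
  haveI := pCore_normal p H
  have hEn : E ≤ Subgroup.normalizer ((Cfsg.pCore p H : Subgroup H) : Set H) := by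
    rw [Subgroup.normalizer_eq_top]; exact le_top
  obtain ⟨TE, hTE⟩ := exists_sylow_le_of_sup_pCore_isSubnormal T (hK.isSubnormal hE)
  obtain ⟨hcl, ME, ⟨hMEc, hTEM⟩, huniq⟩ := hmin TE
  have hOA : Cfsg.pCore p H ≤ (T : Subgroup H) ⊓ (E ⊔ Cfsg.pCore p H) :=
    le_inf (pCore_le_sylow T) le_sup_right
  have hTEA : (TE : Subgroup ↥E).map E.subtype ≤ (T : Subgroup H) ⊓ (E ⊔ Cfsg.pCore p H) :=
    le_inf hTE ((Subgroup.map_subtype_le _).trans le_sup_left)
  -- (ii)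
  have hii : ∀ Y : Subgroup H, (T : Subgroup H) ⊓ (E ⊔ Cfsg.pCore p H) ≤ Y →
      E ≤ Subgroup.normalizer (Y : Set H) → E ⊔ Cfsg.pCore p H ≤ Y := by
    intro Y hAY hEY
    refine sup_le ?_ (hOA.trans hAY)
    haveI : (Y.subgroupOf E).Normal := Subgroup.normal_subgroupOf_of_le_normalizer hEY
    have h1 : (TE : Subgroup ↥E) ≤ Y.subgroupOf E := by
      intro x hx
      rw [Subgroup.mem_subgroupOf]
      exact hAY (hTEA ⟨x, hx, rfl⟩)
    have h2 : Subgroup.normalClosure ((TE : Subgroup ↥E) : Set ↥E) ≤ Y.subgroupOf E :=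
      Subgroup.normalClosure_le_normal h1
    rw [hcl] at h2
    intro e he
    exact Subgroup.mem_subgroupOf.mp (h2 (Subgroup.mem_top ⟨e, he⟩))
  -- `E ∩ O ≤ T_E`
  have hEO : (E ⊓ Cfsg.pCore p H).subgroupOf E ≤ (TE : Subgroup ↥E) := by
    have hnrm : ((E ⊓ Cfsg.pCore p H).subgroupOf E).Normal :=
      Subgroup.normal_subgroupOf_of_le_normalizer
        (Cfsg.Agent.Lib.helper52.le_normalizer_inf Subgroup.le_normalizer hEn)
    exact Cfsg.Agent.Lib.helper1.normal_pgroup_le_sylow ((E ⊓ Cfsg.pCore p H).subgroupOf E)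
      (hn := hnrm) (((pCore_isPGroup p H).to_le inf_le_right).comap_subtype) TE
  have hTEeq : ((T : Subgroup H) ⊓ E).subgroupOf E = (TE : Subgroup ↥E) := by
    apply TE.3 ((T.2.to_le inf_le_left).comap_subtype)
    intro x hx
    refine Subgroup.mem_subgroupOf.mpr ?_
    exact Subgroup.mem_inf.mpr ⟨hTE ⟨x, hx, rfl⟩, x.2⟩
  -- the candidate
  have hM'le : (ME.map E.subtype) ⊔ Cfsg.pCore p H ≤ E ⊔ Cfsg.pCore p H :=
    sup_le_sup_right (Subgroup.map_subtype_le ME) _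
  have hM'lt : (ME.map E.subtype) ⊔ Cfsg.pCore p H < E ⊔ Cfsg.pCore p H := by
    refine lt_of_le_of_ne hM'le ?_
    intro heq
    apply hMEc.1
    rw [eq_top_iff]
    intro x _
    have hx : (x : H) ∈ Cfsg.pCore p H ⊔ ME.map E.subtype := by
      rw [sup_comm, heq]; exact le_sup_left (a := E) x.2
    have hMn : ME.map E.subtype ≤
        Subgroup.normalizer ((Cfsg.pCore p H : Subgroup H) : Set H) := by
      rw [Subgroup.normalizer_eq_top]; exact le_top
    obtain ⟨m, ⟨m', hm', rfl⟩, o, ho, hmo⟩ := (mem_sup_of_le_normalizer' hMn).mp hx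
    have hoE : o ∈ E := by
      have : o = (m' : H)⁻¹ * (x : H) := by rw [← hmo]; simp
      rw [this]
      exact E.mul_mem (E.inv_mem m'.2) x.2
    have ho' : (⟨o, hoE⟩ : ↥E) ∈ ME :=
      hTEM (hEO (Subgroup.mem_subgroupOf.mpr (Subgroup.mem_inf.mpr ⟨hoE, ho⟩)))
    have hx' : x = m' * ⟨o, hoE⟩ := Subtype.ext hmo.symm
    rw [hx']
    exact ME.mul_mem hm' ho'
  have hi : ∀ Y : Subgroup H, (T : Subgroup H) ⊓ (E ⊔ Cfsg.pCore p H) ≤ Y →
      Y < E ⊔ Cfsg.pCore p H → Y ≤ (ME.map E.subtype) ⊔ Cfsg.pCore p H := by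
    intro Y hAY hY
    have hne : Y.subgroupOf E ≠ ⊤ := by
      intro h
      have hEY : E ≤ Y := Subgroup.subgroupOf_eq_top.mp h
      exact hY.ne (le_antisymm hY.le (sup_le hEY (hOA.trans hAY)))
    obtain ⟨M₂, hM₂, hle⟩ := (eq_top_or_exists_le_coatom (Y.subgroupOf E)).resolve_left hne
    have hTE2 : (TE : Subgroup ↥E) ≤ M₂ := by
      refine le_trans ?_ hle
      intro x hx
      exact Subgroup.mem_subgroupOf.mpr (hAY (hTEA ⟨x, hx, rfl⟩))
    have e2 : M₂ = ME := huniq M₂ ⟨hM₂, hTE2⟩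
    rw [e2] at hle
    intro y hy
    have hy' : y ∈ Cfsg.pCore p H ⊔ E := by rw [sup_comm]; exact hY.le hy
    obtain ⟨e, he, o, ho, rfl⟩ := (mem_sup_of_le_normalizer' hEn).mp hy'
    have heY : e ∈ Y := by
      have : e = (e * o) * o⁻¹ := by group
      rw [this]
      exact Y.mul_mem hy (Y.inv_mem (hAY (hOA ho)))
    exact Subgroup.mul_mem_sup ⟨⟨e, he⟩, hle (Subgroup.mem_subgroupOf.mpr heY), rfl⟩ ho
  have hAM' : (T : Subgroup H) ⊓ (E ⊔ Cfsg.pCore p H) ≤ (ME.map E.subtype) ⊔ Cfsg.pCore p H := by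
    intro y hy
    have hy' : y ∈ Cfsg.pCore p H ⊔ E := by rw [sup_comm]; exact hy.2
    obtain ⟨e, he, o, ho, rfl⟩ := (mem_sup_of_le_normalizer' hEn).mp hy'
    have heT : e ∈ (T : Subgroup H) := by
      have : e = (e * o) * o⁻¹ := by group
      rw [this]
      exact Subgroup.mul_mem _ hy.1 (Subgroup.inv_mem _ (pCore_le_sylow T ho))
    have heTE : (⟨e, he⟩ : ↥E) ∈ (TE : Subgroup ↥E) := by
      rw [← hTEeq, Subgroup.mem_subgroupOf]
      exact Subgroup.mem_inf.mpr ⟨heT, he⟩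
    exact Subgroup.mul_mem_sup ⟨⟨e, he⟩, hTEM heTE, rfl⟩ ho
  exact ⟨⟨_, hM'lt, hi⟩, hii, lt_of_le_of_lt hAM' hM'lt⟩

/-- The subgroup of `⟨𝒦⟩ O_p(H)` normalizing, for each `E ∈ 𝒦`, the largest proper subgroup of
`E O_p(H)` containing `T ∩ E O_p(H)`. -/
def kStab (p : ℕ) (𝒦 : Set (Subgroup H)) (T : Subgroup H) : Subgroup H :=
  (sSup 𝒦 ⊔ Cfsg.pCore p H) ⊓ ⨅ E ∈ 𝒦, Subgroup.normalizer
    ((maxProper (T ⊓ (E ⊔ Cfsg.pCore p H)) (E ⊔ Cfsg.pCore p H) : Subgroup H) : Set H)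

theorem mem_kStab {p : ℕ} {𝒦 : Set (Subgroup H)} {T : Subgroup H} {g : H} :
    g ∈ kStab p 𝒦 T ↔ g ∈ sSup 𝒦 ⊔ Cfsg.pCore p H ∧ ∀ E ∈ 𝒦, g ∈ Subgroup.normalizer
      ((maxProper (T ⊓ (E ⊔ Cfsg.pCore p H)) (E ⊔ Cfsg.pCore p H) : Subgroup H) : Set H) := by
  unfold kStab
  rw [Subgroup.mem_inf]
  simp only [Subgroup.mem_iInf]

/-- S2855, first part: a group generated (modulo a `p`-group quotient) by a conjugacy class of
`p`-minimal subgroups `E` with `E O_p(H)` normal in `⟨𝒦⟩ O_p(H)` is `p`-minimal. -/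
theorem pmin_family [Finite H] {p : ℕ} [Fact p.Prime] {𝒦 : Set (Subgroup H)}
    (hK : KFam p 𝒦) (hne : 𝒦.Nonempty)
    (hmin : ∀ E ∈ 𝒦, ∀ TE : Sylow p ↥E, Cfsg.IsMinimalOver (TE : Subgroup ↥E)) (T : Sylow p H) :
    Cfsg.IsMinimalOver (T : Subgroup H) := by
  haveI := pCore_normal p H
  haveI := hK.rh_normal
  have hTR : (T : Subgroup H) ≤ Subgroup.normalizer
      ((sSup 𝒦 ⊔ Cfsg.pCore p H : Subgroup H) : Set H) := by
    rw [Subgroup.normalizer_eq_top]; exact le_top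
  refine ⟨?_, ?_⟩
  · rw [eq_top_iff, ← pResidual_sup_sylow T]
    refine sup_le (hK.res.trans (sSup_le ?_)) Subgroup.le_normalClosure
    intro E hE
    obtain ⟨TE, hTE⟩ := exists_sylow_le_of_sup_pCore_isSubnormal T (hK.isSubnormal hE)
    have hcl := (hmin E hE TE).1
    have h1 : (TE : Subgroup ↥E) ≤
        (Subgroup.normalClosure ((T : Subgroup H) : Set H)).subgroupOf E := by
      intro x hx
      rw [Subgroup.mem_subgroupOf]
      exact Subgroup.le_normalClosure (hTE ⟨x, hx, rfl⟩)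
    have h2 : Subgroup.normalClosure ((TE : Subgroup ↥E) : Set ↥E) ≤
        (Subgroup.normalClosure ((T : Subgroup H) : Set H)).subgroupOf E :=
      Subgroup.normalClosure_le_normal h1
    rw [hcl] at h2
    intro e he
    exact Subgroup.mem_subgroupOf.mp (h2 (Subgroup.mem_top ⟨e, he⟩))
  · -- `T` normalizes `kStab`
    have hTn : (T : Subgroup H) ≤ Subgroup.normalizer ((kStab p 𝒦 T : Subgroup H) : Set H) := by
      intro t ht
      apply mem_normalizer_of_conj_le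
      rw [conj_le_iff]
      intro g hg
      rw [mem_kStab] at hg ⊢
      refine ⟨‹(sSup 𝒦 ⊔ Cfsg.pCore p H).Normal›.conj_mem g hg.1 t, ?_⟩
      intro E hE
      have hE' : E.map (MulAut.conj t⁻¹).toMonoidHom ∈ 𝒦 := hK.inv t⁻¹ E hE
      have h1 := hg.2 _ hE'
      have hO : (Cfsg.pCore p H).map (MulAut.conj t).toMonoidHom = Cfsg.pCore p H := by
        apply conj_eq_self_of_mem_normalizer
        rw [Subgroup.normalizer_eq_top]; exact Subgroup.mem_top t
      have e1 : (E.map (MulAut.conj t⁻¹).toMonoidHom ⊔ Cfsg.pCore p H).map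
          (MulAut.conj t).toMonoidHom = E ⊔ Cfsg.pCore p H := by
        rw [Subgroup.map_sup, conj_conj, mul_inv_cancel, conj_one, hO]
      have e2 := maxProper_conj_of_mem ht (E.map (MulAut.conj t⁻¹).toMonoidHom ⊔ Cfsg.pCore p H)
      rw [e1] at e2
      rw [← e2, normalizer_conj]
      exact conj_mem_conj h1
    -- `T ∩ R̂ ≤ kStab`
    have hTR' : (T : Subgroup H) ⊓ (sSup 𝒦 ⊔ Cfsg.pCore p H) ≤ kStab p 𝒦 T := by
      intro t ht
      rw [mem_kStab]
      refine ⟨ht.2, fun E hE => ?_⟩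
      apply mem_normalizer_of_conj_eq_self
      have e2 := maxProper_conj_of_mem ht.1 (E ⊔ Cfsg.pCore p H)
      rw [conj_eq_self_of_mem_normalizer (hK.norm E hE ht.2)] at e2
      exact e2
    have hkR : kStab p 𝒦 T ≤ sSup 𝒦 ⊔ Cfsg.pCore p H := fun g hg => (mem_kStab.mp hg).1
    -- every proper subgroup containing `T` lies in `kStab T`
    have hd : ∀ X : Subgroup H, (T : Subgroup H) ≤ X → X ≠ ⊤ → X ≤ kStab p 𝒦 T ⊔ T := by
      intro X hTX hX
      have step1 : ∀ E ∈ 𝒦, ¬ E ⊔ Cfsg.pCore p H ≤ X :=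
        fun E hE h => hX (hK.eq_top_of_le T hE hTX h)
      have step2 : ∀ E ∈ 𝒦, X ⊓ (E ⊔ Cfsg.pCore p H) ≤
          maxProper ((T : Subgroup H) ⊓ (E ⊔ Cfsg.pCore p H)) (E ⊔ Cfsg.pCore p H) := by
        intro E hE
        refine le_maxProper (inf_le_inf_right _ hTX) (lt_of_le_of_ne inf_le_right ?_)
        intro h
        exact step1 E hE (inf_eq_right.mp h)
      have step3 : X ⊓ (sSup 𝒦 ⊔ Cfsg.pCore p H) ≤ kStab p 𝒦 T := by
        intro x hx
        rw [mem_kStab]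
        refine ⟨hx.2, fun E hE => ?_⟩
        apply mem_normalizer_of_conj_le
        apply le_maxProper
        · intro y hy
          rw [mem_conj_iff]
          apply step2 E hE
          refine Subgroup.mem_inf.mpr ⟨X.mul_mem (X.mul_mem (X.inv_mem hx.1) (hTX hy.1)) hx.1, ?_⟩
          have hxn := Subgroup.inv_mem _ (hK.norm E hE hx.2)
          have h3 := (Subgroup.mem_normalizer_iff.mp hxn y).mp hy.2
          rwa [inv_inv] at h3
        · have h4 := conj_lt (pmin_family_aux hK T hE (hmin E hE)).1.choose_spec.1 x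
          have h5 : maxProper ((T : Subgroup H) ⊓ (E ⊔ Cfsg.pCore p H)) (E ⊔ Cfsg.pCore p H) <
              E ⊔ Cfsg.pCore p H := by
            obtain ⟨M', hM', hM'2⟩ := (pmin_family_aux hK T hE (hmin E hE)).1
            exact lt_of_le_of_lt (sSup_le fun Y hY => hM'2 Y hY.1 hY.2) hM'
          have h6 := conj_lt h5 x
          rwa [conj_eq_self_of_mem_normalizer (hK.norm E hE hx.2)] at h6
      intro x hx
      have hx' : x ∈ (sSup 𝒦 ⊔ Cfsg.pCore p H) ⊔ (T : Subgroup H) := by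
        rw [hK.rh_sup_sylow T]; exact Subgroup.mem_top x
      obtain ⟨r, hr, t, ht, rfl⟩ := (mem_sup_of_le_normalizer hTR).mp hx'
      have hrX : r ∈ X := by
        have : r = (r * t) * t⁻¹ := by group
        rw [this]
        exact X.mul_mem hx (X.inv_mem (hTX ht))
      exact Subgroup.mul_mem_sup (step3 (Subgroup.mem_inf.mpr ⟨hrX, hr⟩)) ht
    -- `kStab T ≠ ⊤`
    have hc : kStab p 𝒦 T ⊔ (T : Subgroup H) ≠ ⊤ := by
      intro htop
      obtain ⟨E₀, hE₀⟩ := hne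
      have hR : sSup 𝒦 ⊔ Cfsg.pCore p H ≤ kStab p 𝒦 T := by
        intro r hr
        have hr' : r ∈ kStab p 𝒦 T ⊔ (T : Subgroup H) := by rw [htop]; exact Subgroup.mem_top r
        obtain ⟨g, hg, t, ht, rfl⟩ := (mem_sup_of_le_normalizer hTn).mp hr'
        have htR : t ∈ sSup 𝒦 ⊔ Cfsg.pCore p H := by
          have : t = g⁻¹ * (g * t) := by group
          rw [this]
          exact Subgroup.mul_mem _ (Subgroup.inv_mem _ (hkR hg)) hr
        exact Subgroup.mul_mem _ hg (hTR' (Subgroup.mem_inf.mpr ⟨ht, htR⟩))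
      obtain ⟨⟨M', hM', hM'2⟩, hii, hlt⟩ := pmin_family_aux hK T hE₀ (hmin E₀ hE₀)
      have h5 : maxProper ((T : Subgroup H) ⊓ (E₀ ⊔ Cfsg.pCore p H)) (E₀ ⊔ Cfsg.pCore p H) <
          E₀ ⊔ Cfsg.pCore p H :=
        lt_of_le_of_lt (sSup_le fun Y hY => hM'2 Y hY.1 hY.2) hM'
      have h6 : E₀ ≤ Subgroup.normalizer ((maxProper ((T : Subgroup H) ⊓ (E₀ ⊔ Cfsg.pCore p H))
          (E₀ ⊔ Cfsg.pCore p H) : Subgroup H) : Set H) := by
        intro e he
        exact (mem_kStab.mp (hR (le_sup_left (a := sSup 𝒦) (le_sSup hE₀ he)))).2 E₀ hE₀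
      exact absurd (hii _ (le_maxProper le_rfl hlt) h6) (not_le_of_gt h5)
    refine ⟨kStab p 𝒦 T ⊔ T, ⟨⟨hc, ?_⟩, le_sup_right⟩, ?_⟩
    · intro X hX
      by_contra hXtop
      exact absurd (hd X (le_sup_right.trans hX.le) hXtop) (not_le_of_gt hX)
    · rintro M' ⟨hM'c, hTM'⟩
      have h1 := hd M' hTM' hM'c.1
      by_contra hne'
      exact hc (hM'c.2 _ (lt_of_le_of_ne h1 hne'))

end Cfsg.Agent.Lib.helper53
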