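import Cfsg.Agent.Lib.helper53.PMinK2
import Cfsg.Agent.Lib.helper53.SylowExtra

set_option autoImplicit false

namespace Cfsg.Agent.Lib.helper53

open scoped commutatorElement Pointwise

variable {H : Type*} [Group H]

/-- The dichotomy for a strongly `p`-irreducible subgroup `E` and a subgroup `Y` it normalizes. -/
theorem spi_dichotomy {p : ℕ} {E Y : Subgroup H} (hE : Cfsg.IsStronglyPIrreducible p ↥E)
    (hEY : E ≤ Subgroup.normalizer (Y : Set H)) :
    (Cfsg.pResidual p ↥E).map E.subtype ≤ Y ∨ ⁅Y ⊓ E, E⁆ ≤ Cfsg.pCoreOf p E := by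
  haveI hN : (Y.subgroupOf E).Normal := Subgroup.normal_subgroupOf_of_le_normalizer hEY
  by_cases h : ⁅Y.subgroupOf E, (⊤ : Subgroup ↥E)⁆ ≤ Cfsg.pCore p ↥E
  · right
    have h1 := Subgroup.map_mono (f := E.subtype) h
    rw [Subgroup.map_commutator, Subgroup.subgroupOf_map_subtype, ← MonoidHom.range_eq_map,
      Subgroup.range_subtype] at h1
    exact h1
  · left
    have h1 := hE.2 _ hN h
    have h2 := Subgroup.map_mono (f := E.subtype) h1
    rw [Subgroup.subgroupOf_map_subtype] at h2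
    exact h2.trans inf_le_left

/-- A subgroup normalized by the strongly `p`-irreducible `E` and containing a Sylow `p`-subgroup
of `E` contains `E`. -/
theorem spi_le_of_sylow_le [Finite H] {p : ℕ} [Fact p.Prime] {E Y : Subgroup H}
    (hE : Cfsg.IsStronglyPIrreducible p ↥E) (TE : Sylow p ↥E)
    (hEY : E ≤ Subgroup.normalizer (Y : Set H))
    (hTY : (TE : Subgroup ↥E).map E.subtype ≤ Y) : E ≤ Y := by
  rcases spi_dichotomy hE hEY with h | h
  · exact (map_pResidual_sup_sylow E TE).ge.trans (sup_le h hTY)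
  · exfalso
    apply hE.1
    apply isPClosed_of_normal_sylow TE
    have h1 : ⁅(TE : Subgroup ↥E).map E.subtype, E⁆ ≤ (TE : Subgroup ↥E).map E.subtype := by
      refine (Subgroup.commutator_mono (le_inf hTY (Subgroup.map_subtype_le _)) le_rfl).trans
        (h.trans ?_)
      exact Subgroup.map_mono (pCore_le_sylow TE)
    have h2 := le_normalizer_of_commutator_le h1
    have h3 : ((TE : Subgroup ↥E).map E.subtype).subgroupOf E = TE :=
      Subgroup.comap_map_eq_self_of_injective E.subtype_injective _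
    have h4 : (((TE : Subgroup ↥E).map E.subtype).subgroupOf E).Normal :=
      Subgroup.normal_subgroupOf_of_le_normalizer h2
    rwa [h3] at h4

/-- The elements `x` with `[u, x] ∈ N`, for a normal subgroup `N`. -/
def centMod (N : Subgroup H) [hN : N.Normal] (u : H) : Subgroup H where
  carrier := {x | ⁅u, x⁆ ∈ N}
  one_mem' := by
    show ⁅u, (1 : H)⁆ ∈ N
    rw [commutatorElement_one_right]; exact N.one_mem
  mul_mem' := by
    intro x y hx hy
    show ⁅u, x * y⁆ ∈ N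
    have e : ⁅u, x * y⁆ = ⁅u, x⁆ * (x * ⁅u, y⁆ * x⁻¹) := by
      simp only [commutatorElement_def]; group
    rw [e]
    exact N.mul_mem hx (hN.conj_mem _ hy x)
  inv_mem' := by
    intro x hx
    show ⁅u, x⁻¹⁆ ∈ N
    have e : ⁅u, x⁻¹⁆ = x⁻¹ * ⁅u, x⁆⁻¹ * x⁻¹⁻¹ := by
      simp only [commutatorElement_def]; group
    rw [e]
    exact hN.conj_mem _ (N.inv_mem hx) x⁻¹

theorem mem_centMod {N : Subgroup H} [N.Normal] {u x : H} : x ∈ centMod N u ↔ ⁅u, x⁆ ∈ N :=
  Iff.rfl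

theorem le_centMod (N : Subgroup H) [hN : N.Normal] (u : H) : N ≤ centMod N u := by
  intro n hn
  rw [mem_centMod, commutatorElement_def]
  exact N.mul_mem (hN.conj_mem n hn u) (N.inv_mem hn)

/-- `[A, B] ≤ N` gives `[A N, B N] ≤ N` for normal `N`. -/
theorem commutator_sup_sup_le {N A B : Subgroup H} [N.Normal] (h : ⁅A, B⁆ ≤ N) :
    ⁅A ⊔ N, B ⊔ N⁆ ≤ N := by
  have h1 : ∀ a ∈ A, B ⊔ N ≤ centMod N a := by
    intro a ha
    exact sup_le (fun b hb => h (Subgroup.commutator_mem_commutator ha hb)) (le_centMod N a)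
  have h2 : ∀ y ∈ B ⊔ N, A ⊔ N ≤ centMod N y := by
    intro y hy
    refine sup_le (fun a ha => ?_) (le_centMod N y)
    rw [mem_centMod, ← commutatorElement_inv]
    exact N.inv_mem (h1 a ha hy)
  rw [Subgroup.commutator_le]
  intro x hx y hy
  rw [← commutatorElement_inv]
  exact N.inv_mem (h2 y hy hx)

/-- Dedekind's law with a normal subgroup. -/
theorem le_inf_sup_of_le_sup {N D E : Subgroup H} [N.Normal] (hND : N ≤ D) (hD : D ≤ E ⊔ N) :
    D ≤ (D ⊓ E) ⊔ N := by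
  intro x hx
  have hEn : E ≤ Subgroup.normalizer ((N : Subgroup H) : Set H) := by
    rw [Subgroup.normalizer_eq_top]; exact le_top
  have hx' : x ∈ N ⊔ E := by rw [sup_comm]; exact hD hx
  obtain ⟨e, he, o, ho, rfl⟩ := (mem_sup_of_le_normalizer' hEn).mp hx'
  have heD : e ∈ D := by
    have : e = (e * o) * o⁻¹ := by group
    rw [this]
    exact D.mul_mem hx (D.inv_mem (hND ho))
  exact Subgroup.mul_mem_sup (Subgroup.mem_inf.mpr ⟨heD, he⟩) ho

/-- If `O^p(X) ≤ Y` then `O^p(X) ≤ O^p(Y)` (ambient form). -/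
theorem map_pResidual_le_of_map_pResidual_le {p : ℕ} {X Y : Subgroup H}
    (h : (Cfsg.pResidual p ↥X).map X.subtype ≤ Y) :
    (Cfsg.pResidual p ↥X).map X.subtype ≤ (Cfsg.pResidual p ↥Y).map Y.subtype := by
  have e1 := Cfsg.Agent.Lib.helper52.map_pResidual_subtype p X
  have e2 := Cfsg.Agent.Lib.helper52.map_pResidual_subtype p Y
  rw [e2, e1, Subgroup.closure_le]
  intro g hg
  refine Subgroup.subset_closure ⟨h ?_, hg.2⟩
  rw [e1]
  exact Subgroup.subset_closure hg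

/-- `O^p(E O_p(H)) ≤ O^p(E) O_p(H)`. -/
theorem map_pResidual_sup_pCore_le [Finite H] {p : ℕ} [Fact p.Prime] (E : Subgroup H) :
    (Cfsg.pResidual p ↥(E ⊔ Cfsg.pCore p H)).map (E ⊔ Cfsg.pCore p H).subtype ≤
      (Cfsg.pResidual p ↥E).map E.subtype ⊔ Cfsg.pCore p H := by
  haveI := pCore_normal p H
  have hn : ∀ X : Subgroup H, X ≤ Subgroup.normalizer ((Cfsg.pCore p H : Subgroup H) : Set H) := by
    intro X
    rw [Subgroup.normalizer_eq_top]; exact le_top
  obtain ⟨TE, -⟩ := (IsPGroup.of_bot (p := p) (G := ↥E)).exists_le_sylow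
  have hEE : (Cfsg.pResidual p ↥E).map E.subtype ≤ E := Subgroup.map_subtype_le _
  refine map_pResidual_le_of_sup_eq (T := (TE : Subgroup ↥E).map E.subtype ⊔ Cfsg.pCore p H)
    (sup_le_sup_right hEE _) (sup_le ?_ ?_) ?_ (sup_le_sup_right (Subgroup.map_subtype_le _) _) ?_
  · exact Cfsg.Agent.Lib.helper52.le_normalizer_sup (le_normalizer_map_pResidual p E) (hn E)
  · exact le_sup_right.trans Subgroup.le_normalizer
  · exact (TE.2.map E.subtype).to_sup_of_normal_right (pCore_isPGroup p H)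
  · have h1 := map_pResidual_sup_sylow E TE
    calc ((Cfsg.pResidual p ↥E).map E.subtype ⊔ Cfsg.pCore p H) ⊔
          ((TE : Subgroup ↥E).map E.subtype ⊔ Cfsg.pCore p H)
        = ((Cfsg.pResidual p ↥E).map E.subtype ⊔ (TE : Subgroup ↥E).map E.subtype) ⊔
            Cfsg.pCore p H := by
          rw [sup_sup_sup_comm, sup_idem]
      _ = E ⊔ Cfsg.pCore p H := by rw [h1]

namespace KFam

variable {p : ℕ} {𝒦 : Set (Subgroup H)}

/-- A `p`-subgroup of `E O_p(H)` centralizing `E O_p(H)` modulo `O_p(H)` lies in `O_p(H)`. -/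
theorem pgroup_le_pCore [Finite H] (hK : KFam p 𝒦) {E : Subgroup H} (hE : E ∈ 𝒦)
    {Z B : Subgroup H} (hZ : ⁅Z, E ⊔ Cfsg.pCore p H⁆ ≤ Cfsg.pCore p H) (hBZ : B ≤ Z)
    (hBE : B ≤ E ⊔ Cfsg.pCore p H) (hB : IsPGroup p B) : B ≤ Cfsg.pCore p H := by
  haveI := pCore_normal p H
  have h1 : ⁅B ⊔ Cfsg.pCore p H, E ⊔ Cfsg.pCore p H⁆ ≤ B ⊔ Cfsg.pCore p H := by
    have h2 := commutator_sup_sup_le (N := Cfsg.pCore p H) hZ
    exact le_trans (Subgroup.commutator_mono (sup_le_sup_right hBZ _) le_sup_left)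
      (h2.trans le_sup_right)
  have h3 := le_normalizer_of_commutator_le h1
  have h4 : B ⊔ Cfsg.pCore p H ≤ Cfsg.pCoreOf p (E ⊔ Cfsg.pCore p H) :=
    le_pCoreOf (sup_le hBE le_sup_right) h3 (hB.to_sup_of_normal_right (pCore_isPGroup p H))
  rw [hK.pCoreOf_sup_eq hE] at h4
  exact le_sup_left.trans h4

/-- If `[u, E] ≤ Z` where `Z ≤ E O_p(H)` centralizes `E O_p(H)` modulo `O_p(H)`, and `E` is
strongly `p`-irreducible, then `u` centralizes `E O_p(H)` modulo `O_p(H)`. -/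
theorem le_centMod [Finite H] [Fact p.Prime] (hK : KFam p 𝒦) {E : Subgroup H} (hE : E ∈ 𝒦)
    (hspi : Cfsg.IsStronglyPIrreducible p ↥E) {Z : Subgroup H}
    (hZE : Z ≤ E ⊔ Cfsg.pCore p H) (hZ : ⁅Z, E ⊔ Cfsg.pCore p H⁆ ≤ Cfsg.pCore p H) {u : H}
    (hu : ∀ f ∈ E, ⁅u, f⁆ ∈ Z) :
    haveI := pCore_normal p H
    E ⊔ Cfsg.pCore p H ≤ centMod (Cfsg.pCore p H) u := by
  haveI hOn := pCore_normal p H
  have hZc : ∀ z ∈ Z, ∀ x ∈ E, ⁅z, x⁆ ∈ Cfsg.pCore p H := fun z hz x hx =>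
    hZ (Subgroup.commutator_mem_commutator hz (le_sup_left (a := E) hx))
  -- `E` normalizes `Y`
  have hEY : E ≤ Subgroup.normalizer
      ((centMod (Cfsg.pCore p H) u ⊓ E : Subgroup H) : Set H) := by
    intro f hf
    apply mem_normalizer_of_conj_le
    rw [conj_le_iff]
    intro e he
    have hfe : f * e * f⁻¹ ∈ E := E.mul_mem (E.mul_mem hf he.2) (E.inv_mem hf)
    refine Subgroup.mem_inf.mpr ⟨?_, hfe⟩
    rw [mem_centMod]
    have e1 : ⁅u, f * e * f⁻¹⁆ =
        (⁅u, f⁆ * (f * ⁅u, e⁆ * f⁻¹) * ⁅u, f⁆⁻¹) * ⁅⁅u, f⁆, f * e * f⁻¹⁆ := by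
      simp only [commutatorElement_def]; group
    rw [e1]
    exact Subgroup.mul_mem _ (hOn.conj_mem _ (hOn.conj_mem _ (mem_centMod.mp he.1) f) _)
      (hZc _ (hu f hf) _ hfe)
  obtain ⟨TE, -⟩ := (IsPGroup.of_bot (p := p) (G := ↥E)).exists_le_sylow
  have hTY : (TE : Subgroup ↥E).map E.subtype ≤ centMod (Cfsg.pCore p H) u ⊓ E := by
    rintro _ ⟨v, hv, rfl⟩
    refine Subgroup.mem_inf.mpr ⟨?_, v.2⟩
    rw [mem_centMod]
    obtain ⟨k, hk⟩ := TE.2 ⟨v, hv⟩
    have hvk : (v : H) ^ p ^ k = 1 := by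
      have h1 := congrArg Subtype.val (congrArg Subtype.val hk)
      simpa using h1
    have hc : ⁅u, (v : H)⁆ ∈ Z := hu _ v.2
    have hind : ∀ n : ℕ, (⁅u, (v : H)⁆ ^ n)⁻¹ * ⁅u, (v : H) ^ n⁆ ∈ Cfsg.pCore p H := by
      intro n
      induction n with
      | zero => simp
      | succ n ih =>
        have e2 : (⁅u, (v : H)⁆ ^ (n + 1))⁻¹ * ⁅u, (v : H) ^ (n + 1)⁆ =
            ⁅u, (v : H)⁆⁻¹ * (((⁅u, (v : H)⁆ ^ n)⁻¹ * ⁅u, (v : H) ^ n⁆) *
              ⁅⁅u, (v : H)⁆, (v : H) ^ n⁆⁻¹) * ⁅u, (v : H)⁆⁻¹⁻¹ := by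
          rw [pow_succ, pow_succ]
          simp only [commutatorElement_def]; group
        rw [e2]
        exact hOn.conj_mem _ (Subgroup.mul_mem _ ih
          (Subgroup.inv_mem _ (hZc _ hc _ (E.pow_mem v.2 n)))) _
    have h2 := hind (p ^ k)
    rw [hvk, commutatorElement_one_right, mul_one] at h2
    have h3 : ⁅u, (v : H)⁆ ^ p ^ k ∈ Cfsg.pCore p H := by
      have := Subgroup.inv_mem _ h2
      rwa [inv_inv] at this
    obtain ⟨j, hj⟩ := pCore_isPGroup p H ⟨_, h3⟩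
    have hj' : ⁅u, (v : H)⁆ ^ p ^ (k + j) = 1 := by
      have h4 := congrArg Subtype.val hj
      rw [pow_add, pow_mul]
      simpa using h4
    have hord : orderOf ⁅u, (v : H)⁆ ∣ p ^ (k + j) := orderOf_dvd_of_pow_eq_one hj'
    obtain ⟨i, -, hi⟩ := (Nat.dvd_prime_pow (Fact.out (p := p.Prime))).mp hord
    have hB : IsPGroup p ↥(Subgroup.zpowers ⁅u, (v : H)⁆) := by
      apply IsPGroup.of_card (n := i)
      rw [Nat.card_zpowers, hi]
    have h5 := hK.pgroup_le_pCore hE hZ ((Subgroup.zpowers_le).mpr hc)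
      ((Subgroup.zpowers_le).mpr (hZE hc)) hB
    exact h5 (Subgroup.mem_zpowers _)
  have h6 := spi_le_of_sylow_le hspi TE hEY hTY
  exact sup_le (h6.trans inf_le_left) (Cfsg.Agent.Lib.helper53.le_centMod _ u)

/-- A subgroup `P'` of `T` normalized by `T`, all of whose elements centralize `E₀ O_p(H)` modulo
`O_p(H)`, lies in `O_p(H)`. -/
theorem le_pCore_of_centMod [Finite H] [Fact p.Prime] (hK : KFam p 𝒦) (T : Sylow p H)
    {E₀ : Subgroup H} (hE₀ : E₀ ∈ 𝒦) {P' : Subgroup H} (hPT : P' ≤ T)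
    (hTP : (T : Subgroup H) ≤ Subgroup.normalizer (P' : Set H))
    (hc : haveI := pCore_normal p H
      ∀ u ∈ P', E₀ ⊔ Cfsg.pCore p H ≤ centMod (Cfsg.pCore p H) u) :
    P' ≤ Cfsg.pCore p H := by
  haveI hOn := pCore_normal p H
  have hn : ∀ X : Subgroup H, X ≤ Subgroup.normalizer ((Cfsg.pCore p H : Subgroup H) : Set H) := by
    intro X
    rw [Subgroup.normalizer_eq_top]; exact le_top
  have h1 : ∀ u ∈ P', sSup 𝒦 ⊔ Cfsg.pCore p H ≤ centMod (Cfsg.pCore p H) u := by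
    intro u hu
    refine sup_le (sSup_le ?_) (Cfsg.Agent.Lib.helper53.le_centMod _ u)
    intro E' hE'
    obtain ⟨t, ht, e⟩ := hK.exists_conj T hE₀ hE'
    have hu' : t⁻¹ * u * t ∈ P' := by
      have h2 := (Subgroup.mem_normalizer_iff.mp (hTP (Subgroup.inv_mem _ ht)) u).mp hu
      rwa [inv_inv] at h2
    intro x hx
    have hx' : x ∈ (E₀ ⊔ Cfsg.pCore p H).map (MulAut.conj t).toMonoidHom := by
      rw [← e]; exact le_sup_left (a := E') hx
    rw [mem_conj_iff] at hx'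
    have h3 := mem_centMod.mp (hc _ hu' hx')
    rw [mem_centMod]
    have e1 : ⁅u, x⁆ = t * ⁅t⁻¹ * u * t, t⁻¹ * x * t⁆ * t⁻¹ := by
      simp only [commutatorElement_def]; group
    rw [e1]
    exact hOn.conj_mem _ h3 t
  have h4 : ⁅P', sSup 𝒦 ⊔ Cfsg.pCore p H⁆ ≤ Cfsg.pCore p H := by
    rw [Subgroup.commutator_le]
    intro u hu r hr
    exact mem_centMod.mp (h1 u hu hr)
  have h5 : ⁅P' ⊔ Cfsg.pCore p H, sSup 𝒦 ⊔ Cfsg.pCore p H⁆ ≤ P' ⊔ Cfsg.pCore p H :=
    (Subgroup.commutator_mono le_rfl le_sup_left).trans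
      ((commutator_sup_sup_le h4).trans le_sup_right)
  have h6 := le_normalizer_of_commutator_le h5
  have h7 : (T : Subgroup H) ≤ Subgroup.normalizer ((P' ⊔ Cfsg.pCore p H : Subgroup H) : Set H) :=
    Cfsg.Agent.Lib.helper52.le_normalizer_sup hTP (hn _)
  have h8 : Subgroup.normalizer ((P' ⊔ Cfsg.pCore p H : Subgroup H) : Set H) = ⊤ := by
    rw [eq_top_iff, ← hK.rh_sup_sylow T]
    exact sup_le h6 h7
  have h9 : (P' ⊔ Cfsg.pCore p H).Normal := Subgroup.normalizer_eq_top_iff.mp h8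
  exact le_sup_left.trans
    (le_pCore h9 ((T.2.to_le hPT).to_sup_of_normal_right (pCore_isPGroup p H)))

end KFam

/-- S2855, second part (i): a group generated (modulo a `p`-group quotient) by a conjugacy class
of strongly `p`-irreducible subgroups `E` with `E O_p(H)` normal in `⟨𝒦⟩ O_p(H)` is
`p`-irreducible. -/
theorem spi_family_irreducible [Finite H] {p : ℕ} [Fact p.Prime] {𝒦 : Set (Subgroup H)}
    (hK : KFam p 𝒦) (hne : 𝒦.Nonempty)
    (hspi : ∀ E ∈ 𝒦, Cfsg.IsStronglyPIrreducible p ↥E) : Cfsg.IsPIrreducible p H := by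
  haveI hOn := pCore_normal p H
  haveI hRn := hK.rh_normal
  obtain ⟨E₀, hE₀⟩ := hne
  have hn : ∀ X : Subgroup H, X ≤ Subgroup.normalizer ((Cfsg.pCore p H : Subgroup H) : Set H) := by
    intro X
    rw [Subgroup.normalizer_eq_top]; exact le_top
  refine ⟨?_, ?_⟩
  · intro hcl
    apply (hspi E₀ hE₀).1
    refine isPClosed_of_forall_sylow_le (D := Cfsg.pCore p H) inferInstance (pCore_isPGroup p H) ?_
    intro P
    obtain ⟨Q, hQ⟩ := (P.2.map E₀.subtype).exists_le_sylow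
    exact hQ.trans (IsPClosed.sylow_eq_pCore hcl Q).le
  · intro N hNn hNcl
    haveI := hNn
    obtain ⟨T, -⟩ := (IsPGroup.of_bot (p := p) (G := H)).exists_le_sylow
    have hOT := pCore_le_sylow T
    obtain ⟨TE, hTE⟩ := exists_sylow_le_of_sup_pCore_isSubnormal T (hK.isSubnormal hE₀)
    have hEY : E₀ ≤ Subgroup.normalizer ((N ⊔ Cfsg.pCore p H : Subgroup H) : Set H) := by
      rw [Subgroup.normalizer_eq_top]; exact le_top
    rcases spi_dichotomy (hspi E₀ hE₀) hEY with hA | hB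
    · apply pResidual_le_of_sup_eq_top T.2
      apply hK.eq_top_of_le T hE₀ le_sup_right
      refine sup_le ?_ (hOT.trans le_sup_right)
      refine (map_pResidual_sup_sylow E₀ TE).ge.trans
        (sup_le (hA.trans ?_) (hTE.trans le_sup_right))
      exact sup_le le_sup_left (hOT.trans le_sup_right)
    · exfalso
      apply hNcl
      have hZ₀ : ⁅(N ⊔ Cfsg.pCore p H) ⊓ (E₀ ⊔ Cfsg.pCore p H), E₀ ⊔ Cfsg.pCore p H⁆ ≤
          Cfsg.pCore p H := by
        have h1 : (N ⊔ Cfsg.pCore p H) ⊓ (E₀ ⊔ Cfsg.pCore p H) ≤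
            (((N ⊔ Cfsg.pCore p H) ⊓ (E₀ ⊔ Cfsg.pCore p H)) ⊓ E₀) ⊔ Cfsg.pCore p H :=
          le_inf_sup_of_le_sup (le_inf le_sup_right le_sup_right) inf_le_right
        have h2 : ⁅((N ⊔ Cfsg.pCore p H) ⊓ (E₀ ⊔ Cfsg.pCore p H)) ⊓ E₀, E₀⁆ ≤ Cfsg.pCore p H :=
          (Subgroup.commutator_mono (inf_le_inf_right _ inf_le_left) le_rfl).trans
            (hB.trans (hK.pCoreOf_le_pCore hE₀))
        exact (Subgroup.commutator_mono h1 le_rfl).trans (commutator_sup_sup_le h2)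
      have hSL : ∀ P' : Subgroup H, P' ≤ (T : Subgroup H) ⊓ N →
          (T : Subgroup H) ≤ Subgroup.normalizer (P' : Set H) →
          P' ≤ Subgroup.normalizer ((E₀ ⊔ Cfsg.pCore p H : Subgroup H) : Set H) →
          P' ≤ Cfsg.pCore p H := by
        intro P' hP1 hP2 hP3
        apply hK.le_pCore_of_centMod T hE₀ (hP1.trans inf_le_left) hP2
        intro u hu
        apply hK.le_centMod hE₀ (hspi E₀ hE₀) inf_le_right hZ₀
        intro f hf
        refine Subgroup.mem_inf.mpr ⟨le_sup_left (a := N) ?_, ?_⟩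
        · rw [commutatorElement_def]
          have : u * f * u⁻¹ * f⁻¹ = u * (f * u⁻¹ * f⁻¹) := by group
          rw [this]
          exact N.mul_mem (hP1 hu).2 (hNn.conj_mem _ (N.inv_mem (hP1 hu).2) f)
        · rw [commutatorElement_def]
          have h3 := (Subgroup.mem_normalizer_iff.mp (hP3 hu) f).mp (le_sup_left (a := E₀) hf)
          exact Subgroup.mul_mem _ h3 (Subgroup.inv_mem _ (le_sup_left (a := E₀) hf))
      have hP₁ : (T : Subgroup H) ⊓ N ⊓ (sSup 𝒦 ⊔ Cfsg.pCore p H) ≤ Cfsg.pCore p H := by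
        apply hSL _ inf_le_left
        · refine Cfsg.Agent.Lib.helper52.le_normalizer_inf (le_normalizer_inf_of_normal _ N) ?_
          rw [Subgroup.normalizer_eq_top]; exact le_top
        · exact inf_le_right.trans (hK.norm E₀ hE₀)
      have hP : (T : Subgroup H) ⊓ N ≤ Cfsg.pCore p H := by
        apply hSL _ le_rfl (le_normalizer_inf_of_normal _ N)
        intro u hu
        have hE₀u : E₀.map (MulAut.conj u).toMonoidHom ∈ 𝒦 := hK.inv u E₀ hE₀
        have hO : (Cfsg.pCore p H).map (MulAut.conj u).toMonoidHom = Cfsg.pCore p H :=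
          conj_eq_self_of_mem_normalizer (hn ⊤ (Subgroup.mem_top u))
        have e1 : (E₀ ⊔ Cfsg.pCore p H).map (MulAut.conj u).toMonoidHom =
            E₀.map (MulAut.conj u).toMonoidHom ⊔ Cfsg.pCore p H := by
          rw [Subgroup.map_sup, hO]
        have hEY' : E₀ ≤ Subgroup.normalizer
            (((E₀ ⊔ Cfsg.pCore p H).map (MulAut.conj u).toMonoidHom : Subgroup H) : Set H) := by
          rw [e1]
          exact (le_sup_left.trans (hK.le_rh hE₀)).trans (hK.norm _ hE₀u)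
        have hTY' : (TE : Subgroup ↥E₀).map E₀.subtype ≤
            (E₀ ⊔ Cfsg.pCore p H).map (MulAut.conj u).toMonoidHom := by
          rintro _ ⟨v, hv, rfl⟩
          rw [mem_conj_iff]
          have hvT : (v : H) ∈ (T : Subgroup H) := hTE ⟨v, hv, rfl⟩
          have hvR : (v : H) ∈ sSup 𝒦 ⊔ Cfsg.pCore p H :=
            hK.le_rh hE₀ (le_sup_left (a := E₀) v.2)
          have hc : ⁅u⁻¹, (v : H)⁆ ∈ (T : Subgroup H) ⊓ N ⊓ (sSup 𝒦 ⊔ Cfsg.pCore p H) := by
            refine Subgroup.mem_inf.mpr ⟨Subgroup.mem_inf.mpr ⟨?_, ?_⟩, ?_⟩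
            · rw [commutatorElement_def]
              exact Subgroup.mul_mem _ (Subgroup.mul_mem _ (Subgroup.mul_mem _
                (Subgroup.inv_mem _ hu.1) hvT) (Subgroup.inv_mem _ (Subgroup.inv_mem _ hu.1)))
                (Subgroup.inv_mem _ hvT)
            · rw [commutatorElement_def]
              have : u⁻¹ * (v : H) * u⁻¹⁻¹ * (v : H)⁻¹ =
                  u⁻¹ * ((v : H) * u⁻¹⁻¹ * (v : H)⁻¹) := by group
              rw [this]
              exact N.mul_mem (N.inv_mem hu.2)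
                (hNn.conj_mem _ (N.inv_mem (N.inv_mem hu.2)) _)
            · rw [commutatorElement_def]
              exact Subgroup.mul_mem _ (hRn.conj_mem _ hvR u⁻¹) (Subgroup.inv_mem _ hvR)
          have e2 : u⁻¹ * (v : H) * u = ⁅u⁻¹, (v : H)⁆ * (v : H) := by
            rw [commutatorElement_def]; group
          show u⁻¹ * (v : H) * u ∈ E₀ ⊔ Cfsg.pCore p H
          rw [e2]
          exact Subgroup.mul_mem _ (le_sup_right (a := E₀) (hP₁ hc)) (le_sup_left (a := E₀) v.2)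
        have h7 := spi_le_of_sylow_le (hspi E₀ hE₀) TE hEY' hTY'
        have h8 : E₀ ⊔ Cfsg.pCore p H ≤
            (E₀ ⊔ Cfsg.pCore p H).map (MulAut.conj u).toMonoidHom :=
          sup_le h7 (by rw [e1]; exact le_sup_right)
        rw [le_conj_iff] at h8
        have h9 := mem_normalizer_of_conj_le h8
        have h10 := Subgroup.inv_mem _ h9
        rwa [inv_inv] at h10
      apply isPClosed_of_inf_normal T N
      have e3 : (T : Subgroup H) ⊓ N = Cfsg.pCore p H ⊓ N :=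
        le_antisymm (le_inf hP inf_le_right) (inf_le_inf_right _ hOT)
      rw [e3]
      infer_instance

/-- If the second alternative of `spi_dichotomy` holds for `E` and `(E O_p(H)) ∩ (K O_p(H))`,
then `[E, K] ≤ O_p(H)`. -/
theorem spi_family_comm_le [Finite H] {p : ℕ} [Fact p.Prime] {𝒦 : Set (Subgroup H)}
    (hK : KFam p 𝒦) {E K : Subgroup H} (hE : E ∈ 𝒦) (hK' : K ∈ 𝒦)
    (hspi : Cfsg.IsStronglyPIrreducible p ↥E)
    (hB : ⁅((E ⊔ Cfsg.pCore p H) ⊓ (K ⊔ Cfsg.pCore p H)) ⊓ E, E⁆ ≤ Cfsg.pCoreOf p E) :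
    ⁅E, K⁆ ≤ Cfsg.pCore p H := by
  haveI hOn := pCore_normal p H
  have hZ : ⁅(E ⊔ Cfsg.pCore p H) ⊓ (K ⊔ Cfsg.pCore p H), E ⊔ Cfsg.pCore p H⁆ ≤
      Cfsg.pCore p H := by
    have h1 : (E ⊔ Cfsg.pCore p H) ⊓ (K ⊔ Cfsg.pCore p H) ≤
        (((E ⊔ Cfsg.pCore p H) ⊓ (K ⊔ Cfsg.pCore p H)) ⊓ E) ⊔ Cfsg.pCore p H :=
      le_inf_sup_of_le_sup (le_inf le_sup_right le_sup_right) inf_le_left
    exact (Subgroup.commutator_mono h1 le_rfl).trans
      (commutator_sup_sup_le (hB.trans (hK.pCoreOf_le_pCore hE)))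
  rw [Subgroup.commutator_le]
  intro e he k hk
  have h2 : E ⊔ Cfsg.pCore p H ≤ centMod (Cfsg.pCore p H) k := by
    apply hK.le_centMod hE hspi inf_le_left hZ
    intro f hf
    have hkR : k ∈ sSup 𝒦 ⊔ Cfsg.pCore p H := hK.le_rh hK' (le_sup_left (a := K) hk)
    have hfR : f ∈ sSup 𝒦 ⊔ Cfsg.pCore p H := hK.le_rh hE (le_sup_left (a := E) hf)
    refine Subgroup.mem_inf.mpr ⟨?_, ?_⟩
    · rw [commutatorElement_def]
      have h3 := (Subgroup.mem_normalizer_iff.mp (hK.norm E hE hkR) f).mp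
        (le_sup_left (a := E) hf)
      exact Subgroup.mul_mem _ h3 (Subgroup.inv_mem _ (le_sup_left (a := E) hf))
    · rw [commutatorElement_def]
      have h3 := (Subgroup.mem_normalizer_iff.mp (hK.norm K hK' hfR) k⁻¹).mp
        (Subgroup.inv_mem _ (le_sup_left (a := K) hk))
      have : k * f * k⁻¹ * f⁻¹ = k * (f * k⁻¹ * f⁻¹) := by group
      rw [this]
      exact Subgroup.mul_mem _ (le_sup_left (a := K) hk) h3
  have h4 := mem_centMod.mp (h2 (le_sup_left (a := E) he))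
  rw [← commutatorElement_inv]
  exact Subgroup.inv_mem _ h4

/-- S2855, second part (ii): for `E, K ∈ 𝒦`, either `O^p(E O_p(H)) = O^p(K O_p(H))` or
`[E, K] ≤ O_p(H)`. -/
theorem spi_family_dichotomy [Finite H] {p : ℕ} [Fact p.Prime] {𝒦 : Set (Subgroup H)}
    (hK : KFam p 𝒦) (hspi : ∀ E ∈ 𝒦, Cfsg.IsStronglyPIrreducible p ↥E) {E K : Subgroup H}
    (hE : E ∈ 𝒦) (hK' : K ∈ 𝒦) :
    (Cfsg.pResidual p ↥(E ⊔ Cfsg.pCore p H)).map (E ⊔ Cfsg.pCore p H).subtype =
      (Cfsg.pResidual p ↥(K ⊔ Cfsg.pCore p H)).map (K ⊔ Cfsg.pCore p H).subtype ∨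
      ⁅E, K⁆ ≤ Cfsg.pCore p H := by
  haveI hOn := pCore_normal p H
  have hnE : ∀ {A B : Subgroup H}, A ∈ 𝒦 → B ∈ 𝒦 → A ≤ Subgroup.normalizer
      (((A ⊔ Cfsg.pCore p H) ⊓ (B ⊔ Cfsg.pCore p H) : Subgroup H) : Set H) := by
    intro A B hA hB'
    have hAR : A ≤ sSup 𝒦 ⊔ Cfsg.pCore p H := le_sup_left.trans (hK.le_rh hA)
    exact Cfsg.Agent.Lib.helper52.le_normalizer_inf (hAR.trans (hK.norm A hA))
      (hAR.trans (hK.norm B hB'))
  have hres : ∀ {A B : Subgroup H}, (Cfsg.pResidual p ↥A).map A.subtype ≤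
      (A ⊔ Cfsg.pCore p H) ⊓ (B ⊔ Cfsg.pCore p H) →
      (Cfsg.pResidual p ↥(A ⊔ Cfsg.pCore p H)).map (A ⊔ Cfsg.pCore p H).subtype ≤
        (Cfsg.pResidual p ↥(B ⊔ Cfsg.pCore p H)).map (B ⊔ Cfsg.pCore p H).subtype := by
    intro A B h
    apply map_pResidual_le_of_map_pResidual_le
    exact (map_pResidual_sup_pCore_le A).trans (sup_le (h.trans inf_le_right) le_sup_right)
  rcases spi_dichotomy (hspi E hE) (hnE hE hK') with h1 | h1
  · rcases spi_dichotomy (hspi K hK') (hnE hK' hE) with h2 | h2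
    · left
      exact le_antisymm (hres h1) (hres h2)
    · right
      rw [Subgroup.commutator_comm]
      exact spi_family_comm_le hK hK' hE (hspi K hK') h2
  · right
    exact spi_family_comm_le hK hE hK' (hspi E hE) h1

end Cfsg.Agent.Lib.helper53
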