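import Mathlib
import Cfsg.Agent.Lib.helper75.PQDefs
import Cfsg.Agent.Lib.helper75.PQTower
import Cfsg.Agent.Lib.helper66.S3B
import Cfsg.Agent.Lib.helper1.Coprime
import Cfsg.Agent.Lib.helper46.PQ_C238
import Cfsg.Agent.Lib.helper50.PQ_C4
import Cfsg.Agent.Lib.helper50.PQ_C5
import Cfsg.Agent.Lib.helper72.PQ_C6
import Cfsg.Agent.Lib.helper17.PQ_PRE

/-!
# S4306, case IIa (`R` nonabelian, case (a)): the core argument

`nonabelian_caseA_core` is the statement of the piece `MinTower.nonabelian_caseA`, with the two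
weight-type pieces DK (`MinTower.K_type`) and DH (`MinTower.H_type`) taken as hypotheses.
-/

set_option autoImplicit false

namespace Cfsg.Agent.Lib.helper53.PQ

open Cfsg.Agent.Lib.helper75.PQ
open Cfsg.Agent.Lib.helper66 (WtV Fx cw)
open scoped commutatorElement

section general

variable {Γ : Type*} [Group Γ]

theorem iia_conj_mem {X : Subgroup Γ} {a x : Γ}
    (ha : a ∈ Subgroup.normalizer (X : Set Γ)) (hx : x ∈ X) : a * x * a⁻¹ ∈ X :=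
  (Subgroup.mem_normalizer_iff.mp ha x).mp hx

theorem iia_conj_mem' {X : Subgroup Γ} {a x : Γ}
    (ha : a ∈ Subgroup.normalizer (X : Set Γ)) (hx : x ∈ X) : a⁻¹ * x * a ∈ X :=
  (Subgroup.mem_normalizer_iff''.mp ha x).mp hx

theorem iia_le_normalizer {A X : Subgroup Γ} (h : ∀ a ∈ A, ∀ x ∈ X, a * x * a⁻¹ ∈ X) :
    A ≤ Subgroup.normalizer (X : Set Γ) := by
  intro a ha
  rw [Subgroup.mem_normalizer_iff]
  intro x
  refine ⟨h a ha x, fun hx => ?_⟩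
  have h1 := h a⁻¹ (A.inv_mem ha) _ hx
  have h2 : a⁻¹ * (a * x * a⁻¹) * a⁻¹⁻¹ = x := by group
  rwa [h2] at h1

theorem iia_comm_mem {X : Subgroup Γ} {a x : Γ}
    (ha : a ∈ Subgroup.normalizer (X : Set Γ)) (hx : x ∈ X) : ⁅a, x⁆ ∈ X := by
  rw [commutatorElement_def]
  exact X.mul_mem (iia_conj_mem ha hx) (X.inv_mem hx)

theorem iia_comm_mem_self {X : Subgroup Γ} {a x : Γ} (ha : a ∈ X) (hx : x ∈ X) : ⁅a, x⁆ ∈ X := by
  rw [commutatorElement_def]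
  exact X.mul_mem (X.mul_mem (X.mul_mem ha hx) (X.inv_mem ha)) (X.inv_mem hx)

/-- In a class-two group commutators are multiplicative in the first variable. -/
theorem iia_comm_mul {R : Subgroup Γ}
    (hcl : ∀ x ∈ R, ∀ x' ∈ R, ∀ u ∈ R, ⁅x, x'⁆ * u = u * ⁅x, x'⁆)
    (u u' v : Γ) (hu : u ∈ R) (hu' : u' ∈ R) (hv : v ∈ R) :
    ⁅u * u', v⁆ = ⁅u', v⁆ * ⁅u, v⁆ := by
  have e : ⁅u * u', v⁆ = u * ⁅u', v⁆ * u⁻¹ * ⁅u, v⁆ := by
    simp only [commutatorElement_def]; group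
  rw [e, ← hcl u' hu' v hv u hu, mul_inv_cancel_right]

theorem iia_coprime {A B : Subgroup Γ} [Finite Γ] {a b : ℕ} (ha : a.Prime) (hb : b.Prime)
    (hab : b ≠ a) (hA : Nat.card A = a) (hB : IsPGroup b B) :
    (Nat.card A).Coprime (Nat.card B) := by
  haveI : Fact b.Prime := ⟨hb⟩
  obtain ⟨n, hn⟩ := hB.exists_card_eq
  rw [hA, hn]
  exact Nat.Coprime.pow_right n ((Nat.coprime_primes ha hb).mpr (Ne.symm hab))

theorem iia_solvable {A : Subgroup Γ} {a : ℕ} (ha : a.Prime) (hA : Nat.card A = a) :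
    Group.IsSolvable A := by
  haveI : Fact a.Prime := ⟨ha⟩
  haveI : Finite A := Nat.finite_of_card_ne_zero (by rw [hA]; exact ha.ne_zero)
  have hP : IsPGroup a A := IsPGroup.of_card (n := 1) (by rw [hA, pow_one])
  haveI : Group.IsNilpotent A := hP.isNilpotent
  infer_instance

end general

section weights

variable {Γ : Type*} [Group Γ] {F : Type*} [Field F]
  {W : Type*} [AddCommGroup W] [Module F W]

theorem iia_rho_mul (ρ : Γ →* Module.End F W) (a b : Γ) (w : W) :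
    ρ (a * b) w = ρ a (ρ b w) := by
  rw [map_mul, Module.End.mul_apply]

theorem iia_rho_inv (ρ : Γ →* Module.End F W) (a : Γ) (w : W) : ρ a⁻¹ (ρ a w) = w := by
  rw [← iia_rho_mul, inv_mul_cancel, map_one, Module.End.one_apply]

theorem iia_rho_inv' (ρ : Γ →* Module.End F W) (a : Γ) (w : W) : ρ a (ρ a⁻¹ w) = w := by
  rw [← iia_rho_mul, mul_inv_cancel, map_one, Module.End.one_apply]

/-- The elements of `R` acting trivially on all `H`-translates of the `μ`-weight vectors. -/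
def iiaT (ρ : Γ →* Module.End F W) (H R : Subgroup Γ) (μ : Γ → F) : Subgroup Γ where
  carrier := {g | g ∈ R ∧ ∀ h ∈ H, ∀ w' : W, WtV ρ ⊤ (ZR R) μ w' → ρ g (ρ h w') = ρ h w'}
  mul_mem' := by
    rintro a b ⟨ha, ha'⟩ ⟨hb, hb'⟩
    refine ⟨R.mul_mem ha hb, fun h hh w' hw' => ?_⟩
    rw [iia_rho_mul, hb' h hh w' hw', ha' h hh w' hw']
  one_mem' := ⟨R.one_mem, fun h hh w' hw' => by rw [map_one, Module.End.one_apply]⟩
  inv_mem' := by
    rintro a ⟨ha, ha'⟩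
    refine ⟨R.inv_mem ha, fun h hh w' hw' => ?_⟩
    have h1 := ha' h hh w' hw'
    conv_lhs => rw [← h1]
    exact iia_rho_inv ρ a _

theorem mem_iiaT {ρ : Γ →* Module.End F W} {H R : Subgroup Γ} {μ : Γ → F} {g : Γ} :
    g ∈ iiaT ρ H R μ ↔
      g ∈ R ∧ ∀ h ∈ H, ∀ w' : W, WtV ρ ⊤ (ZR R) μ w' → ρ g (ρ h w') = ρ h w' := Iff.rfl

/-- Conjugation invariance of `iiaT` under an element whose inverse permutes the translates. -/
theorem iiaT_conj {ρ : Γ →* Module.End F W} {H R : Subgroup Γ} {μ : Γ → F} (a : Γ)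
    (haR : a ∈ Subgroup.normalizer (R : Set Γ))
    (htr : ∀ h ∈ H, ∀ w' : W, WtV ρ ⊤ (ZR R) μ w' →
      ∃ h' ∈ H, ∃ w'' : W, WtV ρ ⊤ (ZR R) μ w'' ∧ ρ a⁻¹ (ρ h w') = ρ h' w'')
    (g : Γ) (hg : g ∈ iiaT ρ H R μ) : a * g * a⁻¹ ∈ iiaT ρ H R μ := by
  refine ⟨iia_conj_mem haR hg.1, fun h hh w' hw' => ?_⟩
  obtain ⟨h', hh', w'', hw'', e⟩ := htr h hh w' hw'
  rw [iia_rho_mul, iia_rho_mul, e, hg.2 h' hh' w'' hw'', ← e, iia_rho_inv']

/-- The radical of the commutator pairing `(u, v) ↦ μ ⁅u, v⁆` on a class-two group `R`. -/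
def iiaRad (R : Subgroup Γ) (μ : Γ → F)
    (hcl : ∀ x ∈ R, ∀ x' ∈ R, ∀ u ∈ R, ⁅x, x'⁆ * u = u * ⁅x, x'⁆)
    (hmul : ∀ z ∈ ZR R, ∀ z' ∈ ZR R, μ (z * z') = μ z * μ z') (h1 : μ 1 = 1) : Subgroup Γ where
  carrier := {u | u ∈ R ∧ ∀ v ∈ R, μ ⁅u, v⁆ = 1}
  mul_mem' := by
    rintro a b ⟨ha, ha'⟩ ⟨hb, hb'⟩
    refine ⟨R.mul_mem ha hb, fun v hv => ?_⟩
    have hZ : ∀ x ∈ R, ∀ x' ∈ R, ⁅x, x'⁆ ∈ ZR R := fun x hx x' hx' =>
      mem_ZR.mpr ⟨iia_comm_mem_self hx hx', fun u hu => (hcl x hx x' hx' u hu).symm⟩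
    rw [iia_comm_mul hcl a b v ha hb hv, hmul _ (hZ b hb v hv) _ (hZ a ha v hv), ha' v hv,
      hb' v hv, mul_one]
  one_mem' := ⟨R.one_mem, fun v _ => by rw [commutatorElement_one_left]; exact h1⟩
  inv_mem' := by
    rintro a ⟨ha, ha'⟩
    refine ⟨R.inv_mem ha, fun v hv => ?_⟩
    have hZ : ∀ x ∈ R, ∀ x' ∈ R, ⁅x, x'⁆ ∈ ZR R := fun x hx x' hx' =>
      mem_ZR.mpr ⟨iia_comm_mem_self hx hx', fun u hu => (hcl x hx x' hx' u hu).symm⟩
    have e := iia_comm_mul hcl a⁻¹ a v (R.inv_mem ha) ha hv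
    rw [inv_mul_cancel, commutatorElement_one_left] at e
    have e2 := congrArg μ e
    rw [h1, hmul _ (hZ a ha v hv) _ (hZ a⁻¹ (R.inv_mem ha) v hv), ha' v hv, one_mul] at e2
    exact e2.symm

/-- The elements of `S` centralizing `R` modulo an `S`-invariant subgroup. -/
def iiaS (S R Rad : Subgroup Γ) (hinv : ∀ y ∈ S, ∀ t ∈ Rad, y * t * y⁻¹ ∈ Rad) :
    Subgroup Γ where
  carrier := {y | y ∈ S ∧ ∀ u ∈ R, ⁅y, u⁆ ∈ Rad}
  mul_mem' := by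
    rintro a b ⟨ha, ha'⟩ ⟨hb, hb'⟩
    refine ⟨S.mul_mem ha hb, fun u hu => ?_⟩
    have e : ⁅a * b, u⁆ = a * ⁅b, u⁆ * a⁻¹ * ⁅a, u⁆ := by
      simp only [commutatorElement_def]; group
    rw [e]
    exact Rad.mul_mem (hinv a ha _ (hb' u hu)) (ha' u hu)
  one_mem' := ⟨S.one_mem, fun u _ => by rw [commutatorElement_one_left]; exact Rad.one_mem⟩
  inv_mem' := by
    rintro a ⟨ha, ha'⟩
    refine ⟨S.inv_mem ha, fun u hu => ?_⟩
    have e : ⁅a⁻¹, u⁆ = a⁻¹ * ⁅a, u⁆⁻¹ * a⁻¹⁻¹ := by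
      simp only [commutatorElement_def]; group
    rw [e]
    exact hinv a⁻¹ (S.inv_mem ha) _ (Rad.inv_mem (ha' u hu))

end weights

section tower

variable {Γ : Type*} [Group Γ] [Finite Γ] {F : Type*} [Field F] [IsAlgClosed F]
  {W : Type*} [AddCommGroup W] [Module F W] [FiniteDimensional F W]
  {ρ : Γ →* Module.End F W} {K H S R : Subgroup Γ} {p q s r : ℕ}

/-- `K`-type weights are impossible in case (a). -/
theorem iia_K_type (T : MinTower ρ K H S R p q s r)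
    (hnab : ¬ ∀ x ∈ R, ∀ x' ∈ R, x * x' = x' * x) (hC2 : Cz K S)
    (μ : Γ → F) (w : W) (hw : WtV ρ ⊤ (ZR R) μ w)
    (x₁ x₂ : Γ) (hx₁ : x₁ ∈ R) (hx₂ : x₂ ∈ R) (hμ : μ ⁅x₁, x₂⁆ ≠ 1)
    (hK : ∀ k ∈ K, Fx (ZR R) k μ)
    (hDK : ∀ k ∈ K, ∀ u ∈ R, ∀ w' : W, WtV ρ ⊤ (ZR R) μ w' → ρ ⁅k, u⁆ w' = w') : False := by
  obtain ⟨hC5a, hC5b⟩ := T.center_R hnab
  have hcomZ : ∀ x ∈ R, ∀ x' ∈ R, ⁅x, x'⁆ ∈ ZR R := fun x hx x' hx' =>
    mem_ZR.mpr ⟨iia_comm_mem_self hx hx', fun u hu => (hC5b x hx x' hx' u hu).symm⟩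
  have hSZ : ∀ y ∈ S, ∀ z ∈ ZR R, y * z = z * y := fun y hy z hz =>
    (hC5a z (mem_ZR.mp hz).1).mpr (fun x' hx' => ((mem_ZR.mp hz).2 x' hx').symm) y hy
  have hnZ : ∀ a : Γ, a ∈ Subgroup.normalizer (R : Set Γ) →
      a ∈ Subgroup.normalizer ((ZR R : Subgroup Γ) : Set Γ) := fun a ha =>
    Cfsg.Agent.Lib.helper17.PQ.pre_normalizer_ZR R a ha
  -- transport of weight vectors
  have hwS : ∀ y ∈ S, ∀ w' : W, WtV ρ ⊤ (ZR R) μ w' → WtV ρ ⊤ (ZR R) μ (ρ y w') := by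
    intro y hy w' hw'
    refine Cfsg.Agent.Lib.helper66.wt_congr ρ ⊤ (ZR R) (cw μ y) μ (ρ y w')
      (Cfsg.Agent.Lib.helper66.wt_conj ρ ⊤ (ZR R) μ w' hw' y (hnZ y (T.SR hy))
        (fun _ _ => Submodule.mem_top)) (fun z hz => ?_)
    have e : y⁻¹ * z * y = z := by
      rw [mul_assoc, ← hSZ y hy z hz, inv_mul_cancel_left]
    show μ z = μ (y⁻¹ * z * y)
    rw [e]
  have hwK : ∀ k ∈ K, ∀ w' : W, WtV ρ ⊤ (ZR R) μ w' → WtV ρ ⊤ (ZR R) μ (ρ k w') := by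
    intro k hk w' hw'
    exact Cfsg.Agent.Lib.helper66.wt_congr ρ ⊤ (ZR R) (cw μ k) μ (ρ k w')
      (Cfsg.Agent.Lib.helper66.wt_conj ρ ⊤ (ZR R) μ w' hw' k (hnZ k (T.KR hk))
        (fun _ _ => Submodule.mem_top)) (fun z hz => (hK k hk z hz).symm)
  -- the subgroup T'
  have hTR : iiaT ρ H R μ ≤ R := fun g hg => hg.1
  have hTH : H ≤ Subgroup.normalizer ((iiaT ρ H R μ : Subgroup Γ) : Set Γ) := by
    refine iia_le_normalizer (fun a ha g hg => iiaT_conj a (T.HR ha) ?_ g hg)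
    intro h hh w' hw'
    exact ⟨a⁻¹ * h, H.mul_mem (H.inv_mem ha) hh, w', hw', (iia_rho_mul ρ a⁻¹ h w').symm⟩
  have hTS : S ≤ Subgroup.normalizer ((iiaT ρ H R μ : Subgroup Γ) : Set Γ) := by
    refine iia_le_normalizer (fun a ha g hg => iiaT_conj a (T.SR ha) ?_ g hg)
    intro h hh w' hw'
    refine ⟨h, hh, ρ (h⁻¹ * a⁻¹ * h) w',
      hwS _ (iia_conj_mem' (T.HS hh) (S.inv_mem ha)) w' hw', ?_⟩
    rw [← iia_rho_mul, ← iia_rho_mul]
    congr 2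
    group
  have hTK : K ≤ Subgroup.normalizer ((iiaT ρ H R μ : Subgroup Γ) : Set Γ) := by
    refine iia_le_normalizer (fun a ha g hg => iiaT_conj a (T.KR ha) ?_ g hg)
    intro h hh w' hw'
    refine ⟨h, hh, ρ (h⁻¹ * a⁻¹ * h) w',
      hwK _ (iia_conj_mem' (T.HK hh) (K.inv_mem ha)) w' hw', ?_⟩
    rw [← iia_rho_mul, ← iia_rho_mul]
    congr 2
    group
  have hcomT : ∀ k ∈ K, ∀ u ∈ R, ⁅k, u⁆ ∈ iiaT ρ H R μ := by
    intro k hk u hu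
    refine ⟨iia_comm_mem (T.KR hk) hu, fun h hh w' hw' => ?_⟩
    have e : ⁅k, u⁆ * h = h * ⁅h⁻¹ * k * h, h⁻¹ * u * h⁆ := by
      simp only [commutatorElement_def]; group
    rw [← iia_rho_mul, e, iia_rho_mul,
      hDK _ (iia_conj_mem' (T.HK hh) hk) _ (iia_conj_mem' (T.HR hh) hu) w' hw']
  have hg0 : ⁅x₁, x₂⁆ ∉ iiaT ρ H R μ := by
    intro hg
    have h1 := hg.2 1 H.one_mem w hw
    rw [map_one, Module.End.one_apply, hw.2.2 _ (hcomZ x₁ hx₁ x₂ hx₂)] at h1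
    have h2 : (μ ⁅x₁, x₂⁆ - 1) • w = 0 := by rw [sub_smul, h1, one_smul, sub_self]
    rcases smul_eq_zero.mp h2 with h3 | h3
    · exact hμ (sub_eq_zero.mp h3)
    · exact hw.2.1 h3
  have hTne : iiaT ρ H R μ ≠ R := by
    intro heq
    apply hg0
    rw [heq]
    exact iia_comm_mem_self hx₁ hx₂
  have hczT := T.minR (iiaT ρ H R μ) hTR hTne hTS hTK hTH
  -- commutators `[k, u]` are central in `R`
  have hK1 : ∀ k ∈ K, ∀ u ∈ R, ∀ x ∈ R, ⁅k, u⁆ * x = x * ⁅k, u⁆ := fun k hk u hu x hx =>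
    (hC5a _ (hTR (hcomT k hk u hu))).mp (fun y hy => hczT y hy _ (hcomT k hk u hu)) x hx
  -- `K` centralizes `R`
  have hKcz : ∀ k ∈ K, ∀ x ∈ R, k * x = x * k := by
    have hsup := Cfsg.Agent.Lib.helper1.commutator_sup_fixed K R T.KR
      (iia_coprime T.hp T.hr T.hrp T.cardK T.Rgrp) (Or.inl (iia_solvable T.hp T.cardK))
    by_cases hCR : R ⊓ Subgroup.centralizer (K : Set Γ) = R
    · intro k hk x hx
      have hx' : x ∈ R ⊓ Subgroup.centralizer (K : Set Γ) := by rw [hCR]; exact hx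
      exact Subgroup.mem_centralizer_iff.mp hx'.2 k hk
    · exfalso
      have hinv : ∀ a : Γ, a ∈ Subgroup.normalizer (R : Set Γ) → (∀ k ∈ K, a⁻¹ * k * a ∈ K) →
          ∀ c ∈ R ⊓ Subgroup.centralizer (K : Set Γ),
            a * c * a⁻¹ ∈ R ⊓ Subgroup.centralizer (K : Set Γ) := by
        intro a haR haK c hc
        refine ⟨iia_conj_mem haR hc.1, Subgroup.mem_centralizer_iff.mpr (fun k hk => ?_)⟩
        have h1 := Subgroup.mem_centralizer_iff.mp hc.2 _ (haK k hk)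
        calc k * (a * c * a⁻¹) = a * ((a⁻¹ * k * a) * c) * a⁻¹ := by group
          _ = a * (c * (a⁻¹ * k * a)) * a⁻¹ := by rw [h1]
          _ = a * c * a⁻¹ * k := by group
      have hCS : S ≤ Subgroup.normalizer
          ((R ⊓ Subgroup.centralizer (K : Set Γ) : Subgroup Γ) : Set Γ) := by
        refine iia_le_normalizer (fun a ha c hc => hinv a (T.SR ha) (fun k hk => ?_) c hc)
        have e : a⁻¹ * k * a = k := by
          rw [mul_assoc, hC2 k hk a ha, inv_mul_cancel_left]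
        rw [e]; exact hk
      have hCK : K ≤ Subgroup.normalizer
          ((R ⊓ Subgroup.centralizer (K : Set Γ) : Subgroup Γ) : Set Γ) := by
        refine iia_le_normalizer (fun a ha c hc => hinv a (T.KR ha) (fun k hk => ?_) c hc)
        exact K.mul_mem (K.mul_mem (K.inv_mem ha) hk) ha
      have hCH : H ≤ Subgroup.normalizer
          ((R ⊓ Subgroup.centralizer (K : Set Γ) : Subgroup Γ) : Set Γ) := by
        refine iia_le_normalizer (fun a ha c hc => hinv a (T.HR ha) (fun k hk => ?_) c hc)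
        exact iia_conj_mem' (T.HK ha) hk
      have hczC := T.minR _ inf_le_left hCR hCS hCK hCH
      have hle : ⁅R, K⁆ ⊔ (R ⊓ Subgroup.centralizer (K : Set Γ)) ≤ ZR R := by
        refine sup_le ?_ ?_
        · rw [Subgroup.commutator_le]
          intro u hu k hk
          rw [← commutatorElement_inv]
          refine (ZR R).inv_mem (mem_ZR.mpr ⟨iia_comm_mem (T.KR hk) hu, fun x hx => ?_⟩)
          exact (hK1 k hk u hu x hx).symm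
        · intro c hc
          refine mem_ZR.mpr ⟨hc.1, fun x hx => ?_⟩
          exact ((hC5a c hc.1).mp (fun y hy => hczC y hy c hc) x hx).symm
      have hRZ : R ≤ ZR R := fun x hx => hle (by rw [hsup]; exact hx)
      exact hnab (fun x hx x' hx' => (mem_ZR.mp (hRZ hx')).2 x hx)
  -- `H` is fixed-point-free on `S` and on `R`
  have fS : ∀ y ∈ S, (∀ h ∈ H, h * y = y * h) → y = 1 := fun y hy hh =>
    T.fpfS y hy (fun k hk => hC2 k hk y hy) hh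
  have fR : ∀ v ∈ R, (∀ h ∈ H, h * v = v * h) → v = 1 := fun v hv hh =>
    T.fpfR v hv (fun k hk => hKcz k hk v hv) hh
  exact T.ncz (frob_cz S R H s r q T.hq T.cardH T.Sgrp T.Rgrp T.hs T.hr T.hsr T.HS T.HR T.SR
    fS fR)

/-- `H`-type weights are impossible in case (a). -/
theorem iia_H_type (T : MinTower ρ K H S R p q s r)
    (hnab : ¬ ∀ x ∈ R, ∀ x' ∈ R, x * x' = x' * x) (hC2 : Cz K S)
    (μ : Γ → F) (w : W) (hw : WtV ρ ⊤ (ZR R) μ w)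
    (x₁ x₂ : Γ) (hx₁ : x₁ ∈ R) (hx₂ : x₂ ∈ R) (hμ : μ ⁅x₁, x₂⁆ ≠ 1)
    (hDH : ∀ h ∈ H, ∀ y ∈ S, ∀ u ∈ R, ∀ v ∈ R, μ ⁅⁅⁅h, y⁆, u⁆, v⁆ = 1) : False := by
  obtain ⟨hC5a, hC5b⟩ := T.center_R hnab
  have hcomZ : ∀ x ∈ R, ∀ x' ∈ R, ⁅x, x'⁆ ∈ ZR R := fun x hx x' hx' =>
    mem_ZR.mpr ⟨iia_comm_mem_self hx hx', fun u hu => (hC5b x hx x' hx' u hu).symm⟩
  have hSZ : ∀ y ∈ S, ∀ z ∈ ZR R, y * z = z * y := fun y hy z hz =>
    (hC5a z (mem_ZR.mp hz).1).mpr (fun x' hx' => ((mem_ZR.mp hz).2 x' hx').symm) y hy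
  have hmul : ∀ z ∈ ZR R, ∀ z' ∈ ZR R, μ (z * z') = μ z * μ z' := fun z hz z' hz' =>
    Cfsg.Agent.Lib.helper66.wt_mul ρ ⊤ (ZR R) μ w hw z z' hz hz'
  have h1 : μ 1 = 1 := Cfsg.Agent.Lib.helper66.wt_one ρ ⊤ (ZR R) μ w hw
  -- the radical is `S`-invariant
  have hRadS : ∀ y ∈ S, ∀ t ∈ iiaRad R μ hC5b hmul h1, y * t * y⁻¹ ∈ iiaRad R μ hC5b hmul h1 := by
    intro y hy t ht
    refine ⟨iia_conj_mem (T.SR hy) ht.1, fun v hv => ?_⟩
    have hv' : y⁻¹ * v * y ∈ R := iia_conj_mem' (T.SR hy) hv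
    have e : ⁅y * t * y⁻¹, v⁆ = y * ⁅t, y⁻¹ * v * y⁆ * y⁻¹ := by
      simp only [commutatorElement_def]; group
    rw [e, hSZ y hy _ (hcomZ t ht.1 _ hv'), mul_inv_cancel_right]
    exact ht.2 _ hv'
  -- commutators `[h, y]` lie in `S'`
  have hcomS : ∀ h ∈ H, ∀ y ∈ S, ⁅h, y⁆ ∈ iiaS S R (iiaRad R μ hC5b hmul h1) hRadS := by
    intro h hh y hy
    have hS : ⁅h, y⁆ ∈ S := iia_comm_mem (T.HS hh) hy
    exact ⟨hS, fun u hu => ⟨iia_comm_mem (T.SR hS) hu, fun v hv => hDH h hh y hy u hu v hv⟩⟩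
  -- `S = [S, H]`
  have fS : ∀ y ∈ S, (∀ h ∈ H, h * y = y * h) → y = 1 := fun y hy hh =>
    T.fpfS y hy (fun k hk => hC2 k hk y hy) hh
  have hsup := Cfsg.Agent.Lib.helper1.commutator_sup_fixed H S T.HS
    (iia_coprime T.hq T.hs T.hsq T.cardH T.Sgrp) (Or.inl (iia_solvable T.hq T.cardH))
  have hbot : S ⊓ Subgroup.centralizer (H : Set Γ) = ⊥ := by
    rw [eq_bot_iff]
    intro y hy
    exact Subgroup.mem_bot.mpr (fS y hy.1 (fun h hh => Subgroup.mem_centralizer_iff.mp hy.2 h hh))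
  rw [hbot, sup_bot_eq] at hsup
  have hle : ⁅S, H⁆ ≤ iiaS S R (iiaRad R μ hC5b hmul h1) hRadS := by
    rw [Subgroup.commutator_le]
    intro y hy h hh
    rw [← commutatorElement_inv]
    exact Subgroup.inv_mem _ (hcomS h hh y hy)
  have hSS : ∀ y ∈ S, y ∈ iiaS S R (iiaRad R μ hC5b hmul h1) hRadS := by
    intro y hy
    apply hle
    rw [hsup]
    exact hy
  -- `R = [R, S] ≤ Rad`
  have hRS : ⁅R, S⁆ ≤ iiaRad R μ hC5b hmul h1 := by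
    rw [Subgroup.commutator_le]
    intro u hu y hy
    rw [← commutatorElement_inv]
    exact Subgroup.inv_mem _ ((hSS y hy).2 u hu)
  rw [T.comm_RS] at hRS
  exact hμ ((hRS hx₁).2 x₂ hx₂)

/-- Case IIa of S4306, with the pieces DK and DH as hypotheses. -/
theorem nonabelian_caseA_core (T : MinTower ρ K H S R p q s r)
    (hnab : ¬ ∀ x ∈ R, ∀ x' ∈ R, x * x' = x' * x) (hA : CaseA K S R)
    (hDK : ∀ (μ : Γ → F) (w : W), WtV ρ ⊤ (ZR R) μ w → (∀ k ∈ K, Fx (ZR R) k μ) →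
      (∀ h ∈ H, h ≠ 1 → ¬ Fx (ZR R) h μ) →
      ∀ k ∈ K, ∀ u ∈ R, ∀ w' : W, WtV ρ ⊤ (ZR R) μ w' → ρ ⁅k, u⁆ w' = w')
    (hDH : ∀ (μ : Γ → F) (w : W), WtV ρ ⊤ (ZR R) μ w → (∀ h ∈ H, Fx (ZR R) h μ) →
      (∀ k ∈ K, k ≠ 1 → ¬ Fx (ZR R) k μ) →
      ∀ h ∈ H, ∀ y ∈ S, ∀ u ∈ R, ∀ v ∈ R, μ ⁅⁅⁅h, y⁆, u⁆, v⁆ = 1) : False := by
  have hC2 : Cz K S := T.caseA_cz hA
  obtain ⟨μ, w, hw, ⟨x₁, hx₁, x₂, hx₂, hμ⟩, htype⟩ := T.good_weight hnab
  rcases htype with ⟨hK, hH⟩ | ⟨hH, hK⟩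
  · exact iia_K_type T hnab hC2 μ w hw x₁ x₂ hx₁ hx₂ hμ hK (hDK μ w hw hK hH)
  · exact iia_H_type T hnab hC2 μ w hw x₁ x₂ hx₁ hx₂ hμ (hDH μ w hw hH hK)

end tower

end Cfsg.Agent.Lib.helper53.PQ
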