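import Mathlib
import Cfsg.Agent.Lib.helper68.HallPet
import Cfsg.Agent.Lib.helper65.PearlBasic

set_option autoImplicit false

namespace Cfsg.Agent.Lib.helper33.PearlG

open Cfsg.Agent.Lib.helper68 Cfsg.Agent.Lib.helper65.PearlPow

variable {G : Type*} [Group G] [Finite G]

/-- F4. Downward induction. -/
theorem f4_all (p : ℕ) [Fact p.Prime] (n : ℕ)
    (hbase : p + 2 ≤ n → ∀ m ∈ gam G (n - p), m ∉ gam G (n - p + 1) → m ^ p ∉ gam G n)
    (hstep : ∀ i, 2 ≤ i → i + 1 + p ≤ n →
      (∀ c ∈ gam G (i + 1), c ∉ gam G (i + 2) → c ^ p ∉ gam G (i + 1 + p)) →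
      ∀ m ∈ gam G i, m ∉ gam G (i + 1) → m ^ p ∉ gam G (i + p)) :
    ∀ i, 2 ≤ i → i + p ≤ n → ∀ m ∈ gam G i, m ∉ gam G (i + 1) → m ^ p ∉ gam G (i + p) := by
  have key : ∀ d i : ℕ, 2 ≤ i → i + p + d = n →
      ∀ m ∈ gam G i, m ∉ gam G (i + 1) → m ^ p ∉ gam G (i + p) := by
    intro d
    induction d with
    | zero =>
      intro i hi hn m hm hm'
      have hn' : n = i + p := by omega
      subst hn'
      have e : i + p - p = i := by omega
      rw [e] at hbase
      exact hbase (by omega) m hm hm'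
    | succ d ih =>
      intro i hi hn m hm hm'
      exact hstep i hi (by omega) (fun c hc hc' => ih (i + 1) (by omega) (by omega) c hc hc')
        m hm hm'
  intro i hi hin m hm hm'
  exact key (n - p - i) i hi (by omega) m hm hm'

end Cfsg.Agent.Lib.helper33.PearlG
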