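import Mathlib
import Cfsg.Agent.Lib.helper74.QODefs
import Cfsg.Agent.Lib.helper78.QO_L1
import Cfsg.Agent.Lib.helper25.QO_L6a
import Cfsg.Agent.Lib.helper25.QO_L6b

/-! S1935 split project (helper74), piece L6c (`lim_units_mem`): every `1 + l`, `l ∈ lim W ξ`,
is the value of a unit of `H` (`W = A - 1`, `ξ = x - 1`). -/

set_option autoImplicit false

namespace Cfsg.Agent.Lib.helper53.QO

open Cfsg.Agent.Lib.helper74.QO

variable {R : Type*} [Ring R]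

/-- value of the inverse of a unit `1 + g` with `g * g = 0` -/
theorem h53_val_inv (u : Rˣ) (g : R) (hu : (u : R) = 1 + g) (hg : g * g = 0) :
    ((u⁻¹ : Rˣ) : R) = 1 - g := by
  apply Units.inv_eq_of_mul_eq_one_right
  rw [hu]
  have e : (1 + g) * (1 - g) = 1 - g * g := by noncomm_ring
  rw [e, hg, sub_zero]

/-- value of a power of a unit `1 + g` with `g * g = 0` -/
theorem h53_val_pow (u : Rˣ) (g : R) (hu : (u : R) = 1 + g) (hg : g * g = 0) (k : ℕ) :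
    ((u ^ k : Rˣ) : R) = 1 + k • g := by
  induction k with
  | zero => simp
  | succ k ih =>
    rw [pow_succ, Units.val_mul, ih, hu]
    have e : (1 + k • g) * (1 + g) = 1 + (k • g + g) + k • (g * g) := by
      rw [mul_add, mul_one, add_mul, one_mul, smul_mul_assoc]
      abel
    rw [e, hg, smul_zero, add_zero, succ_nsmul]

/-- value of a commutator of units `1 + p`, `1 + q` -/
theorem h53_val_comm (b c : Rˣ) (p q : R) (hb : (b : R) = 1 + p) (hc : (c : R) = 1 + q)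
    (hp : p * p = 0) (hq : q * q = 0) (hpqp : p * q * p = 0) (hqpq : q * p * q = 0) :
    ((b⁻¹ * c⁻¹ * b * c : Rˣ) : R) = 1 + (p * q - q * p) := by
  rw [Units.val_mul, Units.val_mul, Units.val_mul, h53_val_inv b p hb hp, h53_val_inv c q hc hq,
    hb, hc]
  have e : (1 - p) * (1 - q) * (1 + p) * (1 + q) = 1 + (p * q - q * p) - p * p - (p * p) * q
      - q * q - q * p * q + p * q * p + p * (q * q) + (p * q * p) * q := by noncomm_ring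
  rw [e, hp, hq, hpqp, hqpq]
  simp

/-- a product of three units `1 + gᵢ` with vanishing mixed products -/
theorem h53_mul3 (g₁ g₂ g₃ : R) (h12 : g₁ * g₂ = 0) (h13 : g₁ * g₃ = 0) (h23 : g₂ * g₃ = 0) :
    (1 + g₁) * (1 + g₂) * (1 + g₃) = 1 + (g₁ + g₂ + g₃) := by
  have e : (1 + g₁) * (1 + g₂) * (1 + g₃)
      = 1 + (g₁ + g₂ + g₃) + g₁ * g₂ + g₁ * g₃ + g₂ * g₃ + (g₁ * g₂) * g₃ := by noncomm_ring
  rw [e, h12, h13, h23]
  simp

/-- the conjugate `x^s A x^(-s)` -/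
def h53_cj (A : Subgroup Rˣ) (x : Rˣ) (s : ℤ) : Subgroup Rˣ :=
  A.map (MulAut.conj (x ^ s)).toMonoidHom

theorem h53_mem_cj {A : Subgroup Rˣ} {x : Rˣ} {s : ℤ} {u : Rˣ} :
    u ∈ h53_cj A x s ↔ ∃ a ∈ A, x ^ s * a * (x ^ s)⁻¹ = u := by
  unfold h53_cj
  rw [Subgroup.mem_map]
  rfl

theorem h53_quad_cj (A : Subgroup Rˣ) (hA : Quad A) (x : Rˣ) (s : ℤ) : Quad (h53_cj A x s) := by
  intro u hu u' hu'
  obtain ⟨a, ha, rfl⟩ := h53_mem_cj.mp hu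
  obtain ⟨a', ha', rfl⟩ := h53_mem_cj.mp hu'
  have h := hA a ha a' ha'
  have e : ∀ b : Rˣ, ((x ^ s * b * (x ^ s)⁻¹ : Rˣ) : R) - 1
      = ((x ^ s : Rˣ) : R) * ((b : R) - 1) * (((x ^ s)⁻¹ : Rˣ) : R) := by
    intro b
    rw [Units.val_mul, Units.val_mul, mul_sub, sub_mul, mul_one, Units.mul_inv]
  rw [e, e]
  have e2 : ((x ^ s : Rˣ) : R) * ((a : R) - 1) * (((x ^ s)⁻¹ : Rˣ) : R)
      * (((x ^ s : Rˣ) : R) * ((a' : R) - 1) * (((x ^ s)⁻¹ : Rˣ) : R))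
      = ((x ^ s : Rˣ) : R) * (((a : R) - 1) * ((((x ^ s)⁻¹ : Rˣ) : R) * ((x ^ s : Rˣ) : R))
        * ((a' : R) - 1)) * (((x ^ s)⁻¹ : Rˣ) : R) := by
    simp only [mul_assoc]
  rw [e2, Units.inv_mul, mul_one, h, mul_zero, zero_mul]

theorem h53_norm_cj (A : Subgroup Rˣ) (x : Rˣ)
    (hN : ∀ s : ℤ, ∀ b ∈ A, x ^ s * b * x ^ (-s) ∈ Subgroup.normalizer (A : Set Rˣ)) (s t : ℤ) :
    ∀ b ∈ h53_cj A x s, ∀ c ∈ h53_cj A x t, c⁻¹ * b * c ∈ h53_cj A x s := by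
  intro b hb c hc
  obtain ⟨b₀, hb₀, rfl⟩ := h53_mem_cj.mp hb
  obtain ⟨c₀, hc₀, rfl⟩ := h53_mem_cj.mp hc
  have hg := hN (t - s) c₀⁻¹ (A.inv_mem hc₀)
  have hmem := (Subgroup.mem_normalizer_iff.mp hg b₀).mp hb₀
  refine h53_mem_cj.mpr ⟨_, hmem, ?_⟩
  group

theorem h53_cj_le (H A : Subgroup Rˣ) (hAH : A ≤ H) (x : Rˣ) (hx : x ∈ H) (s : ℤ) :
    h53_cj A x s ≤ H := by
  intro u hu
  obtain ⟨a, ha, rfl⟩ := h53_mem_cj.mp hu
  exact H.mul_mem (H.mul_mem (H.zpow_mem hx s) (hAH ha)) (H.inv_mem (H.zpow_mem hx s))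

theorem h53_sq (B : Subgroup Rˣ) (hB : Quad B) :
    ∀ y ∈ addSub B hB, ∀ y' ∈ addSub B hB, y * y' = 0 := by
  intro y hy y' hy'
  obtain ⟨u, hu, rfl⟩ := mem_addSub.mp hy
  obtain ⟨u', hu', rfl⟩ := mem_addSub.mp hy'
  exact hB u hu u' hu'

theorem h53_norm_add (B C : Subgroup Rˣ) (hB : Quad B) (hC : Quad C)
    (h : ∀ b ∈ B, ∀ c ∈ C, c⁻¹ * b * c ∈ B) :
    ∀ p ∈ addSub B hB, ∀ q ∈ addSub C hC, (1 - q) * (1 + p) * (1 + q) - 1 ∈ addSub B hB := by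
  intro p hp q hq
  obtain ⟨b, hb, rfl⟩ := mem_addSub.mp hp
  obtain ⟨c, hc, rfl⟩ := mem_addSub.mp hq
  refine mem_addSub.mpr ⟨c⁻¹ * b * c, h b hb c hc, ?_⟩
  have hci : ((c⁻¹ : Rˣ) : R) = 1 - ((c : R) - 1) :=
    h53_val_inv c _ (by abel) (hC c hc c hc)
  have e1 : (1 : R) + ((b : R) - 1) = b := by abel
  have e2 : (1 : R) + ((c : R) - 1) = c := by abel
  rw [Units.val_mul, Units.val_mul, hci, e1, e2]

/-- PIECE L6c -/
theorem lim_units_mem (H A : Subgroup Rˣ) (hA : Quad A) (hAH : A ≤ H) (x : Rˣ) (hx : x ∈ H)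
    (hxq : ((x : R) - 1) * ((x : R) - 1) = 0) (k : ℕ) (hk : ((2 * k : ℕ) : R) = 1)
    (hN : ∀ s : ℤ, ∀ b ∈ A, x ^ s * b * x ^ (-s) ∈ Subgroup.normalizer (A : Set Rˣ)) :
    ∀ l ∈ lim (addSub A hA) ((x : R) - 1), ∃ u ∈ H, (u : R) = 1 + l := by
  intro l hl
  have hW : ∀ w ∈ addSub A hA, ∀ w' ∈ addSub A hA, w * w' = 0 := h53_sq A hA
  have hll : l * l = 0 := Cfsg.Agent.Lib.helper78.QO.lim_mul (addSub A hA) _ hxq hW l hl l hl
  obtain ⟨a, ha, b, hb, c, hc, -, -, hl_eq⟩ := mem_lim.mp hl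
  obtain ⟨ξ, hξ⟩ : ∃ ξ : R, ξ = (x : R) - 1 := ⟨_, rfl⟩
  rw [← hξ] at hl_eq hxq
  have hxv : (x : R) = 1 + ξ := by rw [hξ]; abel
  have hxi : ((x⁻¹ : Rˣ) : R) = 1 - ξ := h53_val_inv x ξ hxv hxq
  -- the three quadratic subgroups
  have hQ0 := h53_quad_cj A hA x 0
  have hQm := h53_quad_cj A hA x (-1)
  have hQp := h53_quad_cj A hA x 1
  -- the three units
  obtain ⟨up, hup, hupv⟩ := mem_addSub.mp ((addSub A hA).sub_mem ha hc)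
  obtain ⟨a₁, ha₁, ha₁v⟩ := mem_addSub.mp
    ((addSub A hA).nsmul_mem ((addSub A hA).add_mem hb hc) k)
  obtain ⟨a₂, ha₂, ha₂v⟩ := mem_addSub.mp
    ((addSub A hA).nsmul_mem ((addSub A hA).sub_mem hc hb) k)
  obtain ⟨p, hp_def⟩ : ∃ p : R, p = a - c := ⟨_, rfl⟩
  obtain ⟨q, hq_def⟩ : ∃ q : R, q = (1 - ξ) * (k • (b + c)) * (1 + ξ) := ⟨_, rfl⟩
  obtain ⟨r, hr_def⟩ : ∃ r : R, r = (1 + ξ) * (k • (c - b)) * (1 - ξ) := ⟨_, rfl⟩
  obtain ⟨uq, huq_def⟩ : ∃ uq : Rˣ, uq = x ^ (-1 : ℤ) * a₁ * (x ^ (-1 : ℤ))⁻¹ := ⟨_, rfl⟩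
  obtain ⟨ur, hur_def⟩ : ∃ ur : Rˣ, ur = x ^ (1 : ℤ) * a₂ * (x ^ (1 : ℤ))⁻¹ := ⟨_, rfl⟩
  have hup0 : up ∈ h53_cj A x 0 := h53_mem_cj.mpr ⟨up, hup, by simp⟩
  have huq : uq ∈ h53_cj A x (-1) := h53_mem_cj.mpr ⟨a₁, ha₁, huq_def.symm⟩
  have hur : ur ∈ h53_cj A x 1 := h53_mem_cj.mpr ⟨a₂, ha₂, hur_def.symm⟩
  -- their values
  have hvp : (up : R) = 1 + p := by rw [hp_def, ← hupv]; abel
  have hvq : (uq : R) = 1 + q := by
    rw [huq_def, zpow_neg_one, inv_inv, Units.val_mul, Units.val_mul, hxi, hxv]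
    have e : (a₁ : R) = 1 + k • (b + c) := by rw [← ha₁v]; abel
    have e2 : ∀ w : R, (1 - ξ) * (1 + w) * (1 + ξ) = 1 + (1 - ξ) * w * (1 + ξ) - ξ * ξ := by
      intro w
      noncomm_ring
    rw [e, hq_def, e2, hxq, sub_zero]
  have hvr : (ur : R) = 1 + r := by
    rw [hur_def, zpow_one, Units.val_mul, Units.val_mul, hxi, hxv]
    have e : (a₂ : R) = 1 + k • (c - b) := by rw [← ha₂v]; abel
    have e2 : ∀ w : R, (1 + ξ) * (1 + w) * (1 - ξ) = 1 + (1 + ξ) * w * (1 - ξ) - ξ * ξ := by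
      intro w
      noncomm_ring
    rw [e, hr_def, e2, hxq, sub_zero]
  have hpP : p ∈ addSub (h53_cj A x 0) hQ0 := mem_addSub.mpr ⟨up, hup0, by rw [hvp]; abel⟩
  have hqQ : q ∈ addSub (h53_cj A x (-1)) hQm := mem_addSub.mpr ⟨uq, huq, by rw [hvq]; abel⟩
  have hrT : r ∈ addSub (h53_cj A x 1) hQp := mem_addSub.mpr ⟨ur, hur, by rw [hvr]; abel⟩
  -- `p + q + r = l`
  have hsum : p + q + r = l := by
    have hq' : q = k • ((1 - ξ) * (b + c) * (1 + ξ)) := by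
      rw [hq_def, mul_smul_comm, smul_mul_assoc]
    have hr' : r = k • ((1 + ξ) * (c - b) * (1 - ξ)) := by
      rw [hr_def, mul_smul_comm, smul_mul_assoc]
    have e : (1 - ξ) * (b + c) * (1 + ξ) + (1 + ξ) * (c - b) * (1 - ξ)
        = (c + b * ξ - ξ * b - ξ * c * ξ) + (c + b * ξ - ξ * b - ξ * c * ξ) := by noncomm_ring
    have e2 : q + r = c + b * ξ - ξ * b - ξ * c * ξ := by
      rw [hq', hr', ← smul_add, e, ← two_nsmul, smul_smul, nsmul_eq_mul, mul_comm k 2, hk, one_mul]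
    rw [hl_eq, hp_def, add_assoc, e2]
    abel
  -- the commutation relations
  have hPQ := Cfsg.Agent.Lib.helper25.QO.comm_of_normalizes _ _
    (h53_sq _ hQ0) (h53_sq _ hQm)
    (h53_norm_add _ _ hQ0 hQm (h53_norm_cj A x hN 0 (-1)))
    (fun p' hp' q' hq' => h53_norm_add _ _ hQm hQ0 (h53_norm_cj A x hN (-1) 0) q' hq' p' hp')
  have hPT := Cfsg.Agent.Lib.helper25.QO.comm_of_normalizes _ _
    (h53_sq _ hQ0) (h53_sq _ hQp)
    (h53_norm_add _ _ hQ0 hQp (h53_norm_cj A x hN 0 1))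
    (fun p' hp' q' hq' => h53_norm_add _ _ hQp hQ0 (h53_norm_cj A x hN 1 0) q' hq' p' hp')
  have hQT := Cfsg.Agent.Lib.helper25.QO.comm_of_normalizes _ _
    (h53_sq _ hQm) (h53_sq _ hQp)
    (h53_norm_add _ _ hQm hQp (h53_norm_cj A x hN (-1) 1))
    (fun p' hp' q' hq' => h53_norm_add _ _ hQp hQm (h53_norm_cj A x hN 1 (-1)) q' hq' p' hp')
  have h0 : (p + q + r) * (p + q + r) = 0 := by rw [hsum]; exact hll
  have htri := Cfsg.Agent.Lib.helper25.QO.triple_identity _ _ _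
    (h53_sq _ hQ0) (h53_sq _ hQm) (h53_sq _ hQp) hPQ hPT hQT k hk p q r hpP hqQ hrT h0
  -- the commutators
  obtain ⟨h1a, h1b, h1c, h1d⟩ := hPQ p hpP q hqQ
  obtain ⟨h2a, h2b, h2c, h2d⟩ := hPT p hpP r hrT
  obtain ⟨h3a, h3b, h3c, h3d⟩ := hQT q hqQ r hrT
  have hpp : p * p = 0 := h53_sq _ hQ0 p hpP p hpP
  have hqq : q * q = 0 := h53_sq _ hQm q hqQ q hqQ
  have hrr : r * r = 0 := h53_sq _ hQp r hrT r hrT
  have hc1 := h53_val_comm up uq p q hvp hvq hpp hqq h1c h1d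
  have hc2 := h53_val_comm up ur p r hvp hvr hpp hrr h2c h2d
  have hc3 := h53_val_comm uq ur q r hvq hvr hqq hrr h3c h3d
  have hk1 := h53_val_pow _ _ hc1 (h53_sq _ hQ0 _ h1a _ h1a) k
  have hk2 := h53_val_pow _ _ hc2 (h53_sq _ hQ0 _ h2a _ h2a) k
  have hk3 := h53_val_pow _ _ hc3 (h53_sq _ hQm _ h3a _ h3a) k
  have hv : (((up⁻¹ * uq⁻¹ * up * uq) ^ k * (up⁻¹ * ur⁻¹ * up * ur) ^ k
      * (uq⁻¹ * ur⁻¹ * uq * ur) ^ k : Rˣ) : R)
      = 1 + k • ((p * q - q * p) + (p * r - r * p) + (q * r - r * q)) := by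
    rw [Units.val_mul, Units.val_mul, hk1, hk2, hk3, h53_mul3, smul_add, smul_add]
    · rw [smul_mul_assoc, mul_smul_comm, h53_sq _ hQ0 _ h1a _ h2a, smul_zero, smul_zero]
    · rw [smul_mul_assoc, mul_smul_comm, h53_sq _ hQm _ h1b _ h3a, smul_zero, smul_zero]
    · rw [smul_mul_assoc, mul_smul_comm, h53_sq _ hQp _ h2b _ h3b, smul_zero, smul_zero]
  have hH0 := h53_cj_le H A hAH x hx 0
  have hHm := h53_cj_le H A hAH x hx (-1)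
  have hHp := h53_cj_le H A hAH x hx 1
  have hupH : up ∈ H := hH0 hup0
  have huqH : uq ∈ H := hHm huq
  have hurH : ur ∈ H := hHp hur
  have hvH : (up⁻¹ * uq⁻¹ * up * uq) ^ k * (up⁻¹ * ur⁻¹ * up * ur) ^ k
      * (uq⁻¹ * ur⁻¹ * uq * ur) ^ k ∈ H := by
    refine H.mul_mem (H.mul_mem (H.pow_mem ?_ k) (H.pow_mem ?_ k)) (H.pow_mem ?_ k)
    · exact H.mul_mem (H.mul_mem (H.mul_mem (H.inv_mem hupH) (H.inv_mem huqH)) hupH) huqH
    · exact H.mul_mem (H.mul_mem (H.mul_mem (H.inv_mem hupH) (H.inv_mem hurH)) hupH) hurH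
    · exact H.mul_mem (H.mul_mem (H.mul_mem (H.inv_mem huqH) (H.inv_mem hurH)) huqH) hurH
  refine ⟨up * uq * ur * ((up⁻¹ * uq⁻¹ * up * uq) ^ k * (up⁻¹ * ur⁻¹ * up * ur) ^ k
      * (uq⁻¹ * ur⁻¹ * uq * ur) ^ k)⁻¹,
    H.mul_mem (H.mul_mem (H.mul_mem hupH huqH) hurH) (H.inv_mem hvH), ?_⟩
  rw [Units.val_mul, Units.val_mul, Units.val_mul, hvp, hvq, hvr, htri, ← hv, mul_assoc,
    Units.mul_inv, mul_one, hsum]

end Cfsg.Agent.Lib.helper53.QO
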