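import Mathlib
import Cfsg.Agent.Lib.helper45.RUDefs

set_option autoImplicit false

namespace Cfsg.Agent.Lib.helper45.RU

open Matrix Cfsg.Agent.Lib.helper44

variable {n : ℕ} {F : Type*} [Field F] {S : Set (Matrix (Fin n) (Fin n) F)}

/-- B -/
theorem h53_Om_raise_of (hn : 4 ≤ n) (hS : MatGrp S) (hJ : jm F n ∈ S) (c : F) (z l' l : Fin n)
    (hz : z.val = 0) (hl' : l'.val + 2 = n) (hl : l.val + 1 = n)
    (hD0 : 1 + vecMulVec (Pi.single l 1) (c • Pi.single z 1)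
      - vecMulVec (Pi.single l 1 + Pi.single l' 1) (c • altVec F n) ∈ S)
    (k : ℕ) (hk : k + 3 ≤ n) {y : F} (hy : y ∈ Om S l k) : c * y ∈ Om S l (k + 1) := by
  have hzl : z ≠ l := by
    intro h
    have := congrArg Fin.val h
    omega
  -- dot products
  have d1 : (c • (Pi.single z (1 : F) : Fin n → F)) ⬝ᵥ Pi.single l 1 = 0 :=
    smul_single_dotProduct_single c z l hzl
  have d2 : (c • altVec F n) ⬝ᵥ (Pi.single l 1 : Fin n → F) = c * (-1) ^ (n - 1) := by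
    rw [dotProduct_single, mul_one, Pi.smul_apply, smul_eq_mul]
    have : l.val = n - 1 := by omega
    show c * (-1) ^ l.val = _
    rw [this]
  have d3 : ∀ w : F, (w • rowv F n k) ⬝ᵥ (Pi.single l 1 : Fin n → F) = 0 := by
    intro w
    rw [smul_dotProduct, rowv_dot_last k l hl (by omega), smul_zero]
  have d4 : ∀ w : F, (w • rowv F n k) ⬝ᵥ ((Pi.single l 1 : Fin n → F) + Pi.single l' 1) = 0 := by
    intro w
    rw [dotProduct_add, d3 w, zero_add, smul_dotProduct, dotProduct_single, mul_one,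
      rowv_apply_eq_zero k l' (by omega), smul_zero]
  -- abbreviations
  obtain ⟨a, ha⟩ : ∃ a : Fin n → F, a = Pi.single l 1 := ⟨_, rfl⟩
  obtain ⟨b, hb⟩ : ∃ b : Fin n → F, b = Pi.single l 1 + Pi.single l' 1 := ⟨_, rfl⟩
  rw [← hb] at d4 hD0
  rw [← ha] at d1 d2 d3 hD0
  have hτ : 1 + vecMulVec a (y • rowv F n k) ∈ S := by
    rw [ha]; exact hy
  obtain ⟨w, hw⟩ : ∃ w : F, w = -((-1) ^ (n - 1) * c * y) := ⟨_, rfl⟩
  obtain ⟨A1, hA1⟩ : ∃ A1, A1 = vecMulVec a (c • (Pi.single z (1 : F) : Fin n → F)) := ⟨_, rfl⟩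
  obtain ⟨B1, hB1⟩ : ∃ B1, B1 = vecMulVec b (c • altVec F n) := ⟨_, rfl⟩
  obtain ⟨Y, hY⟩ : ∃ Y, Y = vecMulVec a (y • rowv F n k) := ⟨_, rfl⟩
  obtain ⟨Z, hZ⟩ : ∃ Z, Z = vecMulVec b (w • rowv F n k) := ⟨_, rfl⟩
  rw [← hA1, ← hB1] at hD0
  rw [← hY] at hτ
  have hA1Y : A1 * Y = 0 := by
    rw [hA1, hY, Matrix.vecMulVec_mul_vecMulVec, d1, zero_smul, Matrix.vecMulVec_zero]
  have hB1Y : B1 * Y = -Z := by
    rw [hB1, hY, hZ, Matrix.vecMulVec_mul_vecMulVec, d2, hw]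
    simp only [Matrix.vecMulVec_smul, smul_smul]
    rw [neg_smul, neg_neg]
    congr 1
    ring
  have hYA1 : Y * A1 = 0 := by
    rw [hA1, hY, Matrix.vecMulVec_mul_vecMulVec, d3, zero_smul, Matrix.vecMulVec_zero]
  have hYB1 : Y * B1 = 0 := by
    rw [hB1, hY, Matrix.vecMulVec_mul_vecMulVec, d4, zero_smul, Matrix.vecMulVec_zero]
  have hZA1 : Z * A1 = 0 := by
    rw [hA1, hZ, Matrix.vecMulVec_mul_vecMulVec, d3, zero_smul, Matrix.vecMulVec_zero]
  have hZB1 : Z * B1 = 0 := by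
    rw [hB1, hZ, Matrix.vecMulVec_mul_vecMulVec, d4, zero_smul, Matrix.vecMulVec_zero]
  have hZY : Z * Y = 0 := by
    rw [hY, hZ, Matrix.vecMulVec_mul_vecMulVec, d3, zero_smul, Matrix.vecMulVec_zero]
  have hcomm : (1 + A1 - B1) * (1 + Y) = (1 + Z) * ((1 + Y) * (1 + A1 - B1)) := by
    simp only [mul_add, add_mul, mul_sub, sub_mul, mul_one, one_mul, hA1Y, hYA1, hYB1, hZA1,
      hZB1, hZY, hB1Y, add_zero]
    abel
  have hT : 1 + Z ∈ S := MatGrp_comm_mem hS hD0 hτ hcomm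
  -- conjugate by J
  have hconj : jm F n * tau l (k + 1) w = (1 + Z) * jm F n := by
    have h1 := conj_rankOne (jm F n) (Pi.single l (1 : F)) (w • rowv F n k)
    rw [Matrix.smul_vecMul, ← rowv_succ, jm_mulVec_single l l' (by omega)] at h1
    rw [hZ, hb]
    exact h1
  have hmem : w ∈ Om S l (k + 1) := hS.conj' hJ hT hconj
  rcases neg_one_pow_eq_or F (n - 1) with h1 | h1
  · rw [hw, h1, one_mul] at hmem
    exact (Om_neg_iff hS l hl (k + 1) (by omega)).mp hmem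
  · rw [hw, h1] at hmem
    have : -(-1 * c * y) = c * y := by ring
    rw [this] at hmem
    exact hmem

end Cfsg.Agent.Lib.helper45.RU
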