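import Mathlib
import Cfsg.Agent.Lib.helper45.RUDefs

set_option autoImplicit false

namespace Cfsg.Agent.Lib.helper45.RU

open Matrix Cfsg.Agent.Lib.helper44

variable {n : ℕ} {F : Type*} [Field F] {S : Set (Matrix (Fin n) (Fin n) F)}

/-- D0 -/
theorem h53_d0_mem (hn : 3 ≤ n) (hS : MatGrp S) (hJ : jm F n ∈ S) (c : F) (z o l' l : Fin n)
    (hz : z.val = 0) (ho : o.val = 1) (hl' : l'.val + 2 = n) (hl : l.val + 1 = n)
    (hv : vmat c z o l' l ∈ S) :
    1 + vecMulVec (Pi.single l 1) (c • Pi.single z 1)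
      - vecMulVec (Pi.single l 1 + Pi.single l' 1) (c • altVec F n) ∈ S := by
  have hzJ : (Pi.single z (1 : F) : Fin n → F) ᵥ* jm F n = Pi.single z 1 + Pi.single o 1 :=
    single_vecMul_jm z o (by omega)
  have haJ : altVec F n ᵥ* jm F n = Pi.single z 1 := alt_vecMul_jm z hz
  have hE1 : Matrix.single l o c = vecMulVec (Pi.single l 1) (c • Pi.single o 1) :=
    add_left_cancel (one_add_single_eq l o c)
  have hE2 : Matrix.single l' z c = vecMulVec (Pi.single l' 1) (c • Pi.single z 1) :=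
    add_left_cancel (one_add_single_eq l' z c)
  have key : (1 + vecMulVec (Pi.single l 1) (c • Pi.single z 1)
      - vecMulVec (Pi.single l 1 + Pi.single l' 1) (c • altVec F n)) * jm F n
        = vmat c z o l' l := by
    unfold vmat
    rw [sub_mul, add_mul, one_mul, Matrix.vecMulVec_mul, Matrix.vecMulVec_mul,
      Matrix.smul_vecMul, Matrix.smul_vecMul, hzJ, haJ, hE1, hE2, smul_add,
      Matrix.vecMulVec_add, Matrix.add_vecMulVec]
    abel
  obtain ⟨b, hb, e⟩ := hS.inv hJ
  have h2 : 1 + vecMulVec (Pi.single l 1) (c • Pi.single z 1)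
      - vecMulVec (Pi.single l 1 + Pi.single l' 1) (c • altVec F n)
      = vmat c z o l' l * b := by
    rw [← key, mul_assoc, e, mul_one]
  rw [h2]
  exact hS.mul hv hb

end Cfsg.Agent.Lib.helper45.RU
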