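import Mathlib
import Cfsg.Agent.Lib.helper26.Suz64b
import Cfsg.Agent.Lib.helper17.U42Transport

/-!
# S1237, piece G2: a Suzuki-type group of order 64 is a Sylow 2-subgroup of `PSU_3(4)`
over any field with 16 elements (transport of helper26's `S64.suz_sylow_PSU`).
-/

set_option autoImplicit false

namespace Cfsg.Agent.Lib.helper53.S1237

open Cfsg Cfsg.Agent.Lib.helper26

/-- PIECE G2 (PSU). Uses helper26 S64.suz_sylow_PSU + helper17 u42_psu_congr. -/
theorem psu_transport {T : Type*} [Group T] [Finite T] {ρ : MulAut T} (H : S64.Hyp64 ρ)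
    (hinv : ∀ g : T, g * g = 1 → g ∈ Subgroup.center T)
    {F : Type*} [Field F] [Fintype F] (hF : Fintype.card F = 16)
    (P : Sylow 2 (Cfsg.PSU 3 F 4)) :
    Nonempty (T ≃* (P : Subgroup (Cfsg.PSU 3 F 4))) := by
  obtain ⟨F₀, _, _, hF₀, hall⟩ := S64.suz_sylow_PSU H hinv
  have e : F₀ ≃+* F := FiniteField.ringEquivOfCardEq (hF₀.trans hF.symm)
  obtain ⟨φ⟩ := Cfsg.Agent.Lib.helper17.u42_psu_congr e 3 4
  have hfi : Function.Injective (φ.toMonoidHom : Cfsg.PSU 3 F₀ 4 →* Cfsg.PSU 3 F 4) := φ.injective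
  have hfs : Function.Surjective (φ.toMonoidHom : Cfsg.PSU 3 F₀ 4 →* Cfsg.PSU 3 F 4) :=
    φ.surjective
  have hr : (P : Subgroup (Cfsg.PSU 3 F 4)) ≤ φ.toMonoidHom.range := by
    rw [MonoidHom.range_eq_top.mpr hfs]; exact le_top
  obtain ⟨ψ⟩ := hall (P.comapOfInjective φ.toMonoidHom hfi hr)
  have hmap : (((P.comapOfInjective φ.toMonoidHom hfi hr : Sylow 2 (Cfsg.PSU 3 F₀ 4)) :
      Subgroup (Cfsg.PSU 3 F₀ 4)).map φ.toMonoidHom) = (P : Subgroup (Cfsg.PSU 3 F 4)) := by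
    rw [Sylow.coe_comapOfInjective, Subgroup.map_comap_eq_self_of_surjective hfs]
  exact ⟨ψ.trans ((Subgroup.equivMapOfInjective _ φ.toMonoidHom hfi).trans
    (MulEquiv.subgroupCongr hmap))⟩

end Cfsg.Agent.Lib.helper53.S1237
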