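import Mathlib

set_option autoImplicit false

namespace Cfsg.Agent.Lib.helper53.S2111

/-- PIECE F2 (pure Mathlib, polynomial root count). -/
theorem helper53_field_pt {F : Type*} [Field F] [Fintype F] {m : ℕ} (hm : 2 ≤ m)
    (hF : Fintype.card F = 2 ^ (2 * m + 1)) :
    ∃ x : F, x ≠ 0 ∧ x + 1 ≠ 0 ∧
      ((x + 1) * (x + 1) ^ 2 ^ (m + 1))⁻¹ + (x * x ^ 2 ^ (m + 1))⁻¹ + 1 ≠ 0 := by
  classical
  by_contra hcon
  push Not at hcon
  obtain ⟨e, he⟩ : ∃ e : ℕ, e = 2 ^ (m + 1) := ⟨_, rfl⟩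
  rw [← he] at hcon
  obtain ⟨Q, hQdef⟩ : ∃ Q : Polynomial F, Q = Polynomial.X ^ (e + 1) + (Polynomial.X + 1) ^ (e + 1)
      + Polynomial.X ^ (e + 1) * (Polynomial.X + 1) ^ (e + 1) := ⟨_, rfl⟩
  have hQ0 : Q.eval 0 = 1 := by
    rw [hQdef]
    simp
  have hQne : Q ≠ 0 := by
    intro h
    rw [h, Polynomial.eval_zero] at hQ0
    exact zero_ne_one hQ0
  have hdeg : Q.natDegree ≤ 2 * e + 2 := by
    have h1 : (Polynomial.X ^ (e + 1) : Polynomial F).natDegree ≤ e + 1 :=
      Polynomial.natDegree_X_pow_le _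
    have h2 : ((Polynomial.X + 1 : Polynomial F) ^ (e + 1)).natDegree ≤ e + 1 := by
      refine le_trans Polynomial.natDegree_pow_le ?_
      have h : (Polynomial.X + 1 : Polynomial F).natDegree ≤ 1 := by
        have h' := Polynomial.natDegree_X_add_C (1 : F)
        rw [Polynomial.C_1] at h'
        omega
      calc (e + 1) * (Polynomial.X + 1 : Polynomial F).natDegree ≤ (e + 1) * 1 :=
            Nat.mul_le_mul_left _ h
        _ = e + 1 := mul_one _
    have h3 : (Polynomial.X ^ (e + 1) * (Polynomial.X + 1 : Polynomial F) ^ (e + 1)).natDegree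
        ≤ (e + 1) + (e + 1) := le_trans Polynomial.natDegree_mul_le (add_le_add h1 h2)
    rw [hQdef]
    refine le_trans (Polynomial.natDegree_add_le _ _) (max_le
      (le_trans (Polynomial.natDegree_add_le _ _) (max_le ?_ ?_)) ?_) <;> omega
  have hroot : ∀ x : F, x ≠ 0 → x + 1 ≠ 0 → x ∈ Q.roots.toFinset := by
    intro x hx0 hx1
    rw [Multiset.mem_toFinset, Polynomial.mem_roots hQne, Polynomial.IsRoot.def]
    have h := hcon x hx0 hx1
    have ha : (x + 1) * (x + 1) ^ e ≠ 0 := mul_ne_zero hx1 (pow_ne_zero _ hx1)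
    have hb : x * x ^ e ≠ 0 := mul_ne_zero hx0 (pow_ne_zero _ hx0)
    have h2 : x * x ^ e + (x + 1) * (x + 1) ^ e + (x * x ^ e) * ((x + 1) * (x + 1) ^ e) = 0 := by
      have h3 : (((x + 1) * (x + 1) ^ e)⁻¹ + (x * x ^ e)⁻¹ + 1)
          * (((x + 1) * (x + 1) ^ e) * (x * x ^ e)) = 0 := by rw [h, zero_mul]
      rw [← h3]
      field_simp
    rw [hQdef]
    simp only [Polynomial.eval_add, Polynomial.eval_mul, Polynomial.eval_pow, Polynomial.eval_X,
      Polynomial.eval_one]
    rw [pow_succ' x e, pow_succ' (x + 1) e]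
    exact h2
  have hsub : (Finset.univ : Finset F) ⊆ insert 0 (insert (-1) Q.roots.toFinset) := by
    intro x _
    by_cases hx0 : x = 0
    · rw [hx0]; exact Finset.mem_insert_self _ _
    by_cases hx1 : x + 1 = 0
    · have : x = -1 := eq_neg_of_add_eq_zero_left hx1
      rw [this]; exact Finset.mem_insert_of_mem (Finset.mem_insert_self _ _)
    · exact Finset.mem_insert_of_mem (Finset.mem_insert_of_mem (hroot x hx0 hx1))
  have hcard := Finset.card_le_card hsub
  rw [Finset.card_univ, hF] at hcard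
  have h1 : (insert 0 (insert (-1) Q.roots.toFinset) : Finset F).card
      ≤ Q.roots.toFinset.card + 2 := by
    have ha := Finset.card_insert_le (0 : F) (insert (-1) Q.roots.toFinset)
    have hb := Finset.card_insert_le (-1 : F) Q.roots.toFinset
    omega
  have h2 : Q.roots.toFinset.card ≤ 2 * e + 2 :=
    le_trans (Multiset.toFinset_card_le _) (le_trans (Polynomial.card_roots' Q) hdeg)
  have h3 : 2 ^ (m + 3) ≤ 2 ^ (2 * m + 1) := Nat.pow_le_pow_right (by norm_num) (by omega)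
  have h4 : 2 ^ (m + 3) = 4 * 2 ^ (m + 1) := by
    rw [show m + 3 = (m + 1) + 2 by omega, pow_add]; ring
  have h5 : 8 ≤ 2 ^ (m + 1) := by
    calc 8 = 2 ^ 3 := by norm_num
      _ ≤ 2 ^ (m + 1) := Nat.pow_le_pow_right (by norm_num) (by omega)
  rw [← he] at h4 h5
  generalize 2 ^ (2 * m + 1) = N at hcard h3
  generalize 2 ^ (m + 3) = M at h3 h4
  omega

end Cfsg.Agent.Lib.helper53.S2111
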