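import Mathlib

set_option autoImplicit false

namespace Cfsg.Agent.Lib.helper53.S2272

open Matrix

variable {F : Type*} [Field F] {d : ℕ}

/-- every linear functional on `Fin d → F` is a dot product -/
theorem functional_eq_dot (φ : (Fin d → F) →ₗ[F] F) (v : Fin d → F) :
    (fun j => φ (Pi.single j 1)) ⬝ᵥ v = φ v := by
  classical
  rw [LinearMap.pi_apply_eq_sum_univ φ v]
  simp only [dotProduct, smul_eq_mul]
  refine Finset.sum_congr rfl fun i _ => ?_
  rw [mul_comm]
  congr 2
  funext j
  by_cases h : i = j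
  · subst h; simp
  · simp [h, Ne.symm h]

/-- L3a -/
theorem exists_dot_eq {ι : Type*} [Finite ι] (w : ι → Fin d → F) (hw : LinearIndependent F w)
    (a : ι → F) : ∃ f : Fin d → F, ∀ i, f ⬝ᵥ w i = a i := by
  classical
  let b := Module.Basis.span hw
  let g : Submodule.span F (Set.range w) →ₗ[F] F := b.constr F a
  obtain ⟨φ, hφ⟩ := LinearMap.exists_extend g
  refine ⟨fun j => φ (Pi.single j 1), fun i => ?_⟩
  rw [functional_eq_dot]
  have h1 : (b i : Fin d → F) = w i := by
    simp [b, Module.Basis.span_apply]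
  have h2 : φ (w i) = g (b i) := by
    rw [← hφ]
    simp [h1]
  rw [h2]
  simp [g]

end Cfsg.Agent.Lib.helper53.S2272
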