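import Mathlib

set_option autoImplicit false

namespace Cfsg.Agent.Lib.helper53.S2272

open Matrix

variable {F : Type*} [Field F] {d : ℕ}

/-- L6 -/
theorem exists_independent_triple (hd : 3 ≤ d) (u v : Fin d → F) (hu : u ≠ 0)
    (huv : ∀ c : F, v ≠ c • u) :
    ∃ z : Fin d → F, LinearIndependent F ![u, v, z] ∧ LinearIndependent F ![u, z] ∧
      LinearIndependent F ![u, v] := by
  classical
  have h2 : LinearIndependent F ![u, v] := by
    rw [LinearIndependent.pair_iff' hu]
    intro c hc
    exact huv c hc.symm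
  have hne : Submodule.span F (Set.range ![u, v]) ≠ ⊤ := by
    intro htop
    have hle : Module.finrank F (Submodule.span F (Set.range ![u, v])) ≤ 2 := by
      have := finrank_range_le_card (R := F) ![u, v]
      simpa [Set.finrank] using this
    rw [htop, finrank_top, Module.finrank_fin_fun] at hle
    omega
  have hz : ∃ z : Fin d → F, z ∉ Submodule.span F (Set.range ![u, v]) := by
    by_contra hcon
    push_neg at hcon
    exact hne (eq_top_iff.mpr fun z _ => hcon z)
  obtain ⟨z, hz⟩ := hz
  have h3' : LinearIndependent F (Fin.cons z ![u, v] : Fin 3 → Fin d → F) :=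
    h2.finCons hz
  have h3 : LinearIndependent F ![u, v, z] := by
    have hc := h3'.comp (![1, 2, 0] : Fin 3 → Fin 3) (by decide)
    have heq : (Fin.cons z ![u, v] : Fin 3 → Fin d → F) ∘ (![1, 2, 0] : Fin 3 → Fin 3)
        = ![u, v, z] := by
      funext i
      fin_cases i <;> rfl
    rw [heq] at hc
    exact hc
  refine ⟨z, h3, ?_, h2⟩
  have hc := h3.comp (![0, 2] : Fin 2 → Fin 3) (by decide)
  have heq : (![u, v, z] : Fin 3 → Fin d → F) ∘ (![0, 2] : Fin 2 → Fin 3) = ![u, z] := by
    funext i
    fin_cases i <;> rfl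
  rw [heq] at hc
  exact hc

end Cfsg.Agent.Lib.helper53.S2272
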