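import Mathlib
import Cfsg.Agent.Lib.helper92.S3664Defs

/-! S3664 split project (helper92), piece NOCOP (`no_coprime_orders`): no elements of order
26, 35, 65, 91 in `G = Sz(8) : 3` (an element of order prime to 3 lies in `Sz(8)`). -/

set_option autoImplicit false

namespace Cfsg.Agent.Lib.helper53.S3664

open Cfsg.Agent.Lib.helper92.S3664 Cfsg.Agent.Lib.helper17 Cfsg.Agent.Lib.helper8

/-- an element of order prime to `3` has trivial image in `C₃` -/
theorem h53_right_eq_one (g : G) (hm : (orderOf g).Coprime 3) : g.right = 1 := by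
  have h1 : orderOf (SemidirectProduct.rightHom g) ∣ orderOf g :=
    orderOf_map_dvd SemidirectProduct.rightHom g
  have hc : Nat.card (Multiplicative (ZMod 3)) = 3 := by
    rw [Nat.card_eq_fintype_card]
    rfl
  have h2 : orderOf (SemidirectProduct.rightHom g) ∣ 3 := by
    have h := orderOf_dvd_natCard (SemidirectProduct.rightHom g)
    rwa [hc] at h
  have h3 := Nat.eq_one_of_dvd_coprimes hm h1 h2
  have h4 := orderOf_eq_one_iff.mp h3
  simpa using h4

/-- an element with trivial image in `C₃` lies in `Sz(8)` -/
theorem h53_eq_inl (g : G) (hr : g.right = 1) : g = SemidirectProduct.inl g.left := by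
  apply SemidirectProduct.ext
  · simp
  · simp [hr]

/-- the order of an element of `G` of order prime to `3` is the order of an element of `Sz(8)` -/
theorem h53_order_left (g : G) (hm : (orderOf g).Coprime 3) : orderOf g = orderOf g.left := by
  have h := h53_eq_inl g (h53_right_eq_one g hm)
  conv_lhs => rw [h]
  exact orderOf_injective (SemidirectProduct.inl : S →* G) SemidirectProduct.inl_injective g.left

/-- NOCOP: no elements of order 26, 35, 65, 91 in `G`. -/
theorem no_coprime_orders
    (hS : ∀ n : S, orderOf n = 1 ∨ orderOf n = 2 ∨ orderOf n = 4 ∨ orderOf n = 5 ∨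
      orderOf n = 7 ∨ orderOf n = 13) (g : G) :
    orderOf g ≠ 26 ∧ orderOf g ≠ 35 ∧ orderOf g ≠ 65 ∧ orderOf g ≠ 91 := by
  have key : ∀ m : ℕ, Nat.Coprime m 3 → orderOf g = m →
      m = 1 ∨ m = 2 ∨ m = 4 ∨ m = 5 ∨ m = 7 ∨ m = 13 := by
    intro m hm hg
    have h1 := h53_order_left g (hg ▸ hm)
    rw [← hg, h1]
    exact hS g.left
  refine ⟨fun h => ?_, fun h => ?_, fun h => ?_, fun h => ?_⟩
  · have := key 26 (by norm_num) h
    omega
  · have := key 35 (by norm_num) h
    omega
  · have := key 65 (by norm_num) h
    omega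
  · have := key 91 (by norm_num) h
    omega

end Cfsg.Agent.Lib.helper53.S3664
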