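import Mathlib
import Cfsg.Agent.Lib.helper92.S3664Defs
import Cfsg.Agent.Lib.helper53.S3664NOCOP

/-! S3664 split project (helper92), piece FPF13 (`fpf13`): every element of order 13 of
`G = Sz(8) : 3` is fixed-point-free on `A`. -/

set_option autoImplicit false

namespace Cfsg.Agent.Lib.helper53.S3664

open Cfsg.Agent.Lib.helper92.S3664 Cfsg.Agent.Lib.helper17 Cfsg.Agent.Lib.helper8

/-- the action fixes `0` -/
theorem h53_act_zero (g : G) : act g 0 = 0 := by
  unfold act
  have h0 : (0 : A).map (frK (Multiplicative.toAdd g.right)) = 0 := by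
    ext i j
    simp only [Matrix.map_apply, Matrix.zero_apply]
    unfold frK
    exact zero_pow (by positivity)
  rw [h0]
  simp

/-- powers of an element fixing `b` fix `b` -/
theorem h53_act_pow
    (hone : ∀ a : A, act 1 a = a)
    (hmul : ∀ (g h : G) (a : A), act (g * h) a = act g (act h a))
    (g : G) (b : A) (hb : act g b = b) (i : ℕ) : act (g ^ i) b = b := by
  induction i with
  | zero => rw [pow_zero]; exact hone b
  | succ i ih => rw [pow_succ, hmul, hb, ih]

/-- FPF13: every element of order 13 of `G` is fixed-point-free on `A`. -/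
theorem fpf13
    (hone : ∀ a : A, act 1 a = a)
    (hmul : ∀ (g h : G) (a : A), act (g * h) a = act g (act h a))
    (hcard : Nat.card S = 29120)
    (hsyl : ∀ x y : S, orderOf x = 13 → orderOf y = 13 → ∃ (c : S) (j : ℕ), y = c * x ^ j * c⁻¹)
    (h13 : orderOf x13 = 13)
    (hfpf : ∀ a : A, act (SemidirectProduct.inl x13) a = a → a = 0)
    (g : G) (hg : orderOf g = 13) (a : A) (h : act g a = a) : a = 0 := by
  have hcop : (orderOf g).Coprime 3 := by
    rw [hg]
    norm_num
  have hginl := h53_eq_inl g (h53_right_eq_one g hcop)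
  have hu : orderOf g.left = 13 := by
    rw [← h53_order_left g hcop]
    exact hg
  obtain ⟨c, j, hcj⟩ := hsyl x13 g.left h13 hu
  -- `13 ∤ j`
  have hj : ¬ 13 ∣ j := by
    intro hdvd
    have h1 : x13 ^ j = 1 := by
      rw [← h13] at hdvd
      exact orderOf_dvd_iff_pow_eq_one.mp hdvd
    rw [h1] at hcj
    have h2 : g.left = 1 := by
      rw [hcj]
      group
    rw [h2, orderOf_one] at hu
    omega
  -- the transported point
  have hb : act (SemidirectProduct.inl (x13 ^ j)) (act (SemidirectProduct.inl c⁻¹) a)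
      = act (SemidirectProduct.inl c⁻¹) a := by
    rw [← hmul, ← map_mul]
    have h1 : x13 ^ j * c⁻¹ = c⁻¹ * g.left := by
      rw [hcj]
      group
    rw [h1, map_mul, hmul, ← hginl, h]
  -- `x13` is a power of `x13 ^ j`
  have hcop13 : Nat.Coprime j 13 := by
    rw [Nat.coprime_comm]
    exact (Nat.Prime.coprime_iff_not_dvd (by norm_num)).mpr hj
  obtain ⟨i, -, hi⟩ := Nat.exists_mul_mod_eq_one_of_coprime hcop13 (by norm_num)
  have hpow : (x13 ^ j) ^ i = x13 := by
    rw [← pow_mul, ← pow_mod_orderOf, h13, hi, pow_one]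
  have hb2 : act (SemidirectProduct.inl x13) (act (SemidirectProduct.inl c⁻¹) a)
      = act (SemidirectProduct.inl c⁻¹) a := by
    have h1 := h53_act_pow hone hmul _ _ hb i
    rw [← map_pow, hpow] at h1
    exact h1
  have hzero := hfpf _ hb2
  -- transport back
  have h3 : a = act (SemidirectProduct.inl c) (act (SemidirectProduct.inl c⁻¹) a) := by
    rw [← hmul, ← map_mul, mul_inv_cancel, map_one, hone]
  rw [h3, hzero]
  exact h53_act_zero _

end Cfsg.Agent.Lib.helper53.S3664
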