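import Mathlib

/-! S3806 split project (helper12), piece B3 (`comm_not_mem_of_not_twoStep`): an element outside
the two-step centralizer moves every `y ∈ γ_{i+1} ∖ γ_{i+2}` properly. -/

set_option autoImplicit false

namespace Cfsg.Agent.Lib.helper12.MC

open Subgroup
open scoped commutatorElement

/-- a subgroup between `K` and `H` with `K.relIndex H` prime is `K` or `H` -/
theorem h53_eq_or_eq_of_relIndex_prime {G : Type*} [Group G] {K M H : Subgroup G} {p : ℕ}
    (hp : p.Prime) (hKM : K ≤ M) (hMH : M ≤ H) (hidx : K.relIndex H = p) : M = K ∨ M = H := by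
  have h := Subgroup.relIndex_mul_relIndex K M H hKM hMH
  rw [hidx] at h
  rcases (Nat.dvd_prime hp).mp (Dvd.intro _ h) with h1 | h1
  · left
    exact le_antisymm (Subgroup.relIndex_eq_one.mp h1) hKM
  · right
    rw [h1] at h
    have hp0 : 0 < p := hp.pos
    have h2 : M.relIndex H = 1 := by
      have h3 : p * M.relIndex H = p * 1 := by rw [h, mul_one]
      exact Nat.eq_of_mul_eq_mul_left hp0 h3
    exact le_antisymm hMH (Subgroup.relIndex_eq_one.mp h2)

/-- B3: an element outside the two-step centralizer moves every `y ∈ γ_{i+1} \ γ_{i+2}` properly. -/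
theorem comm_not_mem_of_not_twoStep (p : ℕ) [Fact p.Prime] {T : Type*} [Group T] [Finite T] (i : ℕ)
    (hrel : ((⊤ : Subgroup T).lowerCentralSeries (i + 1)).relIndex
      ((⊤ : Subgroup T).lowerCentralSeries i) = p)
    (s : T) (hs : ¬ ∀ y ∈ (⊤ : Subgroup T).lowerCentralSeries i,
      ⁅y, s⁆ ∈ (⊤ : Subgroup T).lowerCentralSeries (i + 2))
    (y : T) (hy : y ∈ (⊤ : Subgroup T).lowerCentralSeries i)
    (hy' : y ∉ (⊤ : Subgroup T).lowerCentralSeries (i + 1)) :
    ⁅y, s⁆ ∉ (⊤ : Subgroup T).lowerCentralSeries (i + 2) := by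
  have hp : p.Prime := Fact.out
  intro hcon
  haveI hNn : ((⊤ : Subgroup T).lowerCentralSeries (i + 2)).Normal := inferInstance
  -- membership in the auxiliary subgroup `K`
  have hmemK : ∀ z : T, z ∈ (⊤ : Subgroup T).lowerCentralSeries i ⊓
      (Subgroup.centralizer ({(QuotientGroup.mk' ((⊤ : Subgroup T).lowerCentralSeries (i + 2))) s} :
        Set (T ⧸ (⊤ : Subgroup T).lowerCentralSeries (i + 2)))).comap
        (QuotientGroup.mk' ((⊤ : Subgroup T).lowerCentralSeries (i + 2))) ↔
      z ∈ (⊤ : Subgroup T).lowerCentralSeries i ∧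
        ⁅z, s⁆ ∈ (⊤ : Subgroup T).lowerCentralSeries (i + 2) := by
    intro z
    rw [Subgroup.mem_inf, Subgroup.mem_comap, Subgroup.mem_centralizer_singleton_iff]
    refine and_congr Iff.rfl ?_
    constructor
    · intro h1
      have h3 : (QuotientGroup.mk' ((⊤ : Subgroup T).lowerCentralSeries (i + 2))) ⁅z, s⁆ = 1 := by
        rw [map_commutatorElement, commutatorElement_eq_one_iff_commute]
        exact h1
      exact (QuotientGroup.eq_one_iff _).mp h3
    · intro h
      have h3 : (QuotientGroup.mk' ((⊤ : Subgroup T).lowerCentralSeries (i + 2))) ⁅z, s⁆ = 1 :=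
        (QuotientGroup.eq_one_iff _).mpr h
      rw [map_commutatorElement, commutatorElement_eq_one_iff_commute] at h3
      exact h3
  -- `L (i+1) ≤ K ≤ L i`
  have h1 : (⊤ : Subgroup T).lowerCentralSeries (i + 1) ≤
      (⊤ : Subgroup T).lowerCentralSeries i ⊓
      (Subgroup.centralizer ({(QuotientGroup.mk' ((⊤ : Subgroup T).lowerCentralSeries (i + 2))) s} :
        Set (T ⧸ (⊤ : Subgroup T).lowerCentralSeries (i + 2)))).comap
        (QuotientGroup.mk' ((⊤ : Subgroup T).lowerCentralSeries (i + 2))) := by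
    intro z hz
    rw [hmemK]
    refine ⟨Subgroup.lowerCentralSeries_antitone _ (Nat.le_succ i) hz, ?_⟩
    have h2 : (⊤ : Subgroup T).lowerCentralSeries (i + 2)
        = ⁅(⊤ : Subgroup T).lowerCentralSeries (i + 1), (⊤ : Subgroup T)⁆ :=
      Subgroup.lowerCentralSeries_succ _ (i + 1)
    rw [h2]
    exact Subgroup.commutator_mem_commutator hz (Subgroup.mem_top s)
  rcases h53_eq_or_eq_of_relIndex_prime hp h1 inf_le_left hrel with hK | hK
  · -- `y ∈ K = L (i+1)`: contradiction
    apply hy'
    rw [← hK, hmemK]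
    exact ⟨hy, hcon⟩
  · -- `K = L i`: every `y' ∈ L i` has `⁅y', s⁆ ∈ L (i+2)`
    apply hs
    intro z hz
    rw [← hK, hmemK] at hz
    exact hz.2

end Cfsg.Agent.Lib.helper12.MC
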