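import Mathlib

set_option autoImplicit false

namespace Cfsg.Agent.Lib.helper70.SM

universe u

/-- G4 (commutators of lifts of commuting elements are conjugation invariant). -/
theorem comm_eq_of_conj {Γ : Type u} [Group Γ] {P : Type*} [Group P] (π : Γ →* P)
    (hc : π.ker ≤ Subgroup.center Γ) (g h g' h' t : Γ)
    (hcomm : π g * π h = π h * π g)
    (hg : π g' = π t * π g * (π t)⁻¹) (hh : π h' = π t * π h * (π t)⁻¹) :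
    g' * h' * g'⁻¹ * h'⁻¹ = g * h * g⁻¹ * h⁻¹ := by
  -- c := (t g t⁻¹)⁻¹ g' ∈ ker, d := (t h t⁻¹)⁻¹ h' ∈ ker
  have hcker : (t * g * t⁻¹)⁻¹ * g' ∈ π.ker := by
    rw [MonoidHom.mem_ker]
    simp only [map_mul, map_inv, hg]
    group
  have hdker : (t * h * t⁻¹)⁻¹ * h' ∈ π.ker := by
    rw [MonoidHom.mem_ker]
    simp only [map_mul, map_inv, hh]
    group
  have hkker : g * h * g⁻¹ * h⁻¹ ∈ π.ker := by
    rw [MonoidHom.mem_ker]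
    simp only [map_mul, map_inv]
    rw [hcomm]; group
  have hcz := hc hcker
  have hdz := hc hdker
  have hkz := hc hkker
  rw [Subgroup.mem_center_iff] at hcz hdz hkz
  obtain ⟨c, hcdef⟩ : ∃ c, c = (t * g * t⁻¹)⁻¹ * g' := ⟨_, rfl⟩
  obtain ⟨d, hddef⟩ : ∃ d, d = (t * h * t⁻¹)⁻¹ * h' := ⟨_, rfl⟩
  rw [← hcdef] at hcz
  rw [← hddef] at hdz
  have hg' : g' = t * g * t⁻¹ * c := by rw [hcdef]; group
  have hh' : h' = t * h * t⁻¹ * d := by rw [hddef]; group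
  have hcz' : ∀ z : Γ, c * z = z * c := fun z => (hcz z).symm
  have hdz' : ∀ z : Γ, d * z = z * d := fun z => (hdz z).symm
  have hcinv : ∀ z : Γ, c⁻¹ * z = z * c⁻¹ := by
    intro z
    have := hcz' z
    calc c⁻¹ * z = c⁻¹ * (z * c) * c⁻¹ := by group
      _ = c⁻¹ * (c * z) * c⁻¹ := by rw [this]
      _ = z * c⁻¹ := by group
  have hdinv : ∀ z : Γ, d⁻¹ * z = z * d⁻¹ := by
    intro z
    have := hdz' z
    calc d⁻¹ * z = d⁻¹ * (z * d) * d⁻¹ := by group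
      _ = d⁻¹ * (d * z) * d⁻¹ := by rw [this]
      _ = z * d⁻¹ := by group
  have e1 : g' * h' * g'⁻¹ * h'⁻¹ = t * (g * h * g⁻¹ * h⁻¹) * t⁻¹ := by
    rw [hg', hh']
    calc t * g * t⁻¹ * c * (t * h * t⁻¹ * d) * (t * g * t⁻¹ * c)⁻¹ * (t * h * t⁻¹ * d)⁻¹
        = t * g * t⁻¹ * (c * (t * h * t⁻¹ * d * (c⁻¹ * (t * g⁻¹ * t⁻¹ * (d⁻¹ * (t * h⁻¹ * t⁻¹)))))) := by
          group
      _ = t * g * t⁻¹ * ((t * h * t⁻¹ * d * (c⁻¹ * (t * g⁻¹ * t⁻¹ * (d⁻¹ * (t * h⁻¹ * t⁻¹))))) * c) := by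
          rw [hcz']
      _ = t * g * t⁻¹ * ((t * h * t⁻¹ * d * ((t * g⁻¹ * t⁻¹ * (d⁻¹ * (t * h⁻¹ * t⁻¹))) * c⁻¹)) * c) := by
          rw [hcinv]
      _ = t * g * t⁻¹ * (t * h * t⁻¹ * (d * (t * g⁻¹ * t⁻¹ * (d⁻¹ * (t * h⁻¹ * t⁻¹))))) := by
          group
      _ = t * g * t⁻¹ * (t * h * t⁻¹ * ((t * g⁻¹ * t⁻¹ * (d⁻¹ * (t * h⁻¹ * t⁻¹))) * d)) := by
          rw [hdz']
      _ = t * g * t⁻¹ * (t * h * t⁻¹ * ((t * g⁻¹ * t⁻¹ * ((t * h⁻¹ * t⁻¹) * d⁻¹)) * d)) := by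
          rw [hdinv]
      _ = t * (g * h * g⁻¹ * h⁻¹) * t⁻¹ := by group
  rw [e1]
  calc t * (g * h * g⁻¹ * h⁻¹) * t⁻¹ = (t * (g * h * g⁻¹ * h⁻¹)) * t⁻¹ := rfl
    _ = ((g * h * g⁻¹ * h⁻¹) * t) * t⁻¹ := by rw [hkz t]
    _ = g * h * g⁻¹ * h⁻¹ := by group

end Cfsg.Agent.Lib.helper70.SM
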