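import Cfsg.Agent.Lib.helper53.SM_W1
import Mathlib

set_option autoImplicit false

namespace Cfsg.Agent.Lib.helper70.SM

universe u

/-- In an odd-order kernel an element with trivial square is trivial. -/
theorem h53_eq_one_of_sq_of_odd {Γ : Type u} [Group Γ] {P : Type*} [Group P] (π : Γ →* P)
    (hodd : Odd (Nat.card π.ker)) (x : Γ) (hx : x ∈ π.ker) (h2 : x * x = 1) : x = 1 := by
  have h1 : (⟨x, hx⟩ : π.ker) ^ 2 = 1 := by
    apply Subtype.ext
    simp only [Subgroup.coe_one, pow_two]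
    exact h2
  have hd2 : orderOf (⟨x, hx⟩ : π.ker) ∣ 2 := orderOf_dvd_of_pow_eq_one h1
  have hdc : orderOf (⟨x, hx⟩ : π.ker) ∣ Nat.card π.ker := orderOf_dvd_natCard _
  have hcop : Nat.Coprime 2 (Nat.card π.ker) := (Nat.coprime_two_left).2 hodd
  have h3 := Nat.dvd_gcd hd2 hdc
  rw [hcop.gcd_eq_one] at h3
  have h4 : orderOf (⟨x, hx⟩ : π.ker) = 1 := Nat.dvd_one.mp h3
  have h5 := orderOf_eq_one_iff.mp h4
  exact congrArg Subtype.val h5

/-- O4 (the `A₄` relation, odd kernel). -/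
theorem h53_odd_a4 {Γ : Type u} [Group Γ] [Finite Γ] {P : Type*} [Group P] (π : Γ →* P)
    (hc : π.ker ≤ Subgroup.center Γ) (hodd : Odd (Nat.card π.ker))
    (a b : Γ) (ha : a ^ 3 = 1) (hb : b ^ 2 = 1) (hab : (π a * π b) ^ 3 = 1) :
    (a * b) ^ 3 = 1 := by
  have hbb : b * b = 1 := by rw [← pow_two]; exact hb
  have haaa : a * a * a = 1 := by
    rw [← ha]; simp only [pow_succ, pow_zero, one_mul]
  have hbinv : b⁻¹ = b := inv_eq_of_mul_eq_one_right hbb
  obtain ⟨v, hv⟩ : ∃ v, v = a * b * a⁻¹ := ⟨_, rfl⟩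
  obtain ⟨w, hw⟩ : ∃ w, w = a * v * a⁻¹ := ⟨_, rfl⟩
  have hvv : v * v = 1 := by
    rw [hv]
    calc a * b * a⁻¹ * (a * b * a⁻¹) = a * (b * b) * a⁻¹ := by group
      _ = 1 := by rw [hbb]; group
  have hww : w * w = 1 := by
    rw [hw]
    calc a * v * a⁻¹ * (a * v * a⁻¹) = a * (v * v) * a⁻¹ := by group
      _ = 1 := by rw [hvv]; group
  have hawa : a * w * a⁻¹ = b := by
    rw [hw, hv]
    calc a * (a * (a * b * a⁻¹) * a⁻¹) * a⁻¹ = (a * a * a) * b * (a * a * a)⁻¹ := by group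
      _ = b := by rw [haaa]; group
  have hvinv : v⁻¹ = v := inv_eq_of_mul_eq_one_right hvv
  -- images
  have hπa : (π a) ^ 3 = 1 := by rw [← map_pow, ha, map_one]
  have hπb : (π b) ^ 2 = 1 := by rw [← map_pow, hb, map_one]
  have hW := Cfsg.Agent.Lib.helper70.SM.a4_comm (π a) (π b) hπa hπb hab
  have hπbb : π b * π b = 1 := by rw [← pow_two]; exact hπb
  -- x := (b * v)^2 ∈ ker
  have hxker : (b * v) * (b * v) ∈ π.ker := by
    rw [MonoidHom.mem_ker, hv]
    simp only [map_mul, map_inv]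
    obtain ⟨c, hcdef⟩ : ∃ c, c = π a * π b * (π a)⁻¹ := ⟨_, rfl⟩
    rw [← hcdef] at hW ⊢
    have hcc : c * c = 1 := by
      rw [hcdef]
      calc π a * π b * (π a)⁻¹ * (π a * π b * (π a)⁻¹) = π a * (π b * π b) * (π a)⁻¹ := by group
        _ = 1 := by rw [hπbb]; group
    calc π b * c * (π b * c) = π b * c * (c * π b) := by rw [← hW]
      _ = π b * (c * c) * π b := by group
      _ = 1 := by rw [hcc, mul_one, hπbb]
  have hxz := hc hxker
  rw [Subgroup.mem_center_iff] at hxz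
  have hxinv : ((b * v) * (b * v))⁻¹ = (b * v) * (b * v) := by
    calc ((b * v) * (b * v))⁻¹ = v⁻¹ * b⁻¹ * (v⁻¹ * b⁻¹) := by group
      _ = v * b * (v * b) := by rw [hvinv, hbinv]
      _ = (b * b) * (v * b * (v * b)) := by rw [hbb, one_mul]
      _ = b * ((b * v) * (b * v)) * b := by group
      _ = ((b * v) * (b * v)) * b * b := by rw [hxz b]
      _ = (b * v) * (b * v) := by rw [mul_assoc, hbb, mul_one]
  have hx2 : ((b * v) * (b * v)) * ((b * v) * (b * v)) = 1 := inv_eq_iff_mul_eq_one.mp hxinv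
  have hx1 : (b * v) * (b * v) = 1 := h53_eq_one_of_sq_of_odd π hodd _ hxker hx2
  have hbv : b * v = v * b := by
    have h6 : (b * v)⁻¹ = b * v := inv_eq_of_mul_eq_one_right hx1
    calc b * v = (b * v)⁻¹ := h6.symm
      _ = v⁻¹ * b⁻¹ := mul_inv_rev _ _
      _ = v * b := by rw [hvinv, hbinv]
  have e1 : a * (b * v) * a⁻¹ = v * w := by
    calc a * (b * v) * a⁻¹ = (a * b * a⁻¹) * (a * v * a⁻¹) := by group
      _ = v * w := by rw [← hv, ← hw]
  have e2 : a * (v * b) * a⁻¹ = w * v := by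
    calc a * (v * b) * a⁻¹ = (a * v * a⁻¹) * (a * b * a⁻¹) := by group
      _ = w * v := by rw [← hv, ← hw]
  have hvw : v * w = w * v := by rw [← e1, hbv, e2]
  have e3 : a * (v * w) * a⁻¹ = w * b := by
    calc a * (v * w) * a⁻¹ = (a * v * a⁻¹) * (a * w * a⁻¹) := by group
      _ = w * b := by rw [hawa, ← hw]
  have e4 : a * (w * v) * a⁻¹ = b * w := by
    calc a * (w * v) * a⁻¹ = (a * w * a⁻¹) * (a * v * a⁻¹) := by group
      _ = b * w := by rw [hawa, ← hw]
  have hwb : w * b = b * w := by rw [← e3, hvw, e4]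
  have hβ : (a * b) ^ 3 = v * w * b := by
    rw [hw, hv]
    calc (a * b) ^ 3 = (a * b * a⁻¹) * (a * (a * b * a⁻¹) * a⁻¹) * ((a * a * a) * b) := by
          simp only [pow_succ, pow_zero, one_mul]; group
      _ = (a * b * a⁻¹) * (a * (a * b * a⁻¹) * a⁻¹) * b := by rw [haaa, one_mul]
  have hβker : (a * b) ^ 3 ∈ π.ker := by
    rw [MonoidHom.mem_ker, map_pow, map_mul]; exact hab
  have hβ2 : (a * b) ^ 3 * (a * b) ^ 3 = 1 := by
    rw [hβ]
    calc v * w * b * (v * w * b) = v * w * (b * v) * w * b := by group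
      _ = v * w * (v * b) * w * b := by rw [hbv]
      _ = v * (w * v) * (b * w) * b := by group
      _ = v * (v * w) * (w * b) * b := by rw [← hvw, ← hwb]
      _ = (v * v) * (w * w) * (b * b) := by group
      _ = 1 := by rw [hvv, hww, hbb]; simp
  exact h53_eq_one_of_sq_of_odd π hodd _ hβker hβ2

end Cfsg.Agent.Lib.helper70.SM
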