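import Mathlib
import Cfsg.Agent.Lib.helper69.SNDefs
import Cfsg.Agent.Lib.helper69.SNStruct

set_option autoImplicit false

namespace Cfsg.Agent.Lib.helper53.SNG

open Cfsg.Agent.Lib.helper69.SNG

universe u v

/-- **[P2N-SOLV]** -/
theorem sn_solvable_two_nilpotent {K : Type u} [Group K] [Finite K] (h : SN K)
    (hs : Group.IsSolvable K) (S : Sylow 2 K) (hS : ¬ IsMulCommutative S) :
    ∃ O : Subgroup K, O.Normal ∧ Odd (Nat.card O) ∧ O ⊔ (S : Subgroup K) = ⊤ := by
  haveI : Fact (Nat.Prime 2) := ⟨Nat.prime_two⟩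
  -- K is not abelian
  have hKna : ¬ IsMulCommutative K := by
    intro hc
    apply hS
    rw [comm_iff_top] at hc
    rw [comm_iff]
    intro a _ b _
    exact hc a b
  obtain ⟨A, hAn, hAc, hAi⟩ := sn_solvable_index h hs hKna
  have hAab := (comm_iff A).mp hAc
  -- the index is 2
  have hA2 : A.index = 2 := by
    by_contra hne
    apply hS
    rw [comm_iff]
    have hSA : (S : Subgroup K) ≤ A := by
      intro s hs'
      obtain ⟨k, hk⟩ := S.isPGroup' ⟨s, hs'⟩
      have hk' : s ^ 2 ^ k = 1 := by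
        have := congrArg Subtype.val hk
        simpa using this
      have h1 : ((s : K) : K ⧸ A) ^ 2 ^ k = 1 := by
        rw [← QuotientGroup.mk_pow, hk']; rfl
      have h2 : ((s : K) : K ⧸ A) ^ A.index = 1 := by
        rw [Subgroup.index_eq_card]
        exact pow_card_eq_one'
      have h3 := pow_gcd_eq_one.mpr ⟨h1, h2⟩
      have hcop : Nat.Coprime (2 ^ k) A.index := by
        apply Nat.Coprime.pow_left
        rw [Nat.coprime_primes Nat.prime_two hAi]
        exact fun h => hne h.symm
      rw [hcop.gcd_eq_one, pow_one] at h3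
      exact (QuotientGroup.eq_one_iff s).mp h3
    intro a ha b hb
    exact hAab a (hSA ha) b (hSA hb)
  -- the odd part
  obtain ⟨k, m, hm, hkm⟩ := Nat.exists_eq_two_pow_mul_odd (n := Nat.card K) (Nat.card_pos.ne')
  let O : Subgroup K :=
    { carrier := {a | a ∈ A ∧ a ^ m = 1}
      one_mem' := ⟨A.one_mem, one_pow m⟩
      mul_mem' := by
        rintro a b ⟨ha, ha'⟩ ⟨hb, hb'⟩
        refine ⟨A.mul_mem ha hb, ?_⟩
        have hcomm : Commute a b := hAab a ha b hb
        rw [hcomm.mul_pow, ha', hb', one_mul]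
      inv_mem' := by
        rintro a ⟨ha, ha'⟩
        exact ⟨A.inv_mem ha, by rw [inv_pow, ha', inv_one]⟩ }
  have hOmem : ∀ a : K, a ∈ O ↔ a ∈ A ∧ a ^ m = 1 := fun a => Iff.rfl
  have hOn : O.Normal := by
    constructor
    intro a ha g
    rw [hOmem] at ha ⊢
    refine ⟨hAn.conj_mem a ha.1 g, ?_⟩
    rw [conj_pow, ha.2, mul_one, mul_inv_cancel]
  refine ⟨O, hOn, ?_, ?_⟩
  · -- odd order
    by_contra hodd
    rw [Nat.not_odd_iff_even, even_iff_two_dvd] at hodd
    obtain ⟨x, hx⟩ := exists_prime_orderOf_dvd_card' 2 hodd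
    have hx2 : x ^ 2 = 1 := by rw [← hx]; exact pow_orderOf_eq_one x
    have hxm : x ^ m = 1 := by
      apply Subtype.ext
      rw [Subgroup.coe_pow, Subgroup.coe_one]
      exact ((hOmem x.1).mp x.2).2
    have h3 := pow_gcd_eq_one.mpr ⟨hx2, hxm⟩
    have hcop : Nat.Coprime 2 m := (Nat.coprime_two_left).2 hm
    rw [hcop.gcd_eq_one, pow_one] at h3
    rw [h3, orderOf_one] at hx
    omega
  · -- O ⊔ S = ⊤
    haveI := hOn
    have hquot : IsPGroup 2 (K ⧸ O) := by
      intro x
      induction x using QuotientGroup.induction_on with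
      | H g =>
        refine ⟨k + 1, ?_⟩
        rw [← QuotientGroup.mk_pow, QuotientGroup.eq_one_iff, hOmem]
        have hg2 : g ^ 2 ∈ A := by
          have h2 : ((g : K) : K ⧸ A) ^ 2 = 1 := by
            rw [← hA2, Subgroup.index_eq_card]
            exact pow_card_eq_one'
          rw [← QuotientGroup.mk_pow] at h2
          exact (QuotientGroup.eq_one_iff _).mp h2
        constructor
        · rw [pow_succ, pow_mul']
          exact A.pow_mem hg2 _
        · rw [← pow_mul, pow_succ, mul_assoc, mul_comm 2 m, ← mul_assoc, ← hkm, pow_mul,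
            pow_card_eq_one', one_pow]
    obtain ⟨j, hj⟩ := (IsPGroup.iff_card).mp hquot
    rw [← Subgroup.index_eq_card] at hj
    have hd1 : (O ⊔ (S : Subgroup K)).index ∣ 2 ^ j := by
      rw [← hj]; exact Subgroup.index_dvd_of_le le_sup_left
    have hd2 : (O ⊔ (S : Subgroup K)).index ∣ (S : Subgroup K).index :=
      Subgroup.index_dvd_of_le le_sup_right
    have hSodd : Nat.Coprime (2 ^ j) (S : Subgroup K).index := by
      apply Nat.Coprime.pow_left
      rw [Nat.Prime.coprime_iff_not_dvd Nat.prime_two]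
      exact S.not_dvd_index
    have h1 := Nat.dvd_gcd hd1 hd2
    rw [hSodd.gcd_eq_one, Nat.dvd_one] at h1
    exact Subgroup.index_eq_one.mp h1

end Cfsg.Agent.Lib.helper53.SNG
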