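import Mathlib
import Cfsg.Agent.Lib.helper49.SPEDefs
import Cfsg.Agent.Lib.helper53.SPEHNE

set_option autoImplicit false

namespace Cfsg.Agent.Lib.helper49.SPE

open Matrix

/-- the polar form of `qfy y` at two basis vectors `i0 < i1` -/
theorem helper53_polar_single {F : Type*} [Field F] {n : ℕ} (y : Matrix (Fin n) (Fin n) F)
    (i0 i1 : Fin n) (hlt : i0 < i1) :
    polar (qfy y) (Pi.single i0 1) (Pi.single i1 1) = y i0 i1 := by
  classical
  have h01 : i0 ≠ i1 := ne_of_lt hlt
  have hle : i0 ≤ i1 := le_of_lt hlt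
  have hnle : ¬ i1 ≤ i0 := not_le_of_gt hlt
  unfold polar qfy
  rw [← Finset.sum_sub_distrib, ← Finset.sum_sub_distrib]
  have e : ∀ i : Fin n,
      (∑ j, upT y i j * ((Pi.single i0 1 + Pi.single i1 1 : Fin n → F) i)
          * ((Pi.single i0 1 + Pi.single i1 1 : Fin n → F) j)
        - ∑ j, upT y i j * (Pi.single i0 1 : Fin n → F) i * (Pi.single i0 1 : Fin n → F) j)
        - ∑ j, upT y i j * (Pi.single i1 1 : Fin n → F) i * (Pi.single i1 1 : Fin n → F) j
      = ∑ j, ((if i = i0 ∧ j = i1 then upT y i j else 0)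
          + (if i = i1 ∧ j = i0 then upT y i j else 0)) := by
    intro i
    rw [← Finset.sum_sub_distrib, ← Finset.sum_sub_distrib]
    refine Finset.sum_congr rfl (fun j _ => ?_)
    simp only [Pi.add_apply, Pi.single_apply]
    by_cases a0 : i = i0 <;> by_cases a1 : i = i1 <;> by_cases b0 : j = i0 <;> by_cases b1 : j = i1 <;>
      simp [a0, a1, b0, b1, h01, h01.symm]
  simp only [e, Finset.sum_add_distrib]
  rw [helper53_sum_pair i0 i1 (upT y), helper53_sum_pair i1 i0 (upT y)]
  unfold upT
  rw [if_pos hle, if_neg hnle, add_zero]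

/-- the value of `qfy y` at a basis vector -/
theorem helper53_qfy_single {F : Type*} [Field F] {n : ℕ} (y : Matrix (Fin n) (Fin n) F)
    (i0 : Fin n) : qfy y (Pi.single i0 1) = y i0 i0 := by
  classical
  unfold qfy
  have e : ∀ i j : Fin n, upT y i j * (Pi.single i0 1 : Fin n → F) i * (Pi.single i0 1 : Fin n → F) j
      = (if i = i0 ∧ j = i0 then upT y i j else 0) := by
    intro i j
    simp only [Pi.single_apply]
    by_cases a0 : i = i0 <;> by_cases b0 : j = i0 <;> simp [a0, b0]
  simp only [e]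
  rw [helper53_sum_pair i0 i0 (upT y)]
  unfold upT
  rw [if_pos le_rfl]

/-- QINJ (M), racer copy -/
theorem helper53_qfy_inj {F : Type*} [Field F] {n : ℕ} (y y' : Matrix (Fin n) (Fin n) F)
    (hy : y ∈ symH F n) (hy' : y' ∈ symH F n) (h : ∀ x, qfy y x = qfy y' x) : y = y' := by
  have hlt : ∀ i j : Fin n, i < j → y i j = y' i j := by
    intro i j hij
    rw [← helper53_polar_single y i j hij, ← helper53_polar_single y' i j hij]
    unfold polar
    rw [h, h, h]
  ext i j
  rcases lt_trichotomy i j with hij | hij | hij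
  · exact hlt i j hij
  · subst hij
    rw [← helper53_qfy_single y i, ← helper53_qfy_single y' i, h]
  · rw [hy i j, hy' i j]
    exact hlt j i hij

end Cfsg.Agent.Lib.helper49.SPE
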