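import Mathlib

set_option autoImplicit false

namespace Cfsg.Agent.Lib.helper44.SUW

open Matrix

/-- FNORM1 (S) -/
theorem card_norm_one_le {K : Type*} [Field K] [Fintype K] {q : ℕ} (hK : Fintype.card K = q ^ 2)
    (σ : K →+* K) (hσ : ∀ x, σ x = x ^ q) : Nat.card {z : K // z * σ z = 1} ≤ q + 1 := by
  classical
  have hsub : ∀ z : K, z * σ z = 1 → z ∈ (Polynomial.nthRoots (q + 1) (1 : K)).toFinset := by
    intro z hz
    rw [Multiset.mem_toFinset, Polynomial.mem_nthRoots (Nat.succ_pos q), pow_succ', ← hσ]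
    exact hz
  calc Nat.card {z : K // z * σ z = 1}
      = Fintype.card {z : K // z * σ z = 1} := Nat.card_eq_fintype_card
    _ = (Finset.univ.filter (fun z : K => z * σ z = 1)).card := Fintype.card_subtype _
    _ ≤ (Polynomial.nthRoots (q + 1) (1 : K)).toFinset.card :=
        Finset.card_le_card (fun z hz => hsub z (Finset.mem_filter.1 hz).2)
    _ ≤ Multiset.card (Polynomial.nthRoots (q + 1) (1 : K)) := Multiset.toFinset_card_le _
    _ ≤ q + 1 := Polynomial.card_nthRoots _ _

end Cfsg.Agent.Lib.helper44.SUW
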