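import Mathlib
import Cfsg.Agent.Lib.helper53.SfoBINREP

set_option autoImplicit false

namespace Cfsg.Agent.Lib.helper59.Sfk

open Matrix

/-- KAPPA1 (L): a self-adjoint square root of `δ` commuting with `x`, built on the planes `<e i, e (π i)>`. -/
theorem sfk_kappa_one {F : Type*} [Field F] [Fintype F] {ι : Type} [Fintype ι] [DecidableEq ι]
    (h2 : (2 : F) ≠ 0) (Q : QuadraticForm F (ι → F))
    (hQ : (QuadraticMap.polarBilin Q).Nondegenerate) (δ : F) (x : GL ι F)
    (e : Fin (Fintype.card ι) → (ι → F)) (ε : Fin (Fintype.card ι) → F)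
    (he : LinearIndependent F e)
    (horth : ∀ i j, i ≠ j → QuadraticMap.polar (⇑Q) (e i) (e j) = 0) (hne : ∀ i, Q (e i) ≠ 0)
    (hxe : ∀ i, (x : Matrix ι ι F) *ᵥ e i = ε i • e i)
    (π : Fin (Fintype.card ι) → Fin (Fintype.card ι)) (hπ : ∀ i, π (π i) = i)
    (hπ' : ∀ i, π i ≠ i) (hεπ : ∀ i, ε (π i) = ε i) :
    ∃ κ' : Matrix ι ι F, κ' * κ' = δ • (1 : Matrix ι ι F) ∧
      (∀ u v : ι → F, QuadraticMap.polar (⇑Q) (κ' *ᵥ u) v = QuadraticMap.polar (⇑Q) u (κ' *ᵥ v)) ∧
      (x : Matrix ι ι F) * κ' = κ' * (x : Matrix ι ι F) := by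
  classical
  -- the basis
  have hcard : Fintype.card (Fin (Fintype.card ι)) = Module.finrank F (ι → F) := by simp
  let b : Module.Basis (Fin (Fintype.card ι)) F (ι → F) :=
    basisOfLinearIndependentOfCardEqFinrank' e he hcard
  have hb : ∀ i, b i = e i := fun i => by
    simp only [b, coe_basisOfLinearIndependentOfCardEqFinrank']
  -- solutions of the binary equations
  have hsol : ∀ j, ∃ A C : F, A ^ 2 + (Q (e j) * Q (e (π j))) * C ^ 2 = δ := by
    intro j
    obtain ⟨A, C, h⟩ := Cfsg.Agent.Lib.helper24.sfo_bin_rep h2 1 (Q (e j) * Q (e (π j))) δ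
      one_ne_zero (mul_ne_zero (hne j) (hne (π j)))
    exact ⟨A, C, by linear_combination h⟩
  choose A C hAC using hsol
  -- representative of the pair `{i, π i}`
  set m : Fin (Fintype.card ι) → Fin (Fintype.card ι) := fun i => if i < π i then i else π i
    with hm
  have hlt : ∀ i, i < π i ∨ π i < i := fun i => lt_or_gt_of_ne (Ne.symm (hπ' i))
  have hmπ : ∀ i, m (π i) = m i := by
    intro i
    simp only [hm, hπ]
    rcases hlt i with h | h
    · rw [if_pos h, if_neg (not_lt.mpr h.le)]
    · rw [if_neg (not_lt.mpr h.le), if_pos h]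
  have hqm : ∀ i, Q (e (m i)) * Q (e (π (m i))) = Q (e i) * Q (e (π i)) := by
    intro i
    simp only [hm]
    split_ifs with h
    · rfl
    · rw [hπ, mul_comm]
  set α : Fin (Fintype.card ι) → F := fun i => if i < π i then A (m i) else - A (m i) with hα
  set γ : Fin (Fintype.card ι) → F := fun i => Q (e i) * C (m i) with hγ
  have hαπ : ∀ i, α (π i) = - α i := by
    intro i
    simp only [hα, hπ, hmπ]
    rcases hlt i with h | h
    · rw [if_pos h, if_neg (not_lt.mpr h.le)]
    · rw [if_neg (not_lt.mpr h.le), if_pos h, neg_neg]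
  have hα2 : ∀ i, α i * α i + γ i * γ (π i) = δ := by
    intro i
    have h := hAC (m i)
    rw [hqm] at h
    simp only [hα, hγ, hmπ]
    split_ifs <;> linear_combination h
  have hγsym : ∀ i, γ i * Q (e (π i)) = γ (π i) * Q (e i) := by
    intro i
    simp only [hγ, hmπ]
    ring
  -- the linear map
  let f : (ι → F) →ₗ[F] (ι → F) :=
    Module.Basis.constr (M' := ι → F) b F (fun i => α i • e i + γ i • e (π i))
  have hfe : ∀ i, f (e i) = α i • e i + γ i • e (π i) := by
    intro i
    have h := Module.Basis.constr_basis (M' := ι → F) b F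
      (fun i => α i • e i + γ i • e (π i)) i
    rw [hb i] at h
    exact h
  have hκv : ∀ v : ι → F, (LinearMap.toMatrix' f) *ᵥ v = f v :=
    fun v => LinearMap.toMatrix'_mulVec f v
  refine ⟨LinearMap.toMatrix' f, ?_, ?_, ?_⟩
  · apply Matrix.toLin'.injective
    apply b.ext
    intro i
    rw [hb i, Matrix.toLin'_mul, LinearMap.comp_apply, Matrix.toLin'_apply, Matrix.toLin'_apply,
      Matrix.toLin'_apply, hκv, hκv, Matrix.smul_mulVec, Matrix.one_mulVec, hfe, map_add,
      map_smul, map_smul, hfe, hfe, hπ, hαπ]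
    have h1 := hα2 i
    have h3 : α i • (α i • e i + γ i • e (π i)) + γ i • (-α i • e (π i) + γ (π i) • e i) =
        (α i * α i + γ i * γ (π i)) • e i := by module
    rw [h3, h1]
  · intro u v
    rw [hκv, hκv]
    have key : (QuadraticMap.polarBilin Q).compl₁₂ f LinearMap.id =
        (QuadraticMap.polarBilin Q).compl₁₂ LinearMap.id f := by
      apply LinearMap.ext_basis b b
      intro i j
      simp only [LinearMap.compl₁₂_apply, LinearMap.id_apply, QuadraticMap.polarBilin_apply_apply,
        hb]
      rw [hfe, hfe, QuadraticMap.polar_add_left, QuadraticMap.polar_smul_left,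
        QuadraticMap.polar_smul_left, QuadraticMap.polar_add_right, QuadraticMap.polar_smul_right,
        QuadraticMap.polar_smul_right]
      by_cases hij : j = i
      · subst hij
        rw [horth (π j) j (hπ' j), horth j (π j) (Ne.symm (hπ' j))]
      · rw [horth i j (Ne.symm hij)]
        by_cases hj : j = π i
        · subst hj
          rw [hπ, QuadraticMap.polar_self, QuadraticMap.polar_self]
          simp only [smul_eq_mul, nsmul_eq_mul, Nat.cast_ofNat, mul_zero, zero_add]
          have h4 := hγsym i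
          linear_combination 2 * h4
        · have hj' : i ≠ π j := by
            intro h
            apply hj
            rw [h, hπ]
          rw [horth (π i) j (Ne.symm hj), horth i (π j) hj']
          simp
    have h5 := congrArg (fun B => B u v) key
    simpa [LinearMap.compl₁₂_apply, QuadraticMap.polarBilin_apply_apply] using h5
  · apply Matrix.toLin'.injective
    apply b.ext
    intro i
    rw [hb i, Matrix.toLin'_mul, Matrix.toLin'_mul, LinearMap.comp_apply, LinearMap.comp_apply,
      Matrix.toLin'_apply, Matrix.toLin'_apply, Matrix.toLin'_apply, Matrix.toLin'_apply, hκv,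
      hκv, hxe, map_smul, hfe, Matrix.mulVec_add, Matrix.mulVec_smul, Matrix.mulVec_smul, hxe,
      hxe, hεπ]
    module

end Cfsg.Agent.Lib.helper59.Sfk
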