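import Mathlib
import Cfsg.Agent.Lib.helper24.SfoDefs
import Cfsg.Agent.Lib.helper98.SfoOB
import Cfsg.Agent.Lib.helper53.SfoBINREP

set_option autoImplicit false

namespace Cfsg.Agent.Lib.helper24

open Module Matrix Cfsg.Geo

/-- value of `Q` on a combination of pairwise polar-orthogonal vectors -/
theorem h53_sfo_sum_orth {F : Type*} [Field F] {n : ℕ} (Q : (Fin n → F) → F)
    (hQ : IsNondegenerateQuadraticForm Q) {ι : Type*} [DecidableEq ι] (e : ι → (Fin n → F))
    (horth : ∀ i j, i ≠ j → QuadraticMap.polar Q (e i) (e j) = 0) (c : ι → F) (s : Finset ι) :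
    Q (∑ i ∈ s, c i • e i) = ∑ i ∈ s, c i ^ 2 * Q (e i) := by
  have hQ0 : Q 0 = 0 := by
    have := hQ.smul 0 0
    simpa using this
  induction s using Finset.induction_on with
  | empty => simpa using hQ0
  | insert a s ha ih =>
    rw [Finset.sum_insert ha, Finset.sum_insert ha]
    have hpol : ∀ t : Finset ι, a ∉ t →
        QuadraticMap.polar Q (c a • e a) (∑ i ∈ t, c i • e i) = 0 := by
      intro t
      induction t using Finset.induction_on with
      | empty =>
        intro _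
        simp [QuadraticMap.polar, hQ0]
      | insert b t hb iht =>
        intro hat
        rw [Finset.sum_insert hb, hQ.polar_bilinear.add_right, hQ.polar_bilinear.smul_right,
          hQ.polar_bilinear.smul_left,
          horth a b (by rintro rfl; exact hat (Finset.mem_insert_self _ _)),
          iht (fun h => hat (Finset.mem_insert_of_mem h))]
        ring
    have hadd : Q (c a • e a + ∑ i ∈ s, c i • e i) = Q (c a • e a) + Q (∑ i ∈ s, c i • e i)
        + QuadraticMap.polar Q (c a • e a) (∑ i ∈ s, c i • e i) := by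
      unfold QuadraticMap.polar
      ring
    rw [hadd, hpol s ha, ih, hQ.smul, add_zero]

/-- OSIM2 (racer copy, prefixed name) -/
theorem h53_sfo_exists_sim_sq {F : Type*} [Field F] [Fintype F] {n : ℕ} (h2 : (2 : F) ≠ 0)
    (Q : (Fin n → F) → F) (hQ : IsNondegenerateQuadraticForm Q) (hn : Even n) (z : F)
    (hz : z ≠ 0) :
    ∃ g ∈ quadSimilarityGroup Q,
      (g : Matrix (Fin n) (Fin n) F) * (g : Matrix (Fin n) (Fin n) F) =
        z • (1 : Matrix (Fin n) (Fin n) F) := by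
  classical
  obtain ⟨m, rfl⟩ := hn
  rcases Nat.eq_zero_or_pos m with rfl | hm
  · refine ⟨1, Subgroup.one_mem _, ?_⟩
    ext i
    exact Fin.elim0 i
  haveI : Nonempty (Fin m ⊕ Fin m) := ⟨Sum.inl ⟨0, hm⟩⟩
  obtain ⟨e, hli, horth, hne⟩ := sfo_orth_basis h2 Q hQ
  have hli' : LinearIndependent F (e ∘ (finSumFinEquiv : Fin m ⊕ Fin m ≃ Fin (m + m))) :=
    hli.comp _ (finSumFinEquiv : Fin m ⊕ Fin m ≃ Fin (m + m)).injective
  have hcard : Fintype.card (Fin m ⊕ Fin m) = Module.finrank F (Fin (m + m) → F) := by simp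
  obtain ⟨b, hb⟩ : ∃ b : Basis (Fin m ⊕ Fin m) F (Fin (m + m) → F),
      ∀ i, b i = e (finSumFinEquiv i) :=
    ⟨basisOfLinearIndependentOfCardEqFinrank hli' hcard, fun i => by simp⟩
  have horth' : ∀ i j, i ≠ j → QuadraticMap.polar Q (b i) (b j) = 0 := by
    intro i j hij
    rw [hb, hb]
    exact horth _ _ (fun h => hij (finSumFinEquiv.injective h))
  have hne' : ∀ i, Q (b i) ≠ 0 := fun i => by rw [hb]; exact hne _
  have hpar : ∀ k : Fin m, ∃ α γ : F,
      Q (b (Sum.inl k)) * α ^ 2 + Q (b (Sum.inr k)) * γ ^ 2 = z * Q (b (Sum.inl k)) :=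
    fun k => sfo_bin_rep h2 _ _ _ (hne' _) (hne' _)
  choose α γ hαγ using hpar
  obtain ⟨β, hβ⟩ : ∃ β : Fin m → F,
      ∀ k, Q (b (Sum.inl k)) * β k = Q (b (Sum.inr k)) * γ k :=
    ⟨fun k => Q (b (Sum.inr k)) * γ k / Q (b (Sum.inl k)), fun k => by
      field_simp [hne' (Sum.inl k)]⟩
  have hz' : ∀ k, α k ^ 2 + β k * γ k = z := by
    intro k
    have h1 : (α k ^ 2 + β k * γ k) * Q (b (Sum.inl k)) = z * Q (b (Sum.inl k)) := by
      linear_combination hαγ k + γ k * hβ k
    exact mul_right_cancel₀ (hne' (Sum.inl k)) h1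
  -- the coordinate map
  let Tf : (Fin m ⊕ Fin m → F) → (Fin m ⊕ Fin m → F) := fun c =>
    Sum.elim (fun k => α k * c (Sum.inl k) + β k * c (Sum.inr k))
      (fun k => γ k * c (Sum.inl k) - α k * c (Sum.inr k))
  have hTl : ∀ c k, Tf c (Sum.inl k) = α k * c (Sum.inl k) + β k * c (Sum.inr k) := fun _ _ => rfl
  have hTr : ∀ c k, Tf c (Sum.inr k) = γ k * c (Sum.inl k) - α k * c (Sum.inr k) := fun _ _ => rfl
  let T : (Fin m ⊕ Fin m → F) →ₗ[F] (Fin m ⊕ Fin m → F) :=
    { toFun := Tf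
      map_add' := by
        intro c c'
        ext (k | k)
        · rw [Pi.add_apply, hTl, hTl, hTl, Pi.add_apply, Pi.add_apply]; ring
        · rw [Pi.add_apply, hTr, hTr, hTr, Pi.add_apply, Pi.add_apply]; ring
      map_smul' := by
        intro r c
        ext (k | k)
        · rw [Pi.smul_apply, hTl, hTl, Pi.smul_apply, Pi.smul_apply, RingHom.id_apply,
            smul_eq_mul, smul_eq_mul, smul_eq_mul]; ring
        · rw [Pi.smul_apply, hTr, hTr, Pi.smul_apply, Pi.smul_apply, RingHom.id_apply,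
            smul_eq_mul, smul_eq_mul, smul_eq_mul]; ring }
  have hT : ∀ c, T c = Tf c := fun _ => rfl
  have hTT : ∀ c, T (T c) = z • c := by
    intro c
    rw [hT, hT]
    ext (k | k)
    · rw [hTl, hTl, hTr, Pi.smul_apply, smul_eq_mul]
      linear_combination (c (Sum.inl k)) * hz' k
    · rw [hTr, hTl, hTr, Pi.smul_apply, smul_eq_mul]
      linear_combination (c (Sum.inr k)) * hz' k
  have hQφ : ∀ c : Fin m ⊕ Fin m → F, Q (b.equivFun.symm c) = ∑ i, c i ^ 2 * Q (b i) := by
    intro c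
    rw [Basis.equivFun_symm_apply]
    exact h53_sfo_sum_orth Q hQ b horth' c Finset.univ
  have hQT : ∀ c : Fin m ⊕ Fin m → F,
      ∑ i, (T c i) ^ 2 * Q (b i) = z * ∑ i, c i ^ 2 * Q (b i) := by
    intro c
    rw [hT, Fintype.sum_sum_type, Fintype.sum_sum_type, mul_add, Finset.mul_sum, Finset.mul_sum,
      ← Finset.sum_add_distrib, ← Finset.sum_add_distrib]
    refine Finset.sum_congr rfl (fun k _ => ?_)
    rw [hTl, hTr]
    linear_combination (c (Sum.inl k) ^ 2) * hαγ k
      + (2 * α k * c (Sum.inl k) * c (Sum.inr k) + c (Sum.inr k) ^ 2 * β k) * hβ k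
      + (c (Sum.inr k) ^ 2 * Q (b (Sum.inr k))) * hz' k
  let M : (Fin (m + m) → F) →ₗ[F] (Fin (m + m) → F) :=
    b.equivFun.symm.toLinearMap ∘ₗ T ∘ₗ b.equivFun.toLinearMap
  have hM : ∀ v, M v = b.equivFun.symm (T (b.equivFun v)) := fun _ => rfl
  have hMM : M ∘ₗ M = z • LinearMap.id := by
    refine LinearMap.ext (fun v => ?_)
    rw [LinearMap.comp_apply, hM, hM, LinearEquiv.apply_symm_apply, hTT, map_smul,
      LinearEquiv.symm_apply_apply]
    rfl
  have hGG : LinearMap.toMatrix' M * LinearMap.toMatrix' M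
      = z • (1 : Matrix (Fin (m + m)) (Fin (m + m)) F) := by
    rw [← LinearMap.toMatrix'_comp, hMM, map_smul, LinearMap.toMatrix'_id]
  have hGv : ∀ v, LinearMap.toMatrix' M *ᵥ v = M v := by
    intro v
    rw [← Matrix.toLin'_apply, Matrix.toLin'_toMatrix']
  refine ⟨⟨LinearMap.toMatrix' M, z⁻¹ • LinearMap.toMatrix' M, ?_, ?_⟩, ?_, hGG⟩
  · rw [Matrix.mul_smul, hGG, smul_smul, inv_mul_cancel₀ hz, one_smul]
  · rw [Matrix.smul_mul, hGG, smul_smul, inv_mul_cancel₀ hz, one_smul]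
  · refine ⟨Units.mk0 z hz, fun v => ?_⟩
    show Q (LinearMap.toMatrix' M *ᵥ v) = z * Q v
    rw [hGv, hM, hQφ, hQT, ← hQφ, LinearEquiv.symm_apply_apply]

end Cfsg.Agent.Lib.helper24
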