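import Mathlib

set_option autoImplicit false

namespace Cfsg.Agent.Lib.helper53

theorem mem_sylow_smul_iff {G : Type*} [Group G] {p : ℕ} (P : Sylow p G) (g x : G) :
    x ∈ ((g • P : Sylow p G) : Subgroup G) ↔ g⁻¹ * x * g ∈ (P : Subgroup G) := by
  rw [Sylow.coe_subgroup_smul, Subgroup.mem_pointwise_smul_iff_inv_smul_mem]
  simp [MulAut.smul_def]

theorem ti_of_bruhat {G : Type*} [Group G] [Finite G] (p : ℕ) [Fact p.Prime] (U B : Subgroup G)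
    (w : G) (hsyl : Nat.card U = p ^ (Nat.card G).factorization p)
    (hBN : ∀ b ∈ B, ∀ u ∈ U, b * u * b⁻¹ ∈ U)
    (hbr : ∀ g : G, g ∈ B ∨ ∃ b ∈ B, ∃ u ∈ U, g = b * w * u)
    (hdisj : ∀ u ∈ U, w * u * w⁻¹ ∈ U → u = 1) (hU : U ≠ ⊥) :
    (∀ P Q : Sylow p G, P ≠ Q → ((P : Subgroup G) ⊓ (Q : Subgroup G)) = ⊥) ∧
      ∃ P Q : Sylow p G, P ≠ Q := by
  classical
  obtain ⟨P₀, hP₀⟩ : ∃ P₀ : Sylow p G, (P₀ : Subgroup G) = U := ⟨Sylow.ofCard U hsyl, rfl⟩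
  have claimA : ∀ k : G, (∀ u ∈ U, k * u * k⁻¹ ∈ U) ∨ (∀ u ∈ U, k * u * k⁻¹ ∈ U → u = 1) := by
    intro k
    rcases hbr k with hk | ⟨b, hb, u₀, hu₀, rfl⟩
    · exact Or.inl (hBN k hk)
    · right
      intro y hy hky
      have h1 := hBN b⁻¹ (B.inv_mem hb) _ hky
      have e : b⁻¹ * (b * w * u₀ * y * (b * w * u₀)⁻¹) * b⁻¹⁻¹ = w * (u₀ * y * u₀⁻¹) * w⁻¹ := by
        group
      rw [e] at h1
      have h2 := hdisj _ (U.mul_mem (U.mul_mem hu₀ hy) (U.inv_mem hu₀)) h1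
      have : y = u₀⁻¹ * (u₀ * y * u₀⁻¹) * u₀ := by group
      rw [this, h2]; group
  refine ⟨?_, ?_⟩
  · intro P Q hPQ
    obtain ⟨g, rfl⟩ := MulAction.exists_smul_eq G P₀ P
    obtain ⟨h, rfl⟩ := MulAction.exists_smul_eq G P₀ Q
    rw [eq_bot_iff]
    intro x hx
    rw [Subgroup.mem_inf, mem_sylow_smul_iff, mem_sylow_smul_iff, hP₀] at hx
    obtain ⟨hxg, hxh⟩ := hx
    rw [Subgroup.mem_bot]
    rcases claimA (g⁻¹ * h) with hk | hk
    · exfalso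
      apply hPQ
      have hle : ((h • P₀ : Sylow p G) : Subgroup G) ≤ ((g • P₀ : Sylow p G) : Subgroup G) := by
        intro z hz
        rw [mem_sylow_smul_iff, hP₀] at hz ⊢
        have := hk _ hz
        have e : g⁻¹ * h * (h⁻¹ * z * h) * (g⁻¹ * h)⁻¹ = g⁻¹ * z * g := by group
        rw [e] at this; exact this
      have := (h • P₀ : Sylow p G).3 (g • P₀ : Sylow p G).2 hle
      exact Sylow.ext this
    · have e : g⁻¹ * h * (h⁻¹ * x * h) * (g⁻¹ * h)⁻¹ = g⁻¹ * x * g := by group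
      have h1 := hk _ hxh (by rw [e]; exact hxg)
      have : x = h * (h⁻¹ * x * h) * h⁻¹ := by group
      rw [this, h1]; group
  · refine ⟨P₀, w • P₀, ?_⟩
    intro heq
    apply hU
    rw [eq_bot_iff]
    intro u hu
    rw [Subgroup.mem_bot]
    apply hdisj u hu
    have h1 : w * u * w⁻¹ ∈ ((w • P₀ : Sylow p G) : Subgroup G) := by
      rw [mem_sylow_smul_iff, hP₀]
      have e : w⁻¹ * (w * u * w⁻¹) * w = u := by group
      rw [e]; exact hu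
    rw [← heq, hP₀] at h1
    exact h1

end Cfsg.Agent.Lib.helper53
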