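import Mathlib

/-! S4118 split project, piece F1 (`exists_compl`): a Schur–Zassenhaus complement of a subgroup
that is a Hall subgroup of its normalizer. -/

set_option autoImplicit false

namespace Cfsg.Agent.Lib.helper53.TIH

/-- **F1**.  Schur–Zassenhaus complement of a subgroup that is a Hall subgroup of its
normalizer. -/
theorem exists_compl {G : Type*} [Group G] [Finite G] (H : Subgroup G)
    (hHall : (Nat.card H).Coprime (H.subgroupOf (Subgroup.normalizer (H : Set G))).index) :
    ∃ B : Subgroup G, B ≤ Subgroup.normalizer (H : Set G) ∧ (Nat.card B).Coprime (Nat.card H) ∧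
      H ⊔ B = Subgroup.normalizer (H : Set G) := by
  classical
  haveI : (H.subgroupOf (Subgroup.normalizer (H : Set G))).Normal := Subgroup.normal_in_normalizer
  have hcard : Nat.card (H.subgroupOf (Subgroup.normalizer (H : Set G))) = Nat.card H :=
    Nat.card_congr (Subgroup.subgroupOfEquivOfLe Subgroup.le_normalizer).toEquiv
  have hcop : (Nat.card (H.subgroupOf (Subgroup.normalizer (H : Set G)))).Coprime
      (H.subgroupOf (Subgroup.normalizer (H : Set G))).index := by
    rw [hcard]
    exact hHall
  obtain ⟨B', hB'⟩ := Subgroup.exists_left_complement'_of_coprime hcop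
  refine ⟨B'.map (Subgroup.normalizer (H : Set G)).subtype, ?_, ?_, ?_⟩
  · rintro _ ⟨b, _, rfl⟩
    exact b.2
  · have h1 : Nat.card (B'.map (Subgroup.normalizer (H : Set G)).subtype) = Nat.card B' :=
      Subgroup.card_map_of_injective (Subgroup.subtype_injective _)
    rw [h1, ← hB'.index_eq_card]
    exact hHall.symm
  · have h2 : B' ⊔ H.subgroupOf (Subgroup.normalizer (H : Set G)) = ⊤ := hB'.sup_eq_top
    have h3 : (B' ⊔ H.subgroupOf (Subgroup.normalizer (H : Set G))).map
        (Subgroup.normalizer (H : Set G)).subtype = Subgroup.normalizer (H : Set G) := by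
      rw [h2, ← MonoidHom.range_eq_map, Subgroup.range_subtype]
    rw [Subgroup.map_sup] at h3
    have h4 : (H.subgroupOf (Subgroup.normalizer (H : Set G))).map
        (Subgroup.normalizer (H : Set G)).subtype = H :=
      Subgroup.map_subgroupOf_eq_of_le Subgroup.le_normalizer
    rw [h4, sup_comm] at h3
    exact h3

end Cfsg.Agent.Lib.helper53.TIH
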