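import Mathlib

/-! S4118 split project, piece F6 (`quat_quot`): a group of odd order normalizing a generalized
quaternion group, with solvable centralizer, is solvable. -/

set_option autoImplicit false

namespace Cfsg.Agent.Lib.helper53.TIH

/-- **F6**.  If `B` (of odd order) normalizes `P ≅ Q_{4·2^n}` and `C_B(P)` is solvable then
`B` is solvable. -/
theorem quat_quot {G : Type*} [Group G] [Finite G] (P B : Subgroup G) (n : ℕ)
    (e : P ≃* QuaternionGroup (2 ^ n))
    (hE : ∀ A : Subgroup (MulAut (QuaternionGroup (2 ^ n))), Odd (Nat.card A) → Group.IsSolvable A)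
    (hBP : B ≤ Subgroup.normalizer (P : Set G)) (hodd : Odd (Nat.card B))
    (hker : Group.IsSolvable ↥(B ⊓ Subgroup.centralizer (P : Set G))) : Group.IsSolvable B := by
  classical
  haveI hnorm : (P.subgroupOf (Subgroup.normalizer (P : Set G))).Normal :=
    Subgroup.normal_in_normalizer
  let e' : ↥(P.subgroupOf (Subgroup.normalizer (P : Set G))) ≃* ↥P :=
    Subgroup.subgroupOfEquivOfLe Subgroup.le_normalizer
  let ψ : ↥B →* MulAut (QuaternionGroup (2 ^ n)) :=
    ((MulAut.congr (e'.trans e)).toMonoidHom.comp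
      (MulAut.conjNormal (H := P.subgroupOf (Subgroup.normalizer (P : Set G))))).comp
      (Subgroup.inclusion hBP)
  have hrange : Group.IsSolvable ↥ψ.range := by
    apply hE
    have hdvd : Nat.card ψ.range ∣ Nat.card B := Subgroup.card_range_dvd ψ
    exact hodd.of_dvd_nat hdvd
  haveI := hrange
  haveI := hker
  refine Group.isSolvable_of_ker_le_range
    (Subgroup.inclusion (inf_le_left : B ⊓ Subgroup.centralizer (P : Set G) ≤ B))
    ψ.rangeRestrict ?_
  intro b hb
  rw [MonoidHom.mem_ker] at hb
  have hb1 : ψ b = 1 := by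
    have h := congrArg Subtype.val hb
    simpa using h
  have hb2 : MulAut.conjNormal (H := P.subgroupOf (Subgroup.normalizer (P : Set G)))
      (Subgroup.inclusion hBP b) = 1 := by
    have h : (MulAut.congr (e'.trans e)) (MulAut.conjNormal
        (H := P.subgroupOf (Subgroup.normalizer (P : Set G))) (Subgroup.inclusion hBP b)) = 1 := hb1
    exact (MulEquiv.map_eq_one_iff _).mp h
  have hcent : (b : G) ∈ Subgroup.centralizer (P : Set G) := by
    rw [Subgroup.mem_centralizer_iff]
    intro x hx
    have hxN : x ∈ Subgroup.normalizer (P : Set G) := Subgroup.le_normalizer hx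
    have h1 := MulAut.conjNormal_apply (H := P.subgroupOf (Subgroup.normalizer (P : Set G)))
      (Subgroup.inclusion hBP b) ⟨⟨x, hxN⟩, Subgroup.mem_subgroupOf.mpr hx⟩
    rw [hb2] at h1
    have h2 := congrArg (Subtype.val : ↥(Subgroup.normalizer (P : Set G)) → G) h1
    simp only [MulAut.one_apply, Subgroup.coe_mul, Subgroup.coe_inv, Subgroup.coe_inclusion] at h2
    have h3 : x * (b : G) = (b : G) * x * (b : G)⁻¹ * (b : G) := congrArg (· * (b : G)) h2
    rw [h3]
    group
  exact ⟨⟨(b : G), ⟨b.2, hcent⟩⟩, Subtype.ext rfl⟩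

end Cfsg.Agent.Lib.helper53.TIH
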