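import Mathlib

namespace Cfsg.Agent.Lib.helper53

section TNPermSec

variable {Γ X : Type*} [Group Γ] [MulAction Γ X]

/-- A "three-cycle configuration": `b` normalizes `R`, cycles the three points of `S ⊆ Y`
and fixes every other point of `Y`. -/
structure TNCfg (R : Subgroup Γ) (Y : Set X) (b : Γ) (S : Set X) : Prop where
  norm : ∀ r ∈ R, b * r * b⁻¹ ∈ R
  sub : ∀ x ∈ S, x ∈ Y
  map : ∀ x ∈ S, b • x ∈ S
  ne : ∀ x ∈ S, b • x ≠ x
  cube : ∀ x ∈ S, b • b • b • x = x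
  three : ∀ x ∈ S, ∀ z ∈ S, z = x ∨ z = b • x ∨ z = b • b • x
  fix : ∀ x ∈ Y, x ∉ S → b • x = x
  nonempty : ∃ x, x ∈ S

theorem TNCfg.conj {R : Subgroup Γ} {Y : Set X} {b : Γ} {S : Set X}
    (hY : ∀ r ∈ R, ∀ x ∈ Y, r • x ∈ Y)
    (h : TNCfg R Y b S) {g : Γ} (hg : g ∈ R) :
    TNCfg R Y (g * b * g⁻¹) {x | g⁻¹ • x ∈ S} := by
  refine ⟨?_, ?_, ?_, ?_, ?_, ?_, ?_, ?_⟩
  · intro r hr
    have h1 : g⁻¹ * r * g ∈ R := R.mul_mem (R.mul_mem (R.inv_mem hg) hr) hg
    have h2 := h.norm _ h1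
    have h3 : g * (b * (g⁻¹ * r * g) * b⁻¹) * g⁻¹ ∈ R :=
      R.mul_mem (R.mul_mem hg h2) (R.inv_mem hg)
    have e : g * b * g⁻¹ * r * (g * b * g⁻¹)⁻¹ = g * (b * (g⁻¹ * r * g) * b⁻¹) * g⁻¹ := by
      group
    rw [e]; exact h3
  · intro x hx
    have := hY g hg _ (h.sub _ hx)
    simpa using this
  · intro x hx
    have := h.map _ hx
    simpa [mul_smul] using this
  · intro x hx hxx
    apply h.ne _ hx
    have : g⁻¹ • ((g * b * g⁻¹) • x) = g⁻¹ • x := by rw [hxx]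
    simpa [mul_smul] using this
  · intro x hx
    have := h.cube _ hx
    simp only [mul_smul, inv_smul_smul]
    rw [this]; simp
  · intro x hx z hz
    rcases h.three _ hx _ hz with e | e | e
    · left
      have := congrArg (fun t => g • t) e
      simpa using this
    · right; left
      have := congrArg (fun t => g • t) e
      simpa [mul_smul] using this
    · right; right
      have := congrArg (fun t => g • t) e
      simpa [mul_smul] using this
  · intro x hx hxS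
    have h1 : g⁻¹ • x ∈ Y := hY _ (R.inv_mem hg) _ hx
    have := h.fix _ h1 hxS
    simp only [mul_smul]
    rw [this]; simp
  · obtain ⟨s, hs⟩ := h.nonempty
    exact ⟨g • s, by simpa using hs⟩

/-- Dichotomy: at most one point of `T` lies outside `S`. -/
theorem TNCfg.dich {R : Subgroup Γ} {Y : Set X} {b y : Γ} {S T : Set X}
    (h3 : ∀ r ∈ R, ∀ x : X, (r * r * r) • x = x → r • x = x)
    (hS : TNCfg R Y b S) (hT : TNCfg R Y y T) (hyb : y * b⁻¹ ∈ R)
    {u : X} (hu : u ∈ T) : y • u ∈ S ∨ y • y • u ∈ S := by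
  by_contra hcon
  push Not at hcon
  obtain ⟨hv, hw⟩ := hcon
  have hvT : y • u ∈ T := hT.map _ hu
  have hwT : y • y • u ∈ T := hT.map _ hvT
  have hcu : y • y • y • u = u := hT.cube _ hu
  by_cases huS : u ∈ S
  · -- case B
    have hbv : b • (y • u) = y • u := hS.fix _ (hT.sub _ hvT) hv
    have hbw : b • (y • y • u) = y • y • u := hS.fix _ (hT.sub _ hwT) hw
    have hpS : b • u ∈ S := hS.map _ huS
    have hqS : b • b • u ∈ S := hS.map _ hpS
    have hbu : b • b • b • u = u := hS.cube _ huS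
    have hpT : b • u ∉ T := by
      intro hp
      rcases hT.three _ hu _ hp with e | e | e
      · exact hS.ne _ huS e
      · rw [e] at hpS; exact hv hpS
      · rw [e] at hpS; exact hw hpS
    have hqT : b • b • u ∉ T := by
      intro hq
      rcases hT.three _ hu _ hq with e | e | e
      · apply hS.ne _ huS
        have : b • b • b • u = b • u := by rw [e]
        rw [hbu] at this; exact this.symm
      · rw [e] at hqS; exact hv hqS
      · rw [e] at hqS; exact hw hqS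
    have hyp : y • (b • u) = b • u := hT.fix _ (hS.sub _ hpS) hpT
    have hyq : y • (b • b • u) = b • b • u := hT.fix _ (hS.sub _ hqS) hqT
    have hr : b * y * b⁻¹ * y⁻¹ ∈ R := by
      have h1 := hS.norm _ hyb
      have h2 := R.mul_mem h1 (R.inv_mem hyb)
      have e : b * (y * b⁻¹) * b⁻¹ * (y * b⁻¹)⁻¹ = b * y * b⁻¹ * y⁻¹ := by group
      rw [e] at h2; exact h2
    -- compute
    have e1 : b⁻¹ • u = b • b • u := by
      rw [inv_smul_eq_iff]; exact hbu.symm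
    have e2 : y⁻¹ • u = y • y • u := by
      rw [inv_smul_eq_iff]; exact hcu.symm
    have e3 : b⁻¹ • (y • y • u) = y • y • u := by
      rw [inv_smul_eq_iff]; exact hbw.symm
    have e4 : y⁻¹ • (b • u) = b • u := by
      rw [inv_smul_eq_iff]; exact hyp.symm
    have r1 : (b * y * b⁻¹ * y⁻¹) • (y • u) = u := by
      simp only [mul_smul, inv_smul_smul]
      rw [e1, hyq, hbu]
    have r2 : (b * y * b⁻¹ * y⁻¹) • u = b • u := by
      simp only [mul_smul]
      rw [e2, e3, hcu]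
    have r3 : (b * y * b⁻¹ * y⁻¹) • (b • u) = y • u := by
      simp only [mul_smul]
      rw [e4, inv_smul_smul, hbv]
    have key := h3 _ hr (y • u) (by
      rw [mul_smul, mul_smul, r1, r2, r3])
    rw [r1] at key
    rw [← key] at hv
    exact hv huS
  · -- case A
    have hdisj : ∀ t ∈ T, t ∉ S := by
      intro t ht
      rcases hT.three _ hu _ ht with e | e | e
      · rw [e]; exact huS
      · rw [e]; exact hv
      · rw [e]; exact hw
    obtain ⟨s, hs⟩ := hS.nonempty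
    have hbs : b • s ∈ S := hS.map _ hs
    have hbbs : b • b • s ∈ S := hS.map _ hbs
    have hc : b • b • b • s = s := hS.cube _ hs
    have fixS : ∀ t ∈ S, y • t = t := fun t ht =>
      hT.fix _ (hS.sub _ ht) (fun htT => hdisj _ htT ht)
    have e1 : b⁻¹ • s = b • b • s := by
      rw [inv_smul_eq_iff]; exact hc.symm
    have r1 : (y * b⁻¹) • s = b • b • s := by
      rw [mul_smul, e1, fixS _ hbbs]
    have r2 : (y * b⁻¹) • (b • b • s) = b • s := by
      rw [mul_smul, inv_smul_smul, fixS _ hbs]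
    have r3 : (y * b⁻¹) • (b • s) = s := by
      rw [mul_smul, inv_smul_smul, fixS _ hs]
    have key := h3 _ hyb s (by rw [mul_smul, mul_smul, r1, r2, r3])
    rw [r1] at key
    apply hS.ne _ hs
    have : b • b • b • s = b • s := by rw [key]
    rw [hc] at this; exact this.symm

/-- If `x ∈ T` is outside `S`, the two other points of `T` are in `S`. -/
theorem TNCfg.others {R : Subgroup Γ} {Y : Set X} {b y : Γ} {S T : Set X}
    (h3 : ∀ r ∈ R, ∀ x : X, (r * r * r) • x = x → r • x = x)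
    (hS : TNCfg R Y b S) (hT : TNCfg R Y y T) (hyb : y * b⁻¹ ∈ R)
    {x : X} (hx : x ∈ T) (hxS : x ∉ S) : y • x ∈ S ∧ y • y • x ∈ S := by
  have hc : y • y • y • x = x := hT.cube _ hx
  have hv : y • x ∈ T := hT.map _ hx
  have hw : y • y • x ∈ T := hT.map _ hv
  constructor
  · rcases TNCfg.dich h3 hS hT hyb hw with e | e
    · rw [hc] at e; exact absurd e hxS
    · rw [hc] at e; exact e
  · rcases TNCfg.dich h3 hS hT hyb hv with e | e
    · exact e
    · rw [hc] at e; exact absurd e hxS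

theorem TNCfg.conj_mul_inv_mem {R : Subgroup Γ} {Y : Set X} {b : Γ} {S : Set X}
    (hS : TNCfg R Y b S) {g : Γ} (hg : g ∈ R) : g * b * g⁻¹ * b⁻¹ ∈ R := by
  have h1 := R.mul_mem hg (hS.norm _ (R.inv_mem hg))
  have e : g * (b * g⁻¹ * b⁻¹) = g * b * g⁻¹ * b⁻¹ := by group
  rw [e] at h1; exact h1

/-- Two points of `Y` outside `S` coincide. -/
theorem TNCfg.final {R : Subgroup Γ} {Y : Set X} {b : Γ} {S : Set X}
    (hY : ∀ r ∈ R, ∀ x ∈ Y, r • x ∈ Y)
    (h3 : ∀ r ∈ R, ∀ x : X, (r * r * r) • x = x → r • x = x)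
    (hS : TNCfg R Y b S) {g h : Γ} (hg : g ∈ R) (hh : h ∈ R) {x x' : X}
    (hxT : g⁻¹ • x ∈ S) (hx'T : h⁻¹ • x' ∈ S) (hxS : x ∉ S) (hx'S : x' ∉ S) : x = x' := by
  by_contra hne
  have hT := hS.conj hY hg
  have hT' := hS.conj hY hh
  have hg' : b * g * b⁻¹ ∈ R := hS.norm _ hg
  have hT'' := hS.conj hY hg'
  have hyb := hS.conj_mul_inv_mem hg
  have hy'b := hS.conj_mul_inv_mem hh
  have hy''b := hS.conj_mul_inv_mem hg'
  have hy'y : h * b * h⁻¹ * (g * b * g⁻¹)⁻¹ ∈ R := by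
    have h1 := R.mul_mem hy'b (R.inv_mem hyb)
    have e : h * b * h⁻¹ * b⁻¹ * (g * b * g⁻¹ * b⁻¹)⁻¹ = h * b * h⁻¹ * (g * b * g⁻¹)⁻¹ := by
      group
    rw [e] at h1; exact h1
  have hy'y'' : h * b * h⁻¹ * (b * g * b⁻¹ * b * (b * g * b⁻¹)⁻¹)⁻¹ ∈ R := by
    have h1 := R.mul_mem hy'b (R.inv_mem hy''b)
    have e : h * b * h⁻¹ * b⁻¹ * (b * g * b⁻¹ * b * (b * g * b⁻¹)⁻¹ * b⁻¹)⁻¹
        = h * b * h⁻¹ * (b * g * b⁻¹ * b * (b * g * b⁻¹)⁻¹)⁻¹ := by
      group
    rw [e] at h1; exact h1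
  have hxTm : x ∈ {z | g⁻¹ • z ∈ S} := hxT
  have hx'Tm : x' ∈ {z | h⁻¹ • z ∈ S} := hx'T
  have hxY : x ∈ Y := hT.sub _ hxTm
  have hbx : b • x = x := hS.fix _ hxY hxS
  have hbinvx : b⁻¹ • x = x := by rw [inv_smul_eq_iff]; exact hbx.symm
  obtain ⟨hp, hq⟩ := TNCfg.others h3 hS hT hyb hxTm hxS
  obtain ⟨hp', hq'⟩ := TNCfg.others h3 hS hT' hy'b hx'Tm hx'S
  have hx'nT : x' ∉ {z | g⁻¹ • z ∈ S} := by
    intro hc
    rcases hT.three _ hxTm _ hc with e | e | e
    · exact hne e.symm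
    · rw [e] at hx'S; exact hx'S hp
    · rw [e] at hx'S; exact hx'S hq
  obtain ⟨hp'T, hq'T⟩ := TNCfg.others h3 hT hT' hy'y hx'Tm hx'nT
  have P1 : (h * b * h⁻¹) • x' = (g * b * g⁻¹) • x
      ∨ (h * b * h⁻¹) • x' = (g * b * g⁻¹) • (g * b * g⁻¹) • x := by
    rcases hT.three _ hxTm _ hp'T with e | e | e
    · rw [e] at hp'; exact absurd hp' hxS
    · exact Or.inl e
    · exact Or.inr e
  have Q1 : (h * b * h⁻¹) • (h * b * h⁻¹) • x' = (g * b * g⁻¹) • x
      ∨ (h * b * h⁻¹) • (h * b * h⁻¹) • x' = (g * b * g⁻¹) • (g * b * g⁻¹) • x := by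
    rcases hT.three _ hxTm _ hq'T with e | e | e
    · rw [e] at hq'; exact absurd hq' hxS
    · exact Or.inl e
    · exact Or.inr e
  -- the conjugate configuration
  have hxT''m : x ∈ {z | (b * g * b⁻¹)⁻¹ • z ∈ S} := by
    show (b * g * b⁻¹)⁻¹ • x ∈ S
    have : (b * g * b⁻¹)⁻¹ • x = b • g⁻¹ • x := by
      simp only [mul_smul, mul_inv_rev, inv_inv, hbinvx]
    rw [this]; exact hS.map _ hxT
  have e1 : (b * g * b⁻¹ * b * (b * g * b⁻¹)⁻¹) • x = b • (g * b * g⁻¹) • x := by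
    simp only [mul_smul, mul_inv_rev, inv_inv, inv_smul_smul, hbinvx]
  have e2 : (b * g * b⁻¹ * b * (b * g * b⁻¹)⁻¹) • (b * g * b⁻¹ * b * (b * g * b⁻¹)⁻¹) • x
      = b • (g * b * g⁻¹) • (g * b * g⁻¹) • x := by
    simp only [mul_smul, mul_inv_rev, inv_inv, inv_smul_smul, hbinvx]
  obtain ⟨hp2, hq2⟩ := TNCfg.others h3 hS hT'' hy''b hxT''m hxS
  have hx'nT'' : x' ∉ {z | (b * g * b⁻¹)⁻¹ • z ∈ S} := by
    intro hc
    rcases hT''.three _ hxT''m _ hc with e | e | e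
    · exact hne e.symm
    · rw [e] at hx'S; exact hx'S hp2
    · rw [e] at hx'S; exact hx'S hq2
  obtain ⟨hp'T'', hq'T''⟩ := TNCfg.others h3 hT'' hT' hy'y'' hx'Tm hx'nT''
  have P2 : (h * b * h⁻¹) • x' = b • (g * b * g⁻¹) • x
      ∨ (h * b * h⁻¹) • x' = b • (g * b * g⁻¹) • (g * b * g⁻¹) • x := by
    rcases hT''.three _ hxT''m _ hp'T'' with e | e | e
    · rw [e] at hp'; exact absurd hp' hxS
    · rw [e1] at e; exact Or.inl e
    · rw [e2] at e; exact Or.inr e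
  have Q2 : (h * b * h⁻¹) • (h * b * h⁻¹) • x' = b • (g * b * g⁻¹) • x
      ∨ (h * b * h⁻¹) • (h * b * h⁻¹) • x' = b • (g * b * g⁻¹) • (g * b * g⁻¹) • x := by
    rcases hT''.three _ hxT''m _ hq'T'' with e | e | e
    · rw [e] at hq'; exact absurd hq' hxS
    · rw [e1] at e; exact Or.inl e
    · rw [e2] at e; exact Or.inr e
  -- abbreviate
  have hpq : (g * b * g⁻¹) • (g * b * g⁻¹) • x ≠ (g * b * g⁻¹) • x :=
    hT.ne _ (hT.map _ hxTm)
  have hp'q' : (h * b * h⁻¹) • (h * b * h⁻¹) • x' ≠ (h * b * h⁻¹) • x' :=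
    hT'.ne _ (hT'.map _ hx'Tm)
  generalize (g * b * g⁻¹) • x = p at *
  generalize (g * b * g⁻¹) • p = q at *
  generalize (h * b * h⁻¹) • x' = p' at *
  generalize (h * b * h⁻¹) • p' = q' at *
  have hbp : b • p ≠ p := hS.ne _ hp
  have hbq : b • q ≠ q := hS.ne _ hq
  have hcp : b • b • b • p = p := hS.cube _ hp
  have fin : p = b • q → q = b • p → False := by
    intro ea eb
    apply hbp
    have : b • b • p = p := by rw [← eb, ← ea]
    rw [this] at hcp; exact hcp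
  rcases P1 with a | a <;> rcases Q1 with c | c
  · exact hp'q' (by rw [a, c])
  · subst a; subst c
    rcases P2 with a | a
    · exact hbp a.symm
    · rcases Q2 with c | c
      · exact fin a c
      · exact hbq c.symm
  · subst a; subst c
    rcases P2 with a | a
    · rcases Q2 with c | c
      · exact hbp c.symm
      · exact fin c a
    · exact hbq a.symm
  · exact hp'q' (by rw [a, c])

end TNPermSec

theorem perm_lemma {Γ X : Type*} [Group Γ] [MulAction Γ X] (R : Subgroup Γ) (b : Γ)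
    (hb3 : b ^ 3 = 1) (hbR : ∀ r ∈ R, b * r * b⁻¹ ∈ R)
    (h3 : ∀ r ∈ R, ∀ x : X, (r * r * r) • x = x → r • x = x)
    (s₁ s₂ s₃ : X) (h12 : s₁ ≠ s₂) (h23 : s₂ ≠ s₃) (h13 : s₁ ≠ s₃)
    (hb1 : b • s₁ = s₂) (hb2 : b • s₂ = s₃) (hb3' : b • s₃ = s₁)
    (hfix : ∀ r ∈ R, ∀ x : X, (x = r • s₁ ∨ x = r • s₂ ∨ x = r • s₃) →
      x ≠ s₁ → x ≠ s₂ → x ≠ s₃ → b • x = x) :
    ∃ x₀ : X, ∀ r ∈ R, ∀ x : X, (x = r • s₁ ∨ x = r • s₂ ∨ x = r • s₃) →
      x = s₁ ∨ x = s₂ ∨ x = s₃ ∨ x = x₀ := by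
  have hY : ∀ r ∈ R, ∀ x ∈ {x : X | ∃ r ∈ R, x = r • s₁ ∨ x = r • s₂ ∨ x = r • s₃},
      r • x ∈ {x : X | ∃ r ∈ R, x = r • s₁ ∨ x = r • s₂ ∨ x = r • s₃} := by
    rintro r hr x ⟨r', hr', e | e | e⟩
    · exact ⟨r * r', R.mul_mem hr hr', Or.inl (by rw [e, mul_smul])⟩
    · exact ⟨r * r', R.mul_mem hr hr', Or.inr (Or.inl (by rw [e, mul_smul]))⟩
    · exact ⟨r * r', R.mul_mem hr hr', Or.inr (Or.inr (by rw [e, mul_smul]))⟩
  have hS : TNCfg R {x : X | ∃ r ∈ R, x = r • s₁ ∨ x = r • s₂ ∨ x = r • s₃} b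
      {x : X | x = s₁ ∨ x = s₂ ∨ x = s₃} := by
    refine ⟨hbR, ?_, ?_, ?_, ?_, ?_, ?_, ⟨s₁, Or.inl rfl⟩⟩
    · rintro x (e | e | e)
      · exact ⟨1, R.one_mem, Or.inl (by rw [e, one_smul])⟩
      · exact ⟨1, R.one_mem, Or.inr (Or.inl (by rw [e, one_smul]))⟩
      · exact ⟨1, R.one_mem, Or.inr (Or.inr (by rw [e, one_smul]))⟩
    · rintro x (e | e | e)
      · right; left; rw [e, hb1]
      · right; right; rw [e, hb2]
      · left; rw [e, hb3']
    · rintro x (e | e | e)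
      · rw [e, hb1]; exact h12.symm
      · rw [e, hb2]; exact h23.symm
      · rw [e, hb3']; exact h13
    · rintro x (e | e | e)
      · rw [e, hb1, hb2, hb3']
      · rw [e, hb2, hb3', hb1]
      · rw [e, hb3', hb1, hb2]
    · rintro x (e | e | e) z (f | f | f)
      · left; rw [e, f]
      · right; left; rw [e, f, hb1]
      · right; right; rw [e, f, hb1, hb2]
      · right; right; rw [e, f, hb2, hb3']
      · left; rw [e, f]
      · right; left; rw [e, f, hb2]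
      · right; left; rw [e, f, hb3']
      · right; right; rw [e, f, hb3', hb1]
      · left; rw [e, f]
    · rintro x ⟨r, hr, hx⟩ hxS
      apply hfix r hr x hx
      · exact fun e => hxS (Or.inl e)
      · exact fun e => hxS (Or.inr (Or.inl e))
      · exact fun e => hxS (Or.inr (Or.inr e))
  have fin : ∀ x ∈ {x : X | ∃ r ∈ R, x = r • s₁ ∨ x = r • s₂ ∨ x = r • s₃},
      x ∉ {x : X | x = s₁ ∨ x = s₂ ∨ x = s₃} →
      ∀ x' ∈ {x : X | ∃ r ∈ R, x = r • s₁ ∨ x = r • s₂ ∨ x = r • s₃},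
      x' ∉ {x : X | x = s₁ ∨ x = s₂ ∨ x = s₃} → x = x' := by
    rintro x ⟨g, hg, hx⟩ hxS x' ⟨h, hh, hx'⟩ hx'S
    refine TNCfg.final hY h3 hS hg hh ?_ ?_ hxS hx'S
    · rcases hx with e | e | e
      · left; rw [e, inv_smul_smul]
      · right; left; rw [e, inv_smul_smul]
      · right; right; rw [e, inv_smul_smul]
    · rcases hx' with e | e | e
      · left; rw [e, inv_smul_smul]
      · right; left; rw [e, inv_smul_smul]
      · right; right; rw [e, inv_smul_smul]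
  by_cases hex : ∃ x ∈ {x : X | ∃ r ∈ R, x = r • s₁ ∨ x = r • s₂ ∨ x = r • s₃},
      x ∉ {x : X | x = s₁ ∨ x = s₂ ∨ x = s₃}
  · obtain ⟨x₀, hx₀, hx₀S⟩ := hex
    refine ⟨x₀, fun r hr x hx => ?_⟩
    by_cases hxS : x ∈ {x : X | x = s₁ ∨ x = s₂ ∨ x = s₃}
    · rcases hxS with e | e | e
      · exact Or.inl e
      · exact Or.inr (Or.inl e)
      · exact Or.inr (Or.inr (Or.inl e))
    · right; right; right
      exact (fin x₀ hx₀ hx₀S x ⟨r, hr, hx⟩ hxS).symm
  · push Not at hex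
    refine ⟨s₁, fun r hr x hx => ?_⟩
    rcases hex x ⟨r, hr, hx⟩ with e | e | e
    · exact Or.inl e
    · exact Or.inr (Or.inl e)
    · exact Or.inr (Or.inr (Or.inl e))

end Cfsg.Agent.Lib.helper53
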