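import Mathlib.GroupTheory.Transfer
import Cfsg.Agent.Lib.helper53.Conj

set_option autoImplicit false

namespace Cfsg.Agent.Lib.helper53

open Classical in
/-- Fixed-point product formula for a finite `2`-group `S` acting on a finite set `X`: an
`S`-invariant function with values in a commutative group of exponent `2` has the same product over
`X` as over the fixed points of `S`. -/
theorem prod_eq_prod_fixed_two {S X A : Type*} [Group S] [Finite S] [MulAction S X] [Fintype X]
    [CommGroup A] (hS : IsPGroup 2 S) (hA : ∀ a : A, a ^ 2 = 1) (f : X → A)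
    (hf : ∀ (s : S) (x : X), f (s • x) = f x) :
    ∏ x, f x = ∏ x ∈ Finset.univ.filter (fun x => ∀ s : S, s • x = x), f x := by
  classical
  have step : ∀ n : ℕ, ∀ Z : Subgroup S, Nat.card S - Nat.card Z ≤ n →
      (∏ x, f x = ∏ x ∈ Finset.univ.filter (fun x => Z ≤ MulAction.stabilizer S x), f x) →
      (∏ x, f x = ∏ x ∈ Finset.univ.filter
        (fun x => (⊤ : Subgroup S) ≤ MulAction.stabilizer S x), f x) := by
    intro n
    induction n with
    | zero =>
      intro Z hZ hP
      have : Z = ⊤ := by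
        apply Subgroup.eq_top_of_card_eq
        have := Subgroup.card_le_card_group (H := Z)
        omega
      rw [← this]; exact hP
    | succ n ih =>
      intro Z hZ hP
      by_cases hZtop : Z = ⊤
      · rw [← hZtop]; exact hP
      have hlt : Z < ⊤ := lt_top_iff_ne_top.mpr hZtop
      have : Fact (Nat.Prime 2) := ⟨Nat.prime_two⟩
      obtain ⟨y, -, hyZ, hyN⟩ := exists_mem_normalizer_not_mem (p := 2) (hS.to_subgroup ⊤) hlt
      have hex : ∃ k : ℕ, y ^ 2 ^ k ∈ Z := by
        obtain ⟨k, hk⟩ := hS y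
        exact ⟨k, hk ▸ Z.one_mem⟩
      have hk0 : Nat.find hex ≠ 0 := by
        intro h0
        have := Nat.find_spec hex
        rw [h0] at this
        simp only [pow_zero, pow_one] at this
        exact hyZ this
      have htZ : y ^ 2 ^ (Nat.find hex - 1) ∉ Z := Nat.find_min hex (by omega)
      have ht2 : (y ^ 2 ^ (Nat.find hex - 1)) ^ 2 ∈ Z := by
        have := Nat.find_spec hex
        have e : (y ^ 2 ^ (Nat.find hex - 1)) ^ 2 = y ^ 2 ^ (Nat.find hex) := by
          rw [← pow_mul, ← pow_succ]
          congr 2; omega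
        rw [e]; exact this
      have htN : y ^ 2 ^ (Nat.find hex - 1) ∈ Subgroup.normalizer (Z : Set S) :=
        Subgroup.pow_mem _ hyN _
      generalize y ^ 2 ^ (Nat.find hex - 1) = t at htZ ht2 htN
      apply ih (Z ⊔ Subgroup.zpowers t)
      · have hlt2 : ¬ Nat.card (Z ⊔ Subgroup.zpowers t : Subgroup S) ≤ Nat.card Z := by
          intro hle
          have := Subgroup.eq_of_le_of_card_ge (le_sup_left : Z ≤ Z ⊔ Subgroup.zpowers t) hle
          apply htZ
          rw [this]
          exact (le_sup_right : Subgroup.zpowers t ≤ _) (Subgroup.mem_zpowers t)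
        have := Subgroup.card_le_card_group (H := Z ⊔ Subgroup.zpowers t)
        omega
      · rw [hP]
        rw [← Finset.prod_filter_mul_prod_filter_not
          (Finset.univ.filter (fun x => Z ≤ MulAction.stabilizer S x)) (fun x => t • x = x) f]
        have h1 : ∏ x ∈ (Finset.univ.filter (fun x => Z ≤ MulAction.stabilizer S x)).filter
            (fun x => ¬ t • x = x), f x = 1 := by
          refine Finset.prod_involution (fun x _ => t • x) ?_ ?_ ?_ ?_
          · intro x hx
            rw [hf, ← pow_two, hA]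
          · intro x hx _
            exact (Finset.mem_filter.mp hx).2
          · intro x hx
            rw [Finset.mem_filter, Finset.mem_filter] at hx ⊢
            refine ⟨⟨Finset.mem_univ _, ?_⟩, ?_⟩
            · rw [MulAction.stabilizer_smul_eq_stabilizer_map_conj]
              have h2 := conj_mono hx.1.2 t
              rwa [conj_eq_self_of_mem_normalizer htN] at h2
            · intro h
              exact hx.2 (smul_left_cancel t h)
          · intro x hx
            rw [Finset.mem_filter, Finset.mem_filter] at hx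
            show t • t • x = x
            rw [← mul_smul, ← pow_two]
            exact MulAction.mem_stabilizer_iff.mp (hx.1.2 ht2)
        rw [h1, mul_one]
        apply Finset.prod_congr _ (fun _ _ => rfl)
        ext x
        simp only [Finset.mem_filter, Finset.mem_univ, true_and]
        rw [sup_le_iff, Subgroup.zpowers_le, MulAction.mem_stabilizer_iff]
  have h0 := step (Nat.card S) ⊥ (by omega) (by
    apply Finset.prod_congr _ (fun _ _ => rfl)
    ext x; simp)
  rw [h0]
  apply Finset.prod_congr _ (fun _ _ => rfl)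
  ext x
  simp only [Finset.mem_filter, Finset.mem_univ, true_and]
  constructor
  · intro h s; exact MulAction.mem_stabilizer_iff.mp (h (Subgroup.mem_top s))
  · intro h s _; exact MulAction.mem_stabilizer_iff.mpr (h s)

/-- Evaluation of the transfer into a commutative group of exponent `2` at an involution `z` in the
centre of a `2`-subgroup `H` of odd index that is centralized by `N_G(H)`: the transfer of `z` is
`φ z`. -/
theorem transfer_central_involution_of_odd_index {G : Type*} [Group G] [Finite G] (H : Subgroup G)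
    (hH2 : IsPGroup 2 H) (hHodd : ¬ 2 ∣ H.index)
    {A : Type*} [CommGroup A] (hA : ∀ a : A, a ^ 2 = 1) (φ : H →* A)
    (z : G) (hzS : z ∈ H) (hz2 : z ^ 2 = 1)
    (hzc : ∀ s ∈ H, s * z = z * s)
    (hzN : ∀ n ∈ Subgroup.normalizer (H : Set G), n * z * n⁻¹ = z) :
    MonoidHom.transfer φ z = φ ⟨z, hzS⟩ := by
  classical
  have : Fact (Nat.Prime 2) := ⟨Nat.prime_two⟩
  let _ := H.fintypeQuotientOfFiniteIndex
  let T : H.LeftTransversal := default
  let r : G ⧸ H → G := fun q => (T.2.leftQuotientEquiv q : G)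
  have hr : ∀ q, ((r q : G) : G ⧸ H) = q :=
    fun q => Subgroup.IsComplement.quotientGroupMk_leftQuotientEquiv T.2 q
  let ψ : G → A := fun x => if h : x ∈ H then φ ⟨x, h⟩ else 1
  have hψ : ∀ x (h : x ∈ H), φ ⟨x, h⟩ = ψ x := fun x h => by
    show φ ⟨x, h⟩ = dite (x ∈ H) (fun h => φ ⟨x, h⟩) (fun _ => 1)
    rw [dif_pos h]
  have hψ1 : ∀ x, x ∉ H → ψ x = 1 := fun x h => by
    show dite (x ∈ H) (fun h => φ ⟨x, h⟩) (fun _ => 1) = 1
    rw [dif_neg h]
  have hψmul : ∀ a b, a ∈ H → b ∈ H → ψ (a * b) = ψ a * ψ b := by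
    intro a b ha hb
    rw [← hψ a ha, ← hψ b hb, ← hψ (a * b) (H.mul_mem ha hb), ← map_mul]; rfl
  have hψone : ψ 1 = 1 := by
    rw [← hψ 1 H.one_mem]; exact map_one φ
  have hψconj : ∀ u y, u ∈ H → ψ (u⁻¹ * y * u) = ψ y := by
    intro u y hu
    by_cases hy : y ∈ H
    · rw [hψmul _ _ (H.mul_mem (H.inv_mem hu) hy) hu, hψmul _ _ (H.inv_mem hu) hy,
        mul_comm (ψ u⁻¹), mul_assoc, ← hψmul _ _ (H.inv_mem hu) hu, inv_mul_cancel, hψone, mul_one]
    · rw [hψ1 y hy, hψ1]
      intro h; apply hy
      have : y = u * (u⁻¹ * y * u) * u⁻¹ := by group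
      rw [this]; exact H.mul_mem (H.mul_mem hu h) (H.inv_mem hu)
  have hzinv : z⁻¹ = z := by
    rw [inv_eq_iff_mul_eq_one, ← pow_two]; exact hz2
  have hzz : ∀ q : G ⧸ H, z • z • q = q := by
    intro q; rw [← mul_smul, ← pow_two, hz2, one_smul]
  -- the transfer as a product
  have key : MonoidHom.transfer φ z = ∏ q : G ⧸ H, ψ ((r q)⁻¹ * (z * r (z • q))) := by
    rw [MonoidHom.transfer_def φ T z]
    unfold Subgroup.leftTransversals.diff
    refine Finset.prod_congr rfl (fun q _ => ?_)
    rw [hψ]
    have := Subgroup.smul_apply_eq_smul_apply_inv_smul z T q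
    rw [this, hzinv]; rfl
  have hmem1 : ∀ q, (r q)⁻¹ * (z * r (z • q)) ∈ H := by
    intro q
    rw [← QuotientGroup.eq]
    have : ((z * r (z • q) : G) : G ⧸ H) = z • ((r (z • q) : G) : G ⧸ H) := rfl
    rw [this, hr, hr, hzz]
  let f : G ⧸ H → A := fun q => ψ ((r q)⁻¹ * z * r q)
  have hfix_eq : ∀ q, z • q = q → ψ ((r q)⁻¹ * (z * r (z • q))) = f q := by
    intro q hq; simp only [f]; rw [hq, mul_assoc]
  have hnonfix : ∀ q, z • q ≠ q → f q = 1 := by
    intro q hq
    apply hψ1
    intro h
    apply hq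
    have h1 : ((r q : G) : G ⧸ H) = ((z * r q : G) : G ⧸ H) := by
      rw [QuotientGroup.eq, ← mul_assoc]; exact h
    calc z • q = z • ((r q : G) : G ⧸ H) := by rw [hr]
      _ = ((z * r q : G) : G ⧸ H) := rfl
      _ = ((r q : G) : G ⧸ H) := h1.symm
      _ = q := hr q
  have e1 : ∏ q : G ⧸ H, ψ ((r q)⁻¹ * (z * r (z • q))) = ∏ q : G ⧸ H, f q := by
    rw [← Finset.prod_filter_mul_prod_filter_not Finset.univ (fun q : G ⧸ H => z • q = q)
        (fun q => ψ ((r q)⁻¹ * (z * r (z • q)))),
      ← Finset.prod_filter_mul_prod_filter_not Finset.univ (fun q : G ⧸ H => z • q = q) f]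
    have h1 : ∏ q ∈ Finset.univ.filter (fun q : G ⧸ H => ¬ z • q = q),
        ψ ((r q)⁻¹ * (z * r (z • q))) = 1 := by
      refine Finset.prod_involution (fun q _ => z • q) ?_ ?_ ?_ ?_
      · intro q hq
        have hm2 : (r (z • q))⁻¹ * (z * r q) ∈ H := by
          have := hmem1 (z • q); rwa [hzz] at this
        rw [hzz, ← hψmul _ _ (hmem1 q) hm2]
        have : (r q)⁻¹ * (z * r (z • q)) * ((r (z • q))⁻¹ * (z * r q)) = 1 := by
          calc (r q)⁻¹ * (z * r (z • q)) * ((r (z • q))⁻¹ * (z * r q))
              = (r q)⁻¹ * (z * z) * r q := by group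
            _ = 1 := by rw [← pow_two, hz2]; group
        rw [this, hψone]
      · intro q hq _
        exact (Finset.mem_filter.mp hq).2
      · intro q hq
        rw [Finset.mem_filter] at hq ⊢
        refine ⟨Finset.mem_univ _, ?_⟩
        intro h
        exact hq.2 (smul_left_cancel z h)
      · intro q hq
        exact hzz q
    have h2 : ∏ q ∈ Finset.univ.filter (fun q : G ⧸ H => ¬ z • q = q), f q = 1 := by
      apply Finset.prod_eq_one
      intro q hq
      exact hnonfix q (Finset.mem_filter.mp hq).2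
    rw [h1, h2]
    congr 1
    apply Finset.prod_congr rfl
    intro q hq
    exact hfix_eq q (Finset.mem_filter.mp hq).2
  -- invariance of f under S
  have hfS : ∀ (s : H) (q : G ⧸ H), f (s • q) = f q := by
    intro s q
    have hu : ((s : G) * r q)⁻¹ * r (s • q) ∈ H := by
      rw [← QuotientGroup.eq]
      have : (((s : G) * r q : G) : G ⧸ H) = s • ((r q : G) : G ⧸ H) := rfl
      rw [this, hr, hr]
    have hrs : r (s • q) = (s : G) * r q * (((s : G) * r q)⁻¹ * r (s • q)) := by group
    generalize ((s : G) * r q)⁻¹ * r (s • q) = u at hu hrs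
    simp only [f]
    rw [hrs]
    have hsz := hzc s s.2
    have : ((s : G) * r q * u)⁻¹ * z * ((s : G) * r q * u) = u⁻¹ * ((r q)⁻¹ * z * r q) * u := by
      calc ((s : G) * r q * u)⁻¹ * z * ((s : G) * r q * u)
          = u⁻¹ * (r q)⁻¹ * ((s : G)⁻¹ * (z * s)) * r q * u := by group
        _ = u⁻¹ * (r q)⁻¹ * ((s : G)⁻¹ * (s * z)) * r q * u := by rw [hsz]
        _ = u⁻¹ * ((r q)⁻¹ * z * r q) * u := by group
    rw [this, hψconj _ _ hu]
  have e2 := prod_eq_prod_fixed_two (S := H) (X := G ⧸ H) hH2 hA f hfS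
  have e3 : ∀ q ∈ Finset.univ.filter (fun q : G ⧸ H => ∀ s : H, s • q = q), f q = φ ⟨z, hzS⟩ := by
    intro q hq
    have hq' := (Finset.mem_filter.mp hq).2
    have hn : r q ∈ Subgroup.normalizer (H : Set G) := by
      rw [← Sylow.mem_fixedPoints_mul_left_cosets_iff_mem_normalizer, hr]
      exact fun s => hq' s
    simp only [f]
    have := hzN (r q)⁻¹ (Subgroup.inv_mem _ hn)
    rw [inv_inv] at this
    rw [this, ← hψ z hzS]
  rw [key, e1, e2, Finset.prod_congr rfl e3, Finset.prod_const]
  have hodd : Odd (Finset.univ.filter (fun q : G ⧸ H => ∀ s : H, s • q = q)).card := by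
    have h1 := hH2.card_modEq_card_fixedPoints (G ⧸ H)
    have h2 : Nat.card (MulAction.fixedPoints H (G ⧸ H)) =
        (Finset.univ.filter (fun q : G ⧸ H => ∀ s : H, s • q = q)).card := by
      rw [Nat.card_eq_fintype_card, Fintype.card_subtype]
      rfl
    have h3 : ¬ 2 ∣ Nat.card (G ⧸ H) := hHodd
    rw [← h2, Nat.odd_iff]
    have h4 := h1.symm
    unfold Nat.ModEq at h4
    omega
  obtain ⟨m, hm⟩ := hodd
  rw [hm, pow_succ, pow_mul, hA, one_pow, one_mul]

/-- Evaluation of the transfer into a commutative group of exponent `2` at an involution `z` in the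
centre of a Sylow `2`-subgroup `S` that is centralized by `N_G(S)`: the transfer of `z` is `φ z`. -/
theorem transfer_central_involution {G : Type*} [Group G] [Finite G] (S : Sylow 2 G)
    {A : Type*} [CommGroup A] (hA : ∀ a : A, a ^ 2 = 1) (φ : (S : Subgroup G) →* A)
    (z : G) (hzS : z ∈ (S : Subgroup G)) (hz2 : z ^ 2 = 1)
    (hzc : ∀ s ∈ (S : Subgroup G), s * z = z * s)
    (hzN : ∀ n ∈ Subgroup.normalizer ((S : Subgroup G) : Set G), n * z * n⁻¹ = z) :
    MonoidHom.transfer φ z = φ ⟨z, hzS⟩ :=
  haveI : Fact (Nat.Prime 2) := ⟨Nat.prime_two⟩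
  transfer_central_involution_of_odd_index (S : Subgroup G) S.2 S.not_dvd_index hA φ z hzS hz2 hzc hzN

end Cfsg.Agent.Lib.helper53
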