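import Cfsg.Agent.Lib.helper53.FrakH3
import Cfsg.Agent.Lib.helper53.WC4
import Cfsg.Agent.Lib.helper53.Large3

set_option autoImplicit false

namespace Cfsg.Agent.Lib.helper53

open scoped commutatorElement Pointwise

variable {G : Type*} [Group G]

/-- Three subgroups lemma relative to a subgroup `N` normalized by the three subgroups. -/
theorem three_subgroups_mod53 {H₁ H₂ H₃ N : Subgroup G}
    (hN₁ : H₁ ≤ Subgroup.normalizer (N : Set G)) (hN₂ : H₂ ≤ Subgroup.normalizer (N : Set G))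
    (hN₃ : H₃ ≤ Subgroup.normalizer (N : Set G))
    (h1 : ⁅⁅H₂, H₃⁆, H₁⁆ ≤ N) (h2 : ⁅⁅H₃, H₁⁆, H₂⁆ ≤ N) : ⁅⁅H₁, H₂⁆, H₃⁆ ≤ N := by
  have key : ∀ x ∈ H₁, ∀ y ∈ H₂, ∀ z ∈ H₃, ⁅z, ⁅x, y⁆⁆ ∈ N := by
    intro x hx y hy z hz
    have e : ⁅z, ⁅x, y⁆⁆ = ((x * z) * ⁅y, ⁅z⁻¹, x⁻¹⁆⁆⁻¹ * (x * z)⁻¹) *
        ((x * y) * ⁅x⁻¹, ⁅y⁻¹, z⁆⁆⁻¹ * (x * y)⁻¹) := by
      simp only [commutatorElement_def]; group
    rw [e]
    have n1 : ⁅y, ⁅z⁻¹, x⁻¹⁆⁆ ∈ N := by
      apply h2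
      rw [Subgroup.commutator_comm]
      exact Subgroup.commutator_mem_commutator hy
        (Subgroup.commutator_mem_commutator (H₃.inv_mem hz) (H₁.inv_mem hx))
    have n2 : ⁅x⁻¹, ⁅y⁻¹, z⁆⁆ ∈ N := by
      apply h1
      rw [Subgroup.commutator_comm]
      exact Subgroup.commutator_mem_commutator (H₁.inv_mem hx)
        (Subgroup.commutator_mem_commutator (H₂.inv_mem hy) hz)
    refine N.mul_mem ?_ ?_
    · exact (Subgroup.mem_normalizer_iff.mp (Subgroup.mul_mem _ (hN₁ hx) (hN₃ hz)) _).mp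
        (N.inv_mem n1)
    · exact (Subgroup.mem_normalizer_iff.mp (Subgroup.mul_mem _ (hN₁ hx) (hN₂ hy)) _).mp
        (N.inv_mem n2)
  rw [Subgroup.commutator_le]
  intro g hg
  have hgoal : g ∈ Subgroup.normalizer (N : Set G) ∧ ∀ z ∈ H₃, ⁅g, z⁆ ∈ N := by
    rw [Subgroup.commutator_def] at hg
    refine Subgroup.closure_induction
      (p := fun g _ => g ∈ Subgroup.normalizer (N : Set G) ∧ ∀ z ∈ H₃, ⁅g, z⁆ ∈ N)
      ?_ ?_ ?_ ?_ hg
    · rintro _ ⟨x, hx, y, hy, rfl⟩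
      refine ⟨?_, fun z hz => ?_⟩
      · rw [commutatorElement_def]
        exact Subgroup.mul_mem _ (Subgroup.mul_mem _ (Subgroup.mul_mem _ (hN₁ hx) (hN₂ hy))
          (Subgroup.inv_mem _ (hN₁ hx))) (Subgroup.inv_mem _ (hN₂ hy))
      · rw [← commutatorElement_inv]
        exact N.inv_mem (key x hx y hy z hz)
    · refine ⟨Subgroup.one_mem _, fun z _ => ?_⟩
      rw [commutatorElement_one_left]
      exact N.one_mem
    · rintro x y _ _ ⟨hx1, hx2⟩ ⟨hy1, hy2⟩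
      refine ⟨Subgroup.mul_mem _ hx1 hy1, fun z hz => ?_⟩
      have e : ⁅x * y, z⁆ = (x * ⁅y, z⁆ * x⁻¹) * ⁅x, z⁆ := by
        simp only [commutatorElement_def]; group
      rw [e]
      exact N.mul_mem ((Subgroup.mem_normalizer_iff.mp hx1 _).mp (hy2 z hz)) (hx2 z hz)
    · rintro x _ ⟨hx1, hx2⟩
      refine ⟨Subgroup.inv_mem _ hx1, fun z hz => ?_⟩
      have e : ⁅x⁻¹, z⁆ = x⁻¹ * ⁅x, z⁆⁻¹ * x⁻¹⁻¹ := by
        simp only [commutatorElement_def]; group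
      rw [e]
      exact (Subgroup.mem_normalizer_iff.mp (Subgroup.inv_mem _ hx1) _).mp (N.inv_mem (hx2 z hz))
  exact hgoal.2

/-- A subgroup `W ≥ Q` normalized by `⟨Q^K⟩` contains `⟨Q^K⟩`, for a weakly closed `Q ≤ K`. -/
theorem wc_conjClosure_le [Finite G] {p : ℕ} [Fact p.Prime] {Q : Subgroup G}
    (hQp : IsPGroup p Q) (hwc : Cfsg.IsWeaklyClosedSubgroup p Q) {K W : Subgroup G}
    (hQW : Q ≤ W) (hLW : conjClosure Q K ≤ Subgroup.normalizer (W : Set G)) :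
    conjClosure Q K ≤ W := by
  apply iSup_le
  intro k
  have h1 : Q.map (MulAut.conj (k : G)).toMonoidHom ≤ conjClosure Q K :=
    conj_le_conjClosure Q k.2
  obtain ⟨l, hl, e⟩ := wc_conj_in hQp hwc (le_conjClosure Q K) h1
  rw [e]
  have h2 := conj_mono hQW l
  rwa [conj_eq_self_of_mem_normalizer (hLW hl)] at h2

/-- `⟨Q^K⟩ = O^p(⟨Q^K⟩) Q` for a weakly closed `p`-subgroup `Q`. -/
theorem wc_conjClosure_eq_res_sup [Finite G] {p : ℕ} [Fact p.Prime] {Q : Subgroup G}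
    (hQp : IsPGroup p Q) (hwc : Cfsg.IsWeaklyClosedSubgroup p Q) (K : Subgroup G) :
    (Cfsg.pResidual p ↥(conjClosure Q K)).map (conjClosure Q K).subtype ⊔ Q =
      conjClosure Q K := by
  have hQL : Q ≤ conjClosure Q K := le_conjClosure Q K
  have hKrL := Cfsg.Agent.Lib.helper52.map_pResidual_subtype_le p (conjClosure Q K)
  have hLKr := le_normalizer_map_pResidual p (conjClosure Q K)
  apply le_antisymm (sup_le hKrL hQL)
  apply wc_conjClosure_le hQp hwc le_sup_right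
  obtain ⟨T, hT⟩ := (hQp.comap_subtype (K := conjClosure Q K)).exists_le_sylow
  have hQT : Q ≤ (T : Subgroup ↥(conjClosure Q K)).map (conjClosure Q K).subtype := by
    intro a ha
    exact ⟨⟨a, hQL ha⟩, hT (Subgroup.mem_subgroupOf.mpr ha), rfl⟩
  have hTN := wc_le_normalizer hwc (T.2.map (conjClosure Q K).subtype) hQT
  have hTL : (T : Subgroup ↥(conjClosure Q K)).map (conjClosure Q K).subtype ≤ conjClosure Q K := by
    rintro _ ⟨t, -, rfl⟩
    exact t.2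
  have hsup := map_pResidual_sup_sylow (conjClosure Q K) T
  refine hsup.ge.trans (sup_le (le_sup_left.trans Subgroup.le_normalizer) ?_)
  exact Cfsg.Agent.Lib.helper52.le_normalizer_sup (hTL.trans hLKr) hTN

/-- `O^p(⟨Q^K⟩) = [O^p(⟨Q^K⟩), Q]` for a weakly closed `p`-subgroup `Q`. -/
theorem wc_res_commutator [Finite G] {p : ℕ} [Fact p.Prime] {Q : Subgroup G}
    (hQp : IsPGroup p Q) (hwc : Cfsg.IsWeaklyClosedSubgroup p Q) (K : Subgroup G) :
    ⁅(Cfsg.pResidual p ↥(conjClosure Q K)).map (conjClosure Q K).subtype, Q⁆ =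
      (Cfsg.pResidual p ↥(conjClosure Q K)).map (conjClosure Q K).subtype := by
  have hQL : Q ≤ conjClosure Q K := le_conjClosure Q K
  have hKrL := Cfsg.Agent.Lib.helper52.map_pResidual_subtype_le p (conjClosure Q K)
  have hLKr := le_normalizer_map_pResidual p (conjClosure Q K)
  have hC : ⁅(Cfsg.pResidual p ↥(conjClosure Q K)).map (conjClosure Q K).subtype, Q⁆ ≤
      (Cfsg.pResidual p ↥(conjClosure Q K)).map (conjClosure Q K).subtype :=
    commutator_le_left_of_le_normalizer (hQL.trans hLKr)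
  apply le_antisymm hC
  have hsup := wc_conjClosure_eq_res_sup hQp hwc K
  have hLC : conjClosure Q K ≤ Subgroup.normalizer
      ((⁅(Cfsg.pResidual p ↥(conjClosure Q K)).map (conjClosure Q K).subtype, Q⁆ : Subgroup G) :
        Set G) :=
    hsup.ge.trans (sup_le (le_normalizer_commutator_left _ Q) (le_normalizer_commutator_right _ Q))
  have h1 : conjClosure Q K ≤
      ⁅(Cfsg.pResidual p ↥(conjClosure Q K)).map (conjClosure Q K).subtype, Q⁆ ⊔ Q := by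
    apply wc_conjClosure_le hQp hwc le_sup_right
    refine hsup.ge.trans (sup_le ?_ (le_sup_right.trans Subgroup.le_normalizer))
    intro k hk
    apply mem_normalizer_of_conj_le
    rw [Subgroup.map_sup]
    refine sup_le ?_ ?_
    · rw [conj_eq_self_of_mem_normalizer (le_normalizer_commutator_left _ Q hk)]
      exact le_sup_left
    · rw [conj_le_iff]
      intro q hq
      have e : k * q * k⁻¹ = ⁅k, q⁆ * q := by rw [commutatorElement_def]; group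
      rw [e]
      exact Subgroup.mul_mem_sup (Subgroup.commutator_mem_commutator hk hq) hq
  exact map_pResidual_le_of_sup_eq (hC.trans hKrL) hLC hQp hQL
    (le_antisymm (sup_le (hC.trans hKrL) hQL) h1)

/-- `O^p(⟨Q^{XQ}⟩) ≤ [X, Q]` when `Q` normalizes `X`. -/
theorem res_conjClosure_le_commutator [Finite G] {p : ℕ} [Fact p.Prime] {Q : Subgroup G}
    (hQp : IsPGroup p Q) {X : Subgroup G} (hQX : Q ≤ Subgroup.normalizer (X : Set G)) :
    (Cfsg.pResidual p ↥(conjClosure Q (X ⊔ Q))).map (conjClosure Q (X ⊔ Q)).subtype ≤ ⁅X, Q⁆ := by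
  have hQL : Q ≤ conjClosure Q (X ⊔ Q) := le_conjClosure Q (X ⊔ Q)
  have hML : ⁅X, Q⁆ ≤ conjClosure Q (X ⊔ Q) := by
    rw [Subgroup.commutator_le]
    intro x hx q hq
    have e : ⁅x, q⁆ = (x * q * x⁻¹) * q⁻¹ := by rw [commutatorElement_def]
    rw [e]
    exact Subgroup.mul_mem _
      (conj_le_conjClosure Q (le_sup_left (b := Q) hx : x ∈ X ⊔ Q) (conj_mem_conj hq))
      (Subgroup.inv_mem _ (hQL hq))
  have hLK : conjClosure Q (X ⊔ Q) ≤ X ⊔ Q := conjClosure_le le_sup_right Subgroup.le_normalizer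
  have hKM : X ⊔ Q ≤ Subgroup.normalizer ((⁅X, Q⁆ : Subgroup G) : Set G) :=
    sup_le (le_normalizer_commutator_left X Q) (le_normalizer_commutator_right X Q)
  have h1 : conjClosure Q (X ⊔ Q) ≤ ⁅X, Q⁆ ⊔ Q := by
    apply conjClosure_le le_sup_right
    refine sup_le ?_ (le_sup_right.trans Subgroup.le_normalizer)
    intro x hx
    apply mem_normalizer_of_conj_le
    rw [Subgroup.map_sup]
    refine sup_le ?_ ?_
    · rw [conj_eq_self_of_mem_normalizer (le_normalizer_commutator_left X Q hx)]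
      exact le_sup_left
    · rw [conj_le_iff]
      intro q hq
      have e : x * q * x⁻¹ = ⁅x, q⁆ * q := by rw [commutatorElement_def]; group
      rw [e]
      exact Subgroup.mul_mem_sup (Subgroup.commutator_mem_commutator hx hq) hq
  exact map_pResidual_le_of_sup_eq hML (hLK.trans hKM) hQp hQL
    (le_antisymm (sup_le hML hQL) h1)

/-- If `O^p(L) ≤ N B` with `N` a `p`-group normalizing `B`, then `O^p(L) ≤ B`. -/
theorem map_pResidual_le_of_le_sup {p : ℕ} {L N B : Subgroup G}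
    (hNB : N ≤ Subgroup.normalizer (B : Set G)) (hN : IsPGroup p N)
    (h : (Cfsg.pResidual p ↥L).map L.subtype ≤ N ⊔ B) :
    (Cfsg.pResidual p ↥L).map L.subtype ≤ B := by
  have e := Cfsg.Agent.Lib.helper52.map_pResidual_subtype p L
  intro x hx
  have hx' := hx
  rw [e] at hx'
  refine (Subgroup.closure_le B).mpr ?_ hx'
  rintro g ⟨hgL, hgc⟩
  have hg : g ∈ (Cfsg.pResidual p ↥L).map L.subtype := by
    rw [e]; exact Subgroup.subset_closure ⟨hgL, hgc⟩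
  exact Cfsg.Agent.Lib.helper52.mem_of_mem_sup_of_coprime_of_le_normalizer hNB hN (h hg) hgc

/-- `K_X = O^p(⟨Q^{XQ}⟩)`, in the ambient group. -/
def wcRes (p : ℕ) (Q X : Subgroup G) : Subgroup G :=
  (Cfsg.pResidual p ↥(conjClosure Q (X ⊔ Q))).map (conjClosure Q (X ⊔ Q)).subtype

theorem wcRes_eq_weakClosure [Finite G] {p : ℕ} [Fact p.Prime] {Q : Subgroup G}
    (hQp : IsPGroup p Q) (hwc : Cfsg.IsWeaklyClosedSubgroup p Q) (X : Subgroup G) :
    (Cfsg.pResidual p ↥(Cfsg.weakClosure Q (X ⊔ Q))).map (Cfsg.weakClosure Q (X ⊔ Q)).subtype =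
      wcRes p Q X := by
  unfold wcRes conjClosure
  rw [wc_weakClosure_eq hQp hwc (le_sup_right : Q ≤ X ⊔ Q)]

/-- The normal closure `⟨Q^H⟩` of a weakly closed subgroup is generated by its own conjugates
of `Q`. -/
theorem wc_weakClosure_top_le [Finite G] {p : ℕ} [Fact p.Prime] {Q : Subgroup G}
    (hQp : IsPGroup p Q) (hwc : Cfsg.IsWeaklyClosedSubgroup p Q) :
    Cfsg.weakClosure Q ⊤ ≤ conjClosure Q (Cfsg.weakClosure Q ⊤) := by
  have hQ : Q ≤ Cfsg.weakClosure Q ⊤ := le_weakClosure le_top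
  unfold Cfsg.weakClosure
  apply iSup_le
  rintro ⟨g, hg⟩
  have h1 : Q.map (MulAut.conj g).toMonoidHom ≤ Cfsg.weakClosure Q ⊤ := conj_le_weakClosure hg
  obtain ⟨k, hk, e⟩ := wc_conj_in hQp hwc hQ h1
  change Q.map (MulAut.conj g).toMonoidHom ≤ _
  rw [e]
  exact conj_le_conjClosure Q hk

/-- The factor lemma: `H° = ⟨Q^{H°}⟩ = H₁ H₂` with `H₁, H₂` normal in `H°` and
`[H₁, H₂] ≤ N(Q)`, `Q` weakly closed; `K₁ = O^p(⟨Q^{H₁ Q}⟩)`. -/
theorem wc_factor_props [Finite G] {p : ℕ} [Fact p.Prime] {Q : Subgroup G}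
    (hQp : IsPGroup p Q) (hwc : Cfsg.IsWeaklyClosedSubgroup p Q) {Hc H₁ H₂ : Subgroup G}
    (hgen : Hc ≤ conjClosure Q Hc) (hQHc : Q ≤ Hc)
    (h₁ : H₁ ≤ Hc) (hn₁ : Hc ≤ Subgroup.normalizer (H₁ : Set G))
    (h₂ : H₂ ≤ Hc) (hn₂ : Hc ≤ Subgroup.normalizer (H₂ : Set G))
    (hprod : H₁ ⊔ H₂ = Hc) (hcomm : ⁅H₁, H₂⁆ ≤ Subgroup.normalizer (Q : Set G)) :
    ⁅wcRes p Q H₁, Q⁆ = wcRes p Q H₁ ∧ ⁅wcRes p Q H₁, H₁⁆ = wcRes p Q H₁ ∧
      wcRes p Q H₁ ≤ ⁅H₁, H₁⁆ ∧ Hc ≤ Subgroup.normalizer ((wcRes p Q H₁ : Subgroup G) : Set G) ∧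
      ⁅wcRes p Q H₁, H₂⁆ ≤ Cfsg.pCoreOf p ⁅H₁, H₂⁆ := by
  have hZ₁ : ⁅H₁, H₂⁆ ≤ H₁ := commutator_le_left_of_le_normalizer (h₂.trans hn₁)
  have hZHc : ⁅H₁, H₂⁆ ≤ Hc := hZ₁.trans h₁
  have hHcZ : Hc ≤ Subgroup.normalizer ((⁅H₁, H₂⁆ : Subgroup G) : Set G) :=
    fun t ht => mem_normalizer_commutator (hn₁ ht) (hn₂ ht)
  have hHcN₀ : Hc ≤ Subgroup.normalizer ((Cfsg.pCoreOf p ⁅H₁, H₂⁆ : Subgroup G) : Set G) :=
    hHcZ.trans (normalizer_le_normalizer_pCoreOf p _)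
  have hN₀Z : Cfsg.pCoreOf p ⁅H₁, H₂⁆ ≤ ⁅H₁, H₂⁆ := pCoreOf_le p _
  have hN₀Hc : Cfsg.pCoreOf p ⁅H₁, H₂⁆ ≤ Hc := hN₀Z.trans hZHc
  have hN₀p : IsPGroup p (Cfsg.pCoreOf p ⁅H₁, H₂⁆) := pCoreOf_isPGroup p _
  -- `[H°, Z] ≤ O_p(Z)`
  have hHZ : ⁅Hc, ⁅H₁, H₂⁆⁆ ≤ Cfsg.pCoreOf p ⁅H₁, H₂⁆ := by
    refine (Subgroup.commutator_mono hgen le_rfl).trans ?_
    unfold conjClosure
    apply iSup_commutator_le
    · intro h
      exact ((conj_le_conjClosure Q h.2).trans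
        (conjClosure_le hQHc Subgroup.le_normalizer)).trans hHcN₀
    · intro h
      have hQh : Q.map (MulAut.conj (h : G)).toMonoidHom ≤ Hc :=
        (conj_le_conjClosure Q h.2).trans (conjClosure_le hQHc Subgroup.le_normalizer)
      have hZn : ⁅H₁, H₂⁆ ≤ Subgroup.normalizer
          ((Q.map (MulAut.conj (h : G)).toMonoidHom : Subgroup G) : Set G) := by
        rw [normalizer_conj]
        have := conj_mono hcomm (h : G)
        rwa [conj_eq_self_of_mem_normalizer (hHcZ h.2)] at this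
      refine (commutator_le_inf_of_le_normalizer hZn (hQh.trans hHcZ)).trans ?_
      exact le_pCoreOf inf_le_right
        (Cfsg.Agent.Lib.helper52.le_normalizer_inf hZn Subgroup.le_normalizer)
        ((isPGroup_conj hQp _).to_le inf_le_left)
  have hZH : ⁅⁅H₁, H₂⁆, Hc⁆ ≤ Cfsg.pCoreOf p ⁅H₁, H₂⁆ := by
    rw [Subgroup.commutator_comm]; exact hHZ
  -- three subgroups
  have h3 : ⁅⁅H₁, H₁⁆, H₂⁆ ≤ Cfsg.pCoreOf p ⁅H₁, H₂⁆ := by
    apply three_subgroups_mod53 (h₁.trans hHcN₀) (h₁.trans hHcN₀) (h₂.trans hHcN₀)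
    · exact (Subgroup.commutator_mono le_rfl h₁).trans hZH
    · rw [Subgroup.commutator_comm H₂ H₁]
      exact (Subgroup.commutator_mono le_rfl h₁).trans hZH
  -- generic facts on `K₁`
  have hQn : Q ≤ Subgroup.normalizer (H₁ : Set G) := hQHc.trans hn₁
  have hK₁M : wcRes p Q H₁ ≤ ⁅H₁, Q⁆ := res_conjClosure_le_commutator hQp hQn
  have hKQ : ⁅wcRes p Q H₁, Q⁆ = wcRes p Q H₁ := wc_res_commutator hQp hwc (H₁ ⊔ Q)
  have hK₁n : H₁ ⊔ Q ≤ Subgroup.normalizer ((wcRes p Q H₁ : Subgroup G) : Set G) :=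
    (le_normalizer_conjClosure Q (H₁ ⊔ Q)).trans (normalizer_le_normalizer_map_pResidual p _)
  have hHcD : Hc ≤ Subgroup.normalizer ((⁅H₁, H₁⁆ : Subgroup G) : Set G) :=
    fun t ht => mem_normalizer_commutator (hn₁ ht) (hn₁ ht)
  have hDH₁ : ⁅H₁, H₁⁆ ≤ H₁ := commutator_le_left_of_le_normalizer Subgroup.le_normalizer
  have hM : ⁅H₁, Q⁆ ≤ ⁅H₁, H₁⁆ ⊔ ⁅H₁, H₂⁆ := by
    rw [Subgroup.commutator_le]
    intro x hx q hq
    obtain ⟨a, ha, b, hb, rfl⟩ :=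
      (mem_sup_of_le_normalizer (h₂.trans hn₁)).mp (hprod.ge (hQHc hq))
    have e : ⁅x, a * b⁆ = ⁅x, a⁆ * (a * ⁅x, b⁆ * a⁻¹) := by
      simp only [commutatorElement_def]; group
    rw [e]
    exact Subgroup.mul_mem_sup (Subgroup.commutator_mem_commutator hx ha)
      ((Subgroup.mem_normalizer_iff.mp (hHcZ (h₁ ha)) _).mp
        (Subgroup.commutator_mem_commutator hx hb))
  -- (c)
  have hc : wcRes p Q H₁ ≤ ⁅H₁, H₁⁆ := by
    have hle : wcRes p Q H₁ ≤ Cfsg.pCoreOf p ⁅H₁, H₂⁆ ⊔ ⁅H₁, H₁⁆ := by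
      refine hKQ.ge.trans ?_
      rw [Subgroup.commutator_le]
      intro k hk q hq
      obtain ⟨x, hx, z, hz, rfl⟩ :=
        (mem_sup_of_le_normalizer (hZHc.trans hHcD)).mp (hM (hK₁M hk))
      have e : ⁅x * z, q⁆ = (x * ⁅z, q⁆ * x⁻¹) * ⁅x, q⁆ := by
        simp only [commutatorElement_def]; group
      rw [e]
      refine Subgroup.mul_mem_sup ?_ ?_
      · exact (Subgroup.mem_normalizer_iff.mp (hHcN₀ (h₁ (hDH₁ hx))) _).mp
          (hZH (Subgroup.commutator_mem_commutator hz (hQHc hq)))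
      · exact commutator_le_left_of_le_normalizer (hQHc.trans hHcD)
          (Subgroup.commutator_mem_commutator hx hq)
    exact map_pResidual_le_of_le_sup (hN₀Hc.trans hHcD) hN₀p hle
  -- (g)
  have hg : ⁅wcRes p Q H₁, H₂⁆ ≤ Cfsg.pCoreOf p ⁅H₁, H₂⁆ :=
    (Subgroup.commutator_mono hc le_rfl).trans h3
  have hN₀K : Cfsg.pCoreOf p ⁅H₁, H₂⁆ ≤
      Subgroup.normalizer ((wcRes p Q H₁ : Subgroup G) : Set G) :=
    hN₀Z.trans (hZ₁.trans (le_sup_left.trans hK₁n))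
  -- (d)
  have hd : Hc ≤ Subgroup.normalizer ((wcRes p Q H₁ : Subgroup G) : Set G) := by
    refine hprod.ge.trans (sup_le (le_sup_left.trans hK₁n) ?_)
    intro h hh
    apply mem_normalizer_of_conj_le
    have e := Cfsg.Agent.Lib.helper52.map_pResidual_subtype p (conjClosure Q (H₁ ⊔ Q))
    have e' : wcRes p Q H₁ = Subgroup.closure
        {g : G | g ∈ conjClosure Q (H₁ ⊔ Q) ∧ (orderOf g).Coprime p} := e
    conv_lhs => rw [e']
    rw [MonoidHom.map_closure, Subgroup.closure_le]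
    rintro _ ⟨g, ⟨hgL, hgc⟩, rfl⟩
    have hgK : g ∈ wcRes p Q H₁ := by
      rw [e']; exact Subgroup.subset_closure ⟨hgL, hgc⟩
    show h * g * h⁻¹ ∈ wcRes p Q H₁
    have e2 : h * g * h⁻¹ = ⁅g, h⁆⁻¹ * g := by rw [commutatorElement_def]; group
    have h1 : h * g * h⁻¹ ∈ Cfsg.pCoreOf p ⁅H₁, H₂⁆ ⊔ wcRes p Q H₁ := by
      rw [e2]
      exact Subgroup.mul_mem_sup
        (Subgroup.inv_mem _ (hg (Subgroup.commutator_mem_commutator hgK hh))) hgK
    have hord : (orderOf (h * g * h⁻¹)).Coprime p := by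
      have : orderOf ((MulAut.conj h) g) = orderOf g := MulEquiv.orderOf_eq (MulAut.conj h) g
      rw [MulAut.conj_apply] at this
      rw [this]; exact hgc
    exact Cfsg.Agent.Lib.helper52.mem_of_mem_sup_of_coprime_of_le_normalizer hN₀K hN₀p h1 hord
  -- (b)
  have hb : ⁅wcRes p Q H₁, H₁⁆ = wcRes p Q H₁ := by
    apply le_antisymm (commutator_le_left_of_le_normalizer (le_sup_left.trans hK₁n))
    have hle : wcRes p Q H₁ ≤ Cfsg.pCoreOf p ⁅H₁, H₂⁆ ⊔ ⁅wcRes p Q H₁, H₁⁆ := by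
      refine hKQ.ge.trans ?_
      rw [Subgroup.commutator_le]
      intro k hk q hq
      obtain ⟨a, ha, b, hb, rfl⟩ :=
        (mem_sup_of_le_normalizer (h₂.trans hn₁)).mp (hprod.ge (hQHc hq))
      have e : ⁅k, a * b⁆ = ⁅k, a⁆ * (a * ⁅k, b⁆ * a⁻¹) := by
        simp only [commutatorElement_def]; group
      rw [e]
      refine Subgroup.mul_mem _ (le_sup_right (a := Cfsg.pCoreOf p ⁅H₁, H₂⁆)
        (Subgroup.commutator_mem_commutator hk ha)) (le_sup_left (b := ⁅wcRes p Q H₁, H₁⁆) ?_)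
      exact (Subgroup.mem_normalizer_iff.mp (hHcN₀ (h₁ ha)) _).mp
        (hg (Subgroup.commutator_mem_commutator hk hb))
    refine map_pResidual_le_of_le_sup ?_ hN₀p hle
    exact fun t ht => mem_normalizer_commutator (hd (hN₀Hc ht)) (hn₁ (hN₀Hc ht))
  exact ⟨hKQ, hb, hc, hd, hg⟩

/-- `H_∘ = K₁ K₂` and `[K₁, K₂] ≤ O_p(H°)`. -/
theorem wc_factor_sup [Finite G] {p : ℕ} [Fact p.Prime] {Q : Subgroup G}
    (hQp : IsPGroup p Q) (hwc : Cfsg.IsWeaklyClosedSubgroup p Q) {Hc H₁ H₂ : Subgroup G}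
    (hgen : Hc ≤ conjClosure Q Hc) (hQHc : Q ≤ Hc)
    (h₁ : H₁ ≤ Hc) (hn₁ : Hc ≤ Subgroup.normalizer (H₁ : Set G))
    (h₂ : H₂ ≤ Hc) (hn₂ : Hc ≤ Subgroup.normalizer (H₂ : Set G))
    (hprod : H₁ ⊔ H₂ = Hc) (hcomm : ⁅H₁, H₂⁆ ≤ Subgroup.normalizer (Q : Set G)) :
    wcRes p Q H₁ ⊔ wcRes p Q H₂ = (Cfsg.pResidual p ↥Hc).map Hc.subtype ∧
      ⁅wcRes p Q H₁, wcRes p Q H₂⁆ ≤ Cfsg.pCoreOf p Hc := by
  obtain ⟨-, -, hc₁, hd₁, hg₁⟩ := wc_factor_props hQp hwc hgen hQHc h₁ hn₁ h₂ hn₂ hprod hcomm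
  have hprod' : H₂ ⊔ H₁ = Hc := by rw [sup_comm]; exact hprod
  have hcomm' : ⁅H₂, H₁⁆ ≤ Subgroup.normalizer (Q : Set G) := by
    rw [Subgroup.commutator_comm]; exact hcomm
  obtain ⟨-, -, hc₂, hd₂, -⟩ := wc_factor_props hQp hwc hgen hQHc h₂ hn₂ h₁ hn₁ hprod' hcomm'
  have hDH₁ : ⁅H₁, H₁⁆ ≤ H₁ := commutator_le_left_of_le_normalizer Subgroup.le_normalizer
  have hDH₂ : ⁅H₂, H₂⁆ ≤ H₂ := commutator_le_left_of_le_normalizer Subgroup.le_normalizer
  have hL₁ : conjClosure Q (H₁ ⊔ Q) ≤ Hc :=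
    conjClosure_le hQHc ((sup_le h₁ hQHc).trans Subgroup.le_normalizer)
  have hL₂ : conjClosure Q (H₂ ⊔ Q) ≤ Hc :=
    conjClosure_le hQHc ((sup_le h₂ hQHc).trans Subgroup.le_normalizer)
  have hKHc : wcRes p Q H₁ ⊔ wcRes p Q H₂ ≤ Hc :=
    sup_le ((hc₁.trans hDH₁).trans h₁) ((hc₂.trans hDH₂).trans h₂)
  have hHcK : Hc ≤ Subgroup.normalizer ((wcRes p Q H₁ ⊔ wcRes p Q H₂ : Subgroup G) : Set G) :=
    Cfsg.Agent.Lib.helper52.le_normalizer_sup hd₁ hd₂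
  refine ⟨le_antisymm (sup_le (map_pResidual_mono hL₁) (map_pResidual_mono hL₂)) ?_, ?_⟩
  · apply map_pResidual_le_of_sup_eq hKHc hHcK hQp hQHc
    apply le_antisymm (sup_le hKHc hQHc)
    refine hgen.trans (conjClosure_le le_sup_right ?_)
    have key : ∀ (X : Subgroup G), wcRes p Q X ≤ wcRes p Q H₁ ⊔ wcRes p Q H₂ →
        X ≤ Hc → X ≤ Subgroup.normalizer
          ((wcRes p Q H₁ ⊔ wcRes p Q H₂ ⊔ Q : Subgroup G) : Set G) := by
      intro X hX hXHc x hx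
      apply mem_normalizer_of_conj_le
      rw [Subgroup.map_sup]
      refine sup_le ?_ ?_
      · rw [conj_eq_self_of_mem_normalizer (hHcK (hXHc hx))]
        exact le_sup_left
      · have h1 : Q.map (MulAut.conj x).toMonoidHom ≤ conjClosure Q (X ⊔ Q) :=
          conj_le_conjClosure Q (le_sup_left (b := Q) hx : x ∈ X ⊔ Q)
        have h2 := wc_conjClosure_eq_res_sup hQp hwc (X ⊔ Q)
        exact h1.trans (h2.ge.trans (sup_le_sup_right hX Q))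
    exact hprod.ge.trans (sup_le (key H₁ le_sup_left h₁) (key H₂ le_sup_right h₂))
  · have hK₂ : wcRes p Q H₂ ≤ H₂ := hc₂.trans hDH₂
    refine ((Subgroup.commutator_mono le_rfl hK₂).trans hg₁).trans ?_
    have hZHc : ⁅H₁, H₂⁆ ≤ Hc :=
      (commutator_le_left_of_le_normalizer (h₂.trans hn₁)).trans h₁
    exact pCoreOf_le_of_normal hZHc (fun t ht => mem_normalizer_commutator (hn₁ ht) (hn₂ ht))

end Cfsg.Agent.Lib.helper53
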