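import Mathlib

set_option autoImplicit false

namespace Cfsg.Agent.Lib.helper81.WT

open scoped TensorProduct

universe u v w

/-- [LA] two independent vectors in a span of two vectors span it (pure linear algebra) -/
theorem span_pair_of_indep {F : Type w} [Field F] {V : Type v} [AddCommGroup V] [Module F V]
    (v₁ v₂ w₁ w₂ : V) (h₁ : v₁ ∈ Submodule.span F {w₁, w₂}) (h₂ : v₂ ∈ Submodule.span F {w₁, w₂})
    (hind : ∀ a b : F, a • v₁ + b • v₂ = 0 → a = 0 ∧ b = 0) (v : V)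
    (hv : v ∈ Submodule.span F {w₁, w₂}) : ∃ a b : F, v = a • v₁ + b • v₂ := by
  obtain ⟨p₁, q₁, rfl⟩ := Submodule.mem_span_pair.1 h₁
  obtain ⟨p₂, q₂, rfl⟩ := Submodule.mem_span_pair.1 h₂
  obtain ⟨p, q, rfl⟩ := Submodule.mem_span_pair.1 hv
  have hD : p₁ * q₂ - p₂ * q₁ ≠ 0 := by
    intro hD
    have e1 : q₂ • (p₁ • w₁ + q₁ • w₂) + (-q₁) • (p₂ • w₁ + q₂ • w₂) = 0 := by
      have : q₂ • (p₁ • w₁ + q₁ • w₂) + (-q₁) • (p₂ • w₁ + q₂ • w₂)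
          = (p₁ * q₂ - p₂ * q₁) • w₁ := by module
      rw [this, hD, zero_smul]
    have e2 : p₂ • (p₁ • w₁ + q₁ • w₂) + (-p₁) • (p₂ • w₁ + q₂ • w₂) = 0 := by
      have : p₂ • (p₁ • w₁ + q₁ • w₂) + (-p₁) • (p₂ • w₁ + q₂ • w₂)
          = (-(p₁ * q₂ - p₂ * q₁)) • w₂ := by module
      rw [this, hD, neg_zero, zero_smul]
    obtain ⟨hq2, hq1⟩ := hind _ _ e1
    obtain ⟨hp2, hp1⟩ := hind _ _ e2
    rw [neg_eq_zero] at hq1 hp1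
    have e3 : (1 : F) • (p₁ • w₁ + q₁ • w₂) + (0 : F) • (p₂ • w₁ + q₂ • w₂) = 0 := by
      rw [hp1, hq1]
      simp
    exact one_ne_zero (hind _ _ e3).1
  refine ⟨(p * q₂ - q * p₂) / (p₁ * q₂ - p₂ * q₁), (q * p₁ - p * q₁) / (p₁ * q₂ - p₂ * q₁), ?_⟩
  have hc1 : (p * q₂ - q * p₂) / (p₁ * q₂ - p₂ * q₁) * p₁
      + (q * p₁ - p * q₁) / (p₁ * q₂ - p₂ * q₁) * p₂ = p := by
    have e : (p * q₂ - q * p₂) / (p₁ * q₂ - p₂ * q₁) * p₁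
        + (q * p₁ - p * q₁) / (p₁ * q₂ - p₂ * q₁) * p₂
        = p * ((p₁ * q₂ - p₂ * q₁) * (p₁ * q₂ - p₂ * q₁)⁻¹) := by ring
    rw [e, mul_inv_cancel₀ hD, mul_one]
  have hc2 : (p * q₂ - q * p₂) / (p₁ * q₂ - p₂ * q₁) * q₁
      + (q * p₁ - p * q₁) / (p₁ * q₂ - p₂ * q₁) * q₂ = q := by
    have e : (p * q₂ - q * p₂) / (p₁ * q₂ - p₂ * q₁) * q₁
        + (q * p₁ - p * q₁) / (p₁ * q₂ - p₂ * q₁) * q₂
        = q * ((p₁ * q₂ - p₂ * q₁) * (p₁ * q₂ - p₂ * q₁)⁻¹) := by ring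
    rw [e, mul_inv_cancel₀ hD, mul_one]
  calc p • w₁ + q • w₂
      = ((p * q₂ - q * p₂) / (p₁ * q₂ - p₂ * q₁) * p₁
          + (q * p₁ - p * q₁) / (p₁ * q₂ - p₂ * q₁) * p₂) • w₁
        + ((p * q₂ - q * p₂) / (p₁ * q₂ - p₂ * q₁) * q₁
          + (q * p₁ - p * q₁) / (p₁ * q₂ - p₂ * q₁) * q₂) • w₂ := by rw [hc1, hc2]
    _ = ((p * q₂ - q * p₂) / (p₁ * q₂ - p₂ * q₁)) • (p₁ • w₁ + q₁ • w₂)
        + ((q * p₁ - p * q₁) / (p₁ * q₂ - p₂ * q₁)) • (p₂ • w₁ + q₂ • w₂) := by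
      simp only [smul_add, smul_smul, add_smul]
      abel

end Cfsg.Agent.Lib.helper81.WT
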